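import Mathlib
import Cfsg.Agent.ClassicalGeometry.SympAutSemi

/-!
# ODD D7, `K = Sp_2n(q)`, `q` even: the root elements (helper678)

Signed indices `i : Ix n = Fin n ⊕ Fin n`, `neg` exchanges `i` and `-i`; `Dj i j` : `|i| ≠ |j|`.
Root of `x i j` (`Dj i j`) = `e_i + e_j`, root of `y i` = `2 e_i` (`e_{-i} = - e_i`); `x i j` is trivial unless `Dj i j`.

* `sx i j a, sy i a, sh lam, sw s` : elements of `Sp`; `lam : Fin n → Fˣ`, `ev lam` its extension to signed indices
  (`ev lam (-i) = (ev lam i)⁻¹`), `s` a permutation of `Ix n` commuting with `neg` (the Weyl group splits).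
* `Frame`: `G` with an involution `t`, `K = ι(Sp)` normal in `C(t)`, `C_{C(t)}(K) = ⟨t⟩`, `t ∉ K`;
  `R.x i j a, R.y i a, R.h lam, R.w s` are the images under `ι`. `CFrame`: moreover `|C(t) : ⟨t⟩ K|` odd.

Conventions: `h x_r(a) h⁻¹ = x_r(λ^r a)`, `w_s x_r(a) w_s⁻¹ = x_{s r}(a)`, `⁅a, b⁆ = a b a⁻¹ b⁻¹`.
-/

set_option autoImplicit false

namespace Cfsg.Agent.OddHalf.SpN

open Cfsg Cfsg.Agent.ClassicalGeometry.SympBasic Cfsg.Agent.ClassicalGeometry.SympAutSemi
open scoped Matrix commutatorElement

/-- signed indices -/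
abbrev Ix (n : ℕ) : Type := Fin n ⊕ Fin n

/-- `i ↦ -i` -/
def neg {n : ℕ} (i : Ix n) : Ix n := i.swap

/-- `|i| ≠ |j|` -/
def Dj {n : ℕ} (i j : Ix n) : Prop := i ≠ j ∧ i ≠ neg j

instance {n : ℕ} (i j : Ix n) : Decidable (Dj i j) := inferInstanceAs (Decidable (_ ∧ _))

section idx

variable {n : ℕ}

@[simp] theorem neg_neg (i : Ix n) : neg (neg i) = i := Sum.swap_swap i

@[simp] theorem neg_inl (i : Fin n) : neg (Sum.inl i : Ix n) = Sum.inr i := rfl

@[simp] theorem neg_inr (i : Fin n) : neg (Sum.inr i : Ix n) = Sum.inl i := rfl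

theorem neg_ne (i : Ix n) : neg i ≠ i := by rcases i with i | i <;> simp

theorem ne_neg (i : Ix n) : i ≠ neg i := (neg_ne i).symm

@[simp] theorem neg_inj {i j : Ix n} : neg i = neg j ↔ i = j :=
  ⟨fun h => by rw [← neg_neg i, h, neg_neg], fun h => by rw [h]⟩

theorem neg_eq_iff {i j : Ix n} : neg i = j ↔ i = neg j :=
  ⟨fun h => by rw [← h, neg_neg], fun h => by rw [h, neg_neg]⟩

theorem Dj.symm {i j : Ix n} (h : Dj i j) : Dj j i :=
  ⟨fun e => h.1 e.symm, fun e => h.2 (by rw [e, neg_neg])⟩

@[simp] theorem dj_neg_right {i j : Ix n} : Dj i (neg j) ↔ Dj i j := by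
  unfold Dj; rw [neg_neg]; exact and_comm

@[simp] theorem dj_neg_left {i j : Ix n} : Dj (neg i) j ↔ Dj i j :=
  ⟨fun h => (dj_neg_right.mp h.symm).symm, fun h => (dj_neg_right.mpr h.symm).symm⟩

theorem dj_comm {i j : Ix n} : Dj i j ↔ Dj j i := ⟨Dj.symm, Dj.symm⟩

/-- extension of `lam` to the signed indices -/
def ev {F : Type*} [Field F] (lam : Fin n → Fˣ) : Ix n → Fˣ := Sum.elim lam fun i => (lam i)⁻¹

@[simp] theorem ev_neg {F : Type*} [Field F] (lam : Fin n → Fˣ) (i : Ix n) : ev lam (neg i) = (ev lam i)⁻¹ := by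
  rcases i with i | i <;> simp [ev]

end idx

/-- The Weyl group: the permutations of the signed indices commuting with `neg`. -/
def W (n : ℕ) : Subgroup (Equiv.Perm (Ix n)) where
  carrier := {s | ∀ i, s (neg i) = neg (s i)}
  one_mem' := fun _ => rfl
  mul_mem' := fun {a b} ha hb i => by
    change a (b (neg i)) = neg (a (b i)); rw [hb, ha]
  inv_mem' := fun {a} ha i => by
    apply a.injective
    rw [ha, perm_apply_inv_self, perm_apply_inv_self]

/-- `Sp_2n(F)` -/
abbrev Sy (n : ℕ) (F : Type*) [Field F] := Matrix.symplecticGroup (Fin n) F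

section elements

variable (n : ℕ) (F : Type*) [Field F]

/-- the basis vector `e_i` -/
def be (i : Ix n) : Ix n → F := Pi.single i 1

variable {n F}

/-- the long root element, root `2 e_i` -/
noncomputable def sy (i : Ix n) (a : F) : Sy n F := transv (be n F i) a

/-- the short root element, root `e_i + e_j` (trivial unless `|i| ≠ |j|`) -/
noncomputable def sx (i j : Ix n) (a : F) : Sy n F :=
  if Dj i j then transv (be n F i) a * transv (be n F j) a * transv (be n F i + be n F j) a else 1

theorem exists_sh (lam : Fin n → Fˣ) :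
    ∃ A : Sy n F, ∀ v k, rho n F A v k = ev lam k * v k := by
  have h := exists_rho_eq (m := n) (F := F) (Equiv.piCongrRight fun k => Equiv.mulLeft₀ (ev lam k : F)
    (ev lam k).ne_zero) (fun u v => by ext k; simp [mul_add]) (fun a v => by
      ext k; simp [mul_left_comm]) (fun u v => by
      rw [sympForm_eq_sum, sympForm_eq_sum]
      refine Finset.sum_congr rfl fun i _ => ?_
      have e1 : ((ev lam (Sum.inl i) : Fˣ) : F) = lam i := rfl
      have e2 : ((ev lam (Sum.inr i) : Fˣ) : F) = (lam i : F)⁻¹ := by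
        simp [ev]
      simp only [Equiv.piCongrRight_apply, Pi.map_apply, Equiv.mulLeft₀_apply, e1, e2]
      have := (lam i).ne_zero
      field_simp)
  obtain ⟨A, hA⟩ := h
  exact ⟨A, fun v k => by rw [hA]; rfl⟩

theorem exists_sw [CharP F 2] (s : W n) :
    ∃ A : Sy n F, ∀ v k, rho n F A v k = v (s.1⁻¹ k) := by
  have h := exists_rho_eq (m := n) (F := F) (Equiv.piCongrLeft' (fun _ => F) s.1)
    (fun u v => by ext k; simp) (fun a v => by ext k; simp) (fun u v => by
      have h2 : ∀ a b : F, a - b = a + b := fun a b => by rw [CharTwo.sub_eq_add]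
      have key : ∀ u v : Ix n → F, sympForm n F u v = ∑ k : Ix n, u (neg k) * v k := fun u v => by
        rw [sympForm_eq_sum, Fintype.sum_sum_type, ← Finset.sum_add_distrib]
        exact Finset.sum_congr rfl fun i _ => by rw [h2, neg_inl, neg_inr]
      rw [key, key]
      refine Fintype.sum_equiv s.1⁻¹ _ _ fun k => ?_
      have e : s.1⁻¹ (neg k) = neg (s.1⁻¹ k) := (s⁻¹).2 k
      simp only [Equiv.piCongrLeft'_apply]
      rw [← e]; rfl)
  obtain ⟨A, hA⟩ := h
  exact ⟨A, fun v k => by rw [hA]; rfl⟩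

/-- the torus -/
noncomputable def sh : (Fin n → Fˣ) →* Sy n F where
  toFun lam := Classical.choose (exists_sh lam)
  map_one' := by
    apply rho_injective
    ext v k
    rw [Classical.choose_spec (exists_sh (1 : Fin n → Fˣ)), map_one]
    have e : ev (1 : Fin n → Fˣ) k = 1 := by rcases k with k | k <;> simp [ev]
    simp [e]
  map_mul' l m := by
    apply rho_injective
    ext v k
    rw [map_mul, Equiv.Perm.mul_apply, Classical.choose_spec (exists_sh (l * m)),
      Classical.choose_spec (exists_sh l), Classical.choose_spec (exists_sh m)]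
    have e : ev (l * m) k = ev l k * ev m k := by rcases k with k | k <;> simp [ev, mul_comm]
    rw [e, Units.val_mul, mul_assoc]

theorem rho_sh (lam : Fin n → Fˣ) (v : Ix n → F) (k : Ix n) :
    rho n F (sh lam) v k = ev lam k * v k := Classical.choose_spec (exists_sh lam) v k

/-- the Weyl group -/
noncomputable def sw [CharP F 2] : W n →* Sy n F where
  toFun s := Classical.choose (exists_sw s)
  map_one' := by
    apply rho_injective
    ext v k
    rw [Classical.choose_spec (exists_sw (1 : W n)), map_one]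
    rfl
  map_mul' l m := by
    apply rho_injective
    ext v k
    rw [map_mul, Equiv.Perm.mul_apply, Classical.choose_spec (exists_sw (l * m)),
      Classical.choose_spec (exists_sw l), Classical.choose_spec (exists_sw m)]
    change v ((l.1 * m.1)⁻¹ k) = _
    rw [mul_inv_rev]
    rfl

theorem rho_sw [CharP F 2] (s : W n) (v : Ix n → F) (k : Ix n) :
    rho n F (sw (F := F) s) v k = v (s.1⁻¹ k) := Classical.choose_spec (exists_sw s) v k

end elements

/-- `G` with an involution `t`, `K = ι(Sp_2n(F))` normal in `C(t)`, `C_{C(t)}(K) = ⟨t⟩`, `t ∉ K`. No hypothesis on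
`C(t) / ⟨t⟩ K` here (see `CFrame`). -/
structure Frame (n : ℕ) (F : Type*) [Field F] (G : Type*) [Group G] where
  t : G
  ι : Sy n F →* G
  tt : t * t = 1
  t1 : t ≠ 1
  inj : Function.Injective ι
  comm : ∀ k, Commute (ι k) t
  /-- `K ⊲ C(t)` -/
  nK : ∀ g, Commute g t → ∀ k, ∃ k', g * ι k * g⁻¹ = ι k'
  /-- `C_{C(t)}(K) = ⟨t⟩` -/
  cK : ∀ g, Commute g t → (∀ k, g * ι k = ι k * g) → g = 1 ∨ g = t
  tK : ∀ k, ι k ≠ t

/-- The clean case: `|C(t) : ⟨t⟩ K|` is odd. -/
structure CFrame (n : ℕ) (F : Type*) [Field F] (G : Type*) [Group G] extends Frame n F G where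
  odd : Odd ((Subgroup.zpowers t ⊔ ι.range).relIndex (Subgroup.centralizer ({t} : Set G)))

namespace Frame

variable {n : ℕ} {F : Type*} [Field F] {G : Type*} [Group G] (R : Frame n F G)

/-- `K` -/
def K : Subgroup G := R.ι.range

/-- short root elements, root `e_i + e_j` -/
noncomputable def x (i j : Ix n) (a : F) : G := R.ι (sx i j a)

/-- long root elements, root `2 e_i` -/
noncomputable def y (i : Ix n) (a : F) : G := R.ι (sy i a)

/-- the torus -/
noncomputable def h : (Fin n → Fˣ) →* G := R.ι.comp sh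

/-- the Weyl group -/
noncomputable def w [CharP F 2] : W n →* G := R.ι.comp sw

end Frame

end Cfsg.Agent.OddHalf.SpN
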