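import Mathlib
import Cfsg.Agent.OddHalf.SpN.Defs

/-!
# The relations of `Sp_2n(F)`, `char F = 2`
-/

set_option autoImplicit false
set_option linter.unusedSimpArgs false

namespace Cfsg.Agent.OddHalf.SpN

open Cfsg Cfsg.Agent.ClassicalGeometry.SympBasic Cfsg.Agent.ClassicalGeometry.SympAutSemi
open scoped Matrix commutatorElement

variable {n : ℕ} {F : Type*} [Field F]

theorem be_apply (i k : Ix n) : be n F i k = if k = i then 1 else 0 := by
  simp [be, Pi.single_apply]

section chartwo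

variable [CharP F 2]

theorem two0 : (2 : F) = 0 := by
  have := CharP.cast_eq_zero F 2
  exact_mod_cast this

theorem mul2 (z : F) : z * 2 = 0 := by rw [two0, mul_zero]

theorem form_be (v : Ix n → F) (i : Ix n) : sympForm n F v (be n F i) = v (neg i) := by
  rcases i with i | i
  · exact sympForm_single_inl_right i v
  · rw [be, sympForm_single_inr_right, CharTwo.neg_eq]; rfl

theorem rho_sy (i : Ix n) (a : F) (v : Ix n → F) :
    rho n F (sy i a) v = v + (a * v (neg i)) • be n F i := by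
  rw [sy, rho_transv, form_be]

theorem rho_sx {i j : Ix n} (h : Dj i j) (a : F) (v : Ix n → F) :
    rho n F (sx i j a) v = v + (a * v (neg j)) • be n F i + (a * v (neg i)) • be n F j := by
  have h1 : neg j ≠ i := fun e => h.2 e.symm
  have h2 : neg i ≠ j := fun e => h.2 (by rw [← e, neg_neg])
  rw [sx, if_pos h, map_mul, map_mul, Equiv.Perm.mul_apply, Equiv.Perm.mul_apply, rho_transv, rho_transv,
    rho_transv]
  simp only [sympForm_add_right, sympForm_add_left, sympForm_smul_left, form_be]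
  ext k
  simp only [Pi.add_apply, Pi.smul_apply, smul_eq_mul, be_apply, neg_inj, h.1, h.1.symm, h1, h2, ne_neg, neg_ne, if_false,
    mul_zero, add_zero]
  ring_nf
  simp only [mul2, add_zero, zero_add]

theorem sx_of_not {i j : Ix n} (h : ¬ Dj i j) (a : F) : sx i j a = 1 := by
  rw [sx, if_neg h]

theorem sx_symm (i j : Ix n) (a : F) : sx i j a = sx j i a := by
  by_cases h : Dj i j
  · apply rho_injective
    ext v k
    rw [rho_sx h, rho_sx h.symm, add_right_comm]
  · rw [sx_of_not h, sx_of_not fun h' => h h'.symm]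

theorem sy_add (i : Ix n) (a b : F) : sy i (a + b) = sy i a * sy i b := by
  apply rho_injective
  ext v k
  rw [map_mul, Equiv.Perm.mul_apply]
  simp only [rho_sy, Pi.add_apply, Pi.smul_apply, smul_eq_mul, be_apply, neg_ne, if_false]
  ring

theorem sx_add (i j : Ix n) (a b : F) : sx i j (a + b) = sx i j a * sx i j b := by
  by_cases h : Dj i j
  · have h1 : neg j ≠ i := fun e => h.2 e.symm
    have h2 : neg i ≠ j := fun e => h.2 (by rw [← e, neg_neg])
    apply rho_injective
    ext v k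
    rw [map_mul, Equiv.Perm.mul_apply]
    simp only [rho_sx h, Pi.add_apply, Pi.smul_apply, smul_eq_mul, be_apply, neg_ne, h1, h2, if_false]
    ring
  · rw [sx_of_not h, sx_of_not h, sx_of_not h, one_mul]

theorem sy_zero (i : Ix n) : sy i (0 : F) = 1 := by
  have := sy_add i (0 : F) 0
  rw [add_zero] at this
  exact (mul_eq_left (a := sy i (0 : F))).mp this.symm

theorem sx_zero (i j : Ix n) : sx i j (0 : F) = 1 := by
  have := sx_add i j (0 : F) 0
  rw [add_zero] at this
  exact (mul_eq_left (a := sx i j (0 : F))).mp this.symm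

theorem sy_sq (i : Ix n) (a : F) : sy i a * sy i a = 1 := by
  rw [← sy_add, CharTwo.add_self_eq_zero, sy_zero]

theorem sx_sq (i j : Ix n) (a : F) : sx i j a * sx i j a = 1 := by
  rw [← sx_add, CharTwo.add_self_eq_zero, sx_zero]

theorem sy_inj {i : Ix n} {a b : F} (h : sy i a = sy i b) : a = b := by
  have h2 := congrArg (fun A => rho n F A (be n F (neg i)) i) h
  simpa [rho_sy, be_apply, ne_neg] using h2

theorem sx_inj {i j : Ix n} (hd : Dj i j) {a b : F} (h : sx i j a = sx i j b) : a = b := by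
  have h1 : i ≠ j := hd.1
  have h2 := congrArg (fun A => rho n F A (be n F (neg j)) i) h
  simpa [rho_sx hd, be_apply, h1, h1.symm] using h2

/-- 120 degrees -/
theorem sx_rel {i j k : Ix n} (hij : Dj i j) (hjk : Dj j k) (hik : Dj i k) (a b : F) :
    sx i j a * sx (neg j) k b = sx i k (a * b) * (sx (neg j) k b * sx i j a) := by
  have h1 : neg j ≠ i := fun e => hij.2 e.symm
  have h2 : neg i ≠ j := fun e => hij.2 (by rw [← e, neg_neg])
  have h3 : neg j ≠ k := fun e => hjk.2 (by rw [← e, neg_neg])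
  have h4 : neg k ≠ j := fun e => hjk.2 e.symm
  have h5 : neg i ≠ k := fun e => hik.2 (by rw [← e, neg_neg])
  have h6 : neg k ≠ i := fun e => hik.2 e.symm
  apply rho_injective
  ext v l
  simp only [map_mul, Equiv.Perm.mul_apply, rho_sx hij, rho_sx hik, rho_sx (dj_neg_left.mpr hjk), neg_neg,
    Pi.add_apply, Pi.smul_apply, smul_eq_mul, be_apply, neg_inj, hij.1, hij.1.symm, hjk.1, hjk.1.symm, hik.1,
    hik.1.symm, h1, h2, h3, h4, h5, h6, neg_ne, h1.symm, h2.symm, h3.symm, h4.symm, h5.symm, h6.symm, if_false, if_true]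
  ring_nf
  simp only [mul2, add_zero, zero_add]

/-- 135 degrees -/
theorem sy_rel {i j : Ix n} (hij : Dj i j) (a b : F) :
    sy i a * sx (neg i) j b = sx i j (a * b) * sy j (a * b ^ 2) * (sx (neg i) j b * sy i a) := by
  have h1 : neg j ≠ i := fun e => hij.2 e.symm
  have h2 : neg i ≠ j := fun e => hij.2 (by rw [← e, neg_neg])
  apply rho_injective
  ext v l
  simp only [map_mul, Equiv.Perm.mul_apply, rho_sx hij, rho_sx (dj_neg_left.mpr hij), rho_sy, neg_neg,
    Pi.add_apply, Pi.smul_apply, smul_eq_mul, be_apply, neg_inj, hij.1, hij.1.symm,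
    h1, h2, neg_ne, ne_neg, h1.symm, h2.symm, if_false, if_true]
  ring_nf
  simp only [mul2, add_zero, zero_add]

theorem sy_comm {i j : Ix n} (h : j ≠ neg i) (a b : F) : Commute (sy i a) (sy j b) := by
  have h1 : neg i ≠ j := h.symm
  have h2 : neg j ≠ i := fun e => h (by rw [← e, neg_neg])
  apply rho_injective
  ext v l
  simp only [map_mul, Equiv.Perm.mul_apply, rho_sy, Pi.add_apply, Pi.smul_apply, smul_eq_mul, be_apply, h1, h2, if_false]
  ring

theorem sy_sx_comm {i j k : Ix n} (h : j ≠ neg i) (h' : k ≠ neg i) (a b : F) :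
    Commute (sy i a) (sx j k b) := by
  by_cases hd : Dj j k
  · have h1 : neg i ≠ j := h.symm
    have h2 : neg j ≠ i := fun e => h (by rw [← e, neg_neg])
    have h3 : neg i ≠ k := h'.symm
    have h4 : neg k ≠ i := fun e => h' (by rw [← e, neg_neg])
    apply rho_injective
    ext v l
    simp only [map_mul, Equiv.Perm.mul_apply, rho_sy, rho_sx hd, Pi.add_apply, Pi.smul_apply, smul_eq_mul, be_apply,
      h1, h2, h3, h4, if_false]
    ring
  · rw [sx_of_not hd]; exact Commute.one_right _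

theorem sx_comm {i j k l : Ix n} (h1 : k ≠ neg i) (h2 : k ≠ neg j) (h3 : l ≠ neg i) (h4 : l ≠ neg j) (a b : F) :
    Commute (sx i j a) (sx k l b) := by
  by_cases hd : Dj i j
  · by_cases hd' : Dj k l
    · have g1 : neg k ≠ i := fun e => h1 (by rw [← e, neg_neg])
      have g2 : neg k ≠ j := fun e => h2 (by rw [← e, neg_neg])
      have g3 : neg l ≠ i := fun e => h3 (by rw [← e, neg_neg])
      have g4 : neg l ≠ j := fun e => h4 (by rw [← e, neg_neg])
      apply rho_injective
      ext v m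
      simp only [map_mul, Equiv.Perm.mul_apply, rho_sx hd, rho_sx hd', Pi.add_apply, Pi.smul_apply, smul_eq_mul,
        be_apply, h1.symm, h2.symm, h3.symm, h4.symm, g1, g2, g3, g4, if_false]
      ring
    · rw [sx_of_not hd']; exact Commute.one_right _
  · rw [sx_of_not hd]; exact Commute.one_left _

/-- partners -/
theorem sx_comm' {i j : Ix n} (a b : F) : Commute (sx i j a) (sx (neg i) j b) := by
  by_cases hd : Dj i j
  · have h1 : neg j ≠ i := fun e => hd.2 e.symm
    have h2 : neg i ≠ j := fun e => hd.2 (by rw [← e, neg_neg])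
    apply rho_injective
    ext v l
    simp only [map_mul, Equiv.Perm.mul_apply, rho_sx hd, rho_sx (dj_neg_left.mpr hd), neg_neg, Pi.add_apply,
      Pi.smul_apply, smul_eq_mul, be_apply, neg_inj, hd.1, hd.1.symm, h1, h2, h1.symm, h2.symm, neg_ne, if_false,
      if_true]
    ring
  · rw [sx_of_not hd]; exact Commute.one_left _

/-- the torus acts -/
theorem sh_sy (lam : Fin n → Fˣ) (i : Ix n) (a : F) :
    sh lam * sy i a * (sh lam)⁻¹ = sy i (ev lam i ^ 2 * a) := by
  rw [mul_inv_eq_iff_eq_mul]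
  apply rho_injective
  ext v l
  simp only [map_mul, Equiv.Perm.mul_apply, rho_sy, rho_sh, Pi.add_apply, Pi.smul_apply, smul_eq_mul, be_apply,
    ev_neg, Units.val_inv_eq_inv_val]
  have := (ev lam i).ne_zero
  split_ifs with e
  · subst e; field_simp
  · ring

theorem sh_sx (lam : Fin n → Fˣ) (i j : Ix n) (a : F) :
    sh lam * sx i j a * (sh lam)⁻¹ = sx i j (ev lam i * ev lam j * a) := by
  by_cases hd : Dj i j
  · rw [mul_inv_eq_iff_eq_mul]
    apply rho_injective
    ext v l
    simp only [map_mul, Equiv.Perm.mul_apply, rho_sx hd, rho_sh, Pi.add_apply, Pi.smul_apply, smul_eq_mul, be_apply,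
      ev_neg, Units.val_inv_eq_inv_val]
    have hi := (ev lam i).ne_zero
    have hj := (ev lam j).ne_zero
    have hne := hd.1
    split_ifs with e1 e2 e2
    · exact absurd (e1.symm.trans e2) hne
    · subst e1; field_simp; ring
    · subst e2; field_simp; ring
    · ring
  · rw [sx_of_not hd, sx_of_not hd]; group

theorem W_neg (s : W n) (i : Ix n) : s.1 (neg i) = neg (s.1 i) := s.2 i

theorem W_inv_eq (s : W n) {i k : Ix n} : s.1⁻¹ k = i ↔ k = s.1 i := by
  constructor
  · intro h; rw [← h, perm_apply_inv_self]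
  · intro h; rw [h, perm_inv_apply_self]

theorem W_inv_neg (s : W n) (i : Ix n) : s.1⁻¹ (neg i) = neg (s.1⁻¹ i) := (s⁻¹).2 i

theorem W_dj (s : W n) {i j : Ix n} : Dj (s.1 i) (s.1 j) ↔ Dj i j := by
  unfold Dj
  rw [← W_neg, (s.1.injective.ne_iff), (s.1.injective.ne_iff)]

/-- the Weyl group acts -/
theorem sw_sy (s : W n) (i : Ix n) (a : F) : sw s * sy i a * (sw s)⁻¹ = sy (s.1 i) a := by
  rw [mul_inv_eq_iff_eq_mul]
  apply rho_injective
  ext v l
  simp only [map_mul, Equiv.Perm.mul_apply, rho_sy, rho_sw, Pi.add_apply, Pi.smul_apply, smul_eq_mul, be_apply,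
    W_inv_neg, perm_inv_apply_self, W_inv_eq]

theorem sw_sx (s : W n) (i j : Ix n) (a : F) : sw s * sx i j a * (sw s)⁻¹ = sx (s.1 i) (s.1 j) a := by
  by_cases hd : Dj i j
  · rw [mul_inv_eq_iff_eq_mul]
    apply rho_injective
    ext v l
    simp only [map_mul, Equiv.Perm.mul_apply, rho_sx hd, rho_sx ((W_dj s).mpr hd), rho_sw, Pi.add_apply, Pi.smul_apply,
      smul_eq_mul, be_apply, W_inv_neg, perm_inv_apply_self, W_inv_eq]
  · rw [sx_of_not hd, sx_of_not fun h => hd ((W_dj s).mp h)]; group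

theorem sw_sh (s : W n) (lam mu : Fin n → Fˣ) (h : ∀ k, ev mu (s.1 k) = ev lam k) :
    sw s * sh lam * (sw s)⁻¹ = sh (F := F) mu := by
  rw [mul_inv_eq_iff_eq_mul]
  apply rho_injective
  ext v l
  simp only [map_mul, Equiv.Perm.mul_apply, rho_sw, rho_sh]
  rw [← h, perm_apply_inv_self]

end chartwo

/-- the transposition `i ↔ j` (and `-i ↔ -j`) of the Weyl group, `|i| ≠ |j|` -/
def tr (i j : Ix n) : Equiv.Perm (Ix n) := Equiv.swap i j * Equiv.swap (neg i) (neg j)

theorem tr_mem {i j : Ix n} (h : Dj i j) : tr i j ∈ W n := by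
  have h1 : neg j ≠ i := fun e => h.2 e.symm
  have h2 : neg i ≠ j := fun e => h.2 (by rw [← e, neg_neg])
  intro k
  simp only [tr, Equiv.Perm.mul_apply]
  by_cases k1 : k = i
  · subst k1
    rw [Equiv.swap_apply_left, Equiv.swap_apply_of_ne_of_ne h1 (neg_ne j),
      Equiv.swap_apply_of_ne_of_ne (ne_neg k) h1.symm, Equiv.swap_apply_left]
  by_cases k2 : k = j
  · subst k2
    rw [Equiv.swap_apply_right, Equiv.swap_apply_of_ne_of_ne (neg_ne i) h2,
      Equiv.swap_apply_of_ne_of_ne h2.symm (ne_neg k), Equiv.swap_apply_right]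
  by_cases k3 : k = neg i
  · subst k3
    rw [neg_neg, Equiv.swap_apply_of_ne_of_ne (ne_neg i) h1.symm, Equiv.swap_apply_left,
      Equiv.swap_apply_left, Equiv.swap_apply_of_ne_of_ne h1 (neg_ne j), neg_neg]
  by_cases k4 : k = neg j
  · subst k4
    rw [neg_neg, Equiv.swap_apply_of_ne_of_ne h2.symm (ne_neg j), Equiv.swap_apply_right,
      Equiv.swap_apply_right, Equiv.swap_apply_of_ne_of_ne (neg_ne i) h2, neg_neg]
  have g1 : neg k ≠ i := fun e => k3 (by rw [← e, neg_neg])
  have g2 : neg k ≠ j := fun e => k4 (by rw [← e, neg_neg])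
  have g3 : neg k ≠ neg i := fun e => k1 (neg_inj.mp e)
  have g4 : neg k ≠ neg j := fun e => k2 (neg_inj.mp e)
  rw [Equiv.swap_apply_of_ne_of_ne g3 g4, Equiv.swap_apply_of_ne_of_ne g1 g2,
    Equiv.swap_apply_of_ne_of_ne k3 k4, Equiv.swap_apply_of_ne_of_ne k1 k2]

/-- the sign change `i ↔ -i` -/
def sg (i : Ix n) : Equiv.Perm (Ix n) := Equiv.swap i (neg i)

theorem sg_mem (i : Ix n) : sg i ∈ W n := by
  intro k
  simp only [sg]
  by_cases k1 : k = i
  · subst k1; rw [Equiv.swap_apply_right, Equiv.swap_apply_left, neg_neg]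
  by_cases k2 : k = neg i
  · subst k2; rw [Equiv.swap_apply_right, neg_neg, Equiv.swap_apply_left]
  have g1 : neg k ≠ i := fun e => k2 (by rw [← e, neg_neg])
  have g2 : neg k ≠ neg i := fun e => k1 (neg_inj.mp e)
  rw [Equiv.swap_apply_of_ne_of_ne g1 g2, Equiv.swap_apply_of_ne_of_ne k1 k2]

section chartwo2

variable [CharP F 2]

/-- `w_{e_i - e_j}` is in the group of the short root `e_i - e_j` -/
theorem sw_tr {i j : Ix n} (h : Dj i j) :
    sw (F := F) ⟨tr i j, tr_mem h⟩ = sx i (neg j) 1 * sx (neg i) j 1 * sx i (neg j) 1 := by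
  have h1 : neg j ≠ i := fun e => h.2 e.symm
  have h2 : neg i ≠ j := fun e => h.2 (by rw [← e, neg_neg])
  have hne := h.1
  apply rho_injective
  ext v k
  simp only [map_mul, Equiv.Perm.mul_apply, rho_sw, rho_sx (dj_neg_right.mpr h), rho_sx (dj_neg_left.mpr h), neg_neg,
    Pi.add_apply, Pi.smul_apply, smul_eq_mul, be_apply, neg_inj, h.1, h.1.symm, h1, h2, h1.symm, h2.symm, neg_ne,
    if_false, if_true, one_mul]
  have e0 : (tr i j)⁻¹ k = tr i j k := by
    rw [tr, mul_inv_rev, Equiv.swap_inv, Equiv.swap_inv, Equiv.Perm.mul_apply, Equiv.Perm.mul_apply]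
    by_cases k1 : k = i
    · subst k1
      rw [Equiv.swap_apply_left, Equiv.swap_apply_of_ne_of_ne h2.symm (ne_neg j),
        Equiv.swap_apply_of_ne_of_ne (ne_neg k) h1.symm, Equiv.swap_apply_left]
    by_cases k2 : k = j
    · subst k2
      rw [Equiv.swap_apply_right, Equiv.swap_apply_of_ne_of_ne (ne_neg i) h1.symm,
        Equiv.swap_apply_of_ne_of_ne h2.symm (ne_neg k), Equiv.swap_apply_right]
    rw [Equiv.swap_apply_of_ne_of_ne k1 k2]
    by_cases k3 : k = neg i
    · subst k3
      rw [Equiv.swap_apply_left, Equiv.swap_apply_of_ne_of_ne h1 (neg_ne j)]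
    by_cases k4 : k = neg j
    · subst k4
      rw [Equiv.swap_apply_right, Equiv.swap_apply_of_ne_of_ne (neg_ne i) h2]
    rw [Equiv.swap_apply_of_ne_of_ne k3 k4, Equiv.swap_apply_of_ne_of_ne k1 k2]
  rw [e0, tr, Equiv.Perm.mul_apply]
  by_cases k1 : k = i
  · subst k1
    rw [Equiv.swap_apply_of_ne_of_ne (ne_neg k) h1.symm, Equiv.swap_apply_left]
    simp only [if_true, if_neg hne, if_neg (ne_neg k), if_neg h1.symm, if_neg (ne_neg j)]
    linear_combination (-(v k) - v j) * (two0 : (2 : F) = 0)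
  by_cases k2 : k = j
  · subst k2
    rw [Equiv.swap_apply_of_ne_of_ne h2.symm (ne_neg k), Equiv.swap_apply_right]
    simp only [if_true, if_neg k1, if_neg (ne_neg k), if_neg h2.symm]
    linear_combination (-(v k)) * (two0 : (2 : F) = 0)
  by_cases k3 : k = neg i
  · subst k3
    rw [Equiv.swap_apply_left, Equiv.swap_apply_of_ne_of_ne h1 (neg_ne j)]
    have : neg i ≠ neg j := fun e => hne (neg_inj.mp e)
    simp only [if_true, if_neg k1, if_neg k2, if_neg this]
    linear_combination (-(v (neg i))) * (two0 : (2 : F) = 0)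
  by_cases k4 : k = neg j
  · subst k4
    rw [Equiv.swap_apply_right, Equiv.swap_apply_of_ne_of_ne (neg_ne i) h2]
    simp only [if_true, if_neg k1, if_neg k2, if_neg k3]
    linear_combination (-(v (neg j)) - v (neg i)) * (two0 : (2 : F) = 0)
  rw [Equiv.swap_apply_of_ne_of_ne k3 k4, Equiv.swap_apply_of_ne_of_ne k1 k2]
  simp only [if_neg k1, if_neg k2, if_neg k3, if_neg k4]
  ring

/-- `w_{2 e_i}` is in the group of the long root `2 e_i` -/
theorem sw_sg (i : Ix n) :
    sw (F := F) ⟨sg i, sg_mem i⟩ = sy i 1 * sy (neg i) 1 * sy i 1 := by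
  apply rho_injective
  ext v k
  simp only [map_mul, Equiv.Perm.mul_apply, rho_sw, rho_sy, neg_neg,
    Pi.add_apply, Pi.smul_apply, smul_eq_mul, be_apply, neg_ne, ne_neg, if_false, if_true, one_mul]
  rw [sg, Equiv.swap_inv]
  by_cases k1 : k = i
  · subst k1
    rw [Equiv.swap_apply_left]
    simp only [if_true, if_neg (ne_neg k)]
    linear_combination (-(v k) - v (neg k)) * (two0 : (2 : F) = 0)
  by_cases k2 : k = neg i
  · subst k2
    rw [Equiv.swap_apply_right]
    simp only [if_true, if_neg k1]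
    linear_combination (-(v (neg i))) * (two0 : (2 : F) = 0)
  rw [Equiv.swap_apply_of_ne_of_ne k1 k2]
  simp only [if_neg k1, if_neg k2]
  ring

end chartwo2

theorem sh_injective : Function.Injective (sh : (Fin n → Fˣ) → Sy n F) := by
  intro l m h
  funext k
  have h2 := congrArg (fun A => rho n F A (be n F (Sum.inl k)) (Sum.inl k)) h
  simp only [rho_sh, be_apply, if_true, mul_one] at h2
  exact Units.ext h2

/-! ### The same in `G` -/

namespace Frame

variable {G : Type*} [Group G] (R : Frame n F G)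

theorem t_inv : R.t⁻¹ = R.t := inv_eq_of_mul_eq_one_left R.tt

theorem x_mem_K (i j : Ix n) (a : F) : R.x i j a ∈ R.K := ⟨_, rfl⟩

theorem y_mem_K (i : Ix n) (a : F) : R.y i a ∈ R.K := ⟨_, rfl⟩

theorem h_mem_K (lam : Fin n → Fˣ) : R.h lam ∈ R.K := ⟨_, rfl⟩

theorem K_t {g : G} (hg : g ∈ R.K) : Commute g R.t := by
  obtain ⟨k, rfl⟩ := hg; exact R.comm k

theorem x_t (i j : Ix n) (a : F) : Commute (R.x i j a) R.t := R.K_t (R.x_mem_K i j a)

theorem y_t (i : Ix n) (a : F) : Commute (R.y i a) R.t := R.K_t (R.y_mem_K i a)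

theorem h_t (lam : Fin n → Fˣ) : Commute (R.h lam) R.t := R.K_t (R.h_mem_K lam)

theorem t_notMem_K : R.t ∉ R.K := fun ⟨k, h⟩ => R.tK k h

theorem h_injective : Function.Injective R.h := fun _ _ h => sh_injective (R.inj h)

variable [CharP F 2]

theorem x_of_not {i j : Ix n} (h : ¬ Dj i j) (a : F) : R.x i j a = 1 := by
  rw [x, sx_of_not h, map_one]

theorem w_mem_K (s : W n) : R.w s ∈ R.K := ⟨_, rfl⟩

theorem w_t (s : W n) : Commute (R.w s) R.t := R.K_t (R.w_mem_K s)

theorem x_symm (i j : Ix n) (a : F) : R.x i j a = R.x j i a := by rw [x, sx_symm]; rfl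

theorem x_add (i j : Ix n) (a b : F) : R.x i j (a + b) = R.x i j a * R.x i j b := by
  rw [x, sx_add, map_mul]; rfl

theorem y_add (i : Ix n) (a b : F) : R.y i (a + b) = R.y i a * R.y i b := by
  rw [y, sy_add, map_mul]; rfl

@[simp] theorem x_zero (i j : Ix n) : R.x i j 0 = 1 := by rw [x, sx_zero, map_one]

@[simp] theorem y_zero (i : Ix n) : R.y i 0 = 1 := by rw [y, sy_zero, map_one]

theorem x_sq (i j : Ix n) (a : F) : R.x i j a * R.x i j a = 1 := by
  rw [← x_add, CharTwo.add_self_eq_zero, x_zero]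

theorem y_sq (i : Ix n) (a : F) : R.y i a * R.y i a = 1 := by
  rw [← y_add, CharTwo.add_self_eq_zero, y_zero]

@[simp] theorem x_inv (i j : Ix n) (a : F) : (R.x i j a)⁻¹ = R.x i j a := inv_eq_of_mul_eq_one_left (R.x_sq i j a)

@[simp] theorem y_inv (i : Ix n) (a : F) : (R.y i a)⁻¹ = R.y i a := inv_eq_of_mul_eq_one_left (R.y_sq i a)

theorem x_inj {i j : Ix n} (hd : Dj i j) {a b : F} (h : R.x i j a = R.x i j b) : a = b := sx_inj hd (R.inj h)

theorem y_inj {i : Ix n} {a b : F} (h : R.y i a = R.y i b) : a = b := sy_inj (R.inj h)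

theorem x_eq_one {i j : Ix n} (hd : Dj i j) {a : F} (h : R.x i j a = 1) : a = 0 :=
  R.x_inj hd (h.trans (R.x_zero i j).symm)

theorem y_eq_one {i : Ix n} {a : F} (h : R.y i a = 1) : a = 0 := R.y_inj (h.trans (R.y_zero i).symm)

/-- 120 degrees -/
theorem x_rel {i j k : Ix n} (hij : Dj i j) (hjk : Dj j k) (hik : Dj i k) (a b : F) :
    R.x i j a * R.x (neg j) k b = R.x i k (a * b) * (R.x (neg j) k b * R.x i j a) := by
  simp only [x, ← map_mul]; rw [sx_rel hij hjk hik]

theorem x_rel' {i j k : Ix n} (hij : Dj i j) (hjk : Dj j k) (hik : Dj i k) (a b : F) :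
    ⁅R.x i j a, R.x (neg j) k b⁆ = R.x i k (a * b) := by
  rw [commutatorElement_def, R.x_rel hij hjk hik]; group

/-- 135 degrees -/
theorem y_rel {i j : Ix n} (hij : Dj i j) (a b : F) :
    R.y i a * R.x (neg i) j b = R.x i j (a * b) * R.y j (a * b ^ 2) * (R.x (neg i) j b * R.y i a) := by
  simp only [x, y, ← map_mul]; rw [sy_rel hij]

theorem y_rel' {i j : Ix n} (hij : Dj i j) (a b : F) :
    ⁅R.y i a, R.x (neg i) j b⁆ = R.x i j (a * b) * R.y j (a * b ^ 2) := by
  rw [commutatorElement_def, R.y_rel hij]; group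

theorem y_comm {i j : Ix n} (h : j ≠ neg i) (a b : F) : Commute (R.y i a) (R.y j b) :=
  (sy_comm h a b).map R.ι

theorem y_x_comm {i j k : Ix n} (h : j ≠ neg i) (h' : k ≠ neg i) (a b : F) : Commute (R.y i a) (R.x j k b) :=
  (sy_sx_comm h h' a b).map R.ι

theorem x_comm {i j k l : Ix n} (h1 : k ≠ neg i) (h2 : k ≠ neg j) (h3 : l ≠ neg i) (h4 : l ≠ neg j) (a b : F) :
    Commute (R.x i j a) (R.x k l b) := (sx_comm h1 h2 h3 h4 a b).map R.ι

/-- partners -/
theorem x_comm' {i j : Ix n} (a b : F) : Commute (R.x i j a) (R.x (neg i) j b) := (sx_comm' a b).map R.ι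

theorem h_y (lam : Fin n → Fˣ) (i : Ix n) (a : F) : R.h lam * R.y i a * (R.h lam)⁻¹ = R.y i (ev lam i ^ 2 * a) := by
  have := congrArg R.ι (sh_sy lam i a)
  simp only [map_mul, map_inv] at this
  exact this

theorem h_x (lam : Fin n → Fˣ) (i j : Ix n) (a : F) :
    R.h lam * R.x i j a * (R.h lam)⁻¹ = R.x i j (ev lam i * ev lam j * a) := by
  have := congrArg R.ι (sh_sx lam i j a)
  simp only [map_mul, map_inv] at this
  exact this

theorem w_y (s : W n) (i : Ix n) (a : F) : R.w s * R.y i a * (R.w s)⁻¹ = R.y (s.1 i) a := by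
  have := congrArg R.ι (sw_sy s i a)
  simp only [map_mul, map_inv] at this
  exact this

theorem w_x (s : W n) (i j : Ix n) (a : F) : R.w s * R.x i j a * (R.w s)⁻¹ = R.x (s.1 i) (s.1 j) a := by
  have := congrArg R.ι (sw_sx s i j a)
  simp only [map_mul, map_inv] at this
  exact this

theorem w_h (s : W n) (lam mu : Fin n → Fˣ) (h : ∀ k, ev mu (s.1 k) = ev lam k) :
    R.w s * R.h lam * (R.w s)⁻¹ = R.h mu := by
  have := congrArg R.ι (sw_sh s lam mu h)
  simp only [map_mul, map_inv] at this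
  exact this

theorem w_tr {i j : Ix n} (h : Dj i j) :
    R.w ⟨tr i j, tr_mem h⟩ = R.x i (neg j) 1 * R.x (neg i) j 1 * R.x i (neg j) 1 := by
  have := congrArg R.ι (sw_tr (F := F) h)
  simp only [map_mul] at this
  exact this

theorem w_sg (i : Ix n) : R.w ⟨sg i, sg_mem i⟩ = R.y i 1 * R.y (neg i) 1 * R.y i 1 := by
  have := congrArg R.ι (sw_sg (F := F) i)
  simp only [map_mul] at this
  exact this

end Frame

end Cfsg.Agent.OddHalf.SpN
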