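import Mathlib
import Cfsg.Agent.OddHalf.SpN.Rel
import Cfsg.Agent.ClassicalGeometry.SympAutOddA
import Cfsg.Agent.ClassicalGeometry.SympAutExists
import Cfsg.Agent.LieClassical.SympCenter

/-!
# Automorphisms of `Sp_2n(F)`, `n ≥ 3`, `char F = 2`; reduction of centralizer questions to `K`
-/

set_option autoImplicit false

namespace Cfsg.Agent.OddHalf.SpN

open Cfsg Cfsg.Agent.ClassicalGeometry.SympBasic Cfsg.Agent.ClassicalGeometry.SympAutSemi
open scoped Matrix commutatorElement

variable {n : ℕ} {F : Type*} [Field F]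

theorem center_Sy [Finite F] [CharP F 2] (hn : 1 ≤ n) : Subgroup.center (Sy n F) = ⊥ := by
  have := Fintype.ofFinite F
  have h := Cfsg.Agent.LieClassical.SympCenter.card_center (F := F) (m := n) hn
  have heven : 2 ∣ Fintype.card F := by
    obtain ⟨k, hp, hc⟩ := FiniteField.card F 2
    rw [hc]; exact dvd_pow_self 2 k.pos.ne'
  have h1 : Nat.gcd 2 (Fintype.card F - 1) = 1 := by
    have hpos : 0 < Fintype.card F := Fintype.card_pos
    have hodd : Odd (Fintype.card F - 1) := by
      obtain ⟨m, hm⟩ := heven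
      exact ⟨m - 1, by omega⟩
    exact (Nat.coprime_two_left).mpr hodd
  rw [h1] at h
  exact Subgroup.card_eq_one.mp h

/-- `α` is conjugation by the semisimilitude `s` -/
theorem exists_semi_Sy [Finite F] [CharP F 2] (hn : 3 ≤ n) (α : MulAut (Sy n F)) :
    ∃ s : semiSim n F, ∀ A, α A = conjHom n F s A := by
  have hm2 : 2 ≤ n := by omega
  obtain ⟨s, hs⟩ := Cfsg.Agent.ClassicalGeometry.SympAutExists.exists_semi hm2 (quotAut α)
    (Cfsg.Agent.ClassicalGeometry.SympAutOddA.recog hm2 (Or.inl hn) (quotAut α))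
  refine ⟨s, fun A => ?_⟩
  have h1 : Psi n F s (QuotientGroup.mk A) = quotAut α (QuotientGroup.mk A) := by rw [hs]
  rw [Psi_mk, quotAut_mk, QuotientGroup.eq, center_Sy (by omega), Subgroup.mem_bot] at h1
  exact (inv_mul_eq_one.mp h1).symm

/-- The linear map `N` with `x_r(b) v = v + b N(v)`. -/
structure IsRoot (e : F → Sy n F) (N : (Ix n → F) → (Ix n → F)) : Prop where
  eq : ∀ b v, rho n F (e b) v = v + b • N v
  ne : ∃ v, N v ≠ 0

section chartwo

variable [CharP F 2]

/-- the nilpotent part of the long root element -/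
def Ny (i : Ix n) (v : Ix n → F) : Ix n → F := v (neg i) • be n F i

/-- the nilpotent part of the short root element -/
def Nx (i j : Ix n) (v : Ix n → F) : Ix n → F := v (neg j) • be n F i + v (neg i) • be n F j

omit [CharP F 2] in
theorem be_ne (i : Ix n) : be n F i ≠ 0 := fun h => by
  have := congrFun h i
  simp [be_apply] at this

theorem isRoot_y (i : Ix n) : IsRoot (F := F) (sy i) (Ny i) :=
  ⟨fun b v => by rw [rho_sy, Ny, smul_smul], be n F (neg i), by
    rw [Ny, be_apply, if_pos rfl, one_smul]; exact be_ne i⟩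

theorem isRoot_x {i j : Ix n} (h : Dj i j) : IsRoot (F := F) (sx i j) (Nx i j) :=
  ⟨fun b v => by rw [rho_sx h, Nx, smul_add, smul_smul, smul_smul, add_assoc], be n F (neg j), fun e => by
    have h1 : neg i ≠ neg j := fun e => h.1 (neg_inj.mp e)
    rw [Nx, be_apply, be_apply, if_pos rfl, if_neg h1, one_smul, zero_smul, add_zero] at e
    exact be_ne i e⟩

omit [CharP F 2] in
/-- a semisimilitude commuting with a root group is a similitude -/
theorem phi_eq_refl {s : semiSim n F} {φ : F ≃+* F} {l : F} (hs : IsSemi s.1 φ l) {e : F → Sy n F}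
    {N : (Ix n → F) → (Ix n → F)} (he : IsRoot e N) (hc : ∀ b, conjHom n F s (e b) = e b) :
    φ = RingEquiv.refl F := by
  have key : ∀ b v, φ b • s.1 (N v) = b • N (s.1 v) := by
    intro b v
    have h1 := congrArg (fun A => rho n F A (s.1 v)) (hc b)
    simp only [rho_conjHom, Equiv.Perm.mul_apply, perm_inv_apply_self, he.eq, hs.1, hs.2.1] at h1
    exact add_left_cancel h1
  obtain ⟨v, hv⟩ := he.ne
  have h1 := key 1 v
  rw [map_one, one_smul, one_smul] at h1
  have h0 : s.1 (N v) ≠ 0 := by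
    intro h
    apply hv
    have h00 : s.1 0 = 0 := by
      have := hs.1 0 0
      rw [add_zero] at this
      exact (add_eq_left (a := s.1 0)).mp this.symm
    exact s.1.injective (h.trans h00.symm)
  ext b
  have h2 := key b v
  rw [← h1, ← sub_eq_zero, ← sub_smul, smul_eq_zero] at h2
  rcases h2 with h2 | h2
  · exact sub_eq_zero.mp h2
  · exact absurd h2 h0

/-- conjugation by a similitude is inner -/
theorem inner_of_sim [Finite F] {s : semiSim n F} {l : F} (hl : l ≠ 0) (hs : IsSemi s.1 (RingEquiv.refl F) l) :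
    ∃ A : Sy n F, ∀ B, conjHom n F s B = A * B * A⁻¹ := by
  have := Fintype.ofFinite F
  -- l is a square
  obtain ⟨c, hc⟩ : ∃ c : F, c * c = l := by
    have hsq : Function.Surjective (fun c : F => c * c) := by
      apply (Finite.injective_iff_surjective).mp
      intro a b hab
      have : (a - b) * (a - b) = 0 := by
        have hab' : a * a = b * b := hab
        linear_combination hab' - (a * b - b * b) * (two0 : (2 : F) = 0)
      rcases mul_self_eq_zero.mp this with h
      exact sub_eq_zero.mp h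
    exact hsq l
  have hc0 : c ≠ 0 := by rintro rfl; exact hl (by rw [← hc, mul_zero])
  let q : Equiv.Perm (Ix n → F) :=
    { toFun := fun v => c⁻¹ • v
      invFun := fun v => c • v
      left_inv := fun v => by simp [smul_smul, mul_inv_cancel₀ hc0]
      right_inv := fun v => by simp [smul_smul, inv_mul_cancel₀ hc0] }
  let p : Equiv.Perm (Ix n → F) := q * s.1
  have hp : ∀ v, p v = c⁻¹ • s.1 v := fun _ => rfl
  obtain ⟨A, hA⟩ := exists_rho_eq (m := n) (F := F) p (fun u v => by rw [hp, hp, hp, hs.1, smul_add])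
    (fun a v => by rw [hp, hp, hs.2.1, smul_comm]; rfl) (fun u v => by
      rw [hp, hp, sympForm_smul_left, sympForm_smul_right, hs.2.2]
      have e : (RingEquiv.refl F) (sympForm n F u v) = sympForm n F u v := rfl
      rw [e, ← hc]
      field_simp)
  refine ⟨A, fun B => ?_⟩
  apply rho_injective
  rw [rho_conjHom, map_mul, map_mul, map_inv, eq_mul_inv_iff_mul_eq]
  apply Equiv.ext
  intro w
  have key : ∀ w, rho n F A w = c⁻¹ • s.1 w := fun w => by rw [hA, hp]
  have h2 : s.1⁻¹ (c⁻¹ • s.1 w) = c⁻¹ • w := by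
    apply s.1.injective
    rw [perm_apply_inv_self, hs.2.1]
    rfl
  simp only [Equiv.Perm.mul_apply]
  rw [key, h2, key, (isSemi_rho B).2.1, hs.2.1]
  rfl

end chartwo

namespace Frame

variable {G : Type*} [Group G] (R : Frame n F G)

theorem nK' {g : G} (hg : Commute g R.t) (k : Sy n F) : ∃ k', g⁻¹ * R.ι k * g = R.ι k' := by
  obtain ⟨k', h⟩ := R.nK g⁻¹ hg.inv_left k
  exact ⟨k', by rw [← h, inv_inv]⟩

/-- conjugation by `g ∈ C(t)` as an automorphism of `Sp` -/
noncomputable def au (g : G) (hg : Commute g R.t) : MulAut (Sy n F) where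
  toFun k := Classical.choose (R.nK g hg k)
  invFun k := Classical.choose (R.nK' hg k)
  left_inv k := by
    apply R.inj
    rw [← Classical.choose_spec (R.nK' hg _), ← Classical.choose_spec (R.nK g hg k)]
    group
  right_inv k := by
    apply R.inj
    rw [← Classical.choose_spec (R.nK g hg _), ← Classical.choose_spec (R.nK' hg k)]
    group
  map_mul' a b := by
    apply R.inj
    rw [← Classical.choose_spec (R.nK g hg _), map_mul, map_mul, ← Classical.choose_spec (R.nK g hg _),
      ← Classical.choose_spec (R.nK g hg _)]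
    group

theorem au_spec (g : G) (hg : Commute g R.t) (k : Sy n F) : R.ι (R.au g hg k) = g * R.ι k * g⁻¹ :=
  (Classical.choose_spec (R.nK g hg k)).symm

variable [Finite F] [CharP F 2]

/-- every `g ∈ C(t)` acts on `K` as a semisimilitude -/
theorem exists_semi (hn : 3 ≤ n) {g : G} (hg : Commute g R.t) :
    ∃ s : semiSim n F, ∀ k, g * R.ι k * g⁻¹ = R.ι (conjHom n F s k) := by
  obtain ⟨s, hs⟩ := exists_semi_Sy hn (R.au g hg)
  exact ⟨s, fun k => by rw [← hs, au_spec]⟩

/-- an element of `C(t)` acting on `K` as a similitude is in `⟨t⟩ K` -/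
theorem mem_K_of_sim {g : G} (hg : Commute g R.t) {s : semiSim n F} {l : F} (hl : l ≠ 0)
    (hs : IsSemi s.1 (RingEquiv.refl F) l) (h : ∀ k, g * R.ι k * g⁻¹ = R.ι (conjHom n F s k)) :
    ∃ A, g = R.ι A ∨ g = R.t * R.ι A := by
  obtain ⟨A, hA⟩ := inner_of_sim hl hs
  refine ⟨A, ?_⟩
  have h1 : (R.ι A)⁻¹ * g = 1 ∨ (R.ι A)⁻¹ * g = R.t := by
    apply R.cK _ ((R.comm A).inv_left.mul_left hg)
    intro k
    have h2 := h k
    rw [hA, map_mul, map_mul, map_inv, mul_inv_eq_iff_eq_mul] at h2
    rw [mul_assoc, h2]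
    group
  rcases h1 with h1 | h1
  · rw [inv_mul_eq_one] at h1
    exact Or.inl h1.symm
  · right
    rw [inv_mul_eq_iff_eq_mul] at h1
    rw [h1, (R.comm A).eq]

/-- **Reduction to `K`**: an element of `C(t)` commuting with one short root group is in `⟨t⟩ K`. -/
theorem ct_comm_x (hn : 3 ≤ n) {g : G} (hg : Commute g R.t) {i j : Ix n} (hd : Dj i j)
    (hc : ∀ b, Commute g (R.x i j b)) : ∃ A, g = R.ι A ∨ g = R.t * R.ι A := by
  obtain ⟨s, hs⟩ := R.exists_semi hn hg
  obtain ⟨φ, l, hl, hφ⟩ := s.2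
  have h1 : φ = RingEquiv.refl F := phi_eq_refl hφ (isRoot_x hd) fun b => by
    apply R.inj
    rw [← hs]
    exact (mul_inv_eq_iff_eq_mul).mpr (hc b)
  subst h1
  exact R.mem_K_of_sim hg hl hφ hs

/-- An element of `C(t)` commuting with one long root group is in `⟨t⟩ K`. -/
theorem ct_comm_y (hn : 3 ≤ n) {g : G} (hg : Commute g R.t) {i : Ix n}
    (hc : ∀ b, Commute g (R.y i b)) : ∃ A, g = R.ι A ∨ g = R.t * R.ι A := by
  obtain ⟨s, hs⟩ := R.exists_semi hn hg
  obtain ⟨φ, l, hl, hφ⟩ := s.2
  have h1 : φ = RingEquiv.refl F := phi_eq_refl hφ (isRoot_y i) fun b => by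
    apply R.inj
    rw [← hs]
    exact (mul_inv_eq_iff_eq_mul).mpr (hc b)
  subst h1
  exact R.mem_K_of_sim hg hl hφ hs

omit [Finite F] [CharP F 2] in
/-- transfer of commutation to `Sp` -/
theorem comm_of {A B : Sy n F} {g : G} (hg : g = R.ι A ∨ g = R.t * R.ι A) (h : Commute g (R.ι B)) : Commute A B := by
  apply R.inj
  rw [map_mul, map_mul]
  rcases hg with rfl | rfl
  · exact h
  · have h1 : Commute R.t (R.ι B) := (R.comm B).symm
    have h2 := h1.symm.inv_right.symm.mul_left h
    have e : R.t⁻¹ * (R.t * R.ι A) = R.ι A := by group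
    rw [e] at h2
    exact h2

end Frame

end Cfsg.Agent.OddHalf.SpN
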