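import Mathlib
import Cfsg.Agent.OddHalf.SpN.Red

/-!
# D7, `K = Sp_2n(q)`, `q` even: semi-isometries (helper979)

`SI s φ`: `s` is a `φ`-semilinear isometry of the symplectic space. `Acts ι g s`: `g` acts on `K = ι(Sp)` as conjugation
by `s`.

* `exists_acts`, `Acts.unique`: every `g` normalising `K` acts as a unique semi-isometry (`n ≥ 3`, `char F = 2`);
* `Dat.sH`, `Dat.lf`: the homomorphisms from `C(t)` to the semi-isometries and to `Aut F`.
-/

set_option autoImplicit false

namespace Cfsg.Agent.OddHalf.SpN.Out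

open Cfsg Cfsg.Agent.ClassicalGeometry.SympBasic Cfsg.Agent.ClassicalGeometry.SympAutSemi
open Cfsg.Agent.OddHalf.SpN
open scoped Matrix commutatorElement

variable {n : ℕ} {F : Type*} [Field F]

/-- `s` is a semi-isometry with field automorphism `φ` -/
abbrev SI (s : Equiv.Perm (Ix n → F)) (φ : F ≃+* F) : Prop := IsSemi s φ 1

section basic

variable {s t : Equiv.Perm (Ix n → F)} {φ ψ : F ≃+* F}

theorem SI.add (h : SI s φ) (u v : Ix n → F) : s (u + v) = s u + s v := h.1 u v

theorem SI.smul (h : SI s φ) (a : F) (v : Ix n → F) : s (a • v) = φ a • s v := h.2.1 a v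

theorem SI.form (h : SI s φ) (u v : Ix n → F) : sympForm n F (s u) (s v) = φ (sympForm n F u v) := by
  rw [h.2.2, one_mul]

theorem SI.mul' (hs : SI s φ) (ht : SI t ψ) : SI (s * t) (φ * ψ) := by
  have h := IsSemi.mul hs ht
  rw [map_one, mul_one] at h
  exact h

theorem SI.one : SI (1 : Equiv.Perm (Ix n → F)) 1 :=
  ⟨fun _ _ => rfl, fun _ _ => rfl, fun _ _ => by rw [one_mul]; rfl⟩

theorem SI.inv' (hs : SI s φ) : SI s⁻¹ φ⁻¹ := by
  have h := IsSemi.inv one_ne_zero hs
  rw [inv_one, map_one] at h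
  exact h

theorem SI.of_rho (A : Sy n F) : SI (rho n F A) 1 := isSemi_rho A

theorem SI.zero (h : SI s φ) : s 0 = 0 := by
  have := h.add 0 0
  rw [add_zero] at this
  exact (add_eq_left (a := s 0)).mp this.symm

theorem SI.ne (h : SI s φ) {v : Ix n → F} (hv : v ≠ 0) : s v ≠ 0 :=
  fun e => hv (s.injective (e.trans h.zero.symm))

theorem SI.sum (h : SI s φ) {ι : Type*} (S : Finset ι) (f : ι → Ix n → F) :
    s (∑ i ∈ S, f i) = ∑ i ∈ S, s (f i) := by
  let g : (Ix n → F) →+ (Ix n → F) := ⟨⟨s, h.zero⟩, h.add⟩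
  exact map_sum g f S

theorem expand (v : Ix n → F) : v = ∑ k, v k • be n F k := by
  ext m
  simp [be, Finset.sum_apply, Pi.single_apply]

theorem SI.exp (h : SI s φ) (v : Ix n → F) (m : Ix n) : s v m = ∑ k, φ (v k) * s (be n F k) m := by
  have h1 : s v = ∑ k, s (v k • be n F k) := by
    rw [← h.sum, ← expand]
  rw [h1, Finset.sum_apply]
  exact Finset.sum_congr rfl fun k _ => by rw [h.smul, Pi.smul_apply, smul_eq_mul]

theorem SI.ext (hs : SI s φ) (ht : SI t φ) (h : ∀ k, s (be n F k) = t (be n F k)) : s = t := by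
  ext v m
  rw [hs.exp, ht.exp]
  simp only [h]

theorem SI.phi_eq (hn : 0 < n) (hs : SI s φ) (ht : SI s ψ) : φ = ψ := by
  ext a
  have h0 : s (be n F (Sum.inl ⟨0, hn⟩)) ≠ 0 := hs.ne (be_ne _)
  have h1 := (hs.smul a (be n F (Sum.inl ⟨0, hn⟩))).symm.trans (ht.smul a (be n F (Sum.inl ⟨0, hn⟩)))
  rw [← sub_eq_zero, ← sub_smul, smul_eq_zero] at h1
  exact sub_eq_zero.mp (h1.resolve_right h0)

/-- a linear isometry comes from `Sp` -/
theorem SI.exists_rho (hs : SI s 1) : ∃ A : Sy n F, rho n F A = s :=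
  exists_rho_eq s hs.add (fun a v => hs.smul a v) (fun u v => hs.form u v)

theorem SI.exists_conj (hs : SI s φ) (A : Sy n F) : ∃ B : Sy n F, rho n F B = s * rho n F A * s⁻¹ := by
  have h := (hs.mul' (SI.of_rho A)).mul' hs.inv'
  rw [mul_one, mul_inv_cancel] at h
  exact h.exists_rho

theorem SI.conj_transv (h : SI s φ) (v : Ix n → F) (c : F) :
    s * rho n F (transv v c) * s⁻¹ = rho n F (transv (s v) (φ c)) := by
  ext1 x
  rw [Equiv.Perm.mul_apply, Equiv.Perm.mul_apply, rho_transv, rho_transv, h.add, perm_apply_inv_self, h.smul]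
  congr 2
  have h1 := h.form (s⁻¹ x) v
  rw [perm_apply_inv_self] at h1
  rw [map_mul, h1]

end basic

/-- the coordinatewise field automorphism -/
def fa (n : ℕ) (φ : F ≃+* F) : Equiv.Perm (Ix n → F) where
  toFun v k := φ (v k)
  invFun v k := φ.symm (v k)
  left_inv v := by ext k; simp
  right_inv v := by ext k; simp

@[simp] theorem fa_apply (φ : F ≃+* F) (v : Ix n → F) (k : Ix n) : fa n φ v k = φ (v k) := rfl

theorem fa_be (φ : F ≃+* F) (i : Ix n) : fa n φ (be n F i) = be n F i := by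
  ext k
  rw [fa_apply, be_apply]
  split_ifs <;> simp

theorem SI.of_fa (φ : F ≃+* F) : SI (fa n φ) φ :=
  ⟨fun u v => by ext k; simp, fun a v => by ext k; simp, fun u v => by
    rw [one_mul, sympForm_eq_sum, sympForm_eq_sum, map_sum]
    exact Finset.sum_congr rfl fun i _ => by simp⟩

theorem fa_one : fa n (1 : F ≃+* F) = 1 := rfl

theorem fa_mul (φ ψ : F ≃+* F) : fa n (φ * ψ) = fa n φ * fa n ψ := rfl

theorem fa_inv (φ : F ≃+* F) : (fa n φ)⁻¹ = fa n φ⁻¹ := rfl

section chartwo

variable [CharP F 2]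

theorem eq_one_of_sq {a : F} (h : a * a = 1) : a = 1 := by
  have h1 : (a - 1) * (a - 1) = 0 := by
    linear_combination h - (a - 1) * (two0 : (2 : F) = 0)
  exact sub_eq_zero.mp (mul_self_eq_zero.mp h1)

theorem eq_one_of_pow_two {a : F} {k : ℕ} (h : a ^ 2 ^ k = 1) : a = 1 := by
  induction k with
  | zero => simpa using h
  | succ k ih =>
    apply ih
    apply eq_one_of_sq
    rw [← h, pow_succ]; ring

omit [CharP F 2] in
theorem exists_form_one {v : Ix n → F} (hv : v ≠ 0) : ∃ x, sympForm n F x v = 1 := by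
  by_contra hne
  push Not at hne
  apply hv
  apply eq_zero_of_forall_sympForm_left
  intro w
  by_contra h
  apply hne ((sympForm n F w v)⁻¹ • w)
  rw [sympForm_smul_left, inv_mul_cancel₀ h]

theorem transv_inj {v w : Ix n → F} (h : transv v (1 : F) = transv w 1) : v = w := by
  have key : ∀ x, sympForm n F x v • v = sympForm n F x w • w := by
    intro x
    have h1 := congrArg (fun A => rho n F A x) h
    simp only [rho_transv, one_mul] at h1
    exact add_left_cancel h1
  by_cases hv : v = 0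
  · by_contra hne
    have hw : w ≠ 0 := fun e => hne (by rw [hv, e])
    obtain ⟨x, hx⟩ := exists_form_one hw
    have h1 := key x
    rw [hv, hx, smul_zero, one_smul] at h1
    exact hw h1.symm
  · obtain ⟨x, hx⟩ := exists_form_one hv
    have h1 := key x
    rw [hx, one_smul] at h1
    have h2 : sympForm n F x w * sympForm n F x w = 1 := by
      have h3 := congrArg (sympForm n F x) h1
      rw [sympForm_smul_right, hx] at h3
      exact h3.symm
    rw [h1, eq_one_of_sq h2, one_smul]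

omit [CharP F 2] in
theorem exists_sqrt [Finite F] [CharP F 2] (l : F) : ∃ c : F, c * c = l := by
  have hsq : Function.Surjective (fun c : F => c * c) := by
    apply (Finite.injective_iff_surjective).mp
    intro a b hab
    have hab' : a * a = b * b := hab
    have : (a - b) * (a - b) = 0 := by
      linear_combination hab' - (a * b - b * b) * (two0 : (2 : F) = 0)
    exact sub_eq_zero.mp (mul_self_eq_zero.mp this)
  exact hsq l

/-- the homothety -/
def hom (n : ℕ) (c : Fˣ) : Equiv.Perm (Ix n → F) where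
  toFun v := (c : F) • v
  invFun v := ((c⁻¹ : Fˣ) : F) • v
  left_inv v := by simp [smul_smul]
  right_inv v := by simp [smul_smul]

/-- every automorphism is conjugation by a semi-isometry -/
theorem exists_SI [Finite F] (hn : 3 ≤ n) (α : MulAut (Sy n F)) :
    ∃ (s : Equiv.Perm (Ix n → F)) (φ : F ≃+* F), SI s φ ∧ ∀ A, rho n F (α A) = s * rho n F A * s⁻¹ := by
  obtain ⟨s, hs⟩ := exists_semi_Sy hn α
  obtain ⟨φ, l, hl, hφ⟩ := s.2
  obtain ⟨c, hc⟩ := exists_sqrt l
  have hc0 : c ≠ 0 := by rintro rfl; exact hl (by rw [← hc, mul_zero])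
  set q : Equiv.Perm (Ix n → F) := hom n (Units.mk0 c hc0)⁻¹ with hq
  have hqv : ∀ v, q v = c⁻¹ • v := fun v => by
    show (((Units.mk0 c hc0)⁻¹ : Fˣ) : F) • v = _
    rw [Units.val_inv_eq_inv_val, Units.val_mk0]
  refine ⟨q * s.1, φ, ⟨fun u v => ?_, fun a v => ?_, fun u v => ?_⟩, fun A => ?_⟩
  · rw [Equiv.Perm.mul_apply, Equiv.Perm.mul_apply, Equiv.Perm.mul_apply, hqv, hqv, hqv, hφ.1, smul_add]
  · rw [Equiv.Perm.mul_apply, Equiv.Perm.mul_apply, hqv, hqv, hφ.2.1, smul_comm]
  · rw [Equiv.Perm.mul_apply, Equiv.Perm.mul_apply, hqv, hqv, sympForm_smul_left, sympForm_smul_right, hφ.2.2, ← hc]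
    field_simp
  · have h1 : rho n F (α A) = s.1 * rho n F A * s.1⁻¹ := by rw [hs, rho_conjHom]
    have h2 : q * rho n F (α A) * q⁻¹ = rho n F (α A) := by
      rw [mul_inv_eq_iff_eq_mul]
      ext1 v
      rw [Equiv.Perm.mul_apply, Equiv.Perm.mul_apply, hqv, hqv]
      exact ((isSemi_rho (α A)).2.1 _ _).symm
    rw [mul_inv_rev, ← h2, h1]
    group

end chartwo

section act

variable {G : Type*} [Group G] {ι : Sy n F →* G} {g h : G} {s t : Equiv.Perm (Ix n → F)} {φ ψ : F ≃+* F}

/-- `g` acts on `K = ι(Sp)` as conjugation by `s` -/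
def Acts (ι : Sy n F →* G) (g : G) (s : Equiv.Perm (Ix n → F)) : Prop :=
  ∀ A : Sy n F, ∃ B, g * ι A * g⁻¹ = ι B ∧ rho n F B = s * rho n F A * s⁻¹

theorem Acts.mul (hg : Acts ι g s) (hh : Acts ι h t) : Acts ι (g * h) (s * t) := by
  intro A
  obtain ⟨B, hB, hB'⟩ := hh A
  obtain ⟨C, hC, hC'⟩ := hg B
  refine ⟨C, ?_, ?_⟩
  · rw [← hC, ← hB]; group
  · rw [hC', hB']; group

theorem Acts.one : Acts ι 1 1 := fun A => ⟨A, by group, by group⟩

theorem Acts.inv (hs : SI s φ) (hg : Acts ι g s) : Acts ι g⁻¹ s⁻¹ := by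
  intro A
  obtain ⟨B, hB⟩ := hs.inv'.exists_conj A
  refine ⟨B, ?_, hB⟩
  obtain ⟨C, hC, hC'⟩ := hg B
  have h1 : C = A := by
    apply rho_injective
    rw [hC', hB]; group
  rw [← h1, ← hC]; group

theorem Acts.iota (A : Sy n F) : Acts ι (ι A) (rho n F A) := fun B => ⟨A * B * A⁻¹, by simp, by simp⟩

/-- the conjugate of `ι A` -/
theorem Acts.eq {A B : Sy n F} (hg : Acts ι g s) (h : rho n F B = s * rho n F A * s⁻¹) :
    g * ι A * g⁻¹ = ι B := by
  obtain ⟨C, hC, hC'⟩ := hg A
  rw [hC, rho_injective (h.trans hC'.symm)]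

/-- and conversely -/
theorem Acts.rho_eq (hι : Function.Injective ι) {A B : Sy n F} (hg : Acts ι g s) (h : g * ι A * g⁻¹ = ι B) :
    rho n F B = s * rho n F A * s⁻¹ := by
  obtain ⟨C, hC, hC'⟩ := hg A
  rw [hι (h.symm.trans hC), hC']

theorem Acts.unique [CharP F 2] (hι : Function.Injective ι) (hs : SI s φ) (ht : SI t ψ) (h1 : Acts ι g s)
    (h2 : Acts ι g t) : s = t := by
  ext1 v
  obtain ⟨B, hB, hB'⟩ := h1 (transv v 1)
  have h3 := h2.rho_eq hι hB
  rw [hB', hs.conj_transv, ht.conj_transv, map_one, map_one] at h3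
  exact transv_inj (rho_injective h3)

theorem exists_acts [Finite F] [CharP F 2] (hn : 3 ≤ n) (hι : Function.Injective ι)
    (hg : g ∈ Subgroup.normalizer (ι.range : Set G)) :
    ∃ (s : Equiv.Perm (Ix n → F)) (φ : F ≃+* F), SI s φ ∧ Acts ι g s := by
  let e : Sy n F ≃* ι.range := MonoidHom.ofInjective hι
  let α : MulAut (Sy n F) := e.trans ((ι.range.normalizerMonoidHom ⟨g, hg⟩).trans e.symm)
  obtain ⟨s, φ, hs, h⟩ := exists_SI hn α
  refine ⟨s, φ, hs, fun A => ⟨α A, ?_, h A⟩⟩
  have h1 : e (α A) = ι.range.normalizerMonoidHom ⟨g, hg⟩ (e A) := by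
    show e (e.symm (ι.range.normalizerMonoidHom ⟨g, hg⟩ (e A))) = _
    rw [MulEquiv.apply_symm_apply]
  have h2 := congrArg Subtype.val h1
  exact h2.symm

end act

/-- The data: `K = ι(Sp_2n(F))` normal in `C(t)`, `C(t) ∩ C(K) = ⟨v⟩` a `2`-group containing `t`. -/
structure Dat {G : Type*} [Group G] (ι : Sy n F →* G) (t v : G) : Prop where
  inj : Function.Injective ι
  tt : t * t = 1
  t1 : t ≠ 1
  tQ : t ∈ Subgroup.zpowers v
  pQ : IsPGroup 2 ↥(Subgroup.zpowers v)
  qK : ∀ A, ι A * v = v * ι A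
  nK : ∀ g : G, g * t = t * g → g ∈ Subgroup.normalizer (ι.range : Set G)
  cK : ∀ c : G, c * t = t * c → (∀ A, ι A * c = c * ι A) → c ∈ Subgroup.zpowers v

namespace Dat

variable {G : Type*} [Group G] {ι : Sy n F →* G} {t v : G} (D : Dat ι t v)

include D

theorem QK {r : G} (hr : r ∈ Subgroup.zpowers v) (A : Sy n F) : ι A * r = r * ι A := by
  obtain ⟨k, rfl⟩ := Subgroup.mem_zpowers_iff.1 hr
  exact ((show Commute (ι A) v from D.qK A).zpow_right k)

theorem Kt (A : Sy n F) : ι A * t = t * ι A := D.QK D.tQ A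

theorem mem_C (A : Sy n F) : ι A ∈ Subgroup.centralizer ({t} : Set G) :=
  Subgroup.mem_centralizer_singleton_iff.2 (D.Kt A)

theorem Qt {r : G} (hr : r ∈ Subgroup.zpowers v) : r * t = t * r := by
  obtain ⟨k, rfl⟩ := Subgroup.mem_zpowers_iff.1 hr
  obtain ⟨l, rfl⟩ := Subgroup.mem_zpowers_iff.1 D.tQ
  exact ((Commute.refl v).zpow_zpow k l)

theorem KR [Finite F] [CharP F 2] (hn : 1 ≤ n) {A : Sy n F} (h : ι A ∈ Subgroup.zpowers v) : A = 1 := by
  have h1 : A ∈ Subgroup.center (Sy n F) := by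
    rw [Subgroup.mem_center_iff]
    intro B
    apply D.inj
    rw [map_mul, map_mul]
    exact D.QK h B
  rwa [center_Sy hn, Subgroup.mem_bot] at h1

section

variable [Finite F] [CharP F 2] (hn : 3 ≤ n)

include hn

theorem exists_s (g : Subgroup.centralizer ({t} : Set G)) :
    ∃ p : Equiv.Perm (Ix n → F) × (F ≃+* F), SI p.1 p.2 ∧ Acts ι (g : G) p.1 := by
  obtain ⟨s, φ, hs, h⟩ := exists_acts hn D.inj (D.nK g (Subgroup.mem_centralizer_singleton_iff.1 g.2))
  exact ⟨(s, φ), hs, h⟩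

end

end Dat

section homs

variable {G : Type*} [Group G] {ι : Sy n F →* G} {t v : G} [Finite F] [CharP F 2]

/-- the semi-isometry induced by `g` -/
noncomputable def Dat.sH (D : Dat ι t v) (hn : 3 ≤ n) :
    Subgroup.centralizer ({t} : Set G) →* Equiv.Perm (Ix n → F) where
  toFun g := (Classical.choose (D.exists_s hn g)).1
  map_one' := by
    have h := Classical.choose_spec (D.exists_s hn 1)
    exact Acts.unique D.inj h.1 SI.one h.2 Acts.one
  map_mul' a b := by
    have ha := Classical.choose_spec (D.exists_s hn a)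
    have hb := Classical.choose_spec (D.exists_s hn b)
    have hab := Classical.choose_spec (D.exists_s hn (a * b))
    exact Acts.unique D.inj hab.1 (ha.1.mul' hb.1) hab.2 (ha.2.mul hb.2)

/-- the field automorphism induced by `g` -/
noncomputable def Dat.lf (D : Dat ι t v) (hn : 3 ≤ n) :
    Subgroup.centralizer ({t} : Set G) →* (F ≃+* F) where
  toFun g := (Classical.choose (D.exists_s hn g)).2
  map_one' := by
    have h := Classical.choose_spec (D.exists_s hn 1)
    have h1 := Acts.unique D.inj h.1 SI.one h.2 Acts.one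
    have h2 := h.1
    rw [h1] at h2
    exact SI.phi_eq (by omega) h2 SI.one
  map_mul' a b := by
    have ha := Classical.choose_spec (D.exists_s hn a)
    have hb := Classical.choose_spec (D.exists_s hn b)
    have hab := Classical.choose_spec (D.exists_s hn (a * b))
    have h1 := Acts.unique D.inj hab.1 (ha.1.mul' hb.1) hab.2 (ha.2.mul hb.2)
    have h2 := hab.1
    rw [h1] at h2
    exact SI.phi_eq (by omega) h2 (ha.1.mul' hb.1)

namespace Dat

variable (D : Dat ι t v) (hn : 3 ≤ n)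

theorem si (g : Subgroup.centralizer ({t} : Set G)) : SI (D.sH hn g) (D.lf hn g) :=
  (Classical.choose_spec (D.exists_s hn g)).1

theorem acts (g : Subgroup.centralizer ({t} : Set G)) : Acts ι (g : G) (D.sH hn g) :=
  (Classical.choose_spec (D.exists_s hn g)).2

theorem sH_iota (A : Sy n F) : D.sH hn ⟨ι A, D.mem_C A⟩ = rho n F A :=
  Acts.unique D.inj (D.si hn _) (SI.of_rho A) (D.acts hn _) (Acts.iota A)

theorem lf_iota (A : Sy n F) : D.lf hn ⟨ι A, D.mem_C A⟩ = 1 := by
  have h := D.si hn ⟨ι A, D.mem_C A⟩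
  rw [D.sH_iota] at h
  exact SI.phi_eq (by omega) h (SI.of_rho A)

theorem sH_R {r : Subgroup.centralizer ({t} : Set G)} (hr : (r : G) ∈ Subgroup.zpowers v) : D.sH hn r = 1 := by
  refine Acts.unique D.inj (D.si hn _) SI.one (D.acts hn _) fun A => ⟨A, ?_, by group⟩
  rw [← D.QK hr A]; group

theorem lf_R {r : Subgroup.centralizer ({t} : Set G)} (hr : (r : G) ∈ Subgroup.zpowers v) : D.lf hn r = 1 := by
  have h := D.si hn r
  rw [D.sH_R hn hr] at h
  exact SI.phi_eq (by omega) h SI.one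

/-- the kernel -/
theorem mem_R_of_sH {g : Subgroup.centralizer ({t} : Set G)} (hg : D.sH hn g = 1) :
    (g : G) ∈ Subgroup.zpowers v := by
  apply D.cK _ (Subgroup.mem_centralizer_singleton_iff.1 g.2)
  intro A
  have h := (D.acts hn g).eq (A := A) (B := A) (by rw [hg]; group)
  rw [mul_inv_eq_iff_eq_mul] at h
  exact h.symm

/-- an element acting linearly is in `K R` -/
theorem exists_iota {g : Subgroup.centralizer ({t} : Set G)} (hg : D.lf hn g = 1) :
    ∃ A : Sy n F, D.sH hn g = rho n F A ∧ (ι A)⁻¹ * (g : G) ∈ Subgroup.zpowers v := by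
  have h := D.si hn g
  rw [hg] at h
  obtain ⟨A, hA⟩ := h.exists_rho
  refine ⟨A, hA.symm, ?_⟩
  have h1 : D.sH hn (⟨ι A, D.mem_C A⟩⁻¹ * g) = 1 := by
    rw [map_mul, map_inv, D.sH_iota, hA, inv_mul_cancel]
  exact D.mem_R_of_sH hn h1

end Dat

end homs

end Cfsg.Agent.OddHalf.SpN.Out
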