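import Mathlib
import Cfsg.Agent.OddHalf.SpN.OutSemi

/-!
# D7, `K = Sp_2n(q)`, `q` even: the isotropic flag, the positive unipotent group and its normaliser (helper979)

* `Tri s d`: `s e_i ∈ d_i e_i + ⟨e_j, j < i⟩`, `i = 1 .. n`; `Up n F = {A | Tri A 1}` the positive unipotent group;
* `tri_of_norm`: a semi-isometry normalising `Up` is triangular;
* `isPGroup_Up`, `Up_max`: `Up` is a Sylow 2-subgroup;
* `exists_Z_of_comm`, `comm_Z`: `Z(Up) = X_12 Y_1 = C(x_r(1), r > 0)`.
-/

set_option autoImplicit false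

namespace Cfsg.Agent.OddHalf.SpN.Out

open Cfsg Cfsg.Agent.ClassicalGeometry.SympBasic Cfsg.Agent.ClassicalGeometry.SympAutSemi
open Cfsg.Agent.OddHalf.SpN
open scoped Matrix commutatorElement

variable {n : ℕ} {F : Type*} [Field F]

/-- `s` is triangular on the isotropic flag, diagonal `d`. -/
structure Tri (s : Equiv.Perm (Ix n → F)) (d : Fin n → F) : Prop where
  dg : ∀ i, s (be n F (Sum.inl i)) (Sum.inl i) = d i
  up : ∀ i j, i < j → s (be n F (Sum.inl i)) (Sum.inl j) = 0
  lo : ∀ i j, s (be n F (Sum.inl i)) (Sum.inr j) = 0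

section tri

variable {s t : Equiv.Perm (Ix n → F)} {φ ψ : F ≃+* F} {d e : Fin n → F}

theorem Tri.mul (hs : SI s φ) (h : Tri s d) (h' : Tri t e) : Tri (s * t) (fun i => d i * φ (e i)) := by
  have key : ∀ i m, (s * t) (be n F (Sum.inl i)) m =
      ∑ j : Fin n, φ (t (be n F (Sum.inl i)) (Sum.inl j)) * s (be n F (Sum.inl j)) m := by
    intro i m
    rw [Equiv.Perm.mul_apply, hs.exp, Fintype.sum_sum_type]
    rw [add_eq_left]
    exact Finset.sum_eq_zero fun j _ => by rw [h'.lo, map_zero, zero_mul]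
  refine ⟨fun i => ?_, fun i j hij => ?_, fun i j => ?_⟩
  · rw [key, Finset.sum_eq_single i]
    · rw [h.dg, h'.dg, mul_comm]
    · intro j _ hj
      rcases lt_or_gt_of_ne hj with h1 | h1
      · rw [h.up j i h1, mul_zero]
      · rw [h'.up i j h1, map_zero, zero_mul]
    · simp
  · rw [key]
    refine Finset.sum_eq_zero fun k _ => ?_
    rcases le_or_gt k i with h1 | h1
    · rw [h.up k j (h1.trans_lt hij), mul_zero]
    · rw [h'.up i k h1, map_zero, zero_mul]
  · rw [key]
    exact Finset.sum_eq_zero fun k _ => by rw [h.lo, mul_zero]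

theorem Tri.one : Tri (1 : Equiv.Perm (Ix n → F)) 1 := by
  refine ⟨fun i => ?_, fun i j hij => ?_, fun i j => ?_⟩
  · rw [Equiv.Perm.one_apply, be_apply, if_pos rfl]; rfl
  · rw [Equiv.Perm.one_apply, be_apply, if_neg]
    intro h
    exact hij.ne' (Sum.inl_injective h)
  · rw [Equiv.Perm.one_apply, be_apply, if_neg (by simp)]

theorem Tri.unique (h : Tri s d) (h' : Tri s e) : d = e := by
  funext i
  rw [← h.dg, h'.dg]

theorem Tri.pow (hs : SI s φ) (h : Tri s d) (k : ℕ) : ∃ e, Tri (s ^ k) e := by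
  induction k with
  | zero => exact ⟨1, by rw [pow_zero]; exact Tri.one⟩
  | succ k ih =>
    obtain ⟨e, he⟩ := ih
    rw [pow_succ']
    exact ⟨_, Tri.mul hs h he⟩

theorem Tri.pow_lin (hs : SI s 1) (h : Tri s d) (k : ℕ) : Tri (s ^ k) (d ^ k) := by
  induction k with
  | zero => rw [pow_zero, pow_zero]; exact Tri.one
  | succ k ih =>
    rw [pow_succ' s]
    have h1 := Tri.mul hs h ih
    convert h1 using 1
    funext i
    simp [pow_succ']

theorem pow_pred_eq_inv {H : Type*} [Group H] [Finite H] (x : H) : x ^ (orderOf x - 1) = x⁻¹ := by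
  rw [eq_inv_iff_mul_eq_one, ← pow_succ, Nat.sub_add_cancel (orderOf_pos x), pow_orderOf_eq_one]

theorem Tri.inv [Finite F] (hs : SI s φ) (h : Tri s d) :
    Tri s⁻¹ (fun i => φ⁻¹ (d i)⁻¹) ∧ ∀ i, d i ≠ 0 := by
  obtain ⟨e, he⟩ := Tri.pow hs h (orderOf s - 1)
  rw [pow_pred_eq_inv] at he
  have h2 := Tri.mul hs h he
  rw [mul_inv_cancel] at h2
  have h3 : ∀ i, d i * φ (e i) = 1 := fun i => congrFun (h2.unique Tri.one) i
  have h0 : ∀ i, d i ≠ 0 := fun i h0 => by
    have := h3 i
    rw [h0, zero_mul] at this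
    exact zero_ne_one this
  refine ⟨?_, h0⟩
  convert he using 1
  funext i
  have h4 : φ (e i) = (d i)⁻¹ := (eq_inv_of_mul_eq_one_right (h3 i))
  rw [← h4]
  exact φ.symm_apply_apply (e i)

theorem tri_fa (φ : F ≃+* F) : Tri (fa n φ) 1 := by
  refine ⟨fun i => ?_, fun i j hij => ?_, fun i j => ?_⟩
  · rw [fa_be, be_apply, if_pos rfl]; rfl
  · rw [fa_be, be_apply, if_neg]
    intro h
    exact hij.ne' (Sum.inl_injective h)
  · rw [fa_be, be_apply, if_neg (by simp)]

end tri

/-- the positive unipotent group -/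
def Up (n : ℕ) (F : Type*) [Field F] [Finite F] : Subgroup (Sy n F) where
  carrier := {A | Tri (rho n F A) 1}
  mul_mem' := by
    intro A B hA hB
    have h := Tri.mul (SI.of_rho A) hA hB
    show Tri (rho n F (A * B)) 1
    rw [map_mul]
    convert h using 1
    funext i
    simp
  one_mem' := by
    show Tri (rho n F 1) 1
    rw [map_one]; exact Tri.one
  inv_mem' := by
    intro A hA
    have h := (Tri.inv (SI.of_rho A) hA).1
    show Tri (rho n F A⁻¹) 1
    rw [map_inv]
    convert h using 1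
    funext i
    simp

section up

variable [Finite F]

theorem mem_Up {A : Sy n F} : A ∈ Up n F ↔ Tri (rho n F A) 1 := Iff.rfl

theorem mem_Up_of_fix {A : Sy n F} (h : ∀ i, rho n F A (be n F (Sum.inl i)) = be n F (Sum.inl i)) : A ∈ Up n F := by
  refine ⟨fun i => ?_, fun i j hij => ?_, fun i j => ?_⟩
  · rw [h, be_apply, if_pos rfl]; rfl
  · rw [h, be_apply, if_neg]
    intro h
    exact hij.ne' (Sum.inl_injective h)
  · rw [h, be_apply, if_neg (by simp)]

variable [CharP F 2]

theorem sy_mem_Up (i : Fin n) (a : F) : sy (Sum.inl i) a ∈ Up n F := by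
  refine mem_Up_of_fix fun k => ?_
  rw [rho_sy, neg_inl, be_apply, if_neg (by simp), mul_zero, zero_smul, add_zero]

theorem sx_mem_Up (i j : Fin n) (a : F) : sx (Sum.inl i) (Sum.inl j) a ∈ Up n F := by
  by_cases hd : Dj (Sum.inl i : Ix n) (Sum.inl j)
  · refine mem_Up_of_fix fun k => ?_
    rw [rho_sx hd, neg_inl, neg_inl, be_apply, be_apply, if_neg (by simp), if_neg (by simp), mul_zero, zero_smul,
      zero_smul, add_zero, add_zero]
  · rw [sx_of_not hd]; exact one_mem _

theorem dj_lr {i j : Fin n} (h : i ≠ j) : Dj (Sum.inl i : Ix n) (Sum.inr j) :=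
  ⟨by simp, by simpa using h⟩

theorem dj_ll {i j : Fin n} (h : i ≠ j) : Dj (Sum.inl i : Ix n) (Sum.inl j) :=
  ⟨by simpa using h, by simp⟩

omit [Finite F] in
theorem rho_sx_lr {i j : Fin n} (h : i ≠ j) (a : F) (v : Ix n → F) :
    rho n F (sx (Sum.inl i) (Sum.inr j) a) v =
      v + (a * v (Sum.inl j)) • be n F (Sum.inl i) + (a * v (Sum.inr i)) • be n F (Sum.inr j) := by
  rw [rho_sx (dj_lr h)]; rfl

theorem sx_mem_Up' {i j : Fin n} (h : i < j) (a : F) : sx (Sum.inl i) (Sum.inr j) a ∈ Up n F := by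
  refine ⟨fun k => ?_, fun k l hkl => ?_, fun k l => ?_⟩
  · rw [rho_sx_lr h.ne]
    simp only [Pi.add_apply, Pi.smul_apply, smul_eq_mul, be_apply, Pi.one_apply]
    by_cases hk : k = i
    · subst hk
      have : (Sum.inl j : Ix n) ≠ Sum.inl k := fun e => h.ne' (Sum.inl_injective e)
      simp [this]
    · simp [hk]
  · rw [rho_sx_lr h.ne]
    simp only [Pi.add_apply, Pi.smul_apply, smul_eq_mul, be_apply]
    have h1 : (Sum.inl l : Ix n) ≠ Sum.inl k := fun e => hkl.ne' (Sum.inl_injective e)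
    by_cases hj : j = k
    · subst hj
      have h2 : (Sum.inl l : Ix n) ≠ Sum.inl i := fun e => (h.trans hkl).ne' (Sum.inl_injective e)
      simp [h1, h2]
    · have h2 : (Sum.inl j : Ix n) ≠ Sum.inl k := fun e => hj (Sum.inl_injective e)
      simp [h1, h2]
  · rw [rho_sx_lr h.ne]
    simp only [Pi.add_apply, Pi.smul_apply, smul_eq_mul, be_apply]
    have h2 : (Sum.inr i : Ix n) ≠ Sum.inl k := by simp
    simp [h2]

end up

/-- the isotropic flag -/
def Fl (i : ℕ) (v : Ix n → F) : Prop := (∀ j, v (Sum.inr j) = 0) ∧ ∀ j : Fin n, i ≤ j.1 → v (Sum.inl j) = 0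

theorem fl_be (i : Fin n) : Fl (i.1 + 1) (be n F (Sum.inl i)) := by
  refine ⟨fun j => ?_, fun j hj => ?_⟩
  · rw [be_apply, if_neg (by simp)]
  · rw [be_apply, if_neg]
    intro e
    rw [Sum.inl_injective e] at hj
    omega

theorem fl_zero {v : Ix n → F} (h : Fl 0 v) : v = 0 := by
  funext k
  rcases k with k | k
  · exact h.2 k (Nat.zero_le _)
  · exact h.1 k

theorem Fl.mono {i j : ℕ} (hij : i ≤ j) {v : Ix n → F} (h : Fl i v) : Fl j v :=
  ⟨h.1, fun k hk => h.2 k (hij.trans hk)⟩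

section flag

variable [Finite F]

/-- `Up` acts trivially on the factors of the flag -/
theorem up_sub {A : Sy n F} (hA : A ∈ Up n F) {i : ℕ} {v : Ix n → F} (hv : Fl (i + 1) v) :
    Fl i (rho n F A v - v) := by
  have key : ∀ m, rho n F A v m = ∑ k : Fin n, v (Sum.inl k) * rho n F A (be n F (Sum.inl k)) m := by
    intro m
    rw [(SI.of_rho A).exp, Fintype.sum_sum_type, add_eq_left.2]
    · rfl
    · exact Finset.sum_eq_zero fun j _ => by rw [hv.1, map_zero, zero_mul]
  refine ⟨fun j => ?_, fun j hj => ?_⟩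
  · rw [Pi.sub_apply, hv.1, sub_zero, key]
    exact Finset.sum_eq_zero fun k _ => by rw [hA.lo, mul_zero]
  · rw [Pi.sub_apply, sub_eq_zero, key, Finset.sum_eq_single j]
    · rw [hA.dg]; simp
    · intro k _ hk
      rcases lt_or_gt_of_ne hk with h1 | h1
      · rw [hA.up k j h1, mul_zero]
      · rw [hv.2 k, zero_mul]
        have : j.1 < k.1 := h1
        omega
    · simp

variable [CharP F 2]

/-- and the flag is determined by this -/
theorem fl_of_sub {w : Ix n → F} {i : ℕ} (hi : i < n) (h : ∀ B ∈ Up n F, Fl i (rho n F B w - w)) :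
    Fl (i + 1) w := by
  have hy : ∀ k : Fin n, i ≤ k.1 → w (Sum.inr k) = 0 := by
    intro k hk
    have h1 := (h _ (sy_mem_Up k 1)).2 k hk
    rw [rho_sy] at h1
    simpa [be_apply] using h1
  have hlast : w (Sum.inr (⟨n - 1, by omega⟩ : Fin n)) = 0 := hy _ (by show i ≤ n - 1; omega)
  refine ⟨fun k => ?_, fun l hl => ?_⟩
  · by_cases hk : k.1 = n - 1
    · have : k = ⟨n - 1, by omega⟩ := Fin.ext hk
      rw [this]; exact hlast
    · have hlt : k < (⟨n - 1, by omega⟩ : Fin n) := by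
        show k.1 < n - 1
        have := k.2
        omega
      have h1 := (h _ (sx_mem_Up' hlt 1)).1 ⟨n - 1, by omega⟩
      rw [rho_sx_lr hlt.ne] at h1
      simpa [be_apply] using h1
  · have hlt : (⟨i, hi⟩ : Fin n) < l := hl
    have h1 := (h _ (sx_mem_Up' hlt 1)).2 ⟨i, hi⟩ le_rfl
    rw [rho_sx_lr hlt.ne] at h1
    simpa [be_apply] using h1

variable {s : Equiv.Perm (Ix n → F)} {φ : F ≃+* F}

omit [Finite F] [CharP F 2] in
theorem SI.sub (hs : SI s φ) (u v : Ix n → F) : s (u - v) = s u - s v := by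
  have h := hs.add (u - v) v
  rw [sub_add_cancel] at h
  rw [h, add_sub_cancel_right]

theorem flag_of_norm (hs : SI s φ)
    (h : ∀ B ∈ Up n F, ∃ A ∈ Up n F, rho n F B = s * rho n F A * s⁻¹) :
    ∀ i ≤ n, ∀ v : Ix n → F, Fl i v → Fl i (s v) := by
  intro i
  induction i with
  | zero =>
    intro _ v hv
    rw [fl_zero hv, hs.zero]
    exact ⟨fun _ => rfl, fun _ _ => rfl⟩
  | succ i ih =>
    intro hi v hv
    refine fl_of_sub (by omega) fun B hB => ?_
    obtain ⟨A, hA, e⟩ := h B hB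
    have h1 : rho n F B (s v) = s (rho n F A v) := by
      rw [e, Equiv.Perm.mul_apply, Equiv.Perm.mul_apply, perm_inv_apply_self]
    rw [h1, ← hs.sub]
    exact ih (by omega) _ (up_sub hA hv)

/-- a semi-isometry normalising `Up` is triangular -/
theorem tri_of_norm (hs : SI s φ)
    (h : ∀ B ∈ Up n F, ∃ A ∈ Up n F, rho n F B = s * rho n F A * s⁻¹) :
    Tri s fun i => s (be n F (Sum.inl i)) (Sum.inl i) := by
  have key : ∀ i : Fin n, Fl (i.1 + 1) (s (be n F (Sum.inl i))) :=
    fun i => flag_of_norm hs h _ i.2 _ (fl_be i)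
  exact ⟨fun i => rfl, fun i j hij => (key i).2 j hij, fun i j => (key i).1 j⟩

omit [Finite F] in
theorem odd_smul {m : ℕ} (hm : Odd m) {w : Ix n → F} (h : (m : F) • w = 0) : w = 0 := by
  obtain ⟨k, rfl⟩ := hm
  have : ((2 * k + 1 : ℕ) : F) = 1 := by
    push_cast
    rw [two0, zero_mul, zero_add]
  rwa [this, one_smul] at h

omit [Finite F] [CharP F 2] in
theorem rho_pow_of_fix {A : Sy n F} {v : Ix n → F} (h : rho n F A (rho n F A v - v) = rho n F A v - v) (k : ℕ) :
    rho n F (A ^ k) v = v + (k : F) • (rho n F A v - v) := by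
  induction k with
  | zero => simp
  | succ k ih =>
    rw [pow_succ', map_mul, Equiv.Perm.mul_apply, ih, (SI.of_rho A).add, (SI.of_rho A).smul, h]
    push_cast
    rw [add_smul, one_smul]
    have : (1 : F ≃+* F) (k : F) = k := rfl
    rw [this]
    abel

/-- `Up` has no elements of odd order -/
theorem eq_one_of_odd {A : Sy n F} (hA : A ∈ Up n F) {m : ℕ} (hm : Odd m) (h : A ^ m = 1) : A = 1 := by
  have key : ∀ v : Ix n → F, rho n F A (rho n F A v - v) = rho n F A v - v → rho n F A v = v := by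
    intro v hv
    have h1 := rho_pow_of_fix hv m
    rw [h, map_one, Equiv.Perm.one_apply] at h1
    have h2 := odd_smul hm (add_eq_left.1 h1.symm)
    exact sub_eq_zero.1 h2
  have h1 : ∀ i ≤ n, ∀ v : Ix n → F, Fl i v → rho n F A v = v := by
    intro i
    induction i with
    | zero =>
      intro _ v hv
      rw [fl_zero hv, (SI.of_rho A).zero]
    | succ i ih =>
      intro hi v hv
      exact key v (ih (by omega) _ (up_sub hA hv))
  apply rho_injective
  ext1 v
  rw [map_one, Equiv.Perm.one_apply]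
  apply key
  apply h1 n le_rfl
  refine ⟨fun j => ?_, fun j hj => absurd j.2 (by omega)⟩
  have h2 : sympForm n F (rho n F A v) (be n F (Sum.inl j)) = sympForm n F v (be n F (Sum.inl j)) := by
    conv_lhs => rw [← h1 n le_rfl (be n F (Sum.inl j)) ((fl_be j).mono j.2)]
    exact sympForm_rho A v _
  rw [form_be, form_be, neg_inl] at h2
  rw [Pi.sub_apply, h2, sub_self]

theorem isPGroup_Up : IsPGroup 2 (Up n F) := by
  rintro ⟨A, hA⟩
  obtain ⟨k, m, hm, h⟩ := Nat.exists_eq_two_pow_mul_odd (orderOf_pos A).ne'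
  refine ⟨k, Subtype.ext ?_⟩
  show A ^ 2 ^ k = 1
  apply eq_one_of_odd (pow_mem hA _) hm
  rw [← pow_mul, ← h, pow_orderOf_eq_one]

/-- the elements of `Sp` normalising `Up` -/
theorem mem_Up_of_norm {A : Sy n F} (h : ∀ B ∈ Up n F, A⁻¹ * B * A ∈ Up n F) {k : ℕ} (hk : A ^ 2 ^ k = 1) :
    A ∈ Up n F := by
  have h1 := tri_of_norm (SI.of_rho A) fun B hB => ⟨A⁻¹ * B * A, h B hB, by
    rw [← map_inv, ← map_mul, ← map_mul]; congr 1; group⟩
  have h2 := h1.pow_lin (SI.of_rho A) (2 ^ k)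
  rw [← map_pow, hk, map_one] at h2
  rw [mem_Up]
  convert h1 using 1
  funext i
  have h3 := congrFun (h2.unique Tri.one) i
  exact (eq_one_of_pow_two h3).symm

/-- `Up` is a maximal 2-subgroup -/
theorem Up_max {P : Subgroup (Sy n F)} (hP : IsPGroup 2 P) (h : Up n F ≤ P) : P ≤ Up n F := by
  have : Fact (Nat.Prime 2) := ⟨Nat.prime_two⟩
  have hnil : Group.IsNilpotent P := hP.isNilpotent
  by_contra hne
  have h1 : (Up n F).subgroupOf P < ⊤ := by
    rw [lt_top_iff_ne_top]
    intro e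
    rw [Subgroup.subgroupOf_eq_top] at e
    exact hne e
  have h2 := Group.normalizerCondition_of_isNilpotent _ h1
  obtain ⟨x, hx, hx'⟩ := SetLike.exists_of_lt h2
  apply hx'
  rw [Subgroup.mem_subgroupOf]
  obtain ⟨k, hk⟩ := hP x
  refine mem_Up_of_norm (fun B hB => ?_) (k := k) (congrArg Subtype.val hk)
  exact (Subgroup.mem_normalizer_iff''.1 hx ⟨B, h hB⟩).1 hB

omit [CharP F 2] in
/-- triangular semi-isometries normalise `Up` -/
theorem Tri.conj_mem {s : Equiv.Perm (Ix n → F)} {φ : F ≃+* F} {d : Fin n → F} (hs : SI s φ) (h : Tri s d)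
    {A B : Sy n F} (hA : A ∈ Up n F) (hB : rho n F B = s * rho n F A * s⁻¹) : B ∈ Up n F := by
  obtain ⟨h1, h0⟩ := Tri.inv hs h
  have h2 := Tri.mul (hs.mul' (SI.of_rho A)) (Tri.mul hs h hA) h1
  rw [← hB] at h2
  rw [mem_Up]
  convert h2 using 1
  funext i
  rw [mul_one]
  show 1 = d i * φ ((1 : Fin n → F) i) * φ (φ.symm (d i)⁻¹)
  rw [RingEquiv.apply_symm_apply, Pi.one_apply, map_one, mul_one, mul_inv_cancel₀ (h0 i)]

end flag

/-! ### the center of `Up` -/

/-- the first index -/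
def c0 (hn : 3 ≤ n) : Fin n := ⟨0, by omega⟩

/-- the second index -/
def c1 (hn : 3 ≤ n) : Fin n := ⟨1, by omega⟩

/-- the third index -/
def c2 (hn : 3 ≤ n) : Fin n := ⟨2, by omega⟩

theorem c01 (hn : 3 ≤ n) : c0 hn ≠ c1 hn := by simp [c0, c1]

/-- the element `x_12(a) y_1(b)` -/
noncomputable def zz (hn : 3 ≤ n) (a b : F) : Sy n F :=
  sx (Sum.inl (c0 hn)) (Sum.inl (c1 hn)) a * sy (Sum.inl (c0 hn)) b

section cent

variable [CharP F 2]

theorem rho_zz (hn : 3 ≤ n) (a b : F) (v : Ix n → F) :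
    rho n F (zz hn a b) v = v + (a * v (Sum.inr (c1 hn)) + b * v (Sum.inr (c0 hn))) • be n F (Sum.inl (c0 hn)) +
      (a * v (Sum.inr (c0 hn))) • be n F (Sum.inl (c1 hn)) := by
  rw [zz, map_mul, Equiv.Perm.mul_apply, rho_sx (dj_ll (c01 hn)), rho_sy]
  ext k
  simp only [Pi.add_apply, Pi.smul_apply, smul_eq_mul, be_apply, neg_inl]
  simp only [reduceCtorEq, if_false, mul_zero, add_zero]
  ring

theorem zz_mul (hn : 3 ≤ n) (a b a' b' : F) : zz hn a b * zz hn a' b' = zz hn (a + a') (b + b') := by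
  apply rho_injective
  ext1 v
  rw [map_mul, Equiv.Perm.mul_apply, rho_zz, rho_zz, rho_zz]
  ext k
  simp only [Pi.add_apply, Pi.smul_apply, smul_eq_mul, be_apply]
  simp only [reduceCtorEq, if_false, mul_zero, add_zero]
  ring

theorem zz_zero (hn : 3 ≤ n) : zz hn (0 : F) 0 = 1 := by
  rw [zz, sx_zero, sy_zero, one_mul]

theorem zz_inj (hn : 3 ≤ n) {a b a' b' : F} (h : zz hn a b = zz hn a' b') : a = a' ∧ b = b' := by
  have h1 := congrArg (fun A => rho n F A (be n F (Sum.inr (c0 hn))) (Sum.inl (c1 hn))) h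
  have h2 := congrArg (fun A => rho n F A (be n F (Sum.inr (c0 hn))) (Sum.inl (c0 hn))) h
  have e := c01 hn
  simp only [rho_zz, Pi.add_apply, Pi.smul_apply, smul_eq_mul, be_apply] at h1 h2
  constructor
  · simpa [e, e.symm] using h1
  · simpa [e, e.symm] using h2

theorem zz_mem_Up [Finite F] (hn : 3 ≤ n) (a b : F) : zz hn a b ∈ Up n F :=
  mul_mem (sx_mem_Up _ _ _) (sy_mem_Up _ _)

/-- an element commuting with `y_i(1)` fixes `e_i` -/
theorem fix_of_comm_sy {A : Sy n F} {i : Ix n} (h : Commute A (sy i 1)) : rho n F A (be n F i) = be n F i := by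
  have h1 := (SI.of_rho A).conj_transv (be n F i) 1
  have h2 : rho n F A * rho n F (transv (be n F i) 1) * (rho n F A)⁻¹ = rho n F (transv (be n F i) 1) := by
    rw [← map_inv, ← map_mul, ← map_mul]
    congr 1
    exact mul_inv_eq_iff_eq_mul.2 h.eq
  rw [h2, map_one] at h1
  exact (transv_inj (rho_injective h1)).symm

/-- the elements commuting with all the `x_r(1)`, `r > 0` -/
theorem exists_Z_of_comm (hn : 3 ≤ n) {A : Sy n F} (h1 : ∀ i : Fin n, Commute A (sy (Sum.inl i) 1))
    (h2 : ∀ i j : Fin n, i < j → Commute A (sx (Sum.inl i) (Sum.inr j) 1)) : ∃ a b, A = zz hn a b := by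
  have hfix : ∀ i : Fin n, rho n F A (be n F (Sum.inl i)) = be n F (Sum.inl i) := fun i => fix_of_comm_sy (h1 i)
  set w : Fin n → Ix n → F := fun j => rho n F A (be n F (Sum.inr j)) - be n F (Sum.inr j) with hw
  have hAw : ∀ j, rho n F A (be n F (Sum.inr j)) = be n F (Sum.inr j) + w j := fun j =>
    (add_sub_cancel (be n F (Sum.inr j)) (rho n F A (be n F (Sum.inr j)))).symm
  have f1 : ∀ j k : Fin n, w j (Sum.inr k) = 0 := by
    intro j k
    have h3 : sympForm n F (rho n F A (be n F (Sum.inr j))) (be n F (Sum.inl k)) =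
        sympForm n F (be n F (Sum.inr j)) (be n F (Sum.inl k)) := by
      conv_lhs => rw [← hfix k]
      exact sympForm_rho A _ _
    rw [form_be, form_be, neg_inl] at h3
    rw [hw]
    show rho n F A (be n F (Sum.inr j)) (Sum.inr k) - be n F (Sum.inr j) (Sum.inr k) = 0
    rw [h3, sub_self]
  have f2 : ∀ i j : Fin n, i < j → w j = (w i (Sum.inl j)) • be n F (Sum.inl i) := by
    intro i j hij
    have h3 := congrArg (fun B => rho n F B (be n F (Sum.inr i))) (h2 i j hij).eq
    simp only [map_mul, Equiv.Perm.mul_apply] at h3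
    rw [rho_sx_lr hij.ne, rho_sx_lr hij.ne] at h3
    have e1 : (be n F (Sum.inr i) : Ix n → F) + (1 * be n F (Sum.inr i) (Sum.inl j)) • be n F (Sum.inl i) +
        (1 * be n F (Sum.inr i) (Sum.inr i)) • be n F (Sum.inr j) = be n F (Sum.inr i) + be n F (Sum.inr j) := by
      rw [be_apply, be_apply, if_neg (by simp), if_pos rfl, mul_zero, zero_smul, mul_one, one_smul, add_zero]
    rw [e1, (SI.of_rho A).add, hAw, hAw] at h3
    have e2 : (be n F (Sum.inr i) + w i : Ix n → F) (Sum.inl j) = w i (Sum.inl j) := by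
      rw [Pi.add_apply, be_apply, if_neg (by simp), zero_add]
    have e3 : (be n F (Sum.inr i) + w i : Ix n → F) (Sum.inr i) = 1 := by
      rw [Pi.add_apply, be_apply, if_pos rfl, f1, add_zero]
    rw [e2, e3, one_mul, one_mul, one_smul] at h3
    have h4 : (be n F (Sum.inr i) + w i + be n F (Sum.inr j)) + w j =
        (be n F (Sum.inr i) + w i + be n F (Sum.inr j)) + w i (Sum.inl j) • be n F (Sum.inl i) := by
      calc _ = be n F (Sum.inr i) + w i + (be n F (Sum.inr j) + w j) := by abel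
        _ = _ := h3
        _ = _ := by abel
    exact add_left_cancel h4
  have h01 : c0 hn < c1 hn := by show 0 < 1; omega
  have f3 : ∀ j : Fin n, 2 ≤ j.1 → w j = 0 ∧ w (c0 hn) (Sum.inl j) = 0 := by
    intro j hj
    have g0 := f2 (c0 hn) j (by show 0 < j.1; omega)
    have g1 := f2 (c1 hn) j (by show 1 < j.1; omega)
    have g2 := congrFun (g0.symm.trans g1) (Sum.inl (c0 hn))
    have g3 : w (c0 hn) (Sum.inl j) = 0 := by
      simpa [be_apply, c01 hn] using g2
    refine ⟨?_, g3⟩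
    rw [g0, g3, zero_smul]
  refine ⟨w (c0 hn) (Sum.inl (c1 hn)), w (c0 hn) (Sum.inl (c0 hn)), ?_⟩
  apply rho_injective
  refine SI.ext (SI.of_rho A) (SI.of_rho _) fun k => ?_
  rw [rho_zz]
  rcases k with k | k
  · rw [hfix, be_apply, be_apply, if_neg (by simp), if_neg (by simp), mul_zero, mul_zero, add_zero, zero_smul,
      zero_smul, add_zero, add_zero]
  · rw [hAw, add_assoc]
    congr 1
    ext m
    simp only [Pi.add_apply, Pi.smul_apply, smul_eq_mul, be_apply, Sum.inr.injEq]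
    have e := c01 hn
    by_cases hk0 : k = c0 hn
    · subst hk0
      rcases m with m | m
      · by_cases hm0 : m = c0 hn
        · subst hm0; simp [e, e.symm]
        by_cases hm1 : m = c1 hn
        · subst hm1; simp [e.symm]
        · have hm2 : 2 ≤ m.1 := by
            have a0 : m.1 ≠ 0 := fun e => hm0 (Fin.ext e)
            have a1 : m.1 ≠ 1 := fun e => hm1 (Fin.ext e)
            omega
          simp [hm0, hm1, (f3 m hm2).2]
      · simp [f1]
    by_cases hk1 : k = c1 hn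
    · subst hk1
      rw [f2 _ _ h01]
      simp [be_apply, e]
    · have hk2 : 2 ≤ k.1 := by
        have a0 : k.1 ≠ 0 := fun e => hk0 (Fin.ext e)
        have a1 : k.1 ≠ 1 := fun e => hk1 (Fin.ext e)
        omega
      rw [(f3 k hk2).1]
      simp [Ne.symm hk0, Ne.symm hk1]

/-- `X_12 Y_1` is central in `Up` -/
theorem comm_Z [Finite F] (hn : 3 ≤ n) {A : Sy n F} (hA : A ∈ Up n F) (a b : F) : Commute A (zz hn a b) := by
  have g0 : rho n F A (be n F (Sum.inl (c0 hn))) = be n F (Sum.inl (c0 hn)) :=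
    sub_eq_zero.1 (fl_zero (up_sub hA (fl_be (c0 hn))))
  obtain ⟨μ, g1⟩ : ∃ μ : F, rho n F A (be n F (Sum.inl (c1 hn))) =
      be n F (Sum.inl (c1 hn)) + μ • be n F (Sum.inl (c0 hn)) := by
    have h := up_sub hA (fl_be (c1 hn))
    refine ⟨(rho n F A (be n F (Sum.inl (c1 hn))) - be n F (Sum.inl (c1 hn))) (Sum.inl (c0 hn)), ?_⟩
    rw [← sub_eq_iff_eq_add']
    ext m
    rcases m with m | m
    · by_cases hm : m = c0 hn
      · subst hm; simp [be_apply]
      · have hm1 : 1 ≤ m.1 := by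
          have a0 : m.1 ≠ 0 := fun e => hm (Fin.ext e)
          omega
        rw [h.2 m hm1]
        simp [be_apply, hm]
    · rw [h.1 m]
      simp [be_apply]
  apply rho_injective
  rw [map_mul, map_mul]
  ext1 v
  rw [Equiv.Perm.mul_apply, Equiv.Perm.mul_apply, rho_zz, rho_zz]
  have k0 : rho n F A v (Sum.inr (c0 hn)) = v (Sum.inr (c0 hn)) := by
    have h := sympForm_rho A v (be n F (Sum.inl (c0 hn)))
    rw [g0, form_be, form_be] at h
    exact h
  have k1 : rho n F A v (Sum.inr (c1 hn)) = v (Sum.inr (c1 hn)) + μ * v (Sum.inr (c0 hn)) := by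
    have h := sympForm_rho A v (be n F (Sum.inl (c1 hn)))
    rw [g1, sympForm_add_right, sympForm_smul_right, form_be, form_be, form_be, neg_inl, neg_inl, k0] at h
    rw [← h, add_assoc, CharTwo.add_self_eq_zero, add_zero]
  rw [k0, k1, (SI.of_rho A).add, (SI.of_rho A).add, (SI.of_rho A).smul, (SI.of_rho A).smul, g0, g1]
  ext m
  simp only [Pi.add_apply, Pi.smul_apply, smul_eq_mul]
  have e : ∀ x : F, (1 : F ≃+* F) x = x := fun _ => rfl
  rw [e, e]
  ring

end cent

end Cfsg.Agent.OddHalf.SpN.Out
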