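import Mathlib
import Cfsg.Agent.OddHalf.SpN.OutFlag

/-!
# D7, `K = Sp_2n(q)`, `q` even: normal form of the triangular field involutions (helper979)

* `exists_good`: `s` triangular, `φ(s) = τ` an involution, `s² ∈ Up`: some `s A`, `A ∈ Up`, is an involution;
* `exists_normal`: a triangular involution `s` with `φ(s) = τ` is `b τ b⁻¹` with `b ∈ Sp` triangular.
-/

set_option autoImplicit false

namespace Cfsg.Agent.OddHalf.SpN.Out

open Cfsg Cfsg.Agent.ClassicalGeometry.SympBasic Cfsg.Agent.ClassicalGeometry.SympAutSemi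
open Cfsg.Agent.OddHalf.SpN
open scoped Matrix commutatorElement

variable {n : ℕ} {F : Type*} [Field F]

/-! ### the action on the root elements -/

section roots

variable [CharP F 2]

theorem fa_sy (φ : F ≃+* F) (i : Ix n) (a : F) :
    rho n F (sy i (φ a)) = fa n φ * rho n F (sy i a) * (fa n φ)⁻¹ := by
  rw [eq_mul_inv_iff_mul_eq]
  ext v k
  rw [Equiv.Perm.mul_apply, Equiv.Perm.mul_apply, rho_sy, fa_apply, rho_sy]
  simp only [Pi.add_apply, Pi.smul_apply, smul_eq_mul, fa_apply, be_apply, map_add, map_mul]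
  split_ifs <;> simp

theorem fa_sx (φ : F ≃+* F) (i j : Ix n) (a : F) :
    rho n F (sx i j (φ a)) = fa n φ * rho n F (sx i j a) * (fa n φ)⁻¹ := by
  by_cases hd : Dj i j
  · rw [eq_mul_inv_iff_mul_eq]
    ext v k
    rw [Equiv.Perm.mul_apply, Equiv.Perm.mul_apply, rho_sx hd, fa_apply, rho_sx hd]
    simp only [Pi.add_apply, Pi.smul_apply, smul_eq_mul, fa_apply, be_apply, map_add, map_mul]
    split_ifs <;> simp
  · rw [sx_of_not hd, sx_of_not hd, map_one]; group

theorem fa_zz (hn : 3 ≤ n) (φ : F ≃+* F) (a b : F) :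
    rho n F (zz hn (φ a) (φ b)) = fa n φ * rho n F (zz hn a b) * (fa n φ)⁻¹ := by
  rw [zz, zz, map_mul, map_mul, fa_sy, fa_sx]; group

end roots

/-! ### two kinds of symplectic matrices -/

/-- Levi elements -/
theorem exists_levi (M : Matrix (Fin n) (Fin n) F) (hM : M.det ≠ 0) :
    ∃ g : Sy n F, ∀ i, (∀ j, rho n F g (be n F (Sum.inl i)) (Sum.inl j) = M j i) ∧
      ∀ j, rho n F g (be n F (Sum.inl i)) (Sum.inr j) = 0 := by
  have hu : IsUnit M.det := isUnit_iff_ne_zero.2 hM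
  refine ⟨⟨Matrix.fromBlocks M 0 0 (M⁻¹)ᵀ, ?_⟩, fun i => ⟨fun j => ?_, fun j => ?_⟩⟩
  · rw [SymplecticGroup.mem_iff, Matrix.J, Matrix.fromBlocks_transpose, Matrix.fromBlocks_multiply,
      Matrix.fromBlocks_multiply]
    have h1 : M * M⁻¹ = 1 := Matrix.mul_nonsing_inv _ hu
    have h2 : (M⁻¹)ᵀ * Mᵀ = 1 := by rw [← Matrix.transpose_mul, h1, Matrix.transpose_one]
    simp [h1, h2]
  · rw [rho_apply, be, Matrix.mulVec_single_one]; rfl
  · rw [rho_apply, be, Matrix.mulVec_single_one]; rfl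

/-- elements of the unipotent radical -/
theorem exists_unip (N : Matrix (Fin n) (Fin n) F) (hN : Nᵀ = N) :
    ∃ g : Sy n F, (∀ i, rho n F g (be n F (Sum.inl i)) = be n F (Sum.inl i)) ∧
      ∀ i k, rho n F g (be n F (Sum.inr i)) k = be n F (Sum.inr i) k + Sum.elim (fun j => N j i) (fun _ => 0) k := by
  refine ⟨⟨Matrix.fromBlocks 1 N 0 1, ?_⟩, fun i => ?_, fun i k => ?_⟩
  · rw [SymplecticGroup.mem_iff, Matrix.J, Matrix.fromBlocks_transpose, Matrix.fromBlocks_multiply,
      Matrix.fromBlocks_multiply]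
    simp [hN]
  · rw [rho_apply, be, Matrix.mulVec_single_one]
    ext k
    rcases k with k | k
    · simp [Matrix.one_apply, Pi.single_apply]
    · simp
  · rw [rho_apply, be, Matrix.mulVec_single_one]
    rcases k with k | k
    · simp
    · simp [Matrix.one_apply, Pi.single_apply]

section norm

variable [CharP F 2] {τ : F ≃+* F}

theorem exists_lead (hτ1 : ∃ x, τ x ≠ x) (d : F) : ∃ c : F, c * d + τ c ≠ 0 := by
  by_contra hne
  push Not at hne
  obtain ⟨x, hx⟩ := hτ1
  have h1 := hne 1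
  rw [map_one, one_mul, add_eq_zero_iff_eq_neg, CharTwo.neg_eq] at h1
  have h2 := hne x
  rw [h1, mul_one, add_eq_zero_iff_eq_neg, CharTwo.neg_eq] at h2
  exact hx h2.symm

/-- the trace is surjective -/
theorem exists_tr (hτ : ∀ x, τ (τ x) = x) (hτ1 : ∃ x, τ x ≠ x) {x : F} (hx : τ x = x) : ∃ y : F, x = y + τ y := by
  obtain ⟨y, hy⟩ := hτ1
  have hy0 : y + τ y ≠ 0 := by
    intro h
    apply hy
    rw [add_eq_zero_iff_eq_neg, CharTwo.neg_eq] at h
    exact h.symm
  refine ⟨x * (y + τ y)⁻¹ * y, ?_⟩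
  have h1 : τ (y + τ y) = y + τ y := by rw [map_add, hτ, add_comm]
  rw [map_mul, map_mul, map_inv₀, h1, hx]
  field_simp

/-- Hilbert 90 -/
theorem exists_h90 (hτ : ∀ x, τ (τ x) = x) (hτ1 : ∃ x, τ x ≠ x) {d : F} (hd : d * τ d = 1) :
    ∃ k : Fˣ, d * τ k = k := by
  obtain ⟨c, hc⟩ := exists_lead hτ1 d
  refine ⟨Units.mk0 _ hc, ?_⟩
  rw [Units.val_mk0, map_add, map_mul, hτ]
  linear_combination τ c * hd

omit [CharP F 2] in
theorem tri_sh (k : Fin n → Fˣ) : Tri (rho n F (sh k)) fun i => (k i : F) := by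
  refine ⟨fun i => ?_, fun i j hij => ?_, fun i j => ?_⟩
  · rw [rho_sh, be_apply, if_pos rfl, mul_one]; rfl
  · rw [rho_sh, be_apply, if_neg, mul_zero]
    intro h
    exact hij.ne' (Sum.inl_injective h)
  · rw [rho_sh, be_apply, if_neg (by simp), mul_zero]

/-- (A) a good element in the coset -/
theorem exists_good [Finite F] (hτ : ∀ x, τ (τ x) = x) (hτ1 : ∃ x, τ x ≠ x) {s : Equiv.Perm (Ix n → F)}
    {d : Fin n → F} (hs : SI s τ) (h : Tri s d) {B : Sy n F} (hB : B ∈ Up n F) (hsB : s * s = rho n F B) :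
    ∃ A ∈ Up n F, (s * rho n F A) * (s * rho n F A) = 1 := by
  have h1 := Tri.mul hs h h
  rw [hsB] at h1
  have h2 : ∀ i, d i * τ (d i) = 1 := fun i => congrFun (h1.unique hB) i
  choose k hk using fun i => exists_h90 hτ hτ1 (h2 i)
  set g : Equiv.Perm (Ix n → F) := rho n F (sh k) * fa n τ * (rho n F (sh k))⁻¹ with hg
  have hττ : τ * τ = 1 := RingEquiv.ext hτ
  have hgs : SI g τ := by
    have h3 := ((SI.of_rho (sh k)).mul' (SI.of_fa τ)).mul' (SI.of_rho (sh k)).inv'
    rwa [one_mul, inv_one, mul_one] at h3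
  have hgg : g * g = 1 := by
    have h4 : fa n τ * fa n τ = 1 := by rw [← fa_mul, hττ, fa_one]
    rw [hg]
    calc _ = rho n F (sh k) * (fa n τ * fa n τ) * (rho n F (sh k))⁻¹ := by group
      _ = 1 := by rw [h4]; group
  have hgt : Tri g d := by
    have h3 := Tri.mul ((SI.of_rho (sh k)).mul' (SI.of_fa τ)) (Tri.mul (SI.of_rho (sh k)) (tri_sh k) (tri_fa τ))
      (Tri.inv (SI.of_rho (sh k)) (tri_sh k)).1
    convert h3 using 1
    funext i
    show d i = (k i : F) * (1 : F ≃+* F) ((1 : Fin n → F) i) * τ (((1 : F ≃+* F)⁻¹) ((k i : F)⁻¹))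
    rw [Pi.one_apply, map_one, mul_one, inv_one]
    show d i = (k i : F) * τ ((k i : F)⁻¹)
    have h5 : τ (k i) ≠ 0 := by
      rw [Ne, EmbeddingLike.map_eq_zero_iff]; exact (k i).ne_zero
    rw [map_inv₀, eq_mul_inv_iff_mul_eq₀ h5]
    exact hk i
  have h6 := hs.inv'.mul' hgs
  rw [inv_mul_cancel] at h6
  obtain ⟨A, hA⟩ := h6.exists_rho
  have h7 : s * rho n F A = g := by rw [hA]; group
  refine ⟨A, ?_, by rw [h7, hgg]⟩
  rw [mem_Up, hA]
  have h8 := Tri.mul hs.inv' (Tri.inv hs h).1 hgt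
  convert h8 using 1
  funext i
  rw [← map_mul, inv_mul_cancel₀ ((Tri.inv hs h).2 i), map_one]; rfl

theorem form_be_left (v : Ix n → F) (i : Ix n) : sympForm n F (be n F i) v = v (neg i) := by
  rw [sympForm_swap, form_be, CharTwo.neg_eq]

/-- the fixed flag -/
theorem exists_levi_fix (hτ : ∀ x, τ (τ x) = x) (hτ1 : ∃ x, τ x ≠ x) {s : Equiv.Perm (Ix n → F)}
    {d : Fin n → F} (hs : SI s τ) (h : Tri s d) (hss : s * s = 1) :
    ∃ (g : Sy n F) (k : Fin n → F), Tri (rho n F g) k ∧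
      ∀ i, s (rho n F g (be n F (Sum.inl i))) = rho n F g (be n F (Sum.inl i)) := by
  choose c hc using fun i => exists_lead hτ1 (d i)
  set e : Fin n → Ix n → F := fun i => c i • s (be n F (Sum.inl i)) + τ (c i) • be n F (Sum.inl i) with he
  have hse : ∀ i, s (e i) = e i := by
    intro i
    have h1 : s (s (be n F (Sum.inl i))) = be n F (Sum.inl i) := by
      rw [← Equiv.Perm.mul_apply, hss, Equiv.Perm.one_apply]
    rw [he]
    show s (c i • s (be n F (Sum.inl i)) + τ (c i) • be n F (Sum.inl i)) = _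
    rw [hs.add, hs.smul, hs.smul, hτ, h1, add_comm]
  have e1 : ∀ i, e i (Sum.inl i) = c i * d i + τ (c i) := fun i => by
    show c i * s (be n F (Sum.inl i)) (Sum.inl i) + τ (c i) * be n F (Sum.inl i) (Sum.inl i) = _
    rw [h.dg, be_apply, if_pos rfl, mul_one]
  have e2 : ∀ i j, i < j → e i (Sum.inl j) = 0 := fun i j hij => by
    show c i * s (be n F (Sum.inl i)) (Sum.inl j) + τ (c i) * be n F (Sum.inl i) (Sum.inl j) = _
    rw [h.up i j hij, be_apply, if_neg, mul_zero, mul_zero, add_zero]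
    intro h; exact hij.ne' (Sum.inl_injective h)
  have e3 : ∀ i j, e i (Sum.inr j) = 0 := fun i j => by
    show c i * s (be n F (Sum.inl i)) (Sum.inr j) + τ (c i) * be n F (Sum.inl i) (Sum.inr j) = _
    rw [h.lo i j, be_apply, if_neg (by simp), mul_zero, mul_zero, add_zero]
  set M : Matrix (Fin n) (Fin n) F := Matrix.of fun j i => e i (Sum.inl j) with hM
  have hdet : M.det ≠ 0 := by
    have h1 : M.BlockTriangular id := by
      intro i j hij
      exact e2 j i hij
    rw [Matrix.det_of_isUpperTriangular h1, Finset.prod_ne_zero_iff]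
    intro i _
    show e i (Sum.inl i) ≠ 0
    rw [e1]; exact hc i
  obtain ⟨g, hg⟩ := exists_levi M hdet
  have hge : ∀ i, rho n F g (be n F (Sum.inl i)) = e i := by
    intro i
    ext k
    rcases k with k | k
    · rw [(hg i).1]; rfl
    · rw [(hg i).2, e3]
  refine ⟨g, fun i => c i * d i + τ (c i), ⟨fun i => ?_, fun i j hij => ?_, fun i j => ?_⟩, fun i => ?_⟩
  · rw [hge, e1]
  · rw [hge, e2 i j hij]
  · rw [hge, e3]
  · rw [hge, hse]

/-- `H¹` of the unipotent radical -/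
theorem exists_unip_fix (hτ : ∀ x, τ (τ x) = x) (hτ1 : ∃ x, τ x ≠ x) {s : Equiv.Perm (Ix n → F)}
    (hs : SI s τ) (hss : s * s = 1) (hfix : ∀ i, s (be n F (Sum.inl i)) = be n F (Sum.inl i)) :
    ∃ B : Sy n F, (∀ i, rho n F B (be n F (Sum.inl i)) = be n F (Sum.inl i)) ∧ s * rho n F B = rho n F B * fa n τ := by
  obtain ⟨c, hc⟩ := exists_tr hτ hτ1 (map_one τ)
  set w : Fin n → Ix n → F := fun j => s (be n F (Sum.inr j)) - be n F (Sum.inr j) with hw
  have hsw : ∀ j, s (be n F (Sum.inr j)) = be n F (Sum.inr j) + w j := fun j =>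
    (add_sub_cancel (be n F (Sum.inr j)) (s (be n F (Sum.inr j)))).symm
  have f1 : ∀ j k : Fin n, w j (Sum.inr k) = 0 := by
    intro j k
    have h3 := hs.form (be n F (Sum.inr j)) (be n F (Sum.inl k))
    rw [hfix, form_be, form_be, neg_inl] at h3
    show s (be n F (Sum.inr j)) (Sum.inr k) - be n F (Sum.inr j) (Sum.inr k) = 0
    rw [h3, be_apply]
    split_ifs <;> simp
  have f2 : ∀ j, s (w j) = w j := by
    intro j
    have h1 : s (s (be n F (Sum.inr j))) = be n F (Sum.inr j) := by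
      rw [← Equiv.Perm.mul_apply, hss, Equiv.Perm.one_apply]
    show s (s (be n F (Sum.inr j)) - be n F (Sum.inr j)) = s (be n F (Sum.inr j)) - be n F (Sum.inr j)
    rw [hs.sub, h1]
    ext k
    rw [Pi.sub_apply, Pi.sub_apply, CharTwo.sub_eq_add, CharTwo.sub_eq_add, add_comm]
  have f3 : ∀ j k, w j (Sum.inl k) = w k (Sum.inl j) := by
    intro j k
    have h3 := hs.form (be n F (Sum.inr j)) (be n F (Sum.inr k))
    rw [hsw, hsw, sympForm_add_left, sympForm_add_right, sympForm_add_right, form_be_left, form_be_left, form_be,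
      neg_inr, neg_inr, be_apply, if_neg (by simp), map_zero, zero_add] at h3
    have h4 : sympForm n F (w j) (w k) = 0 := by
      rw [sympForm_eq_sum]
      exact Finset.sum_eq_zero fun i _ => by rw [f1, f1, zero_mul, mul_zero, sub_zero]
    rw [h4, add_zero, add_eq_zero_iff_eq_neg, CharTwo.neg_eq] at h3
    exact h3.symm
  obtain ⟨B, hB1, hB2⟩ := exists_unip (Matrix.of fun j i => c * w i (Sum.inl j)) (by
    ext j i
    show c * w j (Sum.inl i) = c * w i (Sum.inl j)
    rw [f3])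
  have hB3 : ∀ j, rho n F B (be n F (Sum.inr j)) = be n F (Sum.inr j) + c • w j := by
    intro j
    ext k
    rw [hB2]
    rcases k with k | k
    · rfl
    · show _ = be n F (Sum.inr j) (Sum.inr k) + c * w j (Sum.inr k)
      rw [f1, mul_zero]; rfl
  refine ⟨B, hB1, SI.ext (φ := τ) ?_ ?_ fun k => ?_⟩
  · have h := hs.mul' (SI.of_rho B)
    rwa [mul_one] at h
  · have h := (SI.of_rho B).mul' (SI.of_fa τ)
    rwa [one_mul] at h
  · rw [Equiv.Perm.mul_apply, Equiv.Perm.mul_apply, fa_be]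
    rcases k with k | k
    · rw [hB1, hfix]
    · rw [hB3, hs.add, hs.smul, hsw, f2, add_assoc]
      congr 1
      have h5 : w k + τ c • w k = (1 + τ c) • w k := by rw [add_smul, one_smul]
      rw [h5]
      congr 1
      linear_combination hc + τ c * (two0 : (2 : F) = 0)

/-- **The normal form** -/
theorem exists_normal (hτ : ∀ x, τ (τ x) = x) (hτ1 : ∃ x, τ x ≠ x) {s : Equiv.Perm (Ix n → F)}
    {d : Fin n → F} (hs : SI s τ) (h : Tri s d) (hss : s * s = 1) :
    ∃ (b : Sy n F) (k : Fin n → F), Tri (rho n F b) k ∧ s = rho n F b * fa n τ * (rho n F b)⁻¹ := by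
  obtain ⟨g, k, hg, hgf⟩ := exists_levi_fix hτ hτ1 hs h hss
  set s1 : Equiv.Perm (Ix n → F) := (rho n F g)⁻¹ * s * rho n F g with hs1
  have hS : SI s1 τ := by
    have h1 := ((SI.of_rho g).inv'.mul' hs).mul' (SI.of_rho g)
    rwa [inv_one, one_mul, mul_one] at h1
  have hSS : s1 * s1 = 1 := by
    rw [hs1]
    calc _ = (rho n F g)⁻¹ * (s * s) * rho n F g := by group
      _ = 1 := by rw [hss]; group
  have hSf : ∀ i, s1 (be n F (Sum.inl i)) = be n F (Sum.inl i) := by
    intro i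
    rw [hs1, Equiv.Perm.mul_apply, Equiv.Perm.mul_apply, hgf, perm_inv_apply_self]
  obtain ⟨B, hB1, hB2⟩ := exists_unip_fix hτ hτ1 hS hSS hSf
  refine ⟨g * B, k, ?_, ?_⟩
  · rw [map_mul]
    have hBt : Tri (rho n F B) 1 := by
      refine ⟨fun i => ?_, fun i j hij => ?_, fun i j => ?_⟩
      · rw [hB1, be_apply, if_pos rfl]; rfl
      · rw [hB1, be_apply, if_neg]
        intro h
        exact hij.ne' (Sum.inl_injective h)
      · rw [hB1, be_apply, if_neg (by simp)]
    have h1 := Tri.mul (SI.of_rho g) hg hBt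
    convert h1 using 1
    funext i
    rw [Pi.one_apply, map_one, mul_one]
  · have h1 : s1 = rho n F B * fa n τ * (rho n F B)⁻¹ := by rw [← hB2]; group
    have h2 : s = rho n F g * s1 * (rho n F g)⁻¹ := by rw [hs1]; group
    rw [h2, h1, map_mul]; group

end norm

end Cfsg.Agent.OddHalf.SpN.Out
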