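import Mathlib
import Cfsg.Agent.OddHalf.SpN.OutNorm

/-!
# D7, `K = Sp_2n(q)`, `q` even: a Sylow 2-subgroup `T` of `C(t)` with `T ∩ K = U` (helper979)

`DatT ι t v T`. For `x ∈ T` the semi-isometry `D.sH x` is triangular; `x ∈ ι(U) ⟨v⟩` if it is linear.
-/

set_option autoImplicit false

namespace Cfsg.Agent.OddHalf.SpN.Out

open Cfsg Cfsg.Agent.ClassicalGeometry.SympBasic Cfsg.Agent.ClassicalGeometry.SympAutSemi
open Cfsg.Agent.OddHalf.SpN
open scoped Matrix commutatorElement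

variable {n : ℕ} {F : Type*} [Field F]

/-- `Z = X_12 Y_1` -/
noncomputable def Zz [CharP F 2] (hn : 3 ≤ n) : Subgroup (Sy n F) where
  carrier := {A | ∃ a b, A = zz hn a b}
  mul_mem' := by
    rintro _ _ ⟨a, b, rfl⟩ ⟨a', b', rfl⟩
    exact ⟨_, _, zz_mul hn a b a' b'⟩
  one_mem' := ⟨0, 0, (zz_zero hn).symm⟩
  inv_mem' := by
    rintro _ ⟨a, b, rfl⟩
    refine ⟨a, b, inv_eq_of_mul_eq_one_left ?_⟩
    rw [zz_mul, CharTwo.add_self_eq_zero, CharTwo.add_self_eq_zero, zz_zero]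

/-- `X_12` -/
noncomputable def X12 [CharP F 2] (hn : 3 ≤ n) : Subgroup (Sy n F) where
  carrier := {A | ∃ a, A = zz hn a 0}
  mul_mem' := by
    rintro _ _ ⟨a, rfl⟩ ⟨a', rfl⟩
    exact ⟨a + a', by rw [zz_mul, add_zero]⟩
  one_mem' := ⟨0, (zz_zero hn).symm⟩
  inv_mem' := by
    rintro _ ⟨a, rfl⟩
    refine ⟨a, inv_eq_of_mul_eq_one_left ?_⟩
    rw [zz_mul, CharTwo.add_self_eq_zero, add_zero, zz_zero]

/-- `Y_1` -/
noncomputable def Y1 [CharP F 2] (hn : 3 ≤ n) : Subgroup (Sy n F) where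
  carrier := {A | ∃ b, A = zz hn 0 b}
  mul_mem' := by
    rintro _ _ ⟨a, rfl⟩ ⟨a', rfl⟩
    exact ⟨a + a', by rw [zz_mul, add_zero]⟩
  one_mem' := ⟨0, (zz_zero hn).symm⟩
  inv_mem' := by
    rintro _ ⟨a, rfl⟩
    refine ⟨a, inv_eq_of_mul_eq_one_left ?_⟩
    rw [zz_mul, CharTwo.add_self_eq_zero, CharTwo.add_self_eq_zero, zz_zero]

section act

variable [CharP F 2]

theorem mem_Zz (hn : 3 ≤ n) {A : Sy n F} : A ∈ Zz hn ↔ ∃ a b, A = zz hn a b := Iff.rfl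

theorem mem_X12 (hn : 3 ≤ n) {A : Sy n F} : A ∈ X12 hn ↔ ∃ a, A = zz hn a 0 := Iff.rfl

theorem mem_Y1 (hn : 3 ≤ n) {A : Sy n F} : A ∈ Y1 hn ↔ ∃ b, A = zz hn 0 b := Iff.rfl

theorem Zz_le [Finite F] (hn : 3 ≤ n) : Zz hn ≤ Up n F := by
  rintro _ ⟨a, b, rfl⟩
  exact zz_mem_Up hn a b

theorem X12_le (hn : 3 ≤ n) : (X12 hn : Subgroup (Sy n F)) ≤ Zz hn := by
  rintro _ ⟨a, rfl⟩
  exact ⟨a, 0, rfl⟩

theorem Y1_le (hn : 3 ≤ n) : (Y1 hn : Subgroup (Sy n F)) ≤ Zz hn := by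
  rintro _ ⟨a, rfl⟩
  exact ⟨0, a, rfl⟩

/-- `Z(Up) = Zz` -/
theorem mem_Zz_iff [Finite F] (hn : 3 ≤ n) {A : Sy n F} : A ∈ Zz hn ↔ ∀ B ∈ Up n F, Commute B A := by
  constructor
  · rintro ⟨a, b, rfl⟩ B hB
    exact comm_Z hn hB a b
  · intro h
    exact exists_Z_of_comm hn (fun i => (h _ (sy_mem_Up i 1)).symm) fun i j hij => (h _ (sx_mem_Up' hij 1)).symm

/-- the action of a triangular semi-isometry on `Z` -/
theorem Tri.conj_zz (hn : 3 ≤ n) {s : Equiv.Perm (Ix n → F)} {φ : F ≃+* F} {d : Fin n → F} (hs : SI s φ)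
    (h : Tri s d) (a b : F) : rho n F (zz hn (d (c0 hn) * d (c1 hn) * φ a) (d (c0 hn) ^ 2 * φ b)) =
      s * rho n F (zz hn a b) * s⁻¹ := by
  have g0 : s (be n F (Sum.inl (c0 hn))) = d (c0 hn) • be n F (Sum.inl (c0 hn)) := by
    ext m
    rw [Pi.smul_apply, smul_eq_mul, be_apply]
    rcases m with m | m
    · by_cases hm : m = c0 hn
      · subst hm; rw [h.dg, if_pos rfl, mul_one]
      · have hlt : c0 hn < m := by
          have a0 : m.1 ≠ 0 := fun e => hm (Fin.ext e)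
          show 0 < m.1
          omega
        rw [h.up _ _ hlt, if_neg (fun e => hm (Sum.inl_injective e)), mul_zero]
    · rw [h.lo, if_neg (by simp), mul_zero]
  obtain ⟨μ, g1⟩ : ∃ μ : F, s (be n F (Sum.inl (c1 hn))) =
      d (c1 hn) • be n F (Sum.inl (c1 hn)) + μ • be n F (Sum.inl (c0 hn)) := by
    refine ⟨s (be n F (Sum.inl (c1 hn))) (Sum.inl (c0 hn)), ?_⟩
    ext m
    rw [Pi.add_apply, Pi.smul_apply, Pi.smul_apply, smul_eq_mul, smul_eq_mul, be_apply, be_apply]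
    rcases m with m | m
    · by_cases hm : m = c0 hn
      · subst hm
        rw [if_neg (fun e => c01 hn (Sum.inl_injective e)), if_pos rfl, mul_one, mul_zero, zero_add]
      by_cases hm1 : m = c1 hn
      · subst hm1
        rw [h.dg, if_pos rfl, if_neg (fun e => hm (Sum.inl_injective e)), mul_one, mul_zero, add_zero]
      · have hlt : c1 hn < m := by
          have a0 : m.1 ≠ 0 := fun e => hm (Fin.ext e)
          have a1 : m.1 ≠ 1 := fun e => hm1 (Fin.ext e)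
          show 1 < m.1
          omega
        rw [h.up _ _ hlt, if_neg (fun e => hm1 (Sum.inl_injective e)), if_neg (fun e => hm (Sum.inl_injective e)),
          mul_zero, mul_zero, add_zero]
    · rw [h.lo, if_neg (by simp), if_neg (by simp), mul_zero, mul_zero, add_zero]
  rw [eq_mul_inv_iff_mul_eq]
  ext1 v
  rw [Equiv.Perm.mul_apply, Equiv.Perm.mul_apply, rho_zz, rho_zz]
  have k0 : φ (v (Sum.inr (c0 hn))) = d (c0 hn) * s v (Sum.inr (c0 hn)) := by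
    have h1 := hs.form v (be n F (Sum.inl (c0 hn)))
    rw [g0, sympForm_smul_right, form_be, form_be] at h1
    exact h1.symm
  have k1 : φ (v (Sum.inr (c1 hn))) = d (c1 hn) * s v (Sum.inr (c1 hn)) + μ * s v (Sum.inr (c0 hn)) := by
    have h1 := hs.form v (be n F (Sum.inl (c1 hn)))
    rw [g1, sympForm_add_right, sympForm_smul_right, sympForm_smul_right, form_be, form_be, form_be] at h1
    exact h1.symm
  rw [hs.add, hs.add, hs.smul, hs.smul, g0, g1, map_add, map_mul, map_mul, map_mul, k0, k1]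
  ext m
  simp only [Pi.add_apply, Pi.smul_apply, smul_eq_mul]
  linear_combination (-(φ a * d (c0 hn) * s v (Sum.inr (c0 hn)) * μ * be n F (Sum.inl (c0 hn)) m)) *
    (two0 : (2 : F) = 0)

end act

/-- The data, with a Sylow `2`-subgroup `T` of `C(t)` such that `T ∩ K = ι(U)`. -/
structure DatT {G : Type*} [Group G] [Finite F] (ι : Sy n F →* G) (t v : G) (T : Subgroup G) : Prop
    extends Dat ι t v where
  pT : IsPGroup 2 ↥T
  vT : v ∈ T
  tc : ∀ x ∈ T, x * t = t * x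
  max : ∀ P : Subgroup G, IsPGroup 2 P → T ≤ P → (∀ x ∈ P, x * t = t * x) → P ≤ T
  U_eq : (Up n F).map ι = T ⊓ ι.range

theorem Dat.conjR {G : Type*} [Group G] {ι : Sy n F →* G} {t v : G} (D : Dat ι t v) {r : G}
    (hr : r ∈ Subgroup.zpowers v) (A : Sy n F) : r * ι A * r⁻¹ = ι A := by
  rw [← D.QK hr A]; group

namespace DatT

variable {G : Type*} [Group G] [Finite F] [CharP F 2] {ι : Sy n F →* G} {t v : G} {T : Subgroup G}
  (D : DatT ι t v T)

include D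

omit [CharP F 2] in
theorem hT : T ≤ Subgroup.centralizer ({t} : Set G) := fun x hx =>
  Subgroup.mem_centralizer_singleton_iff.2 (D.tc x hx)

omit [CharP F 2] in
theorem iota_mem {A : Sy n F} : ι A ∈ T ↔ A ∈ Up n F := by
  constructor
  · intro h
    have h1 : ι A ∈ T ⊓ ι.range := ⟨h, A, rfl⟩
    rw [← D.U_eq] at h1
    obtain ⟨B, hB, e⟩ := h1
    rwa [← D.inj e]
  · intro h
    have h1 : ι A ∈ (Up n F).map ι := ⟨A, h, rfl⟩
    rw [D.U_eq] at h1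
    exact h1.1

omit [CharP F 2] in
theorem RT {r : G} (hr : r ∈ Subgroup.zpowers v) : r ∈ T := (Subgroup.zpowers_le.2 D.vT) hr

omit [CharP F 2] in
/-- `T` normalises `U` -/
theorem conj_U {x : G} (hx : x ∈ T) {B : Sy n F} (hB : B ∈ Up n F) : ∃ A ∈ Up n F, x * ι B * x⁻¹ = ι A := by
  have h1 : x * ι B * x⁻¹ ∈ ι.range :=
    (Subgroup.mem_normalizer_iff.1 (D.nK x (D.tc x hx)) _).1 ⟨B, rfl⟩
  obtain ⟨A, hA⟩ := h1
  refine ⟨A, ?_, hA.symm⟩
  rw [← D.iota_mem, hA]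
  exact mul_mem (mul_mem hx (D.iota_mem.2 hB)) (inv_mem hx)

/-- the elements of `T` are triangular -/
theorem tri (hn : 3 ≤ n) {x : G} (hx : x ∈ T) :
    ∃ d, Tri (D.sH hn ⟨x, D.hT hx⟩) d := by
  refine ⟨_, tri_of_norm (D.si hn ⟨x, D.hT hx⟩) fun B hB => ?_⟩
  obtain ⟨A, hA, e⟩ := D.conj_U (inv_mem hx) hB
  refine ⟨A, hA, (D.acts hn ⟨x, D.hT hx⟩).rho_eq D.inj ?_⟩
  show x * ι A * x⁻¹ = ι B
  rw [← e]; group

/-- the linear elements -/
theorem mem_UR (hn : 3 ≤ n) {x : G} (hx : x ∈ T) (h : D.lf hn ⟨x, D.hT hx⟩ = 1) :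
    ∃ A ∈ Up n F, ∃ r ∈ Subgroup.zpowers v, x = ι A * r ∧ D.sH hn ⟨x, D.hT hx⟩ = rho n F A := by
  obtain ⟨A, hA, hr⟩ := D.exists_iota hn h
  refine ⟨A, ?_, (ι A)⁻¹ * x, hr, by group, hA⟩
  rw [← D.iota_mem]
  have h1 := mul_mem hx (inv_mem (D.RT hr))
  have e : x * ((ι A)⁻¹ * x)⁻¹ = ι A := by group
  rwa [e] at h1

end DatT

end Cfsg.Agent.OddHalf.SpN.Out
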