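import Mathlib
import Cfsg.Agent.OddHalf.SpN.OutTri

/-!
# D7, `K = Sp_2n(q)`, `q` even, `q ≥ 4`: perfect subgroups generated by root groups (helper979)

Criteria for root elements to be in `⁅L, L⁆`: `sl2_long`, `sl2_short` (rank one), `long_of`, `short_of` (rank two).
-/

set_option autoImplicit false

namespace Cfsg.Agent.OddHalf.SpN.Out

open Cfsg Cfsg.Agent.ClassicalGeometry.SympBasic Cfsg.Agent.ClassicalGeometry.SympAutSemi
open Cfsg.Agent.OddHalf.SpN
open scoped Matrix commutatorElement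

variable {n : ℕ} {F : Type*} [Field F]

theorem rho_conj_transv (A : Sy n F) (v : Ix n → F) (c : F) :
    A * transv v c * A⁻¹ = transv (rho n F A v) c := by
  apply rho_injective
  rw [map_mul, map_mul, map_inv, (SI.of_rho A).conj_transv]
  rfl

theorem transv_smul (v : Ix n → F) (a c : F) : transv (a • v) c = transv v (a ^ 2 * c) := by
  apply rho_injective
  ext1 x
  rw [rho_transv, rho_transv, sympForm_smul_right, smul_smul]
  congr 2
  ring

variable [CharP F 2]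

theorem rho_sy_pair (i : Ix n) (a x y : F) :
    rho n F (sy i a) (x • be n F i + y • be n F (neg i)) = (x + a * y) • be n F i + y • be n F (neg i) := by
  rw [rho_sy]
  ext k
  simp only [Pi.add_apply, Pi.smul_apply, smul_eq_mul, be_apply, neg_ne, if_false, if_true, mul_zero,
    zero_add, mul_one]
  ring

theorem rho_sy_pair' (i : Ix n) (b x y : F) :
    rho n F (sy (neg i) b) (x • be n F i + y • be n F (neg i)) = x • be n F i + (y + b * x) • be n F (neg i) := by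
  rw [rho_sy]
  ext k
  simp only [Pi.add_apply, Pi.smul_apply, smul_eq_mul, be_apply, neg_neg, ne_neg, if_false, if_true, mul_zero,
    add_zero, mul_one]
  ring

theorem rho_sx_pair {i j : Ix n} (hd : Dj i j) (a x y : F) :
    rho n F (sx i j a) (x • be n F i + y • be n F (neg j)) = (x + a * y) • be n F i + y • be n F (neg j) := by
  have h1 : neg j ≠ i := fun e => hd.2 e.symm
  rw [rho_sx hd]
  ext k
  simp only [Pi.add_apply, Pi.smul_apply, smul_eq_mul, be_apply, neg_ne, if_false, if_true, mul_zero, h1, neg_inj,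
    hd.1, add_zero, zero_add, mul_one, zero_mul]
  ring

theorem rho_sx_pair' {i j : Ix n} (hd : Dj i j) (b x y : F) :
    rho n F (sx (neg i) (neg j) b) (x • be n F i + y • be n F (neg j)) =
      x • be n F i + (y + b * x) • be n F (neg j) := by
  have h1 : j ≠ i := fun e => hd.1 e.symm
  have h2 : i ≠ neg j := hd.2
  rw [rho_sx (dj_neg_left.2 (dj_neg_right.2 hd))]
  ext k
  simp only [Pi.add_apply, Pi.smul_apply, smul_eq_mul, be_apply, neg_neg, ne_neg, if_false, if_true, mul_zero, h1, h2,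
    add_zero, mul_one, zero_mul]
  ring

/-- the torus element of the long root `i` -/
noncomputable def hy (i : Ix n) (l : F) : Sy n F :=
  sy i l * sy (neg i) l⁻¹ * sy i l * (sy i 1 * sy (neg i) 1 * sy i 1)

/-- the torus element of the short root `i j` -/
noncomputable def hx (i j : Ix n) (l : F) : Sy n F :=
  sx i j l * sx (neg i) (neg j) l⁻¹ * sx i j l * (sx i j 1 * sx (neg i) (neg j) 1 * sx i j 1)

theorem rho_hy (i : Ix n) {l : F} (hl : l ≠ 0) : rho n F (hy i l) (be n F i) = l • be n F i := by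
  have e : be n F i = (1 : F) • be n F i + (0 : F) • be n F (neg i) := by rw [one_smul, zero_smul, add_zero]
  rw [hy]
  simp only [map_mul, Equiv.Perm.mul_apply]
  conv_lhs => rw [e]
  rw [rho_sy_pair, rho_sy_pair', rho_sy_pair, rho_sy_pair, rho_sy_pair', rho_sy_pair]
  have e1 : (1 : F) + 1 = 0 := CharTwo.add_self_eq_zero 1
  simp only [mul_zero, add_zero, mul_one, zero_add, e1]
  rw [inv_mul_cancel₀ hl, e1, mul_zero, add_zero, zero_smul, add_zero]

theorem rho_hx {i j : Ix n} (hd : Dj i j) {l : F} (hl : l ≠ 0) :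
    rho n F (hx i j l) (be n F i) = l • be n F i := by
  have e : be n F i = (1 : F) • be n F i + (0 : F) • be n F (neg j) := by rw [one_smul, zero_smul, add_zero]
  rw [hx]
  simp only [map_mul, Equiv.Perm.mul_apply]
  conv_lhs => rw [e]
  rw [rho_sx_pair hd, rho_sx_pair' hd, rho_sx_pair hd, rho_sx_pair hd, rho_sx_pair' hd, rho_sx_pair hd]
  have e1 : (1 : F) + 1 = 0 := CharTwo.add_self_eq_zero 1
  simp only [mul_zero, add_zero, mul_one, zero_add, e1]
  rw [inv_mul_cancel₀ hl, e1, mul_zero, add_zero, zero_smul, add_zero]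

theorem hx_symm (i j : Ix n) (l : F) : hx i j l = hx j i l := by
  rw [hx, hx]
  simp only [sx_symm i j, sx_symm (neg i) (neg j)]

theorem hy_conj (i : Ix n) {l : F} (hl : l ≠ 0) (a : F) : hy i l * sy i a * (hy i l)⁻¹ = sy i (l ^ 2 * a) := by
  rw [sy, rho_conj_transv, rho_hy i hl, transv_smul]; rfl

theorem hx_conj {i j : Ix n} (hd : Dj i j) {l : F} (hl : l ≠ 0) (a : F) :
    hx i j l * sx i j a * (hx i j l)⁻¹ = sx i j (l ^ 2 * a) := by
  have h1 := rho_hx hd hl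
  have h2 := rho_hx hd.symm hl
  rw [← hx_symm] at h2
  have e : ∀ h x y z : Sy n F, h * (x * y * z) * h⁻¹ = (h * x * h⁻¹) * (h * y * h⁻¹) * (h * z * h⁻¹) := by
    intro h x y z; group
  rw [sx, if_pos hd, sx, if_pos hd, e, rho_conj_transv, rho_conj_transv, rho_conj_transv, (SI.of_rho _).add, h1, h2,
    ← smul_add, transv_smul, transv_smul, transv_smul]

theorem exists_sq {c l : F} (hl1 : l ≠ 1) : ∃ a, c = l ^ 2 * a + a := by
  have h : l ^ 2 + 1 ≠ 0 := by
    intro h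
    apply hl1
    apply eq_one_of_sq
    rw [add_eq_zero_iff_eq_neg, CharTwo.neg_eq] at h
    rw [← h]; ring
  exact ⟨c * (l ^ 2 + 1)⁻¹, by field_simp⟩

section sl2

variable {L : Subgroup (Sy n F)}

theorem sl2_long {i : Ix n} (h1 : ∀ a, sy i a ∈ L) (h2 : ∀ a, sy (neg i) a ∈ L) (hq : ∃ c : F, c ≠ 0 ∧ c ≠ 1)
    (c : F) : sy i c ∈ ⁅L, L⁆ := by
  obtain ⟨l, hl0, hl1⟩ := hq
  obtain ⟨a, rfl⟩ := exists_sq (c := c) hl1
  have hL : hy i l ∈ L :=
    mul_mem (mul_mem (mul_mem (h1 _) (h2 _)) (h1 _)) (mul_mem (mul_mem (h1 _) (h2 _)) (h1 _))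
  have h4 : ⁅hy i l, sy i a⁆ = sy i (l ^ 2 * a + a) := by
    rw [commutatorElement_def, hy_conj i hl0, sy_add]
    congr 1
    exact inv_eq_of_mul_eq_one_left (sy_sq i a)
  rw [← h4]
  exact Subgroup.commutator_mem_commutator hL (h1 a)

theorem sl2_short {i j : Ix n} (h1 : ∀ a, sx i j a ∈ L) (h2 : ∀ a, sx (neg i) (neg j) a ∈ L)
    (hq : ∃ c : F, c ≠ 0 ∧ c ≠ 1) (c : F) : sx i j c ∈ ⁅L, L⁆ := by
  by_cases hd : Dj i j
  · obtain ⟨l, hl0, hl1⟩ := hq
    obtain ⟨a, rfl⟩ := exists_sq (c := c) hl1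
    have hL : hx i j l ∈ L :=
      mul_mem (mul_mem (mul_mem (h1 _) (h2 _)) (h1 _)) (mul_mem (mul_mem (h1 _) (h2 _)) (h1 _))
    have h4 : ⁅hx i j l, sx i j a⁆ = sx i j (l ^ 2 * a + a) := by
      rw [commutatorElement_def, hx_conj hd hl0, sx_add]
      congr 1
      exact inv_eq_of_mul_eq_one_left (sx_sq i j a)
    rw [← h4]
    exact Subgroup.commutator_mem_commutator hL (h1 a)
  · rw [sx_of_not hd]; exact one_mem _

/-- 120 degrees -/
theorem short_of {i j k : Ix n} (hij : Dj i j) (hjk : Dj j k) (hik : Dj i k) (h1 : ∀ a, sx i j a ∈ L)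
    (h2 : sx (neg j) k 1 ∈ L) (c : F) : sx i k c ∈ ⁅L, L⁆ := by
  have e := sx_rel hij hjk hik c (1 : F)
  rw [mul_one] at e
  have h4 : ⁅sx i j c, sx (neg j) k (1 : F)⁆ = sx i k c := by
    rw [commutatorElement_def, e]; group
  rw [← h4]
  exact Subgroup.commutator_mem_commutator (h1 c) h2

/-- 135 degrees -/
theorem long_of {i j : Ix n} (hij : Dj i j) (h1 : ∀ a, sy i a ∈ L) (h2 : ∀ a, sx (neg i) j a ∈ L)
    (hq : ∃ c : F, c ≠ 0 ∧ c ≠ 1) : (∀ c, sy j c ∈ ⁅L, L⁆) ∧ ∀ c, sx i j c ∈ ⁅L, L⁆ := by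
  have key : ∀ a b : F, sx i j (a * b) * sy j (a * b ^ 2) ∈ ⁅L, L⁆ := by
    intro a b
    have e := sy_rel hij a b
    have h4 : ⁅sy i a, sx (neg i) j b⁆ = sx i j (a * b) * sy j (a * b ^ 2) := by
      rw [commutatorElement_def, e]; group
    rw [← h4]
    exact Subgroup.commutator_mem_commutator (h1 a) (h2 b)
  have hy : ∀ c, sy j c ∈ ⁅L, L⁆ := by
    intro c
    obtain ⟨l, hl0, hl1⟩ := hq
    have hl2 : l + 1 ≠ 0 := by
      intro h
      apply hl1
      rw [add_eq_zero_iff_eq_neg, CharTwo.neg_eq] at h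
      exact h
    -- `a b = d`: `x(d) y(d b)`, `b = 1, l`
    set d : F := c * (l + 1)⁻¹ with hd
    have k1 := key (d * l⁻¹) l
    have k2 := key d 1
    have e1 : d * l⁻¹ * l = d := by field_simp
    have e2 : d * l⁻¹ * l ^ 2 = d * l := by field_simp
    rw [e1, e2] at k1
    rw [mul_one, one_pow, mul_one] at k2
    have k3 := mul_mem (inv_mem k2) k1
    have e3 : (sx i j d * sy j d)⁻¹ * (sx i j d * sy j (d * l)) = sy j c := by
      rw [mul_inv_rev, mul_assoc, inv_mul_cancel_left]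
      rw [inv_eq_of_mul_eq_one_left (sy_sq j d), ← sy_add]
      congr 1
      rw [hd]; field_simp; ring
    rwa [e3] at k3
  refine ⟨hy, fun c => ?_⟩
  have k1 := key c 1
  rw [mul_one, one_pow, mul_one] at k1
  have k2 := mul_mem k1 (inv_mem (hy c))
  rwa [mul_inv_cancel_right] at k2

end sl2

/-! ### groups generated by root groups -/

/-- the group generated by the long root groups `i`, `P i`, and the short root groups `i j`, `Q i j` -/
noncomputable def RG (F : Type*) [Field F] [CharP F 2] {n : ℕ} (P : Ix n → Prop) (Q : Ix n → Ix n → Prop) :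
    Subgroup (Sy n F) :=
  Subgroup.closure {A | (∃ i a, P i ∧ A = sy i a) ∨ ∃ i j a, Q i j ∧ A = sx i j a}

section RG

variable {P : Ix n → Prop} {Q : Ix n → Ix n → Prop}

theorem sy_mem {i : Ix n} (h : P i) (a : F) : sy i a ∈ RG F P Q :=
  Subgroup.subset_closure (Or.inl ⟨i, a, h, rfl⟩)

theorem sx_mem {i j : Ix n} (h : Q i j) (a : F) : sx i j a ∈ RG F P Q :=
  Subgroup.subset_closure (Or.inr ⟨i, j, a, h, rfl⟩)

theorem RG_le {S : Subgroup (Sy n F)} (h1 : ∀ i, P i → ∀ a, sy i a ∈ S) (h2 : ∀ i j, Q i j → ∀ a, sx i j a ∈ S) :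
    RG F P Q ≤ S := by
  rw [RG, Subgroup.closure_le]
  rintro _ (⟨i, a, h, rfl⟩ | ⟨i, j, a, h, rfl⟩)
  · exact h1 i h a
  · exact h2 i j h a

theorem RG_perfect (h1 : ∀ i, P i → ∀ a, sy i a ∈ ⁅RG F P Q, RG F P Q⁆)
    (h2 : ∀ i j, Q i j → ∀ a, sx i j a ∈ ⁅RG F P Q, RG F P Q⁆) : ⁅RG F P Q, RG F P Q⁆ = RG F P Q := by
  apply le_antisymm
  · rw [Subgroup.commutator_le]
    intro a ha b hb
    rw [commutatorElement_def]
    exact mul_mem (mul_mem (mul_mem ha hb) (inv_mem ha)) (inv_mem hb)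
  · exact RG_le h1 h2

end RG

/-- `i ≠ -1` -/
def PA (hn : 3 ≤ n) (i : Ix n) : Prop := i ≠ Sum.inr (c0 hn)

def QA (hn : 3 ≤ n) (i j : Ix n) : Prop := PA hn i ∧ PA hn j

/-- `i ≠ -1, -2` -/
def PM (hn : 3 ≤ n) (i : Ix n) : Prop := i ≠ Sum.inr (c0 hn) ∧ i ≠ Sum.inr (c1 hn)

def QM (hn : 3 ≤ n) (i j : Ix n) : Prop := PM hn i ∧ PM hn j

def QB (hn : 3 ≤ n) (i j : Ix n) : Prop := (PM hn i ∧ PM hn j) ∨ (i = Sum.inl (c0 hn) ∧ j = Sum.inr (c1 hn)) ∨
  (i = Sum.inr (c0 hn) ∧ j = Sum.inl (c1 hn))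

/-- `⟨Q_1, Sp_{2n-2}⟩` -/
noncomputable def LA (F : Type*) [Field F] [CharP F 2] (hn : 3 ≤ n) : Subgroup (Sy n F) := RG F (PA hn) (QA hn)

/-- `⟨Q_12, SL_2 × Sp_{2n-4}⟩` -/
noncomputable def LB (F : Type*) [Field F] [CharP F 2] (hn : 3 ≤ n) : Subgroup (Sy n F) := RG F (PM hn) (QB hn)

/-- `⟨Q_12, Sp_{2n-4}⟩` -/
noncomputable def LM (F : Type*) [Field F] [CharP F 2] (hn : 3 ≤ n) : Subgroup (Sy n F) := RG F (PM hn) (QM hn)

theorem c02 (hn : 3 ≤ n) : c0 hn ≠ c2 hn := by simp [c0, c2]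

theorem c12 (hn : 3 ≤ n) : c1 hn ≠ c2 hn := by simp [c1, c2]

theorem LA_perfect (hn : 3 ≤ n) (hq : ∃ c : F, c ≠ 0 ∧ c ≠ 1) : ⁅LA F hn, LA F hn⁆ = LA F hn := by
  have h01 := c01 hn
  have key : ∀ i j, QA hn i j → Dj i j → i ≠ Sum.inl (c0 hn) → ∀ a : F, sx i j a ∈ ⁅LA F hn, LA F hn⁆ := by
    intro i j h hd hi
    refine (long_of hd (fun a => sy_mem h.1 a) (fun a => sx_mem ⟨?_, h.2⟩ a) hq).2
    intro e
    apply hi
    rw [neg_eq_iff] at e
    exact e
  refine RG_perfect (fun i hi a => ?_) fun i j h a => ?_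
  · by_cases hi0 : i = Sum.inl (c0 hn)
    · subst hi0
      refine (long_of (i := Sum.inl (c1 hn)) (dj_ll h01.symm) (fun a => sy_mem (by simp [PA]) a)
        (fun a => sx_mem ⟨?_, by simp [PA]⟩ a) hq).1 a
      simpa [PA] using h01.symm
    · refine sl2_long (fun a => sy_mem hi a) (fun a => sy_mem ?_ a) hq a
      intro e
      apply hi0
      rw [neg_eq_iff] at e
      exact e
  · by_cases hd : Dj i j
    · by_cases hi : i = Sum.inl (c0 hn)
      · rw [sx_symm]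
        refine key j i ⟨h.2, h.1⟩ hd.symm ?_ a
        rw [← hi]; exact hd.1.symm
      · exact key i j h hd hi a
    · rw [sx_of_not hd]; exact one_mem _

/-- the part common to `LM` and `LB` -/
theorem LM_aux (hn : 3 ≤ n) (hq : ∃ c : F, c ≠ 0 ∧ c ≠ 1) {L : Subgroup (Sy n F)} (hy : ∀ i, PM hn i → ∀ a, sy i a ∈ L)
    (hx : ∀ i j, QM hn i j → ∀ a, sx i j a ∈ L) :
    (∀ i, PM hn i → ∀ a, sy i a ∈ ⁅L, L⁆) ∧ ∀ i j, QM hn i j → ∀ a, sx i j a ∈ ⁅L, L⁆ := by
  have h01 := c01 hn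
  have h02 := c02 hn
  have h12 := c12 hn
  have key : ∀ i j, QM hn i j → Dj i j → i ≠ Sum.inl (c0 hn) → i ≠ Sum.inl (c1 hn) → ∀ a : F, sx i j a ∈ ⁅L, L⁆ := by
    intro i j h hd hi hi'
    refine (long_of hd (fun a => hy _ h.1 a) (fun a => hx _ _ ⟨⟨?_, ?_⟩, h.2⟩ a) hq).2
    · intro e
      apply hi
      rw [neg_eq_iff] at e
      exact e
    · intro e
      apply hi'
      rw [neg_eq_iff] at e
      exact e
  refine ⟨fun i hi a => ?_, fun i j h a => ?_⟩
  · by_cases hi0 : i = Sum.inl (c0 hn)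
    · subst hi0
      refine (long_of (i := Sum.inl (c2 hn)) (dj_ll h02.symm) (fun a => hy _ (by simp [PM]) a)
        (fun a => hx _ _ ⟨?_, hi⟩ a) hq).1 a
      exact ⟨by simpa using h02.symm, by simpa using h12.symm⟩
    by_cases hi1 : i = Sum.inl (c1 hn)
    · subst hi1
      refine (long_of (i := Sum.inl (c2 hn)) (dj_ll h12.symm) (fun a => hy _ (by simp [PM]) a)
        (fun a => hx _ _ ⟨?_, hi⟩ a) hq).1 a
      exact ⟨by simpa using h02.symm, by simpa using h12.symm⟩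
    · refine sl2_long (fun a => hy _ hi a) (fun a => hy _ ⟨?_, ?_⟩ a) hq a
      · intro e
        apply hi0
        rw [neg_eq_iff] at e
        exact e
      · intro e
        apply hi1
        rw [neg_eq_iff] at e
        exact e
  · by_cases hd : Dj i j
    · by_cases hi : i ≠ Sum.inl (c0 hn) ∧ i ≠ Sum.inl (c1 hn)
      · exact key i j h hd hi.1 hi.2 a
      by_cases hj : j ≠ Sum.inl (c0 hn) ∧ j ≠ Sum.inl (c1 hn)
      · rw [sx_symm]
        exact key j i ⟨h.2, h.1⟩ hd.symm hj.1 hj.2 a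
      -- `{i, j} = {1, 2}`
      have hi' : i = Sum.inl (c0 hn) ∨ i = Sum.inl (c1 hn) := by tauto
      have hj' : j = Sum.inl (c0 hn) ∨ j = Sum.inl (c1 hn) := by tauto
      have hi2 : Dj i (Sum.inl (c2 hn)) := by
        rcases hi' with rfl | rfl
        · exact dj_ll h02
        · exact dj_ll h12
      have hj2 : Dj (Sum.inl (c2 hn)) j := by
        rcases hj' with rfl | rfl
        · exact dj_ll h02.symm
        · exact dj_ll h12.symm
      refine short_of hi2 hj2 hd (fun a => hx _ _ ⟨h.1, by simp [PM]⟩ a) (hx _ _ ⟨?_, h.2⟩ 1) a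
      exact ⟨by simpa using h02.symm, by simpa using h12.symm⟩
    · rw [sx_of_not hd]; exact one_mem _

theorem LM_perfect (hn : 3 ≤ n) (hq : ∃ c : F, c ≠ 0 ∧ c ≠ 1) : ⁅LM F hn, LM F hn⁆ = LM F hn := by
  have h := LM_aux (L := LM F hn) hn hq (fun i hi a => sy_mem hi a) (fun i j h a => sx_mem h a)
  exact RG_perfect h.1 h.2

theorem LB_perfect (hn : 3 ≤ n) (hq : ∃ c : F, c ≠ 0 ∧ c ≠ 1) : ⁅LB F hn, LB F hn⁆ = LB F hn := by
  have h := LM_aux (L := LB F hn) hn hq (fun i hi a => sy_mem hi a) (fun i j h a => sx_mem (Or.inl h) a)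
  refine RG_perfect h.1 fun i j hij a => ?_
  rcases hij with hij | ⟨rfl, rfl⟩ | ⟨rfl, rfl⟩
  · exact h.2 i j hij a
  · exact sl2_short (fun a => sx_mem (Or.inr (Or.inl ⟨rfl, rfl⟩)) a)
      (fun a => sx_mem (Or.inr (Or.inr ⟨rfl, rfl⟩)) a) hq a
  · exact sl2_short (fun a => sx_mem (Or.inr (Or.inr ⟨rfl, rfl⟩)) a)
      (fun a => sx_mem (Or.inr (Or.inl ⟨rfl, rfl⟩)) a) hq a

end Cfsg.Agent.OddHalf.SpN.Out
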