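import Cfsg.Agent.OddHalf.D7Out.Front

/-!
# ODD D7, `K = Sp_2n(q)` (two root lengths): the start of the fusion, clean and outer case

`T` a maximal 2-subgroup of `C(t)`, `U = T ∩ K`, `Z = Z(U) = A × B` (`A`, `B` the long and the short highest root
group), `T₁ = ⟨t⟩ U = C_T(A) = C_T(B)`.

* `exists_normalizer`: if `T` centralises the conjugate `u` of `t`, then `u` is conjugate to `t` in `N(T)`;
* `one_one`: if `n ∈ N(T)`, `n t n⁻¹ = t z`, `z ∈ Z#`, then `z' = n⁻¹ z n ∈ Z#` has the same type;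
* `fusA`, `fusB`: if `t` is conjugate to `t a`, `a ∈ A#`, then `N(T₁) ∩ N(A)` is transitive on `t A`;
* `start`: if `t` is not isolated in `Z(T)` this holds for `A` or for `B`.
-/

set_option autoImplicit false

namespace Cfsg.Agent.OddHalf.SpN.Start

open Subgroup Cfsg.Agent.OddHalf.D7Out.Defs Cfsg.Agent.OddHalf.D7Out.Front

variable {G : Type*} [Group G]

/-- the largest perfect subgroup of `C` -/
def perf (C : Subgroup G) : Subgroup G := sSup {H | H ≤ C ∧ ⁅H, H⁆ = H}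

theorem perf_le (C : Subgroup G) : perf C ≤ C := sSup_le fun _ hH => hH.1

theorem le_perf {C H : Subgroup G} (hC : H ≤ C) (hH : ⁅H, H⁆ = H) : H ≤ perf C := le_sSup ⟨hC, hH⟩

theorem perf_perfect (C : Subgroup G) : ⁅perf C, perf C⁆ = perf C := by
  apply le_antisymm
  · rw [Subgroup.commutator_le]
    intro a ha b hb
    rw [commutatorElement_def]
    exact mul_mem (mul_mem (mul_mem ha hb) (inv_mem ha)) (inv_mem hb)
  · refine sSup_le fun H hH => ?_
    calc H = ⁅H, H⁆ := hH.2.symm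
      _ ≤ ⁅perf C, perf C⁆ := commutator_mono (le_perf hH.1 hH.2) (le_perf hH.1 hH.2)

/-- `perf` commutes with automorphisms -/
theorem map_perf (e : MulAut G) (C : Subgroup G) :
    (perf C).map e.toMonoidHom = perf (C.map e.toMonoidHom) := by
  have key : ∀ (e : MulAut G) (C : Subgroup G), (perf C).map e.toMonoidHom ≤ perf (C.map e.toMonoidHom) := by
    intro e C
    refine le_perf (map_mono (perf_le C)) ?_
    rw [← map_commutator, perf_perfect]
  apply le_antisymm (key e C)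
  have h1 := key e⁻¹ (C.map e.toMonoidHom)
  have h2 : ∀ D : Subgroup G, (D.map e.toMonoidHom).map (e⁻¹ : MulAut G).toMonoidHom = D := by
    intro D
    rw [map_map]
    convert map_id D
    ext x
    show e⁻¹ (e x) = x
    simp
  rw [h2] at h1
  have h3 : ∀ D : Subgroup G, (D.map (e⁻¹ : MulAut G).toMonoidHom).map e.toMonoidHom = D := by
    intro D
    rw [map_map]
    convert map_id D
    ext x
    show e (e⁻¹ x) = x
    simp
  rw [← h3 (perf (C.map e.toMonoidHom))]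
  exact map_mono h1

/-- conjugation by `n` maps `C(t) ∩ C(z')` to `C(s) ∩ C(z)` if `n` maps `t, z'` to `s, z` -/
theorem map_cent {n t s z z' : G} (h1 : n * t * n⁻¹ = s) (h2 : n * z' * n⁻¹ = z) :
    (centralizer ({t} : Set G) ⊓ centralizer ({z'} : Set G)).map (MulAut.conj n).toMonoidHom =
      centralizer ({s} : Set G) ⊓ centralizer ({z} : Set G) := by
  have key : ∀ a b : G, n * a * n⁻¹ = b → ∀ x : G, x * b = b * x ↔ n⁻¹ * x * n * a = a * (n⁻¹ * x * n) := by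
    rintro a _ rfl x
    constructor
    · intro h
      calc n⁻¹ * x * n * a = n⁻¹ * (x * (n * a * n⁻¹)) * n := by group
        _ = n⁻¹ * ((n * a * n⁻¹) * x) * n := by rw [h]
        _ = a * (n⁻¹ * x * n) := by group
    · intro h
      calc x * (n * a * n⁻¹) = n * (n⁻¹ * x * n * a) * n⁻¹ := by group
        _ = n * (a * (n⁻¹ * x * n)) * n⁻¹ := by rw [h]
        _ = n * a * n⁻¹ * x := by group
  ext x
  rw [mem_map_equiv, MulAut.conj_symm_apply, mem_inf, mem_inf, mem_centralizer_singleton_iff,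
    mem_centralizer_singleton_iff, mem_centralizer_singleton_iff, mem_centralizer_singleton_iff,
    key t s h1 x, key z' z h2 x]

section

variable {t v : G} {K U Z T : Subgroup G}

/-- if `T` centralises the conjugate `u` of `t`, then `u` is conjugate to `t` in `N(T)` -/
theorem exists_normalizer [Finite G] (F : Fr t v K U Z T) {g u : G} (hu : g * t * g⁻¹ = u)
    (huc : ∀ x ∈ T, x * u = u * x) : ∃ n ∈ normalizer (T : Set G), n * t * n⁻¹ = u := by
  set C : Subgroup G := centralizer ({u} : Set G) with hC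
  set Tg : Subgroup G := T.map (MulAut.conj g).toMonoidHom with hTg
  have hmem : ∀ x : G, x ∈ Tg ↔ g⁻¹ * x * g ∈ T := by
    intro x
    rw [hTg, mem_map_equiv, MulAut.conj_symm_apply]
  have hcomm : ∀ x : G, x * u = u * x ↔ g⁻¹ * x * g * t = t * (g⁻¹ * x * g) := by
    intro x
    rw [← hu]
    constructor
    · intro hx
      calc g⁻¹ * x * g * t = g⁻¹ * (x * (g * t * g⁻¹)) * g := by group
        _ = g⁻¹ * (g * t * g⁻¹ * x) * g := by rw [hx]
        _ = t * (g⁻¹ * x * g) := by group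
    · intro hx
      calc x * (g * t * g⁻¹) = g * (g⁻¹ * x * g * t) * g⁻¹ := by group
        _ = g * (t * (g⁻¹ * x * g)) * g⁻¹ := by rw [hx]
        _ = g * t * g⁻¹ * x := by group
  have hTgC : Tg ≤ C := fun x hx =>
    mem_centralizer_singleton_iff.2 ((hcomm x).2 (F.tc _ ((hmem x).1 hx)))
  have hTC : T ≤ C := fun x hx => mem_centralizer_singleton_iff.2 (huc x hx)
  have hpTg : IsPGroup 2 Tg := F.pT.map _
  have hTgm : ∀ R : Subgroup G, IsPGroup 2 R → Tg ≤ R → R ≤ C → R ≤ Tg := by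
    intro R hR hle hRC
    have h1 := F.max (R.map (MulAut.conj g⁻¹).toMonoidHom) (hR.map _) ?_ ?_
    · intro x hx
      rw [hmem]
      exact h1 ⟨x, hx, by show g⁻¹ * x * g⁻¹⁻¹ = _; rw [inv_inv]⟩
    · intro x hx
      refine ⟨g * x * g⁻¹, hle ((hmem _).2 ?_), ?_⟩
      · have e : g⁻¹ * (g * x * g⁻¹) * g = x := by group
        rw [e]; exact hx
      · show g⁻¹ * (g * x * g⁻¹) * g⁻¹⁻¹ = x
        group
    · rintro _ ⟨x, hx, rfl⟩
      have h2 := (hcomm x).1 (mem_centralizer_singleton_iff.1 (hRC hx))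
      show g⁻¹ * x * g⁻¹⁻¹ * t = t * (g⁻¹ * x * g⁻¹⁻¹)
      rwa [inv_inv]
  have hcard : Nat.card Tg = Nat.card T :=
    (Nat.card_congr (T.equivMapOfInjective _ (MulAut.conj g).injective).toEquiv).symm
  have hTm : ∀ R : Subgroup G, IsPGroup 2 R → T ≤ R → R ≤ C → R ≤ T := by
    intro R hR hle hRC
    let S : Sylow 2 C :=
      { toSubgroup := Tg.subgroupOf C
        isPGroup' := hpTg.comap_of_injective C.subtype C.subtype_injective
        is_maximal' := by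
          intro P hP hPle
          apply le_antisymm _ hPle
          have h1 : P.map C.subtype ≤ Tg := by
            apply hTgm _ (hP.map C.subtype)
            · intro y hy
              exact ⟨⟨y, hTgC hy⟩, hPle (by exact hy), rfl⟩
            · rintro _ ⟨y, -, rfl⟩
              exact y.2
          intro y hy
          exact h1 ⟨y, hy, rfl⟩ }
    obtain ⟨P, hP⟩ := (hR.comap_of_injective C.subtype C.subtype_injective).exists_le_sylow
    have h1 : Nat.card (R.subgroupOf C) = Nat.card R := Nat.card_congr (subgroupOfEquivOfLe hRC).toEquiv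
    have h2 : Nat.card (Tg.subgroupOf C) = Nat.card Tg := Nat.card_congr (subgroupOfEquivOfLe hTgC).toEquiv
    have h3 : Nat.card P = Nat.card S := by rw [P.card_eq_multiplicity, S.card_eq_multiplicity]
    have h4 : Nat.card (R.subgroupOf C) ≤ Nat.card P := Nat.card_le_card_of_injective _
      (inclusion_injective hP)
    have h5 : Nat.card S = Nat.card (Tg.subgroupOf C) := rfl
    exact (Subgroup.eq_of_le_of_card_ge hle (by omega)).ge
  obtain ⟨c, hc, hcx⟩ := exists_conj_of_max hpTg hTgC hTgm F.pT hTC hTm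
  refine ⟨c * g, ?_, ?_⟩
  · rw [mem_normalizer_iff]
    intro x
    rw [hcx (c * g * x * (c * g)⁻¹), hmem]
    have e : g⁻¹ * (c⁻¹ * (c * g * x * (c * g)⁻¹) * c) * g = x := by group
    rw [e]
  · have h1 := mem_centralizer_singleton_iff.1 hc
    calc c * g * t * (c * g)⁻¹ = c * (g * t * g⁻¹) * c⁻¹ := by group
      _ = c * u * c⁻¹ := by rw [hu]
      _ = u := by rw [h1]; group

end

/-- the input of the start -/
structure Inp (t v : G) (K U Z T T1 A B H PA PB PM : Subgroup G) : Prop where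
  fr : Fr t v K U Z T
  AZ : A ≤ Z
  BZ : B ≤ Z
  dec : ∀ z ∈ Z, ∃ a ∈ A, ∃ b ∈ B, z = a * b
  A2 : A ≠ ⊥
  B2 : B ≠ ⊥
  TA : ∀ x ∈ T, ∀ a ∈ A, x * a * x⁻¹ ∈ A
  TB : ∀ x ∈ T, ∀ b ∈ B, x * b * x⁻¹ ∈ B
  T1T : T1 ≤ T
  /-- `T₁ = C_T(A)` -/
  cA : ∀ x ∈ T, x ∈ T1 ↔ ∀ a ∈ A, x * a = a * x
  /-- `T₁ = C_T(B)` -/
  cB : ∀ x ∈ T, x ∈ T1 ↔ ∀ b ∈ B, x * b = b * x
  Ht : ∀ h ∈ H, h * t = t * h
  HA : ∀ h ∈ H, h ∈ normalizer (A : Set G)
  HB : ∀ h ∈ H, h ∈ normalizer (B : Set G)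
  HT1 : ∀ h ∈ H, h ∈ normalizer (T1 : Set G)
  trA : ∀ a ∈ A, a ≠ 1 → ∀ a' ∈ A, a' ≠ 1 → ∃ h ∈ H, h * a * h⁻¹ = a'
  trB : ∀ b ∈ B, b ≠ 1 → ∀ b' ∈ B, b' ≠ 1 → ∃ h ∈ H, h * b * h⁻¹ = b'
  trM : ∀ a ∈ A, a ≠ 1 → ∀ b ∈ B, b ≠ 1 → ∀ a' ∈ A, a' ≠ 1 → ∀ b' ∈ B, b' ≠ 1 →
    ∃ h ∈ H, h * a * h⁻¹ = a' ∧ h * b * h⁻¹ = b'
  /-- `Z ∩ Z(T) ≤ T'` -/
  der : ∀ z ∈ Z, (∀ x ∈ T, x * z = z * x) → z ∈ ⁅T, T⁆
  /-- `T' ∩ Z(T) ≤ Z` -/
  der' : ∀ z ∈ ⁅T, T⁆, (∀ x ∈ T, x * z = z * x) → z ∈ Z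
  /-- (F2) -/
  pA : ∀ a ∈ A, a ≠ 1 → perf (centralizer ({t} : Set G) ⊓ centralizer ({a} : Set G)) = PA
  pB : ∀ b ∈ B, b ≠ 1 → perf (centralizer ({t} : Set G) ⊓ centralizer ({b} : Set G)) = PB
  pM : ∀ a ∈ A, a ≠ 1 → ∀ b ∈ B, b ≠ 1 →
    perf (centralizer ({t} : Set G) ⊓ centralizer ({a * b} : Set G)) = PM
  neAB : Nat.card PA ≠ Nat.card PB
  neAM : Nat.card PA ≠ Nat.card PM
  neBM : Nat.card PB ≠ Nat.card PM
  /-- `Z(P_A) = A` -/
  ZPA : ∀ x, x ∈ A ↔ x ∈ PA ∧ ∀ y ∈ PA, y * x = x * y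
  ZPB : ∀ x, x ∈ B ↔ x ∈ PB ∧ ∀ y ∈ PB, y * x = x * y
  /-- `B = O_2(P_M)'` -/
  nPM : ∀ g ∈ normalizer (PM : Set G), g ∈ normalizer (B : Set G)
  /-- `|B| ≥ 4` -/
  four : ∃ b ∈ B, ∃ b' ∈ B, b ≠ 1 ∧ b' ≠ 1 ∧ b ≠ b'

/-- the fusion needed in `WTorus.Inp` -/
def Fus (t : G) (T1 X : Subgroup G) : Prop :=
  ∀ x ∈ X, ∃ g ∈ normalizer (T1 : Set G), g ∈ normalizer (X : Set G) ∧ g * t * g⁻¹ = t * x

namespace Inp

variable {t v : G} {K U Z T T1 A B H PA PB PM : Subgroup G}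

theorem ne_one_of_ne {a b : G} (hab : a * b ≠ 1) (h : a = 1) : b ≠ 1 := by
  rintro rfl; exact hab (by rw [h, one_mul])

/-- the type is preserved -/
theorem one_one [Finite G] (I : Inp t v K U Z T T1 A B H PA PB PM) {n z : G} (hn : n ∈ normalizer (T : Set G))
    (hz : z ∈ Z) (hz1 : z ≠ 1) (hzc : ∀ x ∈ T, x * z = z * x) (hnt : n * t * n⁻¹ = t * z) :
    n⁻¹ * z * n ∈ Z ∧ n⁻¹ * z * n ≠ 1 ∧
      (perf (centralizer ({t} : Set G) ⊓ centralizer ({n⁻¹ * z * n} : Set G))).map (MulAut.conj n).toMonoidHom =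
        perf (centralizer ({t} : Set G) ⊓ centralizer ({z} : Set G)) := by
  set z' := n⁻¹ * z * n with hz'
  have hn' : n⁻¹ ∈ normalizer (T : Set G) := inv_mem hn
  have hnz : n * z' * n⁻¹ = z := by rw [hz']; group
  have hzc' : ∀ x ∈ T, x * z' = z' * x := by
    intro x hx
    have h1 := hzc _ ((mem_normalizer_iff.1 hn x).1 hx)
    rw [hz']
    calc x * (n⁻¹ * z * n) = n⁻¹ * (n * x * n⁻¹ * z) * n := by group
      _ = n⁻¹ * (z * (n * x * n⁻¹)) * n := by rw [h1]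
      _ = n⁻¹ * z * n * x := by group
  have hzT' : z' ∈ ⁅T, T⁆ := by
    have h1 := I.der z hz hzc
    have h2 : T.map (MulAut.conj n⁻¹).toMonoidHom = T := by
      ext x
      rw [mem_map_equiv, MulAut.conj_symm_apply, inv_inv]
      exact (mem_normalizer_iff.1 hn x).symm
    have h3 : (⁅T, T⁆ : Subgroup G).map (MulAut.conj n⁻¹).toMonoidHom = ⁅T, T⁆ := by
      rw [map_commutator, h2]
    rw [← h3]
    exact ⟨z, h1, by show n⁻¹ * z * n⁻¹⁻¹ = z'; rw [inv_inv]⟩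
  refine ⟨I.der' z' hzT' hzc', ?_, ?_⟩
  · intro h
    apply hz1
    rw [← hnz, h]; group
  · rw [map_perf, map_cent hnt hnz]
    congr 1
    ext x
    rw [mem_inf, mem_inf, mem_centralizer_singleton_iff, mem_centralizer_singleton_iff,
      mem_centralizer_singleton_iff]
    constructor
    · rintro ⟨h1, h2⟩
      refine ⟨?_, h2⟩
      have h3 : x * t * z = t * x * z := by rw [mul_assoc x t z, h1, mul_assoc t x z, h2]; group
      exact mul_right_cancel h3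
    · rintro ⟨h1, h2⟩
      refine ⟨?_, h2⟩
      rw [← mul_assoc, h1, mul_assoc, h2]; group

theorem card_map_conj (n : G) (P : Subgroup G) :
    Nat.card (P.map (MulAut.conj n).toMonoidHom) = Nat.card P :=
  (Nat.card_congr (P.equivMapOfInjective _ (MulAut.conj n).injective).toEquiv).symm

theorem mem_norm_of_map {n : G} {P : Subgroup G} (h : P.map (MulAut.conj n).toMonoidHom = P) :
    n ∈ normalizer (P : Set G) := by
  rw [mem_normalizer_iff]
  intro x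
  constructor
  · intro hx
    rw [← h]
    exact ⟨x, hx, rfl⟩
  · intro hx
    rw [← h, mem_map_equiv, MulAut.conj_symm_apply] at hx
    have e : n⁻¹ * (n * x * n⁻¹) * n = x := by group
    rwa [e] at hx

/-- the center of a normalised subgroup is normalised -/
theorem norm_center {n : G} {P X : Subgroup G} (hn : n ∈ normalizer (P : Set G))
    (hX : ∀ x, x ∈ X ↔ x ∈ P ∧ ∀ y ∈ P, y * x = x * y) : n ∈ normalizer (X : Set G) := by
  have key : ∀ n ∈ normalizer (P : Set G), ∀ x ∈ X, n * x * n⁻¹ ∈ X := by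
    intro n hn x hx
    obtain ⟨h1, h2⟩ := (hX x).1 hx
    refine (hX _).2 ⟨(mem_normalizer_iff.1 hn x).1 h1, fun y hy => ?_⟩
    have h3 : n⁻¹ * y * n ∈ P := by
      have := (mem_normalizer_iff.1 (inv_mem hn) y).1 hy
      rwa [inv_inv] at this
    have h4 := h2 _ h3
    calc y * (n * x * n⁻¹) = n * (n⁻¹ * y * n * x) * n⁻¹ := by group
      _ = n * (x * (n⁻¹ * y * n)) * n⁻¹ := by rw [h4]
      _ = n * x * n⁻¹ * y := by group
  rw [mem_normalizer_iff]
  intro x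
  refine ⟨key n hn x, fun hx => ?_⟩
  have := key n⁻¹ (inv_mem hn) _ hx
  have e : n⁻¹ * (n * x * n⁻¹) * n⁻¹⁻¹ = x := by group
  rwa [e] at this

/-- `T₁ = C_T(X)` is normalised by `N(T) ∩ N(X)` -/
theorem norm_T1 {n : G} {T T1 X : Subgroup G} (hT : T1 ≤ T) (hc : ∀ x ∈ T, x ∈ T1 ↔ ∀ a ∈ X, x * a = a * x)
    (hn : n ∈ normalizer (T : Set G)) (hX : n ∈ normalizer (X : Set G)) : n ∈ normalizer (T1 : Set G) := by
  have key : ∀ n ∈ normalizer (T : Set G), n ∈ normalizer (X : Set G) → ∀ x ∈ T1, n * x * n⁻¹ ∈ T1 := by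
    intro n hn hX x hx
    have h1 := (hc x (hT hx)).1 hx
    refine (hc _ ((mem_normalizer_iff.1 hn x).1 (hT hx))).2 fun a ha => ?_
    have h3 : n⁻¹ * a * n ∈ X := by
      have := (mem_normalizer_iff.1 (inv_mem hX) a).1 ha
      rwa [inv_inv] at this
    have h4 := h1 _ h3
    calc n * x * n⁻¹ * a = n * (x * (n⁻¹ * a * n)) * n⁻¹ := by group
      _ = n * ((n⁻¹ * a * n) * x) * n⁻¹ := by rw [h4]
      _ = a * (n * x * n⁻¹) := by group
  rw [mem_normalizer_iff]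
  intro x
  refine ⟨key n hn hX x, fun hx => ?_⟩
  have := key n⁻¹ (inv_mem hn) (inv_mem hX) _ hx
  have e : n⁻¹ * (n * x * n⁻¹) * n⁻¹⁻¹ = x := by group
  rwa [e] at this

/-- a `T`-invariant subgroup `≠ 1` of `T` contains a `T`-central element `≠ 1` -/
theorem exists_central [Finite G] {T X : Subgroup G} (hT : IsPGroup 2 T) (hXT : X ≤ T) (hX1 : X ≠ ⊥)
    (hX : ∀ x ∈ T, ∀ a ∈ X, x * a * x⁻¹ ∈ X) : ∃ a ∈ X, a ≠ 1 ∧ ∀ x ∈ T, x * a = a * x := by
  let act : MulAction T X :=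
    { smul := fun x z => ⟨(x : G) * z * (x : G)⁻¹, hX x x.2 z z.2⟩
      one_smul := fun z => Subtype.ext (by show (1 : G) * z * (1 : G)⁻¹ = z; group)
      mul_smul := fun x y z => Subtype.ext (by
        show ((x : G) * y) * z * ((x : G) * y)⁻¹ = x * (y * z * (y : G)⁻¹) * (x : G)⁻¹
        group) }
  have hZp : IsPGroup 2 X := hT.to_le hXT
  have hdvd : 2 ∣ Nat.card X := by
    obtain ⟨n, hn⟩ := IsPGroup.iff_card.1 hZp
    rw [hn]
    have hn0 : n ≠ 0 := by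
      rintro rfl
      rw [pow_zero, Subgroup.card_eq_one] at hn
      exact hX1 hn
    exact dvd_pow_self 2 hn0
  have h1 : (1 : X) ∈ MulAction.fixedPoints T X := by
    rw [MulAction.mem_fixedPoints]
    intro x
    exact Subtype.ext (by show (x : G) * 1 * (x : G)⁻¹ = 1; group)
  have : Fact (Nat.Prime 2) := ⟨Nat.prime_two⟩
  obtain ⟨b, hb, hne⟩ := hT.exists_fixed_point_of_prime_dvd_card_of_fixed_point X hdvd h1
  refine ⟨b, b.2, fun h => hne (Subtype.ext h.symm), ?_⟩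
  intro x hx
  have h2 : (x : G) * b * x⁻¹ = b := congrArg Subtype.val (MulAction.mem_fixedPoints.1 hb ⟨x, hx⟩)
  rwa [mul_inv_eq_iff_eq_mul] at h2

/-- the end of `fusA`, `fusB` -/
theorem fus_of {X H T1 : Subgroup G} {t n z : G} (Ht : ∀ h ∈ H, h * t = t * h)
    (HX : ∀ h ∈ H, h ∈ normalizer (X : Set G)) (HT1 : ∀ h ∈ H, h ∈ normalizer (T1 : Set G))
    (tr : ∀ x ∈ X, x ≠ 1 → ∃ h ∈ H, h * z * h⁻¹ = x) (hn1 : n ∈ normalizer (T1 : Set G))
    (hnX : n ∈ normalizer (X : Set G)) (hnt : n * t * n⁻¹ = t * z) : Fus t T1 X := by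
  intro x hx
  by_cases hx1 : x = 1
  · exact ⟨1, one_mem _, one_mem _, by rw [hx1]; group⟩
  obtain ⟨h, hh, e⟩ := tr x hx hx1
  refine ⟨h * n, mul_mem (HT1 h hh) hn1, mul_mem (HX h hh) hnX, ?_⟩
  calc h * n * t * (h * n)⁻¹ = h * (n * t * n⁻¹) * h⁻¹ := by group
    _ = (h * t) * z * h⁻¹ := by rw [hnt]; group
    _ = t * (h * z * h⁻¹) := by rw [Ht h hh]; group
    _ = t * x := by rw [e]

theorem fusA_of [Finite G] (I : Inp t v K U Z T T1 A B H PA PB PM) {n z : G} (hn : n ∈ normalizer (T : Set G))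
    (hz : z ∈ A) (hz1 : z ≠ 1) (hzc : ∀ x ∈ T, x * z = z * x) (hnt : n * t * n⁻¹ = t * z) : Fus t T1 A := by
  obtain ⟨h1, h2, h3⟩ := I.one_one hn (I.AZ hz) hz1 hzc hnt
  rw [I.pA z hz hz1] at h3
  have hPA : PA.map (MulAut.conj n).toMonoidHom = PA := by
    obtain ⟨a, ha, b, hb, e⟩ := I.dec _ h1
    rw [e] at h2 h3
    by_cases ha1 : a = 1
    · exfalso
      have hb1 : b ≠ 1 := ne_one_of_ne h2 ha1
      rw [ha1, one_mul, I.pB b hb hb1] at h3
      apply I.neAB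
      rw [← h3, card_map_conj]
    by_cases hb1 : b = 1
    · rwa [hb1, mul_one, I.pA a ha ha1] at h3
    · exfalso
      rw [I.pM a ha ha1 b hb hb1] at h3
      apply I.neAM
      rw [← h3, card_map_conj]
  have hnA := norm_center (mem_norm_of_map hPA) I.ZPA
  exact fus_of I.Ht I.HA I.HT1 (fun x hx hx1 => I.trA z hz hz1 x hx hx1) (norm_T1 I.T1T I.cA hn hnA) hnA hnt

theorem fusB_of [Finite G] (I : Inp t v K U Z T T1 A B H PA PB PM) {n z : G} (hn : n ∈ normalizer (T : Set G))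
    (hz : z ∈ B) (hz1 : z ≠ 1) (hzc : ∀ x ∈ T, x * z = z * x) (hnt : n * t * n⁻¹ = t * z) : Fus t T1 B := by
  obtain ⟨h1, h2, h3⟩ := I.one_one hn (I.BZ hz) hz1 hzc hnt
  rw [I.pB z hz hz1] at h3
  have hPB : PB.map (MulAut.conj n).toMonoidHom = PB := by
    obtain ⟨a, ha, b, hb, e⟩ := I.dec _ h1
    rw [e] at h2 h3
    by_cases ha1 : a = 1
    · have hb1 : b ≠ 1 := ne_one_of_ne h2 ha1
      rwa [ha1, one_mul, I.pB b hb hb1] at h3
    by_cases hb1 : b = 1
    · exfalso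
      rw [hb1, mul_one, I.pA a ha ha1] at h3
      apply I.neAB
      rw [← h3, card_map_conj]
    · exfalso
      rw [I.pM a ha ha1 b hb hb1] at h3
      apply I.neBM
      rw [← h3, card_map_conj]
  have hnB := norm_center (mem_norm_of_map hPB) I.ZPB
  exact fus_of I.Ht I.HB I.HT1 (fun x hx hx1 => I.trB z hz hz1 x hx hx1) (norm_T1 I.T1T I.cB hn hnB) hnB hnt

/-- `t z` is centralised by `T` if `z` is -/
theorem comm_tz (I : Inp t v K U Z T T1 A B H PA PB PM) {z : G} (hzc : ∀ x ∈ T, x * z = z * x) :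
    ∀ x ∈ T, x * (t * z) = t * z * x := by
  intro x hx
  rw [← mul_assoc, I.fr.tc x hx, mul_assoc, hzc x hx, mul_assoc]

/-- long root elements -/
theorem fusA [Finite G] (I : Inp t v K U Z T T1 A B H PA PB PM) {a : G} (ha : a ∈ A) (ha1 : a ≠ 1)
    (hta : IsConj t (t * a)) : Fus t T1 A := by
  have hAT : A ≤ T := I.AZ.trans (I.fr.ZU.trans (UT I.fr))
  obtain ⟨z, hz, hz1, hzc⟩ := exists_central I.fr.pT hAT I.A2 I.TA
  obtain ⟨h, hh, e⟩ := I.trA a ha ha1 z hz hz1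
  obtain ⟨g, hg⟩ := isConj_iff.1 hta
  obtain ⟨n, hn, hnt⟩ := exists_normalizer I.fr (g := h * g) (u := t * z) (by
    calc h * g * t * (h * g)⁻¹ = h * (g * t * g⁻¹) * h⁻¹ := by group
      _ = (h * t) * a * h⁻¹ := by rw [hg]; group
      _ = t * (h * a * h⁻¹) := by rw [I.Ht h hh]; group
      _ = t * z := by rw [e]) (I.comm_tz hzc)
  exact I.fusA_of hn hz hz1 hzc hnt

/-- short root elements -/
theorem fusB [Finite G] (I : Inp t v K U Z T T1 A B H PA PB PM) {b : G} (hb : b ∈ B) (hb1 : b ≠ 1)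
    (htb : IsConj t (t * b)) : Fus t T1 B := by
  have hBT : B ≤ T := I.BZ.trans (I.fr.ZU.trans (UT I.fr))
  obtain ⟨z, hz, hz1, hzc⟩ := exists_central I.fr.pT hBT I.B2 I.TB
  obtain ⟨h, hh, e⟩ := I.trB b hb hb1 z hz hz1
  obtain ⟨g, hg⟩ := isConj_iff.1 htb
  obtain ⟨n, hn, hnt⟩ := exists_normalizer I.fr (g := h * g) (u := t * z) (by
    calc h * g * t * (h * g)⁻¹ = h * (g * t * g⁻¹) * h⁻¹ := by group
      _ = (h * t) * b * h⁻¹ := by rw [hg]; group
      _ = t * (h * b * h⁻¹) := by rw [I.Ht h hh]; group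
      _ = t * z := by rw [e]) (I.comm_tz hzc)
  exact I.fusB_of hn hz hz1 hzc hnt

/-- **The start**: if `t` is not isolated in `Z(T)` then the long or the short root elements are moved. -/
theorem start [Finite G] (I : Inp t v K U Z T T1 A B H PA PB PM) (hni : ¬ Iso t T) :
    Fus t T1 A ∨ Fus t T1 B := by
  obtain ⟨⟨n, hn, z, hz, hz1, hzc, hnt⟩, -⟩ := exists_swap I.fr hni
  by_cases hA : ∃ a ∈ A, a ≠ 1 ∧ IsConj t (t * a)
  · obtain ⟨a, ha, ha1, hc⟩ := hA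
    exact Or.inl (I.fusA ha ha1 hc)
  by_cases hB : ∃ b ∈ B, b ≠ 1 ∧ IsConj t (t * b)
  · obtain ⟨b, hb, hb1, hc⟩ := hB
    exact Or.inr (I.fusB hb hb1 hc)
  exfalso
  push Not at hA hB
  have htz : IsConj t (t * z) := isConj_iff.2 ⟨n, hnt⟩
  obtain ⟨a, ha, b, hb, rfl⟩ := I.dec z hz
  have ha1 : a ≠ 1 := by
    intro h
    rw [h, one_mul] at htz hz1
    exact hB b hb hz1 htz
  have hb1 : b ≠ 1 := by
    intro h
    rw [h, mul_one] at htz hz1
    exact hA a ha hz1 htz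
  -- `n` normalises `PM`
  obtain ⟨h1, h2, h3⟩ := I.one_one hn hz hz1 hzc hnt
  rw [I.pM a ha ha1 b hb hb1] at h3
  have hPM : PM.map (MulAut.conj n).toMonoidHom = PM := by
    obtain ⟨a', ha', b', hb', e⟩ := I.dec _ h1
    rw [e] at h2 h3
    by_cases ha1' : a' = 1
    · exfalso
      have hb1' : b' ≠ 1 := ne_one_of_ne h2 ha1'
      rw [ha1', one_mul, I.pB b' hb' hb1'] at h3
      apply I.neBM
      rw [← h3, card_map_conj]
    by_cases hb1' : b' = 1
    · exfalso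
      rw [hb1', mul_one, I.pA a' ha' ha1'] at h3
      apply I.neAM
      rw [← h3, card_map_conj]
    · rwa [I.pM a' ha' ha1' b' hb' hb1'] at h3
  have hnB := I.nPM n (mem_norm_of_map hPM)
  -- all mixed elements are moved
  have hall : ∀ b' ∈ B, b' ≠ 1 → IsConj t (t * (a * b')) := by
    intro b' hb' hb1'
    obtain ⟨h, hh, e1, e2⟩ := I.trM a ha ha1 b hb hb1 a ha ha1 b' hb' hb1'
    refine htz.trans (isConj_iff.2 ⟨h, ?_⟩)
    calc h * (t * (a * b)) * h⁻¹ = (h * t) * h⁻¹ * (h * a * h⁻¹) * (h * b * h⁻¹) := by group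
      _ = t * (a * b') := by rw [I.Ht h hh, e1, e2]; group
  have key : ∀ c ∈ B, c ≠ 1 → n * c * n⁻¹ = b⁻¹ := by
    intro c hc hc1
    by_contra hne
    have hcB : n * c * n⁻¹ ∈ B := (mem_normalizer_iff.1 hnB c).1 hc
    have h4 := hall (b * (n * c * n⁻¹)) (mul_mem hb hcB) (fun h => hne (eq_inv_of_mul_eq_one_right h))
    apply hB c hc hc1
    refine h4.trans (isConj_iff.2 ⟨n⁻¹, ?_⟩)
    calc n⁻¹ * (t * (a * (b * (n * c * n⁻¹)))) * n⁻¹⁻¹ = n⁻¹ * (t * (a * b)) * n * c := by group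
      _ = n⁻¹ * (n * t * n⁻¹) * n * c := by rw [hnt]
      _ = t * c := by group
  obtain ⟨c, hc, c', hc', hc1, hc1', hne⟩ := I.four
  apply hne
  have h5 := (key c hc hc1).trans (key c' hc' hc1').symm
  exact mul_left_cancel (mul_right_cancel h5)

end Inp

end Cfsg.Agent.OddHalf.SpN.Start
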