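import Mathlib
import Cfsg.Agent.OddHalf.SpN.OutPerf
import Cfsg.Agent.OddHalf.SpN.Start
import Cfsg.Agent.LieRecognition.FieldSemilinear

/-!
# D7, `K = Sp_2n(q)`, `q` even: centralizers of the central elements of `U` (helper979)

* `comm_zz_iff`: `C_K(x_12(a) y_1(b))` depends only on `a ≠ 0`, `b ≠ 0`;
* `Dat.le_K`: a perfect subgroup of `C(t)` is in `K`; `Dat.perf_cent`;
* `LA ≤ pA`, `LB ≤ pB`, `LM ≤ pM`; `PM ≠ PA`, `PM ≠ PB`; `Z(PA) = Y_1`, `Z(PB) = X_12`.
-/

set_option autoImplicit false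

namespace Cfsg.Agent.OddHalf.SpN.Out

open Cfsg Cfsg.Agent.ClassicalGeometry.SympBasic Cfsg.Agent.ClassicalGeometry.SympAutSemi
open Cfsg.Agent.OddHalf.SpN Cfsg.Agent.OddHalf.SpN.Start
open scoped Matrix commutatorElement

variable {n : ℕ} {F : Type*} [Field F] [CharP F 2]

theorem zz_b (hn : 3 ≤ n) (b : F) : zz hn 0 b = sy (Sum.inl (c0 hn)) b := by rw [zz, sx_zero, one_mul]

theorem zz_a (hn : 3 ≤ n) (a : F) : zz hn a 0 = sx (Sum.inl (c0 hn)) (Sum.inl (c1 hn)) a := by
  rw [zz, sy_zero, mul_one]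

theorem zz_ab (hn : 3 ≤ n) (a b : F) : zz hn a b = zz hn a 0 * zz hn 0 b := by
  rw [zz_mul, add_zero, zero_add]

/-- the elements commuting with a long root element -/
theorem comm_b_iff [Finite F] (hn : 3 ≤ n) {A : Sy n F} {b : F} (hb : b ≠ 0) :
    Commute A (zz hn 0 b) ↔ rho n F A (be n F (Sum.inl (c0 hn))) = be n F (Sum.inl (c0 hn)) := by
  obtain ⟨c, rfl⟩ := exists_sqrt b
  have hc : c ≠ 0 := fun e => hb (by rw [e, mul_zero])
  have e1 : zz hn 0 (c * c) = transv (c • be n F (Sum.inl (c0 hn))) 1 := by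
    rw [zz_b, sy, transv_smul, mul_one, pow_two]
  have e2 : Commute A (zz hn 0 (c * c)) ↔ A * zz hn 0 (c * c) * A⁻¹ = zz hn 0 (c * c) :=
    (mul_inv_eq_iff_eq_mul).symm
  rw [e2, e1, rho_conj_transv]
  constructor
  · intro h
    have h1 := transv_inj h
    rw [(SI.of_rho A).smul] at h1
    exact smul_right_injective _ hc h1
  · intro h
    rw [(SI.of_rho A).smul, h]; rfl

/-- the elements commuting with a short root element -/
theorem comm_a_iff (hn : 3 ≤ n) {A : Sy n F} {a : F} (ha : a ≠ 0) :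
    Commute A (zz hn a 0) ↔ Commute A (zz hn (1 : F) 0) := by
  have key : ∀ a : F, Commute A (zz hn a 0) ↔ ∀ v : Ix n → F,
      a • rho n F A (v (Sum.inr (c1 hn)) • be n F (Sum.inl (c0 hn)) + v (Sum.inr (c0 hn)) • be n F (Sum.inl (c1 hn))) =
      a • (rho n F A v (Sum.inr (c1 hn)) • be n F (Sum.inl (c0 hn)) +
        rho n F A v (Sum.inr (c0 hn)) • be n F (Sum.inl (c1 hn))) := by
    intro a
    have h1 : Commute A (zz hn a 0) ↔ ∀ v, rho n F A (rho n F (zz hn a 0) v) = rho n F (zz hn a 0) (rho n F A v) := by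
      constructor
      · intro h v
        rw [← Equiv.Perm.mul_apply, ← Equiv.Perm.mul_apply, ← map_mul, ← map_mul, h.eq]
      · intro h
        apply rho_injective
        ext1 v
        rw [map_mul, map_mul, Equiv.Perm.mul_apply, Equiv.Perm.mul_apply, h]
    rw [h1]
    have e : ∀ w : Ix n → F, rho n F (zz hn a 0) w = w + a • (w (Sum.inr (c1 hn)) • be n F (Sum.inl (c0 hn)) +
        w (Sum.inr (c0 hn)) • be n F (Sum.inl (c1 hn))) := by
      intro w
      rw [rho_zz, zero_mul, add_zero, smul_add, smul_smul, smul_smul, add_assoc]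
    refine forall_congr' fun v => ?_
    rw [e, e, (SI.of_rho A).add, (SI.of_rho A).smul]
    exact add_right_inj _
  rw [key a, key 1]
  refine forall_congr' fun v => ?_
  rw [one_smul, one_smul]
  exact (smul_right_injective _ ha).eq_iff

/-- the elements commuting with a mixed element -/
theorem comm_ab_iff [Finite F] (hn : 3 ≤ n) {A : Sy n F} {a b : F} (ha : a ≠ 0) (hb : b ≠ 0) :
    Commute A (zz hn a b) ↔ Commute A (zz hn (1 : F) 0) ∧ Commute A (zz hn (0 : F) 1) := by
  constructor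
  · intro h
    have h1 : Commute A (zz hn 0 b) := by
      rw [comm_b_iff hn hb]
      have key : ∀ w : Ix n → F, sympForm n F w (rho n F (zz hn a b) w) = b * (w (Sum.inr (c0 hn))) ^ 2 := by
        intro w
        rw [rho_zz, sympForm_add_right, sympForm_add_right, sympForm_smul_right, sympForm_smul_right, form_be, form_be,
          sympForm_self, neg_inl, neg_inl]
        linear_combination (a * w (Sum.inr (c1 hn)) * w (Sum.inr (c0 hn))) * (two0 : (2 : F) = 0)
      have h2 : ∀ v : Ix n → F, rho n F A v (Sum.inr (c0 hn)) = v (Sum.inr (c0 hn)) := by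
        intro v
        have h3 := key (rho n F A v)
        have h4 : rho n F (zz hn a b) (rho n F A v) = rho n F A (rho n F (zz hn a b) v) := by
          rw [← Equiv.Perm.mul_apply, ← Equiv.Perm.mul_apply, ← map_mul, ← map_mul, h.eq]
        rw [h4, sympForm_rho, key] at h3
        have h5 := mul_left_cancel₀ hb h3
        have h6 : (v (Sum.inr (c0 hn)) - rho n F A v (Sum.inr (c0 hn))) *
            (v (Sum.inr (c0 hn)) - rho n F A v (Sum.inr (c0 hn))) = 0 := by
          linear_combination h5 - (v (Sum.inr (c0 hn)) * rho n F A v (Sum.inr (c0 hn)) -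
            rho n F A v (Sum.inr (c0 hn)) ^ 2) * (two0 : (2 : F) = 0)
        exact (sub_eq_zero.1 (mul_self_eq_zero.1 h6)).symm
      apply eq_of_forall_sympForm_left
      intro w
      obtain ⟨v, rfl⟩ : ∃ v, rho n F A v = w := (rho n F A).surjective w
      rw [sympForm_rho, form_be, form_be, neg_inl, h2]
    have h2 : Commute A (zz hn a 0) := by
      have e : zz hn a 0 = zz hn a b * zz hn 0 b := by
        rw [zz_mul, add_zero, CharTwo.add_self_eq_zero]
      rw [e]
      exact h.mul_right h1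
    rw [comm_a_iff hn ha] at h2
    rw [comm_b_iff hn hb] at h1
    exact ⟨h2, (comm_b_iff hn one_ne_zero).2 h1⟩
  · rintro ⟨h1, h2⟩
    rw [zz_ab]
    refine Commute.mul_right ((comm_a_iff hn ha).2 h1) ?_
    rw [comm_b_iff hn one_ne_zero] at h2
    exact (comm_b_iff hn hb).2 h2

/-! ### the groups `LA`, `LB`, `LM` -/

theorem LM_comm (hn : 3 ≤ n) {A : Sy n F} (hA : A ∈ LM F hn) (a b : F) : Commute A (zz hn a b) := by
  have h : LM F hn ≤ Subgroup.centralizer {zz hn a b} := by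
    refine RG_le (fun i hi c => ?_) fun i j h c => ?_
    · rw [Subgroup.mem_centralizer_singleton_iff]
      have n0 : (Sum.inl (c0 hn) : Ix n) ≠ neg i := fun e => hi.1 (by rw [← neg_eq_iff] at e; exact e.symm)
      have n1 : (Sum.inl (c1 hn) : Ix n) ≠ neg i := fun e => hi.2 (by rw [← neg_eq_iff] at e; exact e.symm)
      exact ((sy_sx_comm n0 n1 c a).mul_right (sy_comm n0 c b)).eq
    · rw [Subgroup.mem_centralizer_singleton_iff]
      have n0 : (Sum.inl (c0 hn) : Ix n) ≠ neg i := fun e => h.1.1 (by rw [← neg_eq_iff] at e; exact e.symm)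
      have n1 : (Sum.inl (c1 hn) : Ix n) ≠ neg i := fun e => h.1.2 (by rw [← neg_eq_iff] at e; exact e.symm)
      have m0 : (Sum.inl (c0 hn) : Ix n) ≠ neg j := fun e => h.2.1 (by rw [← neg_eq_iff] at e; exact e.symm)
      have m1 : (Sum.inl (c1 hn) : Ix n) ≠ neg j := fun e => h.2.2 (by rw [← neg_eq_iff] at e; exact e.symm)
      refine ((sx_comm n0 m0 n1 m1 c a).mul_right ?_).eq
      refine (sy_sx_comm ?_ ?_ b c).symm
      · intro e; rw [e] at h; exact h.1.1 rfl
      · intro e; rw [e] at h; exact h.2.1 rfl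
  exact Subgroup.mem_centralizer_singleton_iff.1 (h hA)

theorem LA_comm (hn : 3 ≤ n) {A : Sy n F} (hA : A ∈ LA F hn) (b : F) : Commute A (zz hn 0 b) := by
  rw [zz_b]
  have h : LA F hn ≤ Subgroup.centralizer {sy (Sum.inl (c0 hn)) b} := by
    refine RG_le (fun i hi c => ?_) fun i j h c => ?_
    · rw [Subgroup.mem_centralizer_singleton_iff]
      have n0 : (Sum.inl (c0 hn) : Ix n) ≠ neg i := fun e => hi (by rw [← neg_eq_iff] at e; exact e.symm)
      exact (sy_comm n0 c b).eq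
    · rw [Subgroup.mem_centralizer_singleton_iff]
      refine (sy_sx_comm ?_ ?_ b c).symm.eq
      · intro e; rw [e] at h; exact h.1 rfl
      · intro e; rw [e] at h; exact h.2 rfl
  exact Subgroup.mem_centralizer_singleton_iff.1 (h hA)

theorem LB_comm (hn : 3 ≤ n) {A : Sy n F} (hA : A ∈ LB F hn) (a : F) : Commute A (zz hn a 0) := by
  have h : LB F hn ≤ Subgroup.centralizer {zz hn a 0} := by
    refine RG_le (fun i hi c => ?_) fun i j h c => ?_
    · rw [Subgroup.mem_centralizer_singleton_iff]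
      exact (LM_comm hn (sy_mem hi c) a 0).eq
    · rw [Subgroup.mem_centralizer_singleton_iff]
      rcases h with h | ⟨rfl, rfl⟩ | ⟨rfl, rfl⟩
      · exact (LM_comm hn (sx_mem h c) a 0).eq
      · rw [zz_a, sx_symm (Sum.inl (c0 hn)) (Sum.inr (c1 hn)), sx_symm (Sum.inl (c0 hn)) (Sum.inl (c1 hn))]
        exact (sx_comm' (i := Sum.inl (c1 hn)) (j := Sum.inl (c0 hn)) a c).symm.eq
      · rw [zz_a]
        exact (sx_comm' (i := Sum.inl (c0 hn)) (j := Sum.inl (c1 hn)) a c).symm.eq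
  exact Subgroup.mem_centralizer_singleton_iff.1 (h hA)

theorem LM_le_LB (hn : 3 ≤ n) : LM F hn ≤ LB F hn :=
  RG_le (fun _ hi a => sy_mem (P := PM hn) (Q := QB hn) hi a)
    fun _ _ h a => sx_mem (P := PM hn) (Q := QB hn) (Or.inl h) a

theorem LM_le_LA (hn : 3 ≤ n) : LM F hn ≤ LA F hn :=
  RG_le (fun _ hi a => sy_mem (P := PA hn) (Q := QA hn) hi.1 a)
    fun _ _ h a => sx_mem (P := PA hn) (Q := QA hn) ⟨h.1.1, h.2.1⟩ a

theorem zz_mem_LM (hn : 3 ≤ n) (a b : F) : zz hn a b ∈ LM F hn :=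
  mul_mem (sx_mem (P := PM hn) (Q := QM hn) ⟨by simp [PM], by simp [PM]⟩ a)
    (sy_mem (P := PM hn) (Q := QM hn) (by simp [PM]) b)

/-! ### perfect subgroups of `C(t)` -/

section perf

variable {G : Type*} [Group G] {ι : Sy n F →* G} {t v : G} [Finite F]

omit [CharP F 2] in
theorem aut_comm (σ τ : F ≃+* F) : σ * τ = τ * σ := by
  have hc : IsCyclic (F ≃+* F) := Cfsg.Agent.LieRecognition.FieldSemilinear.isCyclic_ringAut F
  exact (IsCyclic.commGroup (α := F ≃+* F)).mul_comm σ τ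

/-- a perfect subgroup of `C(t)` is in `K` -/
theorem Dat.le_K (D : Dat ι t v) (hn : 3 ≤ n) {L : Subgroup G} (hL : ∀ x ∈ L, x * t = t * x) (hp : ⁅L, L⁆ = L) :
    L ≤ ι.range := by
  have hLC : ∀ x ∈ L, x ∈ Subgroup.centralizer ({t} : Set G) := fun x hx =>
    Subgroup.mem_centralizer_singleton_iff.2 (hL x hx)
  have h1 : L ≤ (D.lf hn).ker.map (Subgroup.centralizer ({t} : Set G)).subtype := by
    conv_lhs => rw [← hp]
    rw [Subgroup.commutator_le]
    intro x hx y hy
    refine ⟨⁅(⟨x, hLC x hx⟩ : Subgroup.centralizer ({t} : Set G)), ⟨y, hLC y hy⟩⁆, ?_, rfl⟩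
    show D.lf hn _ = 1
    rw [map_commutatorElement, commutatorElement_def, aut_comm (D.lf hn ⟨x, hLC x hx⟩)]
    group
  conv_lhs => rw [← hp]
  rw [Subgroup.commutator_le]
  intro x hx y hy
  obtain ⟨x', hx', ex⟩ := h1 hx
  obtain ⟨y', hy', ey⟩ := h1 hy
  obtain ⟨A, -, hA⟩ := D.exists_iota hn hx'
  obtain ⟨B, -, hB⟩ := D.exists_iota hn hy'
  have ex' : (x' : G) = x := ex
  have ey' : (y' : G) = y := ey
  rw [ex'] at hA
  rw [ey'] at hB
  refine ⟨⁅A, B⁆, ?_⟩
  set r := (ι A)⁻¹ * x with hr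
  set s := (ι B)⁻¹ * y with hs
  have hx2 : x = ι A * r := by rw [hr]; group
  have hy2 : y = ι B * s := by rw [hs]; group
  have hrs : r * s = s * r := by
    obtain ⟨k, hk⟩ := Subgroup.mem_zpowers_iff.1 hA
    obtain ⟨l, hl⟩ := Subgroup.mem_zpowers_iff.1 hB
    rw [← hk, ← hl]
    exact ((Commute.refl v).zpow_zpow k l)
  have cr : ∀ C, r * ι C = ι C * r := fun C => (D.QK hA C).symm
  have cs : ∀ C, s * ι C = ι C * s := fun C => (D.QK hB C).symm
  rw [map_commutatorElement, commutatorElement_def, commutatorElement_def, hx2, hy2]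
  have e1 : (ι A * r) * (ι B * s) = ι A * ι B * (r * s) := by
    calc (ι A * r) * (ι B * s) = ι A * (r * ι B) * s := by group
      _ = ι A * ι B * (r * s) := by rw [cr]; group
  have e2 : (ι B * s) * (ι A * r) = ι B * ι A * (r * s) := by
    calc (ι B * s) * (ι A * r) = ι B * (s * ι A) * r := by group
      _ = ι B * ι A * (r * s) := by rw [cs, hrs]; group
  have e3 : ι A * r * (ι B * s) * (ι A * r)⁻¹ * (ι B * s)⁻¹ = (ι A * r * (ι B * s)) * ((ι B * s) * (ι A * r))⁻¹ := by
    group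
  rw [e3, e1, e2]; group

theorem map_perfect {H : Type*} [Group H] (f : H →* G) {L : Subgroup H} (hp : ⁅L, L⁆ = L) : ⁅L.map f, L.map f⁆ = L.map f := by
  rw [← Subgroup.map_commutator, hp]

/-- the largest perfect subgroup of `C(t) ∩ C(z)` -/
theorem Dat.perf_cent (D : Dat ι t v) (hn : 3 ≤ n) (z : Sy n F) :
    perf (Subgroup.centralizer ({t} : Set G) ⊓ Subgroup.centralizer ({ι z} : Set G)) =
      (perf (Subgroup.centralizer ({z} : Set (Sy n F)))).map ι := by
  apply le_antisymm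
  · set P := perf (Subgroup.centralizer ({t} : Set G) ⊓ Subgroup.centralizer ({ι z} : Set G)) with hP
    have hPp : ⁅P, P⁆ = P := perf_perfect _
    have hPle := perf_le (Subgroup.centralizer ({t} : Set G) ⊓ Subgroup.centralizer ({ι z} : Set G))
    have hPK : P ≤ ι.range := D.le_K hn
      (fun x hx => Subgroup.mem_centralizer_singleton_iff.1 (hPle hx).1) hPp
    have hmap : (P.comap ι).map ι = P := Subgroup.map_comap_eq_self hPK
    rw [← hmap]
    apply Subgroup.map_mono
    apply le_perf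
    · intro A hA
      rw [Subgroup.mem_centralizer_singleton_iff]
      apply D.inj
      rw [map_mul, map_mul]
      exact Subgroup.mem_centralizer_singleton_iff.1 (hPle hA).2
    · apply Subgroup.map_injective D.inj
      rw [Subgroup.map_commutator, hmap, hPp]
  · apply le_perf
    · rintro _ ⟨A, hA, rfl⟩
      refine ⟨D.mem_C A, Subgroup.mem_centralizer_singleton_iff.2 ?_⟩
      have := Subgroup.mem_centralizer_singleton_iff.1 (perf_le _ hA)
      rw [← map_mul, ← map_mul, this]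
    · exact map_perfect ι (perf_perfect _)

/-- `t` is not conjugate into `Z` -/
theorem Dat.nconj (D : Dat ι t v) (hn : 3 ≤ n) (hq : ∃ c : F, c ≠ 0 ∧ c ≠ 1) {a b : F} (g : G) :
    g * t * g⁻¹ ≠ ι (zz hn a b) := by
  intro hg
  set L : Subgroup G := (LM F hn).map ι with hL
  have hp : ⁅L, L⁆ = L := map_perfect ι (LM_perfect hn hq)
  set L' : Subgroup G := L.map (MulAut.conj g⁻¹).toMonoidHom with hL'
  have hp' : ⁅L', L'⁆ = L' := map_perfect _ hp
  have h1 : ∀ x ∈ L', x * t = t * x := by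
    rintro _ ⟨_, ⟨A, hA, rfl⟩, rfl⟩
    show g⁻¹ * ι A * g⁻¹⁻¹ * t = t * (g⁻¹ * ι A * g⁻¹⁻¹)
    have h2 : ι A * (g * t * g⁻¹) = g * t * g⁻¹ * ι A := by
      rw [hg, ← map_mul, ← map_mul, (LM_comm hn hA a b).eq]
    calc g⁻¹ * ι A * g⁻¹⁻¹ * t = g⁻¹ * (ι A * (g * t * g⁻¹)) * g := by group
      _ = g⁻¹ * (g * t * g⁻¹ * ι A) * g := by rw [h2]
      _ = _ := by group
  have h2 := D.le_K hn h1 hp'
  have h3 : t ∈ L' := ⟨ι (zz hn a b), ⟨_, zz_mem_LM hn a b, rfl⟩, by
    show g⁻¹ * ι (zz hn a b) * g⁻¹⁻¹ = t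
    rw [← hg]; group⟩
  obtain ⟨A, hA⟩ := h2 h3
  have h4 : ι A ∈ Subgroup.zpowers v := by rw [hA]; exact D.tQ
  rw [D.KR (by omega : 1 ≤ n) h4, map_one] at hA
  exact D.t1 hA.symm

end perf

end Cfsg.Agent.OddHalf.SpN.Out
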