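import Mathlib
import Cfsg.Agent.OddHalf.SpN.Rel

/-!
# Degrees of the roots and independence of the root groups (helper200)

`Fd : Ix n → ℤ`, `Fd (inl k) = 5 ^ (n - k)`, `Fd (-i) = - Fd i`.
-/

set_option autoImplicit false

namespace Cfsg.Agent.OddHalf.SpN

open Cfsg Cfsg.Agent.ClassicalGeometry.SympBasic Cfsg.Agent.ClassicalGeometry.SympAutSemi

variable {n : ℕ} {F : Type*} [Field F]

/-- the exponent -/
def ex {n : ℕ} (i : Ix n) : ℕ := n - (Sum.elim id id i : Fin n).val

/-- the generic functional -/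
def Fd {n : ℕ} (i : Ix n) : ℤ := Sum.elim (fun _ => (5 : ℤ) ^ ex i) (fun _ => -(5 : ℤ) ^ ex i) i

theorem ex_neg (i : Ix n) : ex (neg i) = ex i := by rcases i with i | i <;> rfl

theorem Fd_neg (i : Ix n) : Fd (neg i) = -Fd i := by
  rcases i with i | i
  · rfl
  · show (5 : ℤ) ^ ex (Sum.inl i) = - -(5 : ℤ) ^ ex (Sum.inr i)
    rw [_root_.neg_neg]; rfl

theorem Fd_cases (i : Ix n) : Fd i = 5 ^ ex i ∨ Fd i = -5 ^ ex i := by
  rcases i with i | i
  · exact Or.inl rfl
  · exact Or.inr rfl

theorem ex_eq {i j : Ix n} (h : ex i = ex j) : i = j ∨ i = neg j := by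
  rcases i with i | i <;> rcases j with j | j
  all_goals
    have hi := i.2
    have hj := j.2
    have h' : n - i.val = n - j.val := h
    have h2 : i = j := Fin.ext (by omega)
    subst h2
  · exact Or.inl rfl
  · exact Or.inr rfl
  · exact Or.inr rfl
  · exact Or.inl rfl

theorem ex_ne {i j : Ix n} (h : Dj i j) : ex i ≠ ex j := fun e => by
  rcases ex_eq e with h1 | h1
  · exact h.1 h1
  · exact h.2 h1

theorem dvd_Fd {i : Ix n} {m : ℕ} (h : m ≤ ex i) : (5 : ℤ) ^ m ∣ Fd i := by
  rcases Fd_cases i with h1 | h1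
  · rw [h1]; exact pow_dvd_pow _ h
  · rw [h1]; exact (pow_dvd_pow _ h).neg_right

theorem not_dvd_Fd (i : Ix n) {c : ℤ} (hc : ¬ (5 : ℤ) ∣ c) : ¬ (5 : ℤ) ^ (ex i + 1) ∣ c * Fd i := by
  intro h
  have h0 : (5 : ℤ) ^ ex i ≠ 0 := pow_ne_zero _ (by norm_num)
  rcases Fd_cases i with h1 | h1
  · rw [h1, pow_succ, mul_comm c] at h
    exact hc (Int.dvd_of_mul_dvd_mul_left h0 h)
  · rw [h1, pow_succ, mul_neg, dvd_neg, mul_comm c] at h
    exact hc (Int.dvd_of_mul_dvd_mul_left h0 h)

theorem Fd_inj {i j : Ix n} (h : Fd i = Fd j) : i = j := by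
  have h1 : ex i = ex j := by
    rcases lt_trichotomy (ex i) (ex j) with h1 | h1 | h1
    · exfalso
      refine not_dvd_Fd i (c := 1) (by norm_num) ?_
      rw [one_mul, h]; exact dvd_Fd h1
    · exact h1
    · exfalso
      refine not_dvd_Fd j (c := 1) (by norm_num) ?_
      rw [one_mul, ← h]; exact dvd_Fd h1
  rcases ex_eq h1 with h2 | h2
  · exact h2
  · exfalso
    rw [h2, Fd_neg] at h
    have h0 : Fd j = 0 := by linarith
    rcases Fd_cases j with h3 | h3
    · have := pow_ne_zero (ex j) (show (5 : ℤ) ≠ 0 by norm_num)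
      exact this (by rw [← h3, h0])
    · have := pow_ne_zero (ex j) (show (5 : ℤ) ≠ 0 by norm_num)
      exact this (by linarith)

theorem Fd_ne_zero (i : Ix n) : Fd i ≠ 0 := by
  intro h0
  have := pow_ne_zero (ex i) (show (5 : ℤ) ≠ 0 by norm_num)
  rcases Fd_cases i with h3 | h3
  · exact this (by rw [← h3, h0])
  · exact this (by linarith)

theorem Fd_odd (i : Ix n) : Odd (Fd i) := by
  have h : Odd ((5 : ℤ) ^ ex i) := Odd.pow (by decide)
  rcases Fd_cases i with h1 | h1
  · rw [h1]; exact h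
  · rw [h1]; exact h.neg

theorem Fd_two_aux {i j k l : Ix n} (hij : ex i < ex j) (hkl : ex k < ex l) (h : Fd i + Fd j = Fd k + Fd l) :
    i = k ∧ j = l := by
  have h1 : ex i = ex k := by
    rcases lt_trichotomy (ex i) (ex k) with h1 | h1 | h1
    · exfalso
      refine not_dvd_Fd i (c := 1) (by norm_num) ?_
      have : 1 * Fd i = Fd k + Fd l - Fd j := by linarith
      rw [this]
      exact dvd_sub (dvd_add (dvd_Fd h1) (dvd_Fd (by omega))) (dvd_Fd hij)
    · exact h1
    · exfalso
      refine not_dvd_Fd k (c := 1) (by norm_num) ?_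
      have : 1 * Fd k = Fd i + Fd j - Fd l := by linarith
      rw [this]
      exact dvd_sub (dvd_add (dvd_Fd h1) (dvd_Fd (by omega))) (dvd_Fd hkl)
  rcases ex_eq h1 with h2 | h2
  · refine ⟨h2, Fd_inj ?_⟩
    rw [h2] at h
    linarith
  · exfalso
    rw [h2, Fd_neg] at h
    refine not_dvd_Fd k (c := 2) (by norm_num) ?_
    have : 2 * Fd k = Fd j - Fd l := by linarith
    rw [this]
    exact dvd_sub (dvd_Fd (by omega)) (dvd_Fd hkl)

theorem Fd_two {i j k l : Ix n} (hij : Dj i j) (hkl : Dj k l) (h : Fd i + Fd j = Fd k + Fd l) :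
    (i = k ∧ j = l) ∨ (i = l ∧ j = k) := by
  rcases lt_or_gt_of_ne (ex_ne hij) with h1 | h1 <;> rcases lt_or_gt_of_ne (ex_ne hkl) with h2 | h2
  · exact Or.inl (Fd_two_aux h1 h2 h)
  · exact Or.inr (Fd_two_aux h1 h2 (by rw [h, add_comm]))
  · have := Fd_two_aux h1 h2 (by rw [add_comm, h])
    exact Or.inr ⟨this.2, this.1⟩
  · have := Fd_two_aux h1 h2 (by rw [add_comm, h, add_comm])
    exact Or.inl ⟨this.2, this.1⟩

theorem Fd_ne_two {i k l : Ix n} : Fd i ≠ Fd k + Fd l := by
  intro h
  have h1 := (Fd_odd k).add_odd (Fd_odd l)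
  rw [← h] at h1
  exact (Int.not_even_iff_odd.2 (Fd_odd i)) h1

theorem two_Fd_ne {i k l : Ix n} (hkl : Dj k l) : Fd i + Fd i ≠ Fd k + Fd l := by
  have main : ∀ k l : Ix n, ex k < ex l → Fd i + Fd i ≠ Fd k + Fd l := by
    intro k l hkl h
    rcases lt_trichotomy (ex i) (ex k) with h1 | h1 | h1
    · refine not_dvd_Fd i (c := 2) (by norm_num) ?_
      rw [two_mul, h]
      exact dvd_add (dvd_Fd h1) (dvd_Fd (by omega))
    · rcases ex_eq h1 with h2 | h2
      · rw [h2] at h
        have : Fd k = Fd l := by linarith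
        exact absurd (congrArg ex (Fd_inj this)) (by omega)
      · rw [h2, Fd_neg] at h
        refine not_dvd_Fd k (c := 3) (by norm_num) ?_
        have : 3 * Fd k = -Fd l := by linarith
        rw [this]
        exact (dvd_Fd hkl).neg_right
    · refine not_dvd_Fd k (c := 1) (by norm_num) ?_
      have : 1 * Fd k = Fd i + Fd i - Fd l := by linarith
      rw [this]
      exact dvd_sub (dvd_add (dvd_Fd h1) (dvd_Fd h1)) (dvd_Fd hkl)
  rcases lt_or_gt_of_ne (ex_ne hkl) with h2 | h2
  · exact main k l h2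
  · rw [add_comm (Fd k)]; exact main l k h2

/-! ### Unipotent filtration -/

section unip

variable (dg : Ix n → Ix n → ℤ)

/-- axioms of a degree function on the entries: the entry `(p, l)`, `p ≠ l`, has degree `dg p (-l)` -/
structure DegOk : Prop where
  mul : ∀ p k l, p ≠ k → k ≠ l → p ≠ l → ∀ d, 0 < d → d ≤ dg p (neg k) → d ≤ dg k (neg l) → d ≤ dg p (neg l)
  anti : ∀ p k, p ≠ k → 0 < dg p (neg k) → ¬ 0 < dg k (neg p)

/-- the matrices `1 + (entries of degree ≥ d)` -/
def IsU (d : ℤ) (A : Sy n F) : Prop :=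
  ∀ p l, (p = l → rho n F A (be n F l) p = 1) ∧ (p ≠ l → rho n F A (be n F l) p ≠ 0 → d ≤ dg p (neg l))

theorem rho_be_sum (A : Sy n F) (v : Ix n → F) (p : Ix n) :
    rho n F A v p = ∑ k, v k * rho n F A (be n F k) p := by
  have hs : IsSemi (rho n F A) (RingEquiv.refl F) 1 := isSemi_rho A
  let T : (Ix n → F) →ₗ[F] (Ix n → F) :=
    { toFun := rho n F A
      map_add' := hs.1
      map_smul' := fun a v => hs.2.1 a v }
  have h1 : T v = ∑ k, v k • T (Pi.single k 1) := by
    have hv : v = ∑ k, v k • (Pi.single k 1 : Ix n → F) := by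
      ext m
      simp [Finset.sum_apply, Pi.single_apply]
    conv_lhs => rw [hv]
    rw [map_sum]
    exact Finset.sum_congr rfl fun k _ => map_smul T _ _
  have h2 := congrFun h1 p
  rw [Finset.sum_apply] at h2
  exact h2

theorem IsU.mul {dg : Ix n → Ix n → ℤ} (hdg : DegOk dg) {d : ℤ} (hd : 0 < d) {A B : Sy n F} (hA : IsU dg d A)
    (hB : IsU dg d B) : IsU dg d (A * B) := by
  intro p l
  rw [map_mul, Equiv.Perm.mul_apply, rho_be_sum]
  constructor
  · rintro rfl
    rw [Finset.sum_eq_single p]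
    · rw [(hB p p).1 rfl, (hA p p).1 rfl, mul_one]
    · intro k _ hk
      by_contra h0
      have h1 := left_ne_zero_of_mul h0
      have h2 := right_ne_zero_of_mul h0
      have h3 := (hB k p).2 hk h1
      have h4 := (hA p k).2 (Ne.symm hk) h2
      exact hdg.anti p k (Ne.symm hk) (by omega) (by omega)
    · intro h; exact absurd (Finset.mem_univ p) h
  · intro hpl hne
    obtain ⟨k, -, hk⟩ := Finset.exists_ne_zero_of_sum_ne_zero hne
    have h1 := left_ne_zero_of_mul hk
    have h2 := right_ne_zero_of_mul hk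
    by_cases hkl : k = l
    · subst hkl; exact (hA p k).2 hpl h2
    by_cases hpk : p = k
    · subst hpk; exact (hB p l).2 hpl h1
    exact hdg.mul p k l hpk hkl hpl d hd ((hA p k).2 hpk h2) ((hB k l).2 hkl h1)

theorem isU_one (d : ℤ) : IsU dg d (1 : Sy n F) := by
  intro p l
  rw [map_one, Equiv.Perm.one_apply, be_apply]
  constructor
  · intro h; rw [if_pos h]
  · intro h h'; rw [if_neg h] at h'; exact absurd rfl h'

/-- the group -/
def Ud {dg : Ix n → Ix n → ℤ} (hdg : DegOk dg) (d : ℤ) (hd : 0 < d) : Subgroup (Sy n F) where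
  carrier := {A | IsU dg d A ∧ IsU dg d A⁻¹}
  one_mem' := ⟨isU_one dg d, by rw [inv_one]; exact isU_one dg d⟩
  mul_mem' := fun {A B} hA hB => ⟨hA.1.mul hdg hd hB.1, by rw [mul_inv_rev]; exact hB.2.mul hdg hd hA.2⟩
  inv_mem' := fun {A} hA => ⟨hA.2, by rw [inv_inv]; exact hA.1⟩

theorem mem_Ud {dg : Ix n → Ix n → ℤ} (hdg : DegOk dg) {d : ℤ} (hd : 0 < d) {A : Sy n F} (h : IsU dg d A)
    (h2 : A * A = 1) : A ∈ Ud hdg d hd := ⟨h, by rw [inv_eq_of_mul_eq_one_left h2]; exact h⟩

variable [CharP F 2]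

theorem sx_mem_Ud {dg : Ix n → Ix n → ℤ} (hdg : DegOk dg) (hs : ∀ i j, dg i j = dg j i) {d : ℤ} (hd : 0 < d)
    {i j : Ix n} (hij : Dj i j) (h : d ≤ dg i j) (a : F) : sx i j a ∈ Ud hdg d hd := by
  refine mem_Ud hdg hd ?_ (sx_sq i j a)
  intro p l
  rw [rho_sx hij]
  simp only [Pi.add_apply, Pi.smul_apply, smul_eq_mul, be_apply]
  constructor
  · rintro rfl
    rw [if_pos rfl]
    have h1 : (if neg j = p then (1 : F) else 0) * (if p = i then 1 else 0) = 0 := by
      by_cases h1 : p = i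
      · subst h1
        rw [if_neg (fun e => hij.2 e.symm), zero_mul]
      · rw [if_neg h1, mul_zero]
    have h2 : (if neg i = p then (1 : F) else 0) * (if p = j then 1 else 0) = 0 := by
      by_cases h1 : p = j
      · subst h1
        rw [if_neg (fun e => hij.2 (by rw [← e, neg_neg])), zero_mul]
      · rw [if_neg h1, mul_zero]
    rw [mul_assoc, h1, mul_assoc, h2, mul_zero, add_zero, add_zero]
  · intro hpl hne
    rw [if_neg hpl, zero_add] at hne
    by_cases h1 : neg j = l ∧ p = i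
    · rw [← h1.1, neg_neg, h1.2]; exact h
    · by_cases h2 : neg i = l ∧ p = j
      · rw [← h2.1, neg_neg, h2.2, hs]; exact h
      · exfalso
        apply hne
        have e1 : a * (if neg j = l then (1 : F) else 0) * (if p = i then 1 else 0) = 0 := by
          by_cases h3 : neg j = l
          · have : p ≠ i := fun e => h1 ⟨h3, e⟩
            rw [if_neg this, mul_zero]
          · rw [if_neg h3, mul_zero, zero_mul]
        have e2 : a * (if neg i = l then (1 : F) else 0) * (if p = j then 1 else 0) = 0 := by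
          by_cases h3 : neg i = l
          · have : p ≠ j := fun e => h2 ⟨h3, e⟩
            rw [if_neg this, mul_zero]
          · rw [if_neg h3, mul_zero, zero_mul]
        rw [e1, e2, add_zero]

theorem sy_mem_Ud {dg : Ix n → Ix n → ℤ} (hdg : DegOk dg) {d : ℤ} (hd : 0 < d) {i : Ix n} (h : d ≤ dg i i) (a : F) :
    sy i a ∈ Ud hdg d hd := by
  refine mem_Ud hdg hd ?_ (sy_sq i a)
  intro p l
  rw [rho_sy]
  simp only [Pi.add_apply, Pi.smul_apply, smul_eq_mul, be_apply]
  constructor
  · rintro rfl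
    rw [if_pos rfl]
    by_cases h1 : p = i
    · subst h1
      rw [if_neg (neg_ne p), mul_zero, zero_mul, add_zero]
    · rw [if_neg h1, mul_zero, add_zero]
  · intro hpl hne
    rw [if_neg hpl, zero_add] at hne
    by_cases h1 : neg i = l ∧ p = i
    · rw [← h1.1, neg_neg, h1.2]; exact h
    · exfalso
      apply hne
      by_cases h3 : neg i = l
      · have : p ≠ i := fun e => h1 ⟨h3, e⟩
        rw [if_neg this, mul_zero]
      · rw [if_neg h3, mul_zero, zero_mul]

theorem sx_eq_zero {dg : Ix n → Ix n → ℤ} (hdg : DegOk dg) {d : ℤ} (hd : 0 < d) {i j : Ix n} (hij : Dj i j)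
    (h : dg i j < d) {a : F} (ha : sx i j a ∈ Ud hdg d hd) : a = 0 := by
  by_contra h0
  have h1 : i ≠ neg j := hij.2
  have := (ha.1 i (neg j)).2 h1 (by
    rw [rho_sx hij]
    have h2 : neg i ≠ neg j := fun e => hij.1 (neg_inj.1 e)
    simp only [Pi.add_apply, Pi.smul_apply, smul_eq_mul, be_apply, if_true, if_neg h1, if_neg h2, mul_one, zero_add,
      mul_zero, zero_mul, add_zero]
    exact h0)
  rw [neg_neg] at this
  omega

theorem sy_eq_zero {dg : Ix n → Ix n → ℤ} (hdg : DegOk dg) {d : ℤ} (hd : 0 < d) {i : Ix n}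
    (h : dg i i < d) {a : F} (ha : sy i a ∈ Ud hdg d hd) : a = 0 := by
  by_contra h0
  have := (ha.1 i (neg i)).2 (ne_neg i) (by
    rw [rho_sy]
    simp only [Pi.add_apply, Pi.smul_apply, smul_eq_mul, be_apply, if_true, if_neg (ne_neg i), mul_one, zero_add]
    exact h0)
  rw [neg_neg] at this
  omega

end unip

/-! ### The two degree functions -/

/-- `C_n`: `2 e_i` has degree `2 F_i` -/
def dgC (i j : Ix n) : ℤ := Fd i + Fd j

/-- `B_n`: `2 e_i` has degree `F_i` -/
def dgB (i j : Ix n) : ℤ := if i = j then Fd i else Fd i + Fd j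

theorem dgC_symm (i j : Ix n) : dgC i j = dgC j i := add_comm _ _

theorem dgB_symm (i j : Ix n) : dgB i j = dgB j i := by
  unfold dgB
  by_cases h : i = j
  · subst h; rfl
  · rw [if_neg h, if_neg (Ne.symm h), add_comm]

theorem dgC_ok : DegOk (dgC (n := n)) := by
  constructor
  · intro p k l _ _ _ d hd h1 h2
    unfold dgC at h1 h2 ⊢
    rw [Fd_neg] at h1 h2 ⊢
    linarith
  · intro p k _ h1 h2
    unfold dgC at h1 h2
    rw [Fd_neg] at h1 h2
    linarith

theorem dgB_ok : DegOk (dgB (n := n)) := by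
  constructor
  · intro p k l hpk hkl hpl d hd h1 h2
    unfold dgB at *
    by_cases e1 : p = neg k
    · rw [if_pos e1] at h1
      have e2 : Fd k = -Fd p := by rw [e1, Fd_neg, _root_.neg_neg]
      by_cases e3 : k = neg l
      · exfalso
        apply hpl
        rw [e1, e3, neg_neg]
      · rw [if_neg e3, Fd_neg] at h2
        split_ifs with e4
        · linarith
        · rw [Fd_neg]; linarith
    · rw [if_neg e1, Fd_neg] at h1
      by_cases e3 : k = neg l
      · rw [if_pos e3] at h2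
        have e2 : Fd l = -Fd k := by rw [e3, Fd_neg, _root_.neg_neg]
        split_ifs with e4
        · linarith
        · rw [Fd_neg]; linarith
      · rw [if_neg e3, Fd_neg] at h2
        split_ifs with e4
        · have : Fd l = -Fd p := by rw [e4, Fd_neg, _root_.neg_neg]
          linarith
        · rw [Fd_neg]; linarith
  · intro p k hpk h1 h2
    unfold dgB at *
    by_cases e1 : p = neg k
    · rw [if_pos e1] at h1
      have e2 : k = neg p := by rw [e1, neg_neg]
      rw [if_pos e2] at h2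
      rw [e1, Fd_neg] at h1
      linarith
    · have e2 : k ≠ neg p := fun e => e1 (by rw [e, neg_neg])
      rw [if_neg e1, Fd_neg] at h1
      rw [if_neg e2, Fd_neg] at h2
      linarith

end Cfsg.Agent.OddHalf.SpN
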