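import Mathlib
import Cfsg.Agent.OddHalf.SpN.Red

/-!
# Centralizers in `Sp_2n(F)`, `char F = 2`, by matrix entries

`ent A l k` : the coefficient of `e_l` in `A e_k`.
`sa U M` (`U` isotropic, `M` symmetric): `v ↦ v + Σ_{i,j ∈ U} M i j v_{-j} e_i`.
`FU_Sy`: an element commuting with the long root elements `y_k(1)`, `k ∉ -U`, is of the form `sa U M`.
-/

set_option autoImplicit false
set_option linter.unusedSimpArgs false

namespace Cfsg.Agent.OddHalf.SpN

open Cfsg Cfsg.Agent.ClassicalGeometry.SympBasic Cfsg.Agent.ClassicalGeometry.SympAutSemi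
open scoped Matrix commutatorElement

variable {n : ℕ} {F : Type*} [Field F]

/-- matrix entries -/
def ent (A : Sy n F) (l k : Ix n) : F := rho n F A (be n F k) l

theorem eq_sum_be (v : Ix n → F) : v = ∑ k, v k • be n F k := by
  ext l
  rw [Finset.sum_apply, Finset.sum_eq_single l]
  · simp [be_apply]
  · intro k _ hk; simp [be_apply, hk.symm]
  · intro h; exact absurd (Finset.mem_univ l) h

theorem rho_zero (A : Sy n F) : rho n F A 0 = 0 := by
  have h := (isSemi_rho A).2.1 0 0
  simpa using h

theorem rho_add (A : Sy n F) (u v : Ix n → F) : rho n F A (u + v) = rho n F A u + rho n F A v := (isSemi_rho A).1 u v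

theorem rho_smul (A : Sy n F) (a : F) (v : Ix n → F) : rho n F A (a • v) = a • rho n F A v := (isSemi_rho A).2.1 a v

theorem rho_sum {κ : Type*} (A : Sy n F) (s : Finset κ) (f : κ → Ix n → F) :
    rho n F A (∑ i ∈ s, f i) = ∑ i ∈ s, rho n F A (f i) := by
  classical
  induction s using Finset.induction_on with
  | empty => simp [rho_zero]
  | insert a s ha ih => rw [Finset.sum_insert ha, Finset.sum_insert ha, rho_add, ih]

theorem rho_eq_sum (A : Sy n F) (v : Ix n → F) (l : Ix n) : rho n F A v l = ∑ k, v k * ent A l k := by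
  conv_lhs => rw [eq_sum_be v]
  rw [rho_sum, Finset.sum_apply]
  exact Finset.sum_congr rfl fun k _ => by rw [rho_smul]; rfl

/-- two elements with the same entries are equal -/
theorem ext_ent {A B : Sy n F} (h : ∀ l k, ent A l k = ent B l k) : A = B := by
  apply rho_injective
  ext v l
  rw [rho_eq_sum, rho_eq_sum]
  exact Finset.sum_congr rfl fun k _ => by rw [h]

/-- commuting with a root element -/
theorem comm_root {e : F → Sy n F} {N : (Ix n → F) → (Ix n → F)} (he : IsRoot e N) {A : Sy n F}
    (h : Commute A (e 1)) (v : Ix n → F) : rho n F A (N v) = N (rho n F A v) := by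
  have h1 := congrArg (fun B => rho n F B v) h.eq
  simp only [map_mul, Equiv.Perm.mul_apply, he.eq, one_smul, rho_add] at h1
  exact add_left_cancel h1

section chartwo

variable [CharP F 2]

theorem form_eq (u v : Ix n → F) : sympForm n F u v = ∑ k : Ix n, u (neg k) * v k := by
  rw [sympForm_eq_sum, Fintype.sum_sum_type, ← Finset.sum_add_distrib]
  exact Finset.sum_congr rfl fun i _ => by rw [CharTwo.sub_eq_add, neg_inl, neg_inr]

theorem form_be_be (i j : Ix n) : sympForm n F (be n F i) (be n F j) = if i = neg j then 1 else 0 := by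
  rw [form_be, be_apply]
  congr 1
  exact propext ⟨fun h => by rw [h], fun h => by rw [h]⟩

/-- the entries form a symplectic matrix -/
theorem ent_form (A : Sy n F) (i j : Ix n) :
    ∑ k : Ix n, ent A (neg k) i * ent A k j = if i = neg j then 1 else 0 := by
  rw [← form_be_be, ← sympForm_rho A, form_eq]
  rfl

/-- entries of an element commuting with a long root element -/
structure CY (A : Sy n F) (i : Ix n) : Prop where
  col : ∀ l, l ≠ i → ent A l i = 0
  row : ∀ k, k ≠ neg i → ent A (neg i) k = 0
  diag : ent A i i = 1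
  diag' : ent A (neg i) (neg i) = 1

theorem cy_of_comm {A : Sy n F} {i : Ix n} (h : Commute A (sy i 1)) : CY A i := by
  have key := comm_root (isRoot_y i) h
  have h1 : ∀ l, ent A l i = ent A (neg i) (neg i) * (if l = i then 1 else 0) := by
    intro l
    have h2 := congrFun (key (be n F (neg i))) l
    simp only [Ny, be_apply, if_true, one_smul, Pi.smul_apply, smul_eq_mul] at h2
    exact h2
  have h2 : ∀ k, k ≠ neg i → ent A (neg i) k = 0 := by
    intro k hk
    have h2 := congrFun (key (be n F k)) i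
    simp only [Ny, be_apply, if_neg hk.symm, zero_smul, rho_zero, Pi.smul_apply, smul_eq_mul, if_true, mul_one,
      Pi.zero_apply] at h2
    exact h2.symm
  have h3 : ∀ l, l ≠ i → ent A l i = 0 := fun l hl => by rw [h1, if_neg hl, mul_zero]
  have h4 : ent A i i = ent A (neg i) (neg i) := by rw [h1, if_pos rfl, mul_one]
  have h5 := ent_form A i (neg i)
  rw [neg_neg, if_pos rfl, Finset.sum_eq_single (neg i)] at h5
  · rw [neg_neg, h4] at h5
    have h6 : (ent A (neg i) (neg i) - 1) * (ent A (neg i) (neg i) - 1) = 0 := by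
      linear_combination h5 - (ent A (neg i) (neg i) - 1) * (two0 : (2 : F) = 0)
    have h7 : ent A (neg i) (neg i) = 1 := sub_eq_zero.mp (mul_self_eq_zero.mp h6)
    exact ⟨h3, h2, by rw [h4, h7], h7⟩
  · intro k _ hk
    rw [h3 (neg k) (fun e => hk (by rw [← e, neg_neg])), zero_mul]
  · intro h; exact absurd (Finset.mem_univ _) h

/-- entries of an element commuting with a short root element -/
structure CX (A : Sy n F) (i j : Ix n) : Prop where
  coli : ∀ l, l ≠ i → l ≠ j → ent A l i = 0
  colj : ∀ l, l ≠ i → l ≠ j → ent A l j = 0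
  rowi : ∀ k, k ≠ neg i → k ≠ neg j → ent A (neg i) k = 0
  rowj : ∀ k, k ≠ neg i → k ≠ neg j → ent A (neg j) k = 0
  ii : ent A i i = ent A (neg j) (neg j)
  jj : ent A j j = ent A (neg i) (neg i)
  ij : ent A i j = ent A (neg j) (neg i)
  ji : ent A j i = ent A (neg i) (neg j)

theorem cx_of_comm {A : Sy n F} {i j : Ix n} (hd : Dj i j) (h : Commute A (sx i j 1)) : CX A i j := by
  have key := comm_root (isRoot_x hd) h
  have hne := hd.1
  have hne' : neg i ≠ neg j := fun e => hne (neg_inj.mp e)
  have h1 : ∀ l, ent A l i = ent A (neg j) (neg j) * (if l = i then 1 else 0) +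
      ent A (neg i) (neg j) * (if l = j then 1 else 0) := by
    intro l
    have h2 := congrFun (key (be n F (neg j))) l
    simp only [Nx, be_apply, if_true, one_smul, if_neg hne', zero_smul, add_zero, Pi.add_apply, Pi.smul_apply,
      smul_eq_mul] at h2
    exact h2
  have h1' : ∀ l, ent A l j = ent A (neg j) (neg i) * (if l = i then 1 else 0) +
      ent A (neg i) (neg i) * (if l = j then 1 else 0) := by
    intro l
    have h2 := congrFun (key (be n F (neg i))) l
    simp only [Nx, be_apply, if_true, one_smul, if_neg hne'.symm, zero_smul, zero_add, Pi.add_apply, Pi.smul_apply,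
      smul_eq_mul] at h2
    exact h2
  have h2 : ∀ k, k ≠ neg i → k ≠ neg j → ∀ l, 0 = ent A (neg j) k * (if l = i then 1 else 0) +
      ent A (neg i) k * (if l = j then 1 else 0) := by
    intro k hk1 hk2 l
    have h2 := congrFun (key (be n F k)) l
    simp only [Nx, be_apply, if_neg hk1.symm, if_neg hk2.symm, zero_smul, add_zero, rho_zero, Pi.add_apply,
      Pi.smul_apply, smul_eq_mul, Pi.zero_apply] at h2
    exact h2
  refine ⟨fun l hl hl' => ?_, fun l hl hl' => ?_, fun k hk hk' => ?_, fun k hk hk' => ?_, ?_, ?_, ?_, ?_⟩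
  · rw [h1, if_neg hl, if_neg hl']; ring
  · rw [h1', if_neg hl, if_neg hl']; ring
  · have := h2 k hk hk' j
    rw [if_neg hne.symm, if_pos rfl] at this
    linear_combination -this
  · have := h2 k hk hk' i
    rw [if_neg hne, if_pos rfl] at this
    linear_combination -this
  · rw [h1, if_pos rfl, if_neg hne]; ring
  · rw [h1', if_pos rfl, if_neg hne.symm]; ring
  · rw [h1', if_pos rfl, if_neg hne]; ring
  · rw [h1, if_pos rfl, if_neg hne.symm]; ring

/-! ### The groups `sa U M` -/

/-- isotropic sets of signed indices -/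
def Isot (U : Finset (Ix n)) : Prop := ∀ i ∈ U, ∀ j ∈ U, j ≠ neg i

/-- symmetric matrices -/
def Symm (M : Ix n → Ix n → F) : Prop := ∀ i j, M i j = M j i

theorem exists_sa {U : Finset (Ix n)} (hU : Isot U) {M : Ix n → Ix n → F} (hM : Symm M) :
    ∃ A : Sy n F, ∀ v k, rho n F A v k = v k + if k ∈ U then ∑ j ∈ U, M k j * v (neg j) else 0 := by
  classical
  let N : (Ix n → F) → (Ix n → F) := fun v k => if k ∈ U then ∑ j ∈ U, M k j * v (neg j) else 0
  have hN0 : ∀ v, ∀ j ∈ U, N v (neg j) = 0 := fun v j hj => if_neg fun h => hU (neg j) h j hj (by rw [neg_neg])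
  have hNN : ∀ v, N (v + N v) = N v := fun v => by
    funext k
    simp only [N]
    split_ifs with hk
    · refine Finset.sum_congr rfl fun j hj => ?_
      have h0 := hN0 v j hj
      simp only [N] at h0
      simp only [Pi.add_apply]
      rw [h0, add_zero]
    · rfl
  have hinv : ∀ v, (v + N v) + N (v + N v) = v := fun v => by
    rw [hNN]
    funext k
    simp only [Pi.add_apply]
    rw [add_assoc, CharTwo.add_self_eq_zero, add_zero]
  let p : Equiv.Perm (Ix n → F) := ⟨fun v => v + N v, fun v => v + N v, hinv, hinv⟩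
  have hp : ∀ v k, p v k = v k + N v k := fun _ _ => rfl
  have hadd : ∀ u v, N (u + v) = N u + N v := fun u v => by
    funext k
    simp only [N, Pi.add_apply]
    split_ifs
    · rw [← Finset.sum_add_distrib]; exact Finset.sum_congr rfl fun j _ => by ring
    · rw [add_zero]
  have hsm : ∀ (a : F) v, N (a • v) = a • N v := fun a v => by
    funext k
    simp only [N, Pi.smul_apply, smul_eq_mul]
    split_ifs
    · rw [Finset.mul_sum]; exact Finset.sum_congr rfl fun j _ => by ring
    · rw [mul_zero]
  -- f(u, N v) = Σ_{k, j ∈ U} M k j u_{-k} v_{-j}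
  have hf1 : ∀ u v, sympForm n F u (N v) = ∑ k ∈ U, ∑ j ∈ U, M k j * (u (neg k) * v (neg j)) := fun u v => by
    rw [form_eq]
    simp only [N]
    rw [← Finset.sum_subset (Finset.subset_univ U)]
    · refine Finset.sum_congr rfl fun k hk => ?_
      rw [if_pos hk, Finset.mul_sum]
      exact Finset.sum_congr rfl fun j _ => by ring
    · intro k _ hk
      rw [if_neg hk, mul_zero]
  have hf2 : ∀ u v, sympForm n F (N u) v = ∑ k ∈ U, ∑ j ∈ U, M k j * (u (neg k) * v (neg j)) := fun u v => by
    rw [sympForm_swap, CharTwo.neg_eq, hf1, Finset.sum_comm]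
    exact Finset.sum_congr rfl fun k _ => Finset.sum_congr rfl fun j _ => by rw [hM]; ring
  have hf3 : ∀ u v, sympForm n F (N u) (N v) = 0 := fun u v => by
    rw [hf1]
    refine Finset.sum_eq_zero fun k hk => Finset.sum_eq_zero fun j _ => ?_
    rw [hN0 u k hk]; ring
  obtain ⟨A, hA⟩ := exists_rho_eq (m := n) (F := F) p
    (fun u v => by
      funext k; simp only [hp, Pi.add_apply, hadd]; ring)
    (fun a v => by
      funext k; simp only [hp, Pi.smul_apply, smul_eq_mul, hsm]; ring)
    (fun u v => by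
      change sympForm n F (u + N u) (v + N v) = _
      rw [sympForm_add_left, sympForm_add_right, sympForm_add_right, hf3, hf1, hf2, add_zero, add_assoc,
        CharTwo.add_self_eq_zero, add_zero])
  exact ⟨A, fun v k => by rw [hA]; rfl⟩

open Classical in
/-- `v ↦ v + Σ_{i,j ∈ U} M i j v_{-j} e_i` for `U` isotropic, `M` symmetric -/
noncomputable def sa (U : Finset (Ix n)) (M : Ix n → Ix n → F) : Sy n F :=
  if h : Isot U ∧ Symm M then Classical.choose (exists_sa h.1 h.2) else 1

theorem rho_sa {U : Finset (Ix n)} (hU : Isot U) {M : Ix n → Ix n → F} (hM : Symm M) (v : Ix n → F) (k : Ix n) :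
    rho n F (sa U M) v k = v k + if k ∈ U then ∑ j ∈ U, M k j * v (neg j) else 0 := by
  rw [sa, dif_pos ⟨hU, hM⟩]
  exact Classical.choose_spec (exists_sa hU hM) v k

theorem ent_sa {U : Finset (Ix n)} (hU : Isot U) {M : Ix n → Ix n → F} (hM : Symm M) (l k : Ix n) :
    ent (sa U M) l k = (if l = k then 1 else 0) + if l ∈ U ∧ neg k ∈ U then M l (neg k) else 0 := by
  rw [ent, rho_sa hU hM, be_apply]
  congr 1
  by_cases hl : l ∈ U
  · rw [if_pos hl]
    by_cases hk : neg k ∈ U
    · rw [if_pos ⟨hl, hk⟩, Finset.sum_eq_single (neg k)]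
      · rw [be_apply, neg_neg, if_pos rfl, mul_one]
      · intro j _ hj
        rw [be_apply, if_neg fun e => hj (by rw [← e, neg_neg]), mul_zero]
      · intro h; exact absurd hk h
    · rw [if_neg fun h => hk h.2]
      refine Finset.sum_eq_zero fun j hj => ?_
      rw [be_apply, if_neg, mul_zero]
      intro e; apply hk; rw [← e, neg_neg]; exact hj
  · rw [if_neg hl, if_neg fun h => hl h.1]

/-- **(FU)** in `Sp`: an element commuting with the long root elements `y_k(1)`, `k ∉ -U`, is `sa U M`. -/
theorem FU_Sy {U : Finset (Ix n)} (hU : Isot U) {A : Sy n F} (h : ∀ k, neg k ∉ U → Commute A (sy k 1)) :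
    ∃ M, Symm M ∧ A = sa U M := by
  have cy : ∀ k, neg k ∉ U → CY A k := fun k hk => cy_of_comm (h k hk)
  have nU : ∀ k ∈ U, neg k ∉ U := fun k hk hk' => hU (neg k) hk' k hk (by rw [neg_neg])
  -- rows
  have hrow : ∀ k, k ∉ U → ∀ l, l ≠ k → ent A k l = 0 := by
    intro k hk l hl
    have := (cy (neg k) (by rwa [neg_neg])).row l (by rwa [neg_neg])
    rwa [neg_neg] at this
  -- diagonal
  have hdiag : ∀ k, ent A k k = 1 := by
    intro k
    by_cases hk : k ∈ U
    · exact (cy k (nU k hk)).diag
    · have := (cy (neg k) (by rwa [neg_neg])).diag'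
      rwa [neg_neg] at this
  -- columns
  have hcol : ∀ k, neg k ∉ U → ∀ l, l ≠ k → ent A l k = 0 := fun k hk l hl => (cy k hk).col l hl
  have hsym : ∀ i ∈ U, ∀ j ∈ U, ent A i (neg j) = ent A j (neg i) := by
    intro i hi j hj
    by_cases hij : i = j
    · subst hij; rfl
    have h1 := ent_form A (neg i) (neg j)
    rw [neg_neg, if_neg fun e => hU j hj i hi (by rw [← e, neg_neg])] at h1
    -- terms: k = i and k = neg j
    have hne : i ≠ neg j := hU j hj i hi
    rw [← Finset.sum_subset (Finset.subset_univ ({i, neg j} : Finset (Ix n))), Finset.sum_pair hne, neg_neg,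
      hdiag, hdiag] at h1
    · linear_combination h1 - ent A j (neg i) * (two0 : (2 : F) = 0)
    · intro k _ hk
      rw [Finset.mem_insert, Finset.mem_singleton, not_or] at hk
      by_cases hkU : k ∈ U
      · -- neg k ∉ U : row of neg k
        rw [hrow (neg k) (nU k hkU) (neg i) (fun e => hk.1 (neg_inj.mp e.symm)), zero_mul]
      · rw [hrow k hkU (neg j) (fun e => hk.2 e.symm), mul_zero]
  classical
  have hS : Symm fun i j => if i ∈ U ∧ j ∈ U then ent A i (neg j) else 0 := by
    intro i j
    by_cases hij : i ∈ U ∧ j ∈ U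
    · simp only [if_pos hij, if_pos hij.symm]; exact hsym i hij.1 j hij.2
    · simp only [if_neg hij, if_neg fun h => hij (And.symm h)]
  refine ⟨_, hS, ?_⟩
  · skip
    apply ext_ent
    intro l k
    rw [ent_sa hU hS]
    by_cases hlk : l = k
    · subst hlk
      rw [hdiag, if_pos rfl, if_neg fun h => nU l h.1 h.2, add_zero]
    · rw [if_neg hlk, zero_add]
      by_cases h1 : l ∈ U ∧ neg k ∈ U
      · simp only [if_pos h1, neg_neg]
      · rw [if_neg h1]
        by_cases h2 : l ∈ U
        · exact hcol k (fun h => h1 ⟨h2, h⟩) l hlk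
        · exact hrow l h2 k fun e => hlk e.symm

/-- `sa U M` on `v + w`, `w` without components in `-U` -/
theorem rho_sa_add {U : Finset (Ix n)} (hU : Isot U) {M : Ix n → Ix n → F} (hM : Symm M) (v w : Ix n → F)
    (hw : ∀ j ∈ U, w (neg j) = 0) (k : Ix n) : rho n F (sa U M) (v + w) k = rho n F (sa U M) v k + w k := by
  have h : ∑ j ∈ U, M k j * (v + w) (neg j) = ∑ j ∈ U, M k j * v (neg j) :=
    Finset.sum_congr rfl fun j hj => by rw [Pi.add_apply, hw j hj, add_zero]
  rw [rho_sa hU hM, rho_sa hU hM, h, Pi.add_apply]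
  ring

theorem sa_add {U : Finset (Ix n)} (hU : Isot U) {M N : Ix n → Ix n → F} (hM : Symm M) (hN : Symm N) :
    sa U (fun i j => M i j + N i j) = sa U M * sa U N := by
  have hMN : Symm fun i j => M i j + N i j := fun i j => by
    change M i j + N i j = M j i + N j i
    rw [hM i j, hN i j]
  apply rho_injective
  ext v k
  have hw : rho n F (sa U N) v = v + fun k => if k ∈ U then ∑ j ∈ U, N k j * v (neg j) else 0 := by
    funext l; rw [rho_sa hU hN]; rfl
  rw [map_mul, Equiv.Perm.mul_apply, hw, rho_sa_add hU hM, rho_sa hU hMN, rho_sa hU hM]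
  · by_cases hk : k ∈ U
    · simp only [if_pos hk]
      rw [add_assoc, ← Finset.sum_add_distrib]
      congr 1
      exact Finset.sum_congr rfl fun j _ => by ring
    · simp only [if_neg hk, add_zero]
  · intro j hj
    exact if_neg fun h => hU (neg j) h j hj (by rw [neg_neg])

theorem sa_congr {U : Finset (Ix n)} (hU : Isot U) {M N : Ix n → Ix n → F} (hM : Symm M) (hN : Symm N)
    (h : ∀ i ∈ U, ∀ j ∈ U, M i j = N i j) : sa U M = sa U N := by
  apply rho_injective
  ext v k
  rw [rho_sa hU hM, rho_sa hU hN]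
  by_cases hk : k ∈ U
  · simp only [if_pos hk]
    congr 1
    exact Finset.sum_congr rfl fun j hj => by rw [h k hk j hj]
  · simp only [if_neg hk]

theorem sa_inj {U : Finset (Ix n)} (hU : Isot U) {M N : Ix n → Ix n → F} (hM : Symm M) (hN : Symm N)
    (h : sa U M = sa U N) : ∀ i ∈ U, ∀ j ∈ U, M i j = N i j := by
  intro i hi j hj
  have h1 : ent (sa U M) i (neg j) = ent (sa U N) i (neg j) := by rw [h]
  have h2 : i ∈ U ∧ j ∈ U := ⟨hi, hj⟩
  rw [ent_sa hU hM, ent_sa hU hN, neg_neg] at h1
  simp only [if_pos h2] at h1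
  exact add_left_cancel h1

/-- the torus acts on `sa U M` -/
theorem sh_sa {U : Finset (Ix n)} (hU : Isot U) {M : Ix n → Ix n → F} (hM : Symm M) (lam : Fin n → Fˣ) :
    sh lam * sa U M * (sh lam)⁻¹ = sa U fun i j => ev lam i * ev lam j * M i j := by
  have hM' : Symm fun i j => (ev lam i : F) * ev lam j * M i j := fun i j => by
    change (ev lam i : F) * ev lam j * M i j = ev lam j * ev lam i * M j i
    rw [hM i j]; ring
  rw [mul_inv_eq_iff_eq_mul]
  apply rho_injective
  ext v k
  simp only [map_mul, Equiv.Perm.mul_apply, rho_sh, rho_sa hU hM, rho_sa hU hM', ev_neg, Units.val_inv_eq_inv_val]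
  by_cases hk : k ∈ U
  · simp only [if_pos hk, mul_add, Finset.mul_sum]
    congr 1
    refine Finset.sum_congr rfl fun j _ => ?_
    have := (ev lam j).ne_zero
    field_simp
  · simp only [if_neg hk]; ring

theorem isot_singleton (i : Ix n) : Isot ({i} : Finset (Ix n)) := by
  intro a ha b hb
  rw [Finset.mem_singleton] at ha hb
  subst ha; subst hb; exact ne_neg _

theorem isot_insert {U : Finset (Ix n)} (hU : Isot U) {i : Ix n} (hi : ∀ j ∈ U, Dj i j) : Isot (insert i U) := by
  intro a ha b hb
  rw [Finset.mem_insert] at ha hb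
  rcases ha with rfl | ha
  · rcases hb with rfl | hb
    · exact ne_neg _
    · intro e; exact (hi b hb).2 (by rw [e, neg_neg])
  · rcases hb with rfl | hb
    · exact (hi a ha).2
    · exact hU a ha b hb

/-- peel off one index -/
theorem sa_insert {U : Finset (Ix n)} (hU : Isot U) {i : Ix n} (hi : ∀ j ∈ U, Dj i j) {M : Ix n → Ix n → F}
    (hM : Symm M) (v : Ix n → F) (k : Ix n) :
    rho n F (sa (insert i U) M) v k =
      rho n F (sa U M) v k + (if k = i then M i i * v (neg i) + ∑ j ∈ U, M i j * v (neg j) else 0) +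
        if k ∈ U then M k i * v (neg i) else 0 := by
  have hiU : i ∉ U := fun h => (hi i h).1 rfl
  rw [rho_sa (isot_insert hU hi) hM, rho_sa hU hM]
  by_cases hki : k = i
  · subst hki
    rw [if_pos (Finset.mem_insert_self _ _), Finset.sum_insert hiU, if_pos rfl, if_neg hiU, if_neg hiU]
    ring
  · by_cases hk : k ∈ U
    · rw [if_pos (Finset.mem_insert_of_mem hk), Finset.sum_insert hiU, if_pos hk, if_neg hki, if_pos hk]
      ring
    · rw [if_neg, if_neg hk, if_neg hki, if_neg hk]
      · ring
      · rw [Finset.mem_insert]; exact fun h => h.elim hki hk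

theorem sa_one {i : Ix n} {M : Ix n → Ix n → F} (hM : Symm M) : sa {i} M = sy i (M i i) := by
  apply rho_injective
  ext v k
  rw [rho_sa (isot_singleton i) hM, rho_sy]
  simp only [Finset.mem_singleton, Finset.sum_singleton, Pi.add_apply, Pi.smul_apply, smul_eq_mul, be_apply]
  split_ifs with h
  · subst h; ring
  · ring

theorem sa_two {i j : Ix n} (hd : Dj i j) {M : Ix n → Ix n → F} (hM : Symm M) :
    sa {i, j} M = sy j (M j j) * (sy i (M i i) * sx i j (M i j)) := by
  have h1 : neg j ≠ i := fun e => hd.2 e.symm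
  have h2 : neg i ≠ j := fun e => hd.2 (by rw [← e, neg_neg])
  apply rho_injective
  ext v k
  rw [sa_insert (isot_singleton j) (fun l hl => by rw [Finset.mem_singleton] at hl; rw [hl]; exact hd) hM, sa_one hM]
  simp only [map_mul, Equiv.Perm.mul_apply, rho_sy, rho_sx hd, Finset.mem_singleton, Finset.sum_singleton,
    Pi.add_apply, Pi.smul_apply, smul_eq_mul, be_apply, h1, h2, neg_ne, if_false, hd.1, hd.1.symm]
  by_cases e1 : k = i
  · subst e1
    rw [if_pos rfl, if_pos rfl, if_neg hd.1, if_neg hd.1]; ring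
  · by_cases e2 : k = j
    · subst e2
      rw [if_neg e1, if_neg e1, if_pos rfl, if_pos rfl, hM k i]; ring
    · rw [if_neg e1, if_neg e1, if_neg e2, if_neg e2]; ring

/-- peel off one index from a set of three -/
theorem sa_three {i j k : Ix n} (hij : Dj i j) (hik : Dj i k) (hjk : Dj j k) {M : Ix n → Ix n → F} (hM : Symm M) :
    sa {i, j, k} M = sa {j, k} M * (sy i (M i i) * sx i j (M i j) * sx i k (M i k)) := by
  have h1 : neg j ≠ i := fun e => hij.2 e.symm
  have h2 : neg i ≠ j := fun e => hij.2 (by rw [← e, neg_neg])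
  have h3 : neg k ≠ i := fun e => hik.2 e.symm
  have h4 : neg i ≠ k := fun e => hik.2 (by rw [← e, neg_neg])
  have h5 : neg k ≠ j := fun e => hjk.2 e.symm
  have h6 : neg j ≠ k := fun e => hjk.2 (by rw [← e, neg_neg])
  have hU : Isot ({j, k} : Finset (Ix n)) :=
    isot_insert (isot_singleton k) fun l hl => by rw [Finset.mem_singleton] at hl; rw [hl]; exact hjk
  have hi : ∀ l ∈ ({j, k} : Finset (Ix n)), Dj i l := fun l hl => by
    rw [Finset.mem_insert, Finset.mem_singleton] at hl
    rcases hl with rfl | rfl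
    · exact hij
    · exact hik
  apply rho_injective
  ext v l
  have hq : rho n F (sy i (M i i) * sx i j (M i j) * sx i k (M i k)) v = v + fun l =>
      (if l = i then M i i * v (neg i) + (M i j * v (neg j) + M i k * v (neg k)) else 0) +
      (if l = j then M i j * v (neg i) else 0) + (if l = k then M i k * v (neg i) else 0) := by
    funext l
    simp only [map_mul, Equiv.Perm.mul_apply, rho_sy, rho_sx hij, rho_sx hik, Pi.add_apply, Pi.smul_apply, smul_eq_mul,
      be_apply, h1, h2, h3, h4, h5, h6, neg_ne, if_false, hij.1, hij.1.symm, hik.1, hik.1.symm, hjk.1, hjk.1.symm]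
    split_ifs <;> ring
  rw [map_mul, Equiv.Perm.mul_apply, hq, rho_sa_add hU hM, sa_insert hU hi hM, Finset.sum_pair hjk.1]
  · simp only [Finset.mem_insert, Finset.mem_singleton]
    by_cases e1 : l = j
    · subst e1
      simp only [if_pos rfl, if_neg hij.1.symm, if_neg hjk.1, true_or, hM l i]; ring
    · by_cases e2 : l = k
      · subst e2
        simp only [if_pos rfl, if_neg hik.1.symm, if_neg e1, or_true, hM l i]; ring
      · simp only [if_neg e1, if_neg e2, e1, e2, or_self, if_false]; ring
  · intro l hl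
    rw [Finset.mem_insert, Finset.mem_singleton] at hl
    rcases hl with rfl | rfl
    · simp only [if_neg h1, if_neg (neg_ne l), if_neg h6, add_zero]
    · simp only [if_neg h3, if_neg h5, if_neg (neg_ne l), add_zero]

/-- peel off one index from a set of four -/
theorem sa_four {i j k m : Ix n} (hij : Dj i j) (hik : Dj i k) (him : Dj i m) (hjk : Dj j k) (hjm : Dj j m)
    (hkm : Dj k m) {M : Ix n → Ix n → F} (hM : Symm M) :
    sa {i, j, k, m} M = sa {j, k, m} M * (sy i (M i i) * sx i j (M i j) * sx i k (M i k) * sx i m (M i m)) := by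
  have h1 : neg j ≠ i := fun e => hij.2 e.symm
  have h2 : neg i ≠ j := fun e => hij.2 (by rw [← e, neg_neg])
  have h3 : neg k ≠ i := fun e => hik.2 e.symm
  have h4 : neg i ≠ k := fun e => hik.2 (by rw [← e, neg_neg])
  have h5 : neg k ≠ j := fun e => hjk.2 e.symm
  have h6 : neg j ≠ k := fun e => hjk.2 (by rw [← e, neg_neg])
  have g1 : neg m ≠ i := fun e => him.2 e.symm
  have g2 : neg i ≠ m := fun e => him.2 (by rw [← e, neg_neg])
  have g3 : neg m ≠ j := fun e => hjm.2 e.symm
  have g4 : neg j ≠ m := fun e => hjm.2 (by rw [← e, neg_neg])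
  have g5 : neg m ≠ k := fun e => hkm.2 e.symm
  have g6 : neg k ≠ m := fun e => hkm.2 (by rw [← e, neg_neg])
  have hU : Isot ({j, k, m} : Finset (Ix n)) :=
    isot_insert (isot_insert (isot_singleton m) fun l hl => by rw [Finset.mem_singleton] at hl; rw [hl]; exact hkm)
      fun l hl => by
        rw [Finset.mem_insert, Finset.mem_singleton] at hl
        rcases hl with rfl | rfl
        · exact hjk
        · exact hjm
  have hi : ∀ l ∈ ({j, k, m} : Finset (Ix n)), Dj i l := fun l hl => by
    rw [Finset.mem_insert, Finset.mem_insert, Finset.mem_singleton] at hl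
    rcases hl with rfl | rfl | rfl
    · exact hij
    · exact hik
    · exact him
  apply rho_injective
  ext v l
  have hq : rho n F (sy i (M i i) * sx i j (M i j) * sx i k (M i k) * sx i m (M i m)) v = v + fun l =>
      (if l = i then M i i * v (neg i) + (M i j * v (neg j) + (M i k * v (neg k) + M i m * v (neg m))) else 0) +
      (if l = j then M i j * v (neg i) else 0) + (if l = k then M i k * v (neg i) else 0) +
      (if l = m then M i m * v (neg i) else 0) := by
    funext l
    simp only [map_mul, Equiv.Perm.mul_apply, rho_sy, rho_sx hij, rho_sx hik, rho_sx him, Pi.add_apply, Pi.smul_apply,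
      smul_eq_mul, be_apply, h1, h2, h3, h4, h5, h6, g1, g2, g3, g4, g5, g6, neg_ne, if_false, hij.1, hij.1.symm,
      hik.1, hik.1.symm, hjk.1, hjk.1.symm, him.1, him.1.symm, hjm.1, hjm.1.symm, hkm.1, hkm.1.symm]
    split_ifs <;> ring
  have hjn : j ∉ ({k, m} : Finset (Ix n)) := by
    rw [Finset.mem_insert, Finset.mem_singleton]
    exact fun h => h.elim hjk.1 hjm.1
  rw [map_mul, Equiv.Perm.mul_apply, hq, rho_sa_add hU hM, sa_insert hU hi hM, Finset.sum_insert hjn,
    Finset.sum_pair hkm.1]
  · simp only [Finset.mem_insert, Finset.mem_singleton]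
    by_cases e1 : l = j
    · subst e1
      simp only [if_pos rfl, if_neg hij.1.symm, if_neg hjk.1, if_neg hjm.1, true_or, hM l i]; ring
    · by_cases e2 : l = k
      · subst e2
        simp only [if_pos rfl, if_neg hik.1.symm, if_neg e1, if_neg hkm.1, or_true, true_or, hM l i]; ring
      · by_cases e3 : l = m
        · subst e3
          simp only [if_pos rfl, if_neg him.1.symm, if_neg e1, if_neg e2, or_true, hM l i]; ring
        · simp only [if_neg e1, if_neg e2, if_neg e3, e1, e2, e3, or_self, if_false]; ring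
  · intro l hl
    rw [Finset.mem_insert, Finset.mem_insert, Finset.mem_singleton] at hl
    rcases hl with rfl | rfl | rfl
    · simp only [if_neg h1, if_neg (neg_ne l), if_neg h6, if_neg g4, add_zero]
    · simp only [if_neg h3, if_neg h5, if_neg (neg_ne l), if_neg g6, add_zero]
    · simp only [if_neg g1, if_neg g3, if_neg g5, if_neg (neg_ne l), add_zero]

end chartwo

/-! ### The same in `G` -/

namespace Frame

variable {G : Type*} [Group G] (R : Frame n F G) [CharP F 2]

/-- `v ↦ v + Σ_{i,j ∈ U} M i j v_{-j} e_i` for `U` isotropic, `M` symmetric -/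
noncomputable def a (U : Finset (Ix n)) (M : Ix n → Ix n → F) : G := R.ι (sa U M)

theorem a_mem_K (U : Finset (Ix n)) (M : Ix n → Ix n → F) : R.a U M ∈ R.K := ⟨_, rfl⟩

/-- **(FU)**: an element of `C(t)` commuting with the long root groups `Y_k`, `k ∉ -U`, is `a U M` or `t * a U M`. -/
theorem FU [Finite F] (hn : 3 ≤ n) {U : Finset (Ix n)} (hU : Isot U) {c : G} (ht : Commute c R.t)
    (h : ∀ k, neg k ∉ U → ∀ b, Commute c (R.y k b)) : ∃ M, Symm M ∧ (c = R.a U M ∨ c = R.t * R.a U M) := by
  obtain ⟨k, hk⟩ : ∃ k, neg k ∉ U := by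
    by_cases h0 : neg (Sum.inl (⟨0, by omega⟩ : Fin n) : Ix n) ∈ U
    · refine ⟨neg (Sum.inl (⟨0, by omega⟩ : Fin n) : Ix n), fun h' => hU _ h' _ h0 ?_⟩
      rw [neg_neg]
    · exact ⟨_, h0⟩
  obtain ⟨A, hA⟩ := R.ct_comm_y hn ht (h k hk)
  obtain ⟨M, hM, e⟩ := FU_Sy hU (A := A) fun k hk => R.comm_of hA (h k hk 1)
  refine ⟨M, hM, ?_⟩
  rw [e] at hA
  exact hA

theorem a_add {U : Finset (Ix n)} (hU : Isot U) {M N : Ix n → Ix n → F} (hM : Symm M) (hN : Symm N) :
    R.a U (fun i j => M i j + N i j) = R.a U M * R.a U N := by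
  rw [a, sa_add hU hM hN, map_mul]; rfl

theorem a_congr {U : Finset (Ix n)} (hU : Isot U) {M N : Ix n → Ix n → F} (hM : Symm M) (hN : Symm N)
    (h : ∀ i ∈ U, ∀ j ∈ U, M i j = N i j) : R.a U M = R.a U N := by
  rw [a, sa_congr hU hM hN h]; rfl

theorem a_inj {U : Finset (Ix n)} (hU : Isot U) {M N : Ix n → Ix n → F} (hM : Symm M) (hN : Symm N)
    (h : R.a U M = R.a U N) : ∀ i ∈ U, ∀ j ∈ U, M i j = N i j := sa_inj hU hM hN (R.inj h)

theorem a_ne_t (U : Finset (Ix n)) (M : Ix n → Ix n → F) : R.a U M ≠ R.t := R.tK _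

theorem h_a {U : Finset (Ix n)} (hU : Isot U) {M : Ix n → Ix n → F} (hM : Symm M) (lam : Fin n → Fˣ) :
    R.h lam * R.a U M * (R.h lam)⁻¹ = R.a U fun i j => ev lam i * ev lam j * M i j := by
  have := congrArg R.ι (sh_sa hU hM lam)
  simp only [map_mul, map_inv] at this
  exact this

/-- a torus element commuting with `a U M` or `t * a U M` kills the entries with nontrivial character -/
theorem a_torus {U : Finset (Ix n)} (hU : Isot U) {M : Ix n → Ix n → F} (hM : Symm M) {c : G}
    (hc : c = R.a U M ∨ c = R.t * R.a U M) {lam : Fin n → Fˣ} (h : Commute c (R.h lam)) {i j : Ix n} (hi : i ∈ U)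
    (hj : j ∈ U) (hne : (ev lam i : F) * ev lam j ≠ 1) : M i j = 0 := by
  have hM' : Symm fun i j => (ev lam i : F) * ev lam j * M i j := fun i j => by
    change (ev lam i : F) * ev lam j * M i j = ev lam j * ev lam i * M j i
    rw [hM i j]; ring
  have h1 : Commute (sa U M) (sh lam) := R.comm_of hc h
  have h2 := sh_sa hU hM lam
  rw [← h1.eq, mul_inv_cancel_right] at h2
  have h3 := sa_inj hU hM hM' h2 i hi j hj
  have h4 : ((ev lam i : F) * ev lam j - 1) * M i j = 0 := by linear_combination -h3
  rcases mul_eq_zero.mp h4 with h5 | h5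
  · exact absurd (sub_eq_zero.mp h5) hne
  · exact h5

theorem a_one {i : Ix n} {M : Ix n → Ix n → F} (hM : Symm M) : R.a {i} M = R.y i (M i i) := by
  rw [a, sa_one hM]; rfl

theorem a_two {i j : Ix n} (hd : Dj i j) {M : Ix n → Ix n → F} (hM : Symm M) :
    R.a {i, j} M = R.y j (M j j) * (R.y i (M i i) * R.x i j (M i j)) := by
  rw [a, sa_two hd hM, map_mul, map_mul]; rfl

theorem a_three {i j k : Ix n} (hij : Dj i j) (hik : Dj i k) (hjk : Dj j k) {M : Ix n → Ix n → F} (hM : Symm M) :
    R.a {i, j, k} M = R.a {j, k} M * (R.y i (M i i) * R.x i j (M i j) * R.x i k (M i k)) := by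
  rw [a, sa_three hij hik hjk hM, map_mul, map_mul, map_mul]; rfl

theorem a_four {i j k m : Ix n} (hij : Dj i j) (hik : Dj i k) (him : Dj i m) (hjk : Dj j k) (hjm : Dj j m)
    (hkm : Dj k m) {M : Ix n → Ix n → F} (hM : Symm M) :
    R.a {i, j, k, m} M = R.a {j, k, m} M * (R.y i (M i i) * R.x i j (M i j) * R.x i k (M i k) * R.x i m (M i m)) := by
  rw [a, sa_four hij hik him hjk hjm hkm hM, map_mul, map_mul, map_mul, map_mul]; rfl

end Frame

end Cfsg.Agent.OddHalf.SpN
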