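import Mathlib
import Cfsg.Agent.OddHalf.SpN.Cent

/-!
# The Sylow 2-subgroup of `Sp_2n(F)`, `char F = 2`, in matrix entries

`pos` : the position of a signed index in the flag `e_1, …, e_n, e_{-n}, …, e_{-1}`; `Uu n F` : the upper
unitriangular elements of `Sp`.

* `Uu_isPGroup`, `sh_norm`, `sy_mem`, `sx_mem`, `iff_flag`;
* `flag_of_semi`, `flag_of_semi'` : a semisimilitude normalising `Uu` preserves the flag; `exists_of_norm` : an
  element of `Sp` normalising `Uu` is `u * sh lam`;
* `eq_sa_of_ent` : elements with few entries are `sa U M`.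
-/

set_option autoImplicit false
set_option linter.unusedSimpArgs false

namespace Cfsg.Agent.OddHalf.SpN.TU

open Cfsg Cfsg.Agent.ClassicalGeometry.SympBasic Cfsg.Agent.ClassicalGeometry.SympAutSemi
open Cfsg.Agent.OddHalf.SpN

variable {n : ℕ} {F : Type*} [Field F]

/-! ### Positions -/

/-- position of a signed index in the flag -/
def pos : Ix n → ℕ
  | Sum.inl i => i
  | Sum.inr i => 2 * n - 1 - i

@[simp] theorem pos_inl (i : Fin n) : pos (Sum.inl i : Ix n) = i := rfl

@[simp] theorem pos_inr (i : Fin n) : pos (Sum.inr i : Ix n) = 2 * n - 1 - i := rfl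

theorem pos_lt (k : Ix n) : pos k < 2 * n := by
  rcases k with i | i
  · rw [pos_inl]; omega
  · rw [pos_inr]; omega

theorem pos_neg (k : Ix n) : pos (neg k) = 2 * n - 1 - pos k := by
  rcases k with i | i
  · rfl
  · rw [neg_inr, pos_inl, pos_inr]; omega

theorem pos_inj {k l : Ix n} (h : pos k = pos l) : k = l := by
  rcases k with i | i <;> rcases l with j | j
  · rw [pos_inl, pos_inl] at h; rw [Fin.ext h]
  · rw [pos_inl, pos_inr] at h; omega
  · rw [pos_inl, pos_inr] at h; omega
  · rw [pos_inr, pos_inr] at h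
    have : i = j := Fin.ext (by omega)
    rw [this]

theorem pos_neg_le {k l : Ix n} : pos (neg k) ≤ pos (neg l) ↔ pos l ≤ pos k := by
  rw [pos_neg, pos_neg]
  have := pos_lt k
  have := pos_lt l
  omega

theorem pos_neg_lt {k l : Ix n} : pos (neg k) < pos (neg l) ↔ pos l < pos k := by
  rw [pos_neg, pos_neg]
  have := pos_lt k
  have := pos_lt l
  omega

theorem exists_pos {m : ℕ} (h : m < 2 * n) : ∃ k : Ix n, pos k = m := by
  by_cases hm : m < n
  · exact ⟨Sum.inl ⟨m, hm⟩, rfl⟩
  · exact ⟨Sum.inr ⟨2 * n - 1 - m, by omega⟩, by rw [pos_inr]; simp only; omega⟩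

/-! ### Entries -/

theorem ent_one (l k : Ix n) : ent (1 : Sy n F) l k = if l = k then 1 else 0 := by
  rw [ent, map_one, Equiv.Perm.one_apply, be_apply]

theorem ent_mul (A B : Sy n F) (l k : Ix n) : ent (A * B) l k = ∑ m, ent A l m * ent B m k := by
  rw [ent, map_mul, Equiv.Perm.mul_apply, rho_eq_sum]
  exact Finset.sum_congr rfl fun m _ => mul_comm _ _

theorem ent_sh (lam : Fin n → Fˣ) (l k : Ix n) : ent (sh lam) l k = if l = k then (ev lam k : F) else 0 := by
  rw [ent, rho_sh, be_apply]
  by_cases h : l = k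
  · subst h; simp
  · simp [h]

theorem ent_sh_mul (lam : Fin n → Fˣ) (A : Sy n F) (l k : Ix n) : ent (sh lam * A) l k = ev lam l * ent A l k := by
  rw [ent, map_mul, Equiv.Perm.mul_apply, rho_sh]; rfl

theorem ent_mul_sh (lam : Fin n → Fˣ) (A : Sy n F) (l k : Ix n) : ent (A * sh lam) l k = ent A l k * ev lam k := by
  rw [ent_mul, Finset.sum_eq_single k]
  · rw [ent_sh, if_pos rfl]
  · intro m _ hm; rw [ent_sh, if_neg hm, mul_zero]
  · intro h; exact absurd (Finset.mem_univ _) h

section chartwo

variable [CharP F 2]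

theorem form_comm (u v : Ix n → F) : sympForm n F u v = sympForm n F v u := by
  rw [sympForm_swap, CharTwo.neg_eq]

theorem ent_inv (A : Sy n F) (l k : Ix n) : ent A⁻¹ l k = ent A (neg k) (neg l) := by
  have h1 : sympForm n F (rho n F A⁻¹ (be n F k)) (be n F (neg l)) = ent A⁻¹ l k := by
    rw [form_be, SpN.neg_neg]; rfl
  have h2 : sympForm n F (rho n F A (be n F (neg l))) (be n F k) = ent A (neg k) (neg l) := by
    rw [form_be]; rfl
  rw [← h1, ← h2, ← sympForm_rho A (rho n F A⁻¹ (be n F k)), form_comm]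
  congr 1
  rw [← Equiv.Perm.mul_apply, ← map_mul, mul_inv_cancel, map_one, Equiv.Perm.one_apply]

theorem ent_sy (i : Ix n) (a : F) (l k : Ix n) :
    ent (sy i a) l k = (if l = k then 1 else 0) + if l = i ∧ k = neg i then a else 0 := by
  rw [ent, rho_sy, Pi.add_apply, Pi.smul_apply, smul_eq_mul, be_apply, be_apply, be_apply]
  have e1 : (neg i = k) = (k = neg i) := propext eq_comm
  simp only [e1, mul_ite, mul_one, mul_zero, ite_and]

theorem ent_sx {i j : Ix n} (hd : Dj i j) (a : F) (l k : Ix n) :
    ent (sx i j a) l k = (if l = k then 1 else 0) + (if l = i ∧ k = neg j then a else 0) +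
      if l = j ∧ k = neg i then a else 0 := by
  rw [ent, rho_sx hd, Pi.add_apply, Pi.add_apply, Pi.smul_apply, Pi.smul_apply, smul_eq_mul, smul_eq_mul,
    be_apply, be_apply, be_apply, be_apply, be_apply]
  have e1 : (neg i = k) = (k = neg i) := propext eq_comm
  have e2 : (neg j = k) = (k = neg j) := propext eq_comm
  simp only [e1, e2, mul_ite, mul_one, mul_zero, ite_and]

/-! ### The group `Uu` -/

variable (n F)

/-- the upper unitriangular elements -/
def Uu : Subgroup (Sy n F) where
  carrier := {A | ∀ l k, pos k ≤ pos l → ent A l k = if l = k then 1 else 0}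
  one_mem' := fun l k _ => ent_one l k
  mul_mem' := by
    intro A B hA hB l k hkl
    rw [ent_mul, Finset.sum_eq_single l]
    · rw [hA l l le_rfl, if_pos rfl, one_mul]
      exact hB l k hkl
    · intro m _ hm
      rcases le_or_gt (pos m) (pos l) with h | h
      · rw [hA l m h, if_neg hm.symm, zero_mul]
      · rw [hB m k (hkl.trans h.le), if_neg, mul_zero]
        rintro rfl
        omega
    · intro h; exact absurd (Finset.mem_univ _) h
  inv_mem' := by
    intro A hA l k hkl
    rw [ent_inv, hA _ _ (pos_neg_le.mpr hkl)]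
    simp only [neg_inj]
    congr 1
    exact propext eq_comm

variable {n F}

theorem mem_Uu {A : Sy n F} : A ∈ Uu n F ↔ ∀ l k, pos k ≤ pos l → ent A l k = if l = k then 1 else 0 := Iff.rfl

theorem Uu_zero {A : Sy n F} (h : A ∈ Uu n F) {l k : Ix n} (hlk : pos k < pos l) : ent A l k = 0 := by
  rw [h l k hlk.le, if_neg]
  rintro rfl
  omega

theorem Uu_diag {A : Sy n F} (h : A ∈ Uu n F) (k : Ix n) : ent A k k = 1 := by
  rw [h k k le_rfl, if_pos rfl]

theorem sy_mem {i : Ix n} (h : pos i < pos (neg i)) (a : F) : sy i a ∈ Uu n F := by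
  intro l k hkl
  have h1 : ¬ (l = i ∧ k = neg i) := by
    rintro ⟨rfl, rfl⟩
    omega
  rw [ent_sy, if_neg h1, add_zero]

theorem sx_mem {i j : Ix n} (h : pos i < pos (neg j)) (a : F) : sx i j a ∈ Uu n F := by
  by_cases hd : Dj i j
  · intro l k hkl
    have h1 : ¬ (l = i ∧ k = neg j) := by
      rintro ⟨rfl, rfl⟩
      omega
    have h2 : ¬ (l = j ∧ k = neg i) := by
      rintro ⟨rfl, rfl⟩
      rw [pos_neg] at h hkl
      have := pos_lt i
      have := pos_lt l
      omega
    rw [ent_sx hd, if_neg h1, if_neg h2, add_zero, add_zero]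
  · rw [sx_of_not hd]; exact one_mem _

theorem sy_inl_mem (i : Fin n) (a : F) : sy (Sum.inl i) a ∈ Uu n F :=
  sy_mem (by rw [neg_inl, pos_inl, pos_inr]; omega) a

theorem sx_inl_inl_mem (i j : Fin n) (a : F) : sx (Sum.inl i) (Sum.inl j) a ∈ Uu n F :=
  sx_mem (by rw [neg_inl, pos_inl, pos_inr]; omega) a

theorem sx_inl_inr_mem {i j : Fin n} (h : i < j) (a : F) : sx (Sum.inl i) (Sum.inr j) a ∈ Uu n F :=
  sx_mem (by rw [neg_inr, pos_inl, pos_inl]; exact h) a

/-- the torus normalises `Uu` -/
theorem sh_norm (lam : Fin n → Fˣ) {A : Sy n F} (h : A ∈ Uu n F) : sh lam * A * (sh lam)⁻¹ ∈ Uu n F := by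
  intro l k hkl
  rw [← map_inv, ent_mul_sh, ent_sh_mul, h l k hkl]
  by_cases hlk : l = k
  · subst hlk
    rw [if_pos rfl, mul_one]
    have e : ev lam⁻¹ l = (ev lam l)⁻¹ := by rcases l with i | i <;> simp [ev]
    rw [e, Units.mul_inv]
  · rw [if_neg hlk, mul_zero, zero_mul]

/-- the elements of level `≥ j` -/
theorem sq_level {A : Sy n F} {j : ℕ} (hj : 1 ≤ j)
    (h : ∀ l k, pos k < pos l + j → ent A l k = if l = k then 1 else 0) :
    ∀ l k, pos k < pos l + (j + 1) → ent (A * A) l k = if l = k then 1 else 0 := by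
  intro l k hkl
  by_cases hlk : l = k
  · subst hlk
    rw [if_pos rfl, ent_mul, Finset.sum_eq_single l]
    · rw [h l l (by omega), if_pos rfl, mul_one]
    · intro m _ hm
      rcases lt_or_ge (pos m) (pos l + j) with h1 | h1
      · rw [h l m h1, if_neg hm.symm, zero_mul]
      · rw [h m l (by omega), if_neg hm, mul_zero]
    · intro h; exact absurd (Finset.mem_univ _) h
  · rw [if_neg hlk, ent_mul, ← Finset.sum_subset (Finset.subset_univ ({l, k} : Finset (Ix n))), Finset.sum_pair hlk]
    · rw [h l l (by omega), h k k (by omega), if_pos rfl, if_pos rfl, one_mul, mul_one, CharTwo.add_self_eq_zero]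
    · intro m _ hm
      rw [Finset.mem_insert, Finset.mem_singleton, not_or] at hm
      rcases lt_or_ge (pos m) (pos l + j) with h1 | h1
      · rw [h l m h1, if_neg (fun e => hm.1 e.symm), zero_mul]
      · rw [h m k (by omega), if_neg hm.2, mul_zero]

theorem Uu_isPGroup : IsPGroup 2 (Uu n F) := by
  intro A
  have main : ∀ i : ℕ, ∀ l k, pos k < pos l + (i + 1) →
      ent ((A : Sy n F) ^ 2 ^ i) l k = if l = k then 1 else 0 := by
    intro i
    induction i with
    | zero =>
      intro l k hkl
      rw [pow_zero, pow_one]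
      exact A.2 l k (by omega)
    | succ i ih =>
      rw [pow_succ, pow_mul, pow_two]
      exact sq_level (by omega) ih
  refine ⟨2 * n, Subtype.ext ?_⟩
  rw [Subgroup.coe_pow]
  apply ext_ent
  intro l k
  rw [main (2 * n) l k (by have := pos_lt k; omega)]
  exact (ent_one l k).symm

/-! ### The flag -/

/-- `v` is in the subspace `V_k` of the flag -/
def InV (k : ℕ) (v : Ix n → F) : Prop := ∀ m, k ≤ pos m → v m = 0

theorem Uu_sub {A : Sy n F} (hA : A ∈ Uu n F) {k : ℕ} {v : Ix n → F} (hv : InV (k + 1) v) :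
    InV k (rho n F A v - v) := by
  intro m hm
  rw [Pi.sub_apply, rho_eq_sum, Finset.sum_eq_single m]
  · rw [Uu_diag hA, mul_one, sub_self]
  · intro l _ hl
    rcases lt_or_ge (pos l) (pos m) with h | h
    · rw [Uu_zero hA h, mul_zero]
    · rw [hv l ?_, zero_mul]
      have h1 : pos l ≠ pos m := fun e => hl (pos_inj e)
      omega
  · intro h; exact absurd (Finset.mem_univ _) h

theorem inV_succ {k : ℕ} {v : Ix n → F} (h : ∀ A ∈ Uu n F, InV k (rho n F A v - v)) : InV (k + 1) v := by
  intro m hm
  obtain ⟨m', hm'⟩ := exists_pos (n := n) (m := pos m - 1) (by have := pos_lt m; omega)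
  have hlt : pos m' < pos m := by omega
  by_cases hmm : m = neg m'
  · have h1 := h (sy m' 1) (sy_mem (by rwa [← hmm]) 1) m' (by omega)
    rw [rho_sy, Pi.sub_apply, Pi.add_apply, Pi.smul_apply, smul_eq_mul, be_apply, if_pos rfl, ← hmm, add_sub_cancel_left,
      one_mul, mul_one] at h1
    exact h1
  · have hd : Dj m' (neg m) := by
      rw [dj_neg_right]
      refine ⟨fun e => ?_, fun e => hmm (by rw [e, neg_neg])⟩
      rw [e] at hlt
      omega
    have h1 := h (sx m' (neg m) 1) (sx_mem (by rwa [neg_neg]) 1) m' (by omega)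
    rw [rho_sx hd, Pi.sub_apply, Pi.add_apply, Pi.add_apply, Pi.smul_apply, Pi.smul_apply, smul_eq_mul, smul_eq_mul,
      be_apply, be_apply, if_pos rfl, if_neg hd.1, neg_neg, one_mul, mul_one, mul_zero, add_zero,
      add_sub_cancel_left] at h1
    exact h1

/-- **(2a)** an additive bijection `s` with `s⁻¹ Uu s ≤ Uu` preserves the flag -/
theorem flag_of_conj {s : Equiv.Perm (Ix n → F)} (hs : ∀ u v, s (u + v) = s u + s v)
    (h : ∀ A ∈ Uu n F, ∃ B ∈ Uu n F, rho n F B = s⁻¹ * rho n F A * s) (k : ℕ) :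
    ∀ v, InV k v → InV k (s v) := by
  have hsub : ∀ u v, s (u - v) = s u - s v := by
    intro u v
    rw [eq_sub_iff_add_eq, ← hs, sub_add_cancel]
  have h0 : s 0 = 0 := by
    have := hs 0 0
    rw [add_zero] at this
    exact (add_eq_left (a := s 0)).mp this.symm
  induction k with
  | zero =>
    intro v hv
    have hv0 : v = 0 := funext fun m => hv m (Nat.zero_le _)
    rw [hv0, h0]
    intro m _
    rfl
  | succ k ih =>
    intro v hv
    apply inV_succ
    intro A hA
    obtain ⟨B, hB, he⟩ := h A hA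
    have h1 := ih _ (Uu_sub hB hv)
    rw [hsub, he, Equiv.Perm.mul_apply, Equiv.Perm.mul_apply, perm_apply_inv_self] at h1
    exact h1

/-- **(2a)** for a semisimilitude `s` with `s Uu s⁻¹ ≤ Uu`, `F` finite -/
theorem flag_of_semi [Finite F] {s : Equiv.Perm (Ix n → F)} {φ : F ≃+* F} {l : F} (hs : IsSemi s φ l)
    (h : ∀ A ∈ Uu n F, ∃ B ∈ Uu n F, rho n F B = s * rho n F A * s⁻¹) (k : ℕ) :
    ∀ v, InV k v → InV k (s v) := by
  classical
  apply flag_of_conj hs.1
  -- conjugation is a bijection of `Uu`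
  choose! f hf hf' using h
  let g : Uu n F → Uu n F := fun A => ⟨f A, hf A A.2⟩
  have hg : Function.Injective g := by
    intro A B hAB
    have h1 : f A = f B := congrArg Subtype.val hAB
    have h2 := hf' A A.2
    rw [h1, hf' B B.2] at h2
    exact Subtype.ext (rho_injective (mul_left_cancel (mul_right_cancel h2)).symm)
  have hgs := Finite.surjective_of_injective hg
  intro A hA
  obtain ⟨B, hB⟩ := hgs ⟨A, hA⟩
  refine ⟨B, B.2, ?_⟩
  have h1 : f B = A := congrArg Subtype.val hB
  rw [← h1, hf' B B.2]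
  group

omit [CharP F 2] in
theorem inV_be {k : ℕ} {m : Ix n} (h : pos m < k) : InV k (be n F m) := by
  intro l hl
  rw [be_apply, if_neg]
  rintro rfl
  omega

/-- an element of `Sp` preserving the flag is `u * sh lam` -/
theorem exists_of_flag {A : Sy n F} (h : ∀ l k, pos k < pos l → ent A l k = 0) :
    ∃ u ∈ Uu n F, ∃ lam : Fin n → Fˣ, A = u * sh lam := by
  have hd : ∀ k, ent A (neg k) (neg k) * ent A k k = 1 := by
    intro k
    have h1 := ent_one (F := F) k k
    rw [if_pos rfl, ← inv_mul_cancel A, ent_mul, Finset.sum_eq_single k, ent_inv] at h1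
    · exact h1
    · intro m _ hm
      rw [ent_inv]
      rcases lt_or_ge (pos k) (pos m) with h2 | h2
      · rw [h m k h2, mul_zero]
      · have h3 : pos k ≠ pos m := fun e => hm (pos_inj e.symm)
        rw [h _ _ (pos_neg_lt.mpr (by omega)), zero_mul]
    · intro h; exact absurd (Finset.mem_univ _) h
  have hne : ∀ i : Fin n, ent A (Sum.inl i) (Sum.inl i) ≠ 0 := by
    intro i h0
    have := hd (Sum.inl i)
    rw [h0, mul_zero] at this
    exact zero_ne_one this
  let lam : Fin n → Fˣ := fun i => Units.mk0 _ (hne i)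
  have hev : ∀ k, (ev lam k : F) = ent A k k := by
    intro k
    rcases k with i | i
    · rfl
    · change (((lam i)⁻¹ : Fˣ) : F) = _
      rw [Units.val_inv_eq_inv_val]
      change (ent A (Sum.inl i) (Sum.inl i))⁻¹ = _
      have := hd (Sum.inl i)
      rw [neg_inl] at this
      exact (eq_inv_of_mul_eq_one_left this).symm
  have hev' : ∀ k, ((ev lam⁻¹ k : Fˣ) : F) = (ent A k k)⁻¹ := by
    intro k
    have e : ev lam⁻¹ k = (ev lam k)⁻¹ := by rcases k with i | i <;> simp [ev]
    rw [e, Units.val_inv_eq_inv_val, hev]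
  refine ⟨A * (sh lam)⁻¹, ?_, lam, by rw [inv_mul_cancel_right]⟩
  intro l k hkl
  rw [← map_inv, ent_mul_sh, hev']
  by_cases hlk : l = k
  · subst hlk
    rw [if_pos rfl]
    apply mul_inv_cancel₀
    intro h0
    have := hd l
    rw [h0, mul_zero] at this
    exact zero_ne_one this
  · rw [if_neg hlk, h l k, zero_mul]
    have : pos l ≠ pos k := fun e => hlk (pos_inj e)
    omega

/-- **(2b)** an element of `Sp` normalising `Uu` is `u * sh lam` -/
theorem exists_of_norm [Finite F] {A : Sy n F} (h : ∀ B ∈ Uu n F, A * B * A⁻¹ ∈ Uu n F) :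
    ∃ u ∈ Uu n F, ∃ lam : Fin n → Fˣ, A = u * sh lam := by
  apply exists_of_flag
  intro l k hkl
  have h1 := flag_of_semi (isSemi_rho A) (fun B hB => ⟨_, h B hB, by
    rw [map_mul, map_mul, map_inv]⟩) (pos k + 1) _ (inV_be (F := F) (m := k) (by omega)) l (by omega)
  exact h1

/-- helper979's description: only the columns of `e_1, …, e_n` -/
theorem iff_flag {A : Sy n F} : A ∈ Uu n F ↔
    ∀ i : Fin n, ∀ k : Ix n, (∀ j : Fin n, j < i → k ≠ Sum.inl j) →
      ent A k (Sum.inl i) = if k = Sum.inl i then 1 else 0 := by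
  constructor
  · intro h i k hk
    apply h
    rw [pos_inl]
    rcases k with j | j
    · rw [pos_inl]
      by_contra hlt
      exact hk j (by rw [Fin.lt_def]; omega) rfl
    · rw [pos_inr]; omega
  · intro h
    -- the same for `A⁻¹`
    have hinv : ∀ m : ℕ, ∀ i : Fin n, (i : ℕ) = m → ∀ k : Ix n, (∀ j : Fin n, j < i → k ≠ Sum.inl j) →
        ent A⁻¹ k (Sum.inl i) = if k = Sum.inl i then 1 else 0 := by
      intro m
      induction m using Nat.strong_induction_on with
      | _ m ih =>
        intro i hi k hk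
        have h1 := ent_one (F := F) k (Sum.inl i)
        rw [← inv_mul_cancel A, ent_mul, Finset.sum_eq_single (Sum.inl i)] at h1
        · rw [h i _ (fun j hj e => by have := Sum.inl_injective e; omega), if_pos rfl, mul_one] at h1
          exact h1
        · intro l _ hl
          by_cases hl' : ∃ j : Fin n, j < i ∧ l = Sum.inl j
          · obtain ⟨j, hj, rfl⟩ := hl'
            rw [ih j (by rw [← hi]; exact hj) j rfl k (fun j' hj' => hk j' (hj'.trans hj)), if_neg (hk j hj),
              zero_mul]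
          · rw [h i l (fun j hj e => hl' ⟨j, hj, e⟩), if_neg hl, mul_zero]
        · intro h; exact absurd (Finset.mem_univ _) h
    intro l k hkl
    rcases k with i | i
    · apply h
      rintro j hj rfl
      rw [pos_inl, pos_inl] at hkl
      rw [Fin.lt_def] at hj
      omega
    · -- `ent A l (-e_i) = ent A⁻¹ e_i (-l)`
      have h1 : ent A l (Sum.inr i) = ent A⁻¹ (Sum.inl i) (neg l) := by
        rw [ent_inv, neg_neg, neg_inl]
      rw [h1]
      rcases l with j | j
      · rw [pos_inl, pos_inr] at hkl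
        omega
      · rw [neg_inr, hinv j j rfl]
        · congr 1
          simp only [Sum.inl.injEq, Sum.inr.injEq]
          exact propext eq_comm
        · rintro j' hj' e
          have := Sum.inl_injective e
          rw [pos_inr, pos_inr] at hkl
          rw [Fin.lt_def] at hj'
          omega

end chartwo

end Cfsg.Agent.OddHalf.SpN.TU
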