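import Mathlib
import Cfsg.Agent.OddHalf.SpN.Deg
import Cfsg.Agent.OddHalf.SpN.TU
import Cfsg.Agent.LieClassical.SympCount
import Cfsg.Agent.KFacts.Unit.FlagMap

/-!
# ODD D7, `K = Sp_2n(q)`, `q` even: the positive root groups generate a Sylow 2-subgroup (helper583)

`Upos n F` = the subgroup of `Sy n F` generated by the root groups `sx i j` (`0 < Fd i + Fd j`), `sy i` (`0 < Fd i`).
`odd_index_Upos`: its index is odd.
-/

set_option autoImplicit false

namespace Cfsg.Agent.OddHalf.SpN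

open Cfsg Cfsg.Agent.ClassicalGeometry.SympBasic Cfsg.Agent.ClassicalGeometry.SympAutSemi Cfsg.Agent.OddHalf.SpN.TU

section defs

variable (n : ℕ) (F : Type*) [Field F]

/-- The group generated by the positive root groups. -/
def Upos : Subgroup (Sy n F) := Subgroup.closure
  {A | (∃ i j : Ix n, Dj i j ∧ 0 < Fd i + Fd j ∧ ∃ a, A = sx i j a) ∨ (∃ i : Ix n, 0 < Fd i ∧ ∃ a, A = sy i a)}

end defs

variable {n : ℕ} {F : Type*} [Field F]

theorem sx_mem_Upos {i j : Ix n} (hij : Dj i j) (h : 0 < Fd i + Fd j) (a : F) : sx i j a ∈ Upos n F :=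
  Subgroup.subset_closure (Or.inl ⟨i, j, hij, h, a, rfl⟩)

theorem sy_mem_Upos {i : Ix n} (h : 0 < Fd i) (a : F) : sy i a ∈ Upos n F :=
  Subgroup.subset_closure (Or.inr ⟨i, h, a, rfl⟩)

theorem dgC_mono {d e : ℤ} (hd : 0 < d) (he : 0 < e) (h : d ≤ e) :
    Ud (F := F) (dgC_ok (n := n)) e he ≤ Ud dgC_ok d hd := by
  rintro A ⟨h1, h2⟩
  refine ⟨fun p l => ⟨(h1 p l).1, fun h3 h4 => h.trans ((h1 p l).2 h3 h4)⟩,
    fun p l => ⟨(h2 p l).1, fun h3 h4 => h.trans ((h2 p l).2 h3 h4)⟩⟩

section chartwo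

variable [CharP F 2]

theorem Upos_le : Upos n F ≤ Ud dgC_ok 1 one_pos := by
  rw [Upos, Subgroup.closure_le]
  rintro A (⟨i, j, hij, h, a, rfl⟩ | ⟨i, h, a, rfl⟩)
  · exact sx_mem_Ud dgC_ok dgC_symm one_pos hij h a
  · exact sy_mem_Ud dgC_ok one_pos (by unfold dgC; omega) a

/-- Squares double the degree. -/
theorem isU_sq {d : ℤ} (hd : 0 < d) {A : Sy n F} (hA : IsU dgC d A) : IsU dgC (2 * d) (A * A) := by
  intro p l
  have h0 := hA.mul dgC_ok hd hA p l
  refine ⟨h0.1, fun hpl hne => ?_⟩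
  by_contra hcon
  apply hne
  rw [map_mul, Equiv.Perm.mul_apply, rho_be_sum, Finset.sum_eq_add p l hpl]
  · rw [(hA p p).1 rfl, (hA l l).1 rfl, mul_one, one_mul, CharTwo.add_self_eq_zero]
  · rintro k - ⟨hkp, hkl⟩
    by_contra h1
    have h2 := (hA k l).2 hkl (left_ne_zero_of_mul h1)
    have h3 := (hA p k).2 (Ne.symm hkp) (right_ne_zero_of_mul h1)
    apply hcon
    unfold dgC at h2 h3 ⊢
    rw [Fd_neg] at h2 h3 ⊢
    linarith
  · intro h; exact absurd (Finset.mem_univ p) h
  · intro h; exact absurd (Finset.mem_univ l) h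

theorem sq_mem_Ud {d : ℤ} (hd : 0 < d) {A : Sy n F} (hA : A ∈ Ud dgC_ok d hd) :
    A * A ∈ Ud dgC_ok (2 * d) (by omega) :=
  ⟨isU_sq hd hA.1, by rw [mul_inv_rev]; exact isU_sq hd hA.2⟩

omit [CharP F 2] in
theorem Fd_le (i : Ix n) : Fd i ≤ 5 ^ n := by
  have h1 : (5 : ℤ) ^ ex i ≤ 5 ^ n := pow_le_pow_right₀ (by norm_num) (Nat.sub_le _ _)
  have h2 : (0 : ℤ) < 5 ^ ex i := by positivity
  rcases Fd_cases i with h | h <;> rw [h] <;> linarith

omit [CharP F 2] in
theorem eq_one_of_Ud {d : ℤ} (hd : 0 < d) (h : 2 * 5 ^ n < d) {A : Sy n F} (hA : A ∈ Ud dgC_ok d hd) : A = 1 := by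
  apply rho_injective
  ext v p
  rw [map_one, Equiv.Perm.one_apply, rho_be_sum, Finset.sum_eq_single p]
  · rw [(hA.1 p p).1 rfl, mul_one]
  · intro k _ hk
    by_contra h0
    have h1 := (hA.1 p k).2 (Ne.symm hk) (right_ne_zero_of_mul h0)
    have h2 := Fd_le p
    have h3 := Fd_le (neg k)
    unfold dgC at h1
    linarith
  · intro h; exact absurd (Finset.mem_univ p) h

theorem pow_mem_Ud {A : Sy n F} (hA : A ∈ Ud dgC_ok 1 one_pos) (k : ℕ) :
    A ^ 2 ^ k ∈ Ud dgC_ok (2 ^ k) (by positivity) := by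
  induction k with
  | zero => simpa using hA
  | succ k ih =>
    have h1 := sq_mem_Ud _ ih
    rw [← pow_two, ← pow_mul, ← pow_succ] at h1
    have h2 : (2 : ℤ) * 2 ^ k = 2 ^ (k + 1) := by ring
    simp only [h2] at h1
    exact h1

theorem isPGroup_Ud : IsPGroup 2 (Ud (F := F) (dgC_ok (n := n)) 1 one_pos) := by
  intro A
  refine ⟨2 * 5 ^ n, ?_⟩
  have h1 : (2 * 5 ^ n : ℤ) < 2 ^ (2 * 5 ^ n : ℕ) := by exact_mod_cast Nat.lt_two_pow_self
  exact Subtype.ext (eq_one_of_Ud _ h1 (pow_mem_Ud A.2 _))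

theorem isPGroup_Upos : IsPGroup 2 (Upos n F) := isPGroup_Ud.to_le Upos_le

/-! ### The positive roots are indexed by `Fin n × Fin n` -/

/-- the root of a pair -/
def rt (p : Fin n × Fin n) : Ix n × Ix n :=
  if p.1 = p.2 then (Sum.inl p.1, Sum.inl p.1) else if p.1 < p.2 then (Sum.inl p.1, Sum.inl p.2)
  else (Sum.inl p.2, Sum.inr p.1)

/-- the degree -/
def dP (p : Fin n × Fin n) : ℤ := Fd (rt p).1 + Fd (rt p).2

/-- the root element -/
noncomputable def el (F : Type*) [Field F] (p : Fin n × Fin n) (a : F) : Sy n F :=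
  if p.1 = p.2 then sy (Sum.inl p.1) a else sx (rt p).1 (rt p).2 a

omit [CharP F 2] in
theorem rt_dj {p : Fin n × Fin n} (h : p.1 ≠ p.2) : Dj (rt p).1 (rt p).2 := by
  unfold rt
  rw [if_neg h]
  split_ifs with h1
  · exact ⟨fun e => h (Sum.inl.inj e), fun e => by simp at e⟩
  · exact ⟨fun e => by simp at e, fun e => h (Sum.inl.inj (show (Sum.inl p.1 : Ix n) = Sum.inl p.2 from e.symm))⟩

omit [CharP F 2] in
theorem Fd_inl_pos (i : Fin n) : 0 < Fd (Sum.inl i : Ix n) := by
  change (0 : ℤ) < 5 ^ ex (Sum.inl i)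
  positivity

omit [CharP F 2] in
theorem Fd_inl_lt {i j : Fin n} (h : i < j) : Fd (Sum.inl j : Ix n) < Fd (Sum.inl i : Ix n) := by
  change (5 : ℤ) ^ ex (Sum.inl j) < 5 ^ ex (Sum.inl i)
  apply pow_lt_pow_right₀ (by norm_num)
  change n - j.val < n - i.val
  have := i.2
  have := j.2
  have h' : i.val < j.val := h
  omega

omit [CharP F 2] in
theorem dP_pos (p : Fin n × Fin n) : 0 < dP p := by
  unfold dP rt
  split_ifs with h1 h2
  · have := Fd_inl_pos p.1
    linarith
  · have := Fd_inl_pos p.1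
    have := Fd_inl_pos p.2
    linarith
  · have h3 : p.2 < p.1 := lt_of_le_of_ne (not_lt.mp h2) (Ne.symm h1)
    have h4 := Fd_inl_lt h3
    have h5 : Fd (Sum.inr p.1 : Ix n) = - Fd (Sum.inl p.1 : Ix n) := Fd_neg (Sum.inl p.1)
    simp only [h5]
    linarith

omit [CharP F 2] in
theorem dP_inj {p r : Fin n × Fin n} (h : dP p = dP r) : p = r := by
  obtain ⟨i, j⟩ := p
  obtain ⟨k, l⟩ := r
  unfold dP at h
  by_cases h1 : i = j
  · subst h1
    by_cases h2 : k = l
    · subst h2
      simp only [rt, if_true] at h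
      have h3 : Fd (Sum.inl i : Ix n) = Fd (Sum.inl k : Ix n) := by linarith
      rw [Sum.inl.inj (Fd_inj h3)]
    · exfalso
      have h3 := rt_dj (p := (k, l)) h2
      simp only [rt, if_true] at h
      exact two_Fd_ne h3 h
  · have h3 := rt_dj (p := (i, j)) h1
    by_cases h2 : k = l
    · subst h2
      exfalso
      have h4 : (rt (k, k) : Ix n × Ix n) = (Sum.inl k, Sum.inl k) := by simp [rt]
      rw [h4] at h
      exact two_Fd_ne h3 h.symm
    · have h4 := rt_dj (p := (k, l)) h2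
      have h5 := Fd_two h3 h4 h
      unfold rt at h5
      simp only [if_neg h1, if_neg h2] at h5
      by_cases h6 : i < j <;> by_cases h7 : k < l
      · simp only [if_pos h6, if_pos h7, Sum.inl.injEq] at h5
        rcases h5 with ⟨rfl, rfl⟩ | ⟨rfl, rfl⟩
        · rfl
        · exact absurd h6 (lt_asymm h7)
      · simp [if_pos h6, if_neg h7] at h5
      · simp [if_neg h6, if_pos h7] at h5
      · simp only [if_neg h6, if_neg h7, Sum.inl.injEq, Sum.inr.injEq, reduceCtorEq, false_and, or_false] at h5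
        rw [h5.1, h5.2]

theorem el_mem_Upos (p : Fin n × Fin n) (a : F) : el F p a ∈ Upos n F := by
  unfold el
  split_ifs with h
  · exact sy_mem_Upos (Fd_inl_pos _) a
  · exact sx_mem_Upos (rt_dj h) (dP_pos p) a

theorem el_mem_Ud {d : ℤ} (hd : 0 < d) {p : Fin n × Fin n} (h : d ≤ dP p) (a : F) :
    el F p a ∈ Ud dgC_ok d hd := by
  unfold el
  split_ifs with h1
  · refine sy_mem_Ud dgC_ok hd ?_ a
    unfold dP rt at h
    rw [if_pos h1] at h
    exact h
  · exact sx_mem_Ud dgC_ok dgC_symm hd (rt_dj h1) h a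

theorem el_add (p : Fin n × Fin n) (a b : F) : el F p (a + b) = el F p a * el F p b := by
  unfold el
  split_ifs with h1
  · exact sy_add _ a b
  · exact sx_add _ _ a b

theorem el_inv (p : Fin n × Fin n) (a : F) : (el F p a)⁻¹ = el F p a := by
  apply inv_eq_of_mul_eq_one_left
  unfold el
  split_ifs with h1
  · exact sy_sq _ a
  · exact sx_sq _ _ a

theorem el_eq_zero {d : ℤ} (hd : 0 < d) {p : Fin n × Fin n} (h : dP p < d) {a : F}
    (ha : el F p a ∈ Ud dgC_ok d hd) : a = 0 := by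
  unfold el at ha
  split_ifs at ha with h1
  · refine sy_eq_zero dgC_ok hd ?_ ha
    unfold dP rt at h
    rw [if_pos h1] at h
    exact h
  · exact sx_eq_zero dgC_ok hd (rt_dj h1) h ha

/-- the filtration of `Upos` -/
def Nd (n : ℕ) (F : Type*) [Field F] (d : ℤ) (hd : 0 < d) : Subgroup (Sy n F) := Upos n F ⊓ Ud dgC_ok d hd

variable [Finite F]

theorem card_Nd_ge (k : ℕ) : ∀ (d : ℤ) (hd : 0 < d), 2 * 5 ^ n + 1 - d ≤ k →
    Nat.card F ^ (Finset.univ.filter fun p : Fin n × Fin n => d ≤ dP p).card ≤ Nat.card (Nd n F d hd) := by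
  induction k with
  | zero =>
    intro d hd h
    have h1 : (Finset.univ.filter fun p : Fin n × Fin n => d ≤ dP p) = ∅ := by
      rw [Finset.filter_eq_empty_iff]
      intro p _ h2
      have h3 := Fd_le (rt p).1
      have h4 := Fd_le (rt p).2
      unfold dP at h2
      push_cast at h
      linarith
    rw [h1, Finset.card_empty, pow_zero]
    exact Nat.card_pos
  | succ k ih =>
    intro d hd h
    have hd' : 0 < d + 1 := by omega
    have h1 := ih (d + 1) hd' (by push_cast at h ⊢; linarith)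
    have hle : Nd n F (d + 1) hd' ≤ Nd n F d hd := inf_le_inf_left _ (dgC_mono hd hd' (by omega))
    by_cases hp : ∃ p : Fin n × Fin n, dP p = d
    · obtain ⟨p, hp⟩ := hp
      have h2 : (Finset.univ.filter fun r : Fin n × Fin n => d ≤ dP r) =
          insert p (Finset.univ.filter fun r : Fin n × Fin n => d + 1 ≤ dP r) := by
        ext r
        simp only [Finset.mem_filter, Finset.mem_univ, true_and, Finset.mem_insert]
        constructor
        · intro h3
          rcases h3.lt_or_eq with h4 | h4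
          · right; omega
          · left; exact dP_inj (by rw [hp, ← h4])
        · rintro (rfl | h3)
          · omega
          · omega
      have h3 : p ∉ Finset.univ.filter fun r : Fin n × Fin n => d + 1 ≤ dP r := by
        simp only [Finset.mem_filter, Finset.mem_univ, true_and]
        omega
      rw [h2, Finset.card_insert_of_notMem h3, pow_succ]
      refine (Nat.mul_le_mul_right _ h1).trans ?_
      rw [← Nat.card_prod]
      refine Nat.card_le_card_of_injective
        (fun x : Nd n F (d + 1) hd' × F => (⟨el F p x.2 * x.1, mul_mem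
          ⟨el_mem_Upos p x.2, el_mem_Ud hd hp.ge x.2⟩ (hle x.1.2)⟩ : Nd n F d hd)) ?_
      rintro ⟨x, a⟩ ⟨y, b⟩ hxy
      have h4 : el F p a * (x : Sy n F) = el F p b * (y : Sy n F) := congrArg Subtype.val hxy
      have h5 : el F p (b + a) = (y : Sy n F) * (x : Sy n F)⁻¹ := by
        calc el F p (b + a) = (el F p b)⁻¹ * el F p a := by rw [el_add, el_inv]
          _ = (el F p b)⁻¹ * (el F p a * (x : Sy n F)) * (x : Sy n F)⁻¹ := by group
          _ = (y : Sy n F) * (x : Sy n F)⁻¹ := by rw [h4, inv_mul_cancel_left]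
      have h6 : b + a = 0 := by
        refine el_eq_zero hd' (by omega) (F := F) (p := p) ?_
        rw [h5]
        exact (mul_mem y.2 (inv_mem x.2)).2
      have h7 : b = a := CharTwo.add_eq_zero.mp h6
      subst h7
      have h8 : (x : Sy n F) = y := mul_left_cancel h4
      rw [Subtype.ext h8]
    · have h2 : (Finset.univ.filter fun r : Fin n × Fin n => d ≤ dP r) =
          (Finset.univ.filter fun r : Fin n × Fin n => d + 1 ≤ dP r) := by
        ext r
        simp only [Finset.mem_filter, Finset.mem_univ, true_and]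
        constructor
        · intro h3
          rcases h3.lt_or_eq with h4 | h4
          · omega
          · exact absurd ⟨r, h4.symm⟩ hp
        · intro h3; omega
      rw [h2]
      exact h1.trans (Nat.card_le_card_of_injective _ (Subgroup.inclusion_injective hle))

theorem card_Upos_ge : Nat.card F ^ (n ^ 2) ≤ Nat.card (Upos n F) := by
  have h1 := card_Nd_ge (F := F) (n := n) (2 * 5 ^ n) 1 one_pos (by push_cast; linarith)
  have h2 : (Finset.univ.filter fun p : Fin n × Fin n => 1 ≤ dP p) = Finset.univ := by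
    rw [Finset.filter_eq_self]
    intro p _
    have := dP_pos p
    omega
  rw [h2, Finset.card_univ, Fintype.card_prod, Fintype.card_fin, ← pow_two] at h1
  exact h1.trans (Nat.card_le_card_of_injective _
    (Subgroup.inclusion_injective (inf_le_left : Nd n F 1 one_pos ≤ Upos n F)))

/-- **The positive root groups generate a Sylow 2-subgroup.** -/
theorem odd_index_Upos : Odd (Upos n F).index := by
  classical
  have := Fintype.ofFinite F
  have hcard := Cfsg.Agent.LieClassical.SympCount.card_symplecticGroup (F := F) n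
  have hF : 2 ∣ Fintype.card F := by
    obtain ⟨k, hk, h⟩ := FiniteField.card F 2
    rw [h]
    exact dvd_pow_self 2 k.ne_zero
  obtain ⟨a, ha⟩ := (IsPGroup.iff_card.mp (isPGroup_Upos (n := n) (F := F)))
  have h1 := (Upos n F).card_mul_index
  have hO : Odd (∏ i ∈ Finset.range n, (Fintype.card F ^ (2 * (i + 1)) - 1)) := by
    refine Finset.prod_induction _ Odd (fun _ _ => Odd.mul) odd_one ?_
    intro i _
    have h2 : 2 ∣ Fintype.card F ^ (2 * (i + 1)) := hF.trans (dvd_pow_self _ (by omega))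
    have h3 : 0 < Fintype.card F ^ (2 * (i + 1)) := pow_pos Fintype.card_pos _
    rw [Nat.odd_iff]
    omega
  rw [← Nat.not_even_iff_odd]
  intro h2
  obtain ⟨c, hc⟩ := h2
  have h3 : 2 ^ (a + 1) ∣ Fintype.card F ^ n ^ 2 := by
    apply Nat.Coprime.dvd_of_dvd_mul_right (k := 2 ^ (a + 1)) (n := ∏ i ∈ Finset.range n, (Fintype.card F ^ (2 * (i + 1)) - 1))
    · exact Nat.Coprime.pow_left _ (Nat.coprime_two_left.mpr hO)
    · rw [← hcard, ← h1, ha, hc]
      exact ⟨c, by ring⟩
  have h4 := Nat.le_of_dvd (pow_pos Fintype.card_pos _) h3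
  have h5 := card_Upos_ge (F := F) (n := n)
  rw [ha, Nat.card_eq_fintype_card] at h5
  have h6 : 2 ^ a < 2 ^ (a + 1) := Nat.pow_lt_pow_right (by norm_num) (by omega)
  omega

/-! ### `Upos = Uu` -/

omit [Finite F] in
theorem pos_lt_of_Fd {i j : Ix n} (hij : i ≠ neg j) (h : 0 < Fd i + Fd j) : pos i < pos (neg j) := by
  have h1 : Fd (neg j) < Fd i := by rw [Fd_neg]; linarith
  have key : ∀ {k l : Ix n}, Fd l < Fd k → k ≠ l → pos k < pos l := by
    intro k l h hkl
    rcases k with k | k <;> rcases l with l | l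
    · have h2 : k < l := by
        by_contra h3
        rcases (not_lt.mp h3).lt_or_eq with h4 | h4
        · have := Fd_inl_lt h4; linarith
        · rw [h4] at hkl; exact hkl rfl
      rw [pos_inl, pos_inl]; exact h2
    · have := k.2
      have := l.2
      rw [pos_inl, pos_inr]; omega
    · exfalso
      have h2 := Fd_inl_pos l
      have h3 := Fd_inl_pos k
      have h4 : Fd (Sum.inr k : Ix n) = - Fd (Sum.inl k : Ix n) := Fd_neg (Sum.inl k)
      rw [h4] at h
      linarith
    · have e1 : Fd (Sum.inr k : Ix n) = - Fd (Sum.inl k : Ix n) := Fd_neg (Sum.inl k)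
      have e2 : Fd (Sum.inr l : Ix n) = - Fd (Sum.inl l : Ix n) := Fd_neg (Sum.inl l)
      rw [e1, e2] at h
      have h2 : l < k := by
        by_contra h3
        rcases (not_lt.mp h3).lt_or_eq with h4 | h4
        · have := Fd_inl_lt h4; linarith
        · rw [h4] at hkl; exact hkl rfl
      have h2' : l.val < k.val := h2
      have := k.2
      rw [pos_inr, pos_inr]; omega
  exact key h1 hij

omit [Finite F] in
theorem Upos_le_Uu : Upos n F ≤ Uu n F := by
  rw [Upos, Subgroup.closure_le]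
  rintro A (⟨i, j, hij, h, a, rfl⟩ | ⟨i, h, a, rfl⟩)
  · exact sx_mem (pos_lt_of_Fd hij.2 h) a
  · exact sy_mem (pos_lt_of_Fd (ne_neg i) (by linarith)) a

/-- **The two descriptions of `U` agree.** -/
theorem Upos_eq : Upos n F = Uu n F := by
  have : Fact (Nat.Prime 2) := ⟨Nat.prime_two⟩
  refine le_antisymm Upos_le_Uu ?_
  rw [← Subgroup.relIndex_eq_one]
  have h1 : (Upos n F).relIndex (Uu n F) ∣ (Upos n F).index := Subgroup.relIndex_dvd_index_of_le Upos_le_Uu
  have h2 : Odd ((Upos n F).relIndex (Uu n F)) := odd_index_Upos.of_dvd_nat h1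
  have h3 : (Upos n F).relIndex (Uu n F) ∣ Nat.card (Uu n F) := Subgroup.relIndex_dvd_card _ _
  obtain ⟨a, ha⟩ := IsPGroup.iff_card.mp (Uu_isPGroup (n := n) (F := F))
  rw [ha] at h3
  exact Nat.eq_one_of_dvd_coprimes (Nat.Coprime.pow_left a (Nat.coprime_two_left.mpr h2)) h3 dvd_rfl

theorem odd_index_Uu : Odd (Uu n F).index := by rw [← Upos_eq]; exact odd_index_Upos

omit [CharP F 2] [Finite F] in
theorem relIndex_map_range {G : Type*} [Group G] (ι : Sy n F →* G) (hι : Function.Injective ι)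
    (U : Subgroup (Sy n F)) : (U.map ι).relIndex ι.range = U.index := by
  have e1 : (U.map ι).relIndex ι.range = (U.map ι.rangeRestrict).index := by
    rw [Subgroup.relIndex]
    congr 1
    ext x
    rw [Subgroup.mem_subgroupOf]
    constructor
    · rintro ⟨a, ha, hax⟩
      exact ⟨a, ha, Subtype.ext hax⟩
    · rintro ⟨a, ha, hax⟩
      exact ⟨a, ha, congrArg Subtype.val hax⟩
  rw [e1, Subgroup.index_map_of_bijective ⟨fun a b h => hι (congrArg Subtype.val h), ι.rangeRestrict_surjective⟩]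

end chartwo

namespace Frame

variable {n : ℕ} {F : Type*} [Field F] {G : Type*} [Group G] (R : Frame n F G)

/-- The Sylow 2-subgroup of `K`. -/
def Up : Subgroup G := (Upos n F).map R.ι

theorem Up_eq_closure : R.Up = Subgroup.closure
    {g | (∃ i j : Ix n, Dj i j ∧ 0 < Fd i + Fd j ∧ ∃ a, g = R.x i j a) ∨ (∃ i : Ix n, 0 < Fd i ∧ ∃ a, g = R.y i a)} := by
  rw [Up, Upos, MonoidHom.map_closure]
  congr 1
  ext g
  constructor
  · rintro ⟨A, (⟨i, j, hij, h, a, rfl⟩ | ⟨i, h, a, rfl⟩), rfl⟩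
    · exact Or.inl ⟨i, j, hij, h, a, rfl⟩
    · exact Or.inr ⟨i, h, a, rfl⟩
  · rintro (⟨i, j, hij, h, a, rfl⟩ | ⟨i, h, a, rfl⟩)
    · exact ⟨_, Or.inl ⟨i, j, hij, h, a, rfl⟩, rfl⟩
    · exact ⟨_, Or.inr ⟨i, h, a, rfl⟩, rfl⟩

theorem Up_le : R.Up ≤ R.K := by
  rintro _ ⟨A, -, rfl⟩
  exact ⟨A, rfl⟩

variable [CharP F 2]

theorem Up_isPGroup : IsPGroup 2 R.Up := isPGroup_Upos.map R.ι

variable [Finite F]

theorem Up_eq : R.Up = (Uu n F).map R.ι := by rw [Up, Upos_eq]

/-- `|K : U|` is odd. -/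
theorem odd_Up : Odd (R.Up.relIndex R.K) := by
  rw [Up, K, relIndex_map_range R.ι R.inj]
  exact odd_index_Upos

end Frame

/-- Clean case: `|C(t) : ⟨t⟩ U|` is odd. -/
theorem CFrame.odd_cent {n : ℕ} {F : Type*} [Field F] [CharP F 2] [Finite F] {G : Type*} [Group G] [Finite G]
    (R : CFrame n F G) :
    Odd ((R.Up ⊔ Subgroup.zpowers R.t).relIndex (Subgroup.centralizer ({R.t} : Set G))) := by
  refine Cfsg.Agent.KFacts.Unit.FlagMap.odd_sup (K := R.K) R.tt ?_ ?_ R.Up_le R.odd_Up ?_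
  · rintro ⟨k, hk⟩; exact R.tK k hk
  · rintro _ ⟨k, rfl⟩; exact (R.comm k).eq.symm
  · rw [sup_comm]; exact R.odd

end Cfsg.Agent.OddHalf.SpN
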