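import Cfsg.Agent.OddHalf.SpN.OutFr
import Cfsg.Agent.OddHalf.SpN.SylU
import Cfsg.Agent.OddHalf.D7Out.TransGen
import Cfsg.Agent.OddHalf.D7Out.FrontN

/-!
# D7, `K = Sp_2n(q)`, `q ≥ 4` even, `n ≥ 3`: the front (helper866)

* `equiv` : `PSp n F ≃* Sy n F` in characteristic 2;
* `Up_eq` : the flag group of `OutFlag.lean` is `Upos n F`;
* `DatT.hcyc`, `DatT.not_iso` : the 2-part of the field automorphisms is cyclic, so `t` is not isolated in `Z(T)`;
* `Fro R T` : the output: `R : Frame n F G` (so `C(K) ∩ C(t) = ⟨t⟩`), `T` a Sylow 2-subgroup of `C(t)`, `T ∩ K = R.Up`,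
  `t` not isolated in `Z(T)`;
* `exists_fro` (from `Front.FE.Start0`), `exists_fro_ctx` (from `Ctx`, `Std`, `Cyc`).
-/

set_option autoImplicit false
set_option linter.unusedSectionVars false

namespace Cfsg.Agent.OddHalf.SpN

open Cfsg Cfsg.Agent.ClassicalGeometry.SympBasic Cfsg.Agent.ClassicalGeometry.SympAutSemi
open Cfsg.Agent.OddHalf.SpN Cfsg.Agent.OddHalf.D7Out
open scoped commutatorElement

namespace Inst

section KSide

variable {n : ℕ} {F : Type*} [Field F]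

/-- `PSp = Sp` in characteristic 2 -/
theorem equiv [Finite F] [CharP F 2] (hn : 1 ≤ n) : Nonempty (PSp n F ≃* Sy n F) :=
  ⟨(QuotientGroup.quotientMulEquivOfEq (center_Sy hn)).trans QuotientGroup.quotientBot⟩

variable [Finite F] [CharP F 2]

theorem Upos_le_Up : Upos n F ≤ Out.Up n F := by
  rw [Upos, Subgroup.closure_le]
  rintro A (⟨i, j, hij, h, a, rfl⟩ | ⟨i, h, a, rfl⟩)
  · -- short roots
    rcases i with i | i <;> rcases j with j | j
    · exact Out.sx_mem_Up i j a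
    · refine Out.sx_mem_Up' ?_ a
      by_contra hle
      rcases lt_or_eq_of_le (not_lt.1 hle) with h1 | h1
      · have h2 := Fd_inl_lt h1
        have h3 : Fd (Sum.inr j : Ix n) = - Fd (Sum.inl j : Ix n) := Fd_neg (Sum.inl j)
        rw [h3] at h
        linarith
      · subst h1
        exact hij.2 rfl
    · rw [sx_symm]
      refine Out.sx_mem_Up' ?_ a
      by_contra hle
      rcases lt_or_eq_of_le (not_lt.1 hle) with h1 | h1
      · have h2 := Fd_inl_lt h1
        have h3 : Fd (Sum.inr i : Ix n) = - Fd (Sum.inl i : Ix n) := Fd_neg (Sum.inl i)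
        rw [h3] at h
        linarith
      · subst h1
        exact hij.2 rfl
    · exfalso
      have h3 : Fd (Sum.inr i : Ix n) = - Fd (Sum.inl i : Ix n) := Fd_neg (Sum.inl i)
      have h4 : Fd (Sum.inr j : Ix n) = - Fd (Sum.inl j : Ix n) := Fd_neg (Sum.inl j)
      have := Fd_inl_pos i
      have := Fd_inl_pos j
      rw [h3, h4] at h
      linarith
  · rcases i with i | i
    · exact Out.sy_mem_Up i a
    · exfalso
      have h3 : Fd (Sum.inr i : Ix n) = - Fd (Sum.inl i : Ix n) := Fd_neg (Sum.inl i)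
      have := Fd_inl_pos i
      rw [h3] at h
      linarith

/-- a 2-group containing `Upos` is `Upos` -/
theorem Upos_max {P : Subgroup (Sy n F)} (hP : IsPGroup 2 ↥P) (h : Upos n F ≤ P) : P ≤ Upos n F := by
  have : Fact (Nat.Prime 2) := ⟨Nat.prime_two⟩
  rw [← Subgroup.relIndex_eq_one]
  have h1 : (Upos n F).relIndex P ∣ (Upos n F).index := Subgroup.relIndex_dvd_index_of_le h
  have h2 : Odd ((Upos n F).relIndex P) := odd_index_Upos.of_dvd_nat h1
  have h3 : (Upos n F).relIndex P ∣ Nat.card P := Subgroup.relIndex_dvd_card _ _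
  obtain ⟨k, hk⟩ := IsPGroup.iff_card.1 hP
  rw [hk, Nat.dvd_prime_pow Nat.prime_two] at h3
  obtain ⟨j, -, hj⟩ := h3
  rw [hj] at h2 ⊢
  rcases j with _ | j
  · rfl
  · exfalso
    rw [pow_succ] at h2
    exact (Nat.not_odd_iff_even.2 (even_two.mul_left _)) h2

theorem Up_eq : Out.Up n F = Upos n F :=
  le_antisymm (Upos_max Out.isPGroup_Up Upos_le_Up) Upos_le_Up

end KSide

section GSide

variable {n : ℕ} {F : Type*} [Field F] [Finite F] [CharP F 2] {G : Type*} [Group G] {ι : Sy n F →* G} {t v : G}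
  {T : Subgroup G}

/-- the 2-part of the outer part is cyclic -/
theorem hcyc (D : Out.DatT ι t v T) (hn : 3 ≤ n) :
    ∃ s ∈ T, ∀ x ∈ T, ∃ k : ℤ, ∃ r ∈ Subgroup.zpowers v, ∃ u ∈ (Out.Up n F).map ι, x = s ^ k * r * u := by
  have hc : IsCyclic (F ≃+* F) := Cfsg.Agent.LieRecognition.FieldSemilinear.isCyclic_ringAut F
  set f : ↥T →* (F ≃+* F) := (D.lf hn).comp (Subgroup.inclusion D.hT) with hf
  have h1 : IsCyclic ↥f.range := inferInstance
  obtain ⟨⟨_, s, rfl⟩, hs⟩ := IsCyclic.exists_generator (α := ↥f.range)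
  refine ⟨s, s.2, fun x hx => ?_⟩
  obtain ⟨i, hi⟩ := Subgroup.mem_zpowers_iff.1 (hs ⟨f ⟨x, hx⟩, ⟨x, hx⟩, rfl⟩)
  have hi' : f s ^ i = f ⟨x, hx⟩ := congrArg Subtype.val hi
  have h2 : f (s ^ (-i) * ⟨x, hx⟩) = 1 := by
    rw [map_mul, map_zpow, zpow_neg, hi', inv_mul_cancel]
  have hmem : (s : G) ^ (-i) * x ∈ T := (s ^ (-i) * ⟨x, hx⟩ : ↥T).2
  obtain ⟨A, hA, r, hr, e, -⟩ := D.mem_UR hn (x := (s : G) ^ (-i) * x) hmem h2
  refine ⟨i, r, hr, ι A, ⟨A, hA, rfl⟩, ?_⟩
  have e2 : ι A * r = r * ι A := D.QK hr A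
  calc x = (s : G) ^ i * ((s : G) ^ (-i) * x) := by group
    _ = (s : G) ^ i * (r * ι A) := by rw [e, e2]
    _ = _ := by group

/-- `t` is not isolated in `Z(T)` -/
theorem not_iso [Finite G] (hG : commutator G = ⊤) (D : Out.DatT ι t v T) (hn : 3 ≤ n)
    (hq : ∃ c : F, c ≠ 0 ∧ c ≠ 1) : ¬ Defs.Iso t T := fun hiso =>
  TransGen.false_of_cyclic hG (D.fr hn hq) hiso (hcyc D hn)

/-- `C(K) ∩ C(t) = ⟨t⟩` -/
theorem v_eq [Finite G] (hG : commutator G = ⊤) (D : Out.DatT ι t v T) (hn : 3 ≤ n)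
    (hq : ∃ c : F, c ≠ 0 ∧ c ≠ 1) : v = t :=
  FrontN.v_eq (D.fr hn hq) (Front.exists_swap (D.fr hn hq) (not_iso hG D hn hq)).2

/-- the frame -/
def frame (D : Out.Dat ι t t) (hn : 1 ≤ n) : Frame n F G where
  t := t
  ι := ι
  tt := D.tt
  t1 := D.t1
  inj := D.inj
  comm := D.Kt
  nK := fun g hg k => (Subgroup.mem_normalizer_iff.1 (D.nK g hg.eq) (ι k)).1 ⟨k, rfl⟩ |>.imp fun _ h => h.symm
  cK := fun g hg h => by
    have h1 := D.cK g hg.eq fun A => (h A).symm
    obtain ⟨i, rfl⟩ := Subgroup.mem_zpowers_iff.1 h1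
    rcases Int.even_or_odd i with ⟨j, rfl⟩ | ⟨j, rfl⟩
    · left
      rw [← two_mul, zpow_mul, zpow_two, D.tt, one_zpow]
    · right
      rw [zpow_add, zpow_mul, zpow_two, D.tt, one_zpow, one_mul, zpow_one]
  tK := fun k h => by
    have h1 := D.KR hn (A := k) (by rw [h]; exact Subgroup.mem_zpowers t)
    rw [h1, map_one] at h
    exact D.t1 h.symm

end GSide

/-- **The output of the front.** -/
structure Fro {n : ℕ} {F : Type*} [Field F] [Finite F] [CharP F 2] {G : Type*} [Group G] (R : Frame n F G)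
    (T : Subgroup G) (hn : 3 ≤ n) : Prop where
  dat : Out.DatT R.ι R.t R.t T
  /-- `T ∩ K = U` -/
  U_eq : R.Up = T ⊓ R.K
  fr : Defs.Fr R.t R.t R.K R.Up ((Out.Zz hn).map R.ι) T
  /-- `t` is not isolated in `Z(T)` -/
  ni : ¬ Defs.Iso R.t T

theorem exists_fro {n : ℕ} {F : Type*} [Field F] [Finite F] [CharP F 2] {G : Type*} [Group G] [Finite G]
    {ι : Sy n F →* G} (hι : Function.Injective ι) {t v : G} (hG : commutator G = ⊤)
    (S : Cfsg.Agent.OddHalf.Front.FE.Start0 ι.range t v) (hn : 3 ≤ n) (hq : ∃ c : F, c ≠ 0 ∧ c ≠ 1) :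
    ∃ (R : Frame n F G) (T : Subgroup G), R.ι = ι ∧ R.t = t ∧ Fro R T hn := by
  obtain ⟨T, D⟩ := Out.exists_T hι S
  have hv := v_eq hG D hn hq
  subst hv
  have hfr := D.fr hn hq
  refine ⟨frame D.toDat (by omega), T, rfl, rfl, ?_⟩
  have hU : (frame D.toDat (by omega)).Up = (Out.Up n F).map ι := by rw [Up_eq]; rfl
  exact ⟨D, by rw [hU]; exact D.U_eq, by rw [hU]; exact hfr, not_iso hG D hn hq⟩

section Ctx

open Cfsg.Agent.OddHalf.Iface

universe u

/-- **The front**, from the interface. -/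
theorem exists_fro_ctx {G : Type u} [Group G] {K : Subgroup G} (C : Ctx G) (S : Std G K) (hc : Cyc K)
    {n : ℕ} {F : Type} [Field F] [Finite F] [CharP F 2] (e : ↥K ≃* PSp n F) (hn : 3 ≤ n)
    (hq : ∃ c : F, c ≠ 0 ∧ c ≠ 1) :
    ∃ (R : Frame n F G) (T : Subgroup G), R.K = K ∧ Fro R T hn := by
  have := C.fin
  obtain ⟨e₀⟩ := equiv (n := n) (F := F) (by omega)
  set e' : Sy n F ≃* ↥K := (e.trans e₀).symm with he'
  have hcen : Subgroup.center ↥K = ⊥ := by
    have h1 := center_Sy (n := n) (F := F) (by omega)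
    rw [eq_bot_iff]
    intro x hx
    have h2 : e'.symm x ∈ Subgroup.center (Sy n F) := by
      rw [Subgroup.mem_center_iff]
      intro y
      apply e'.injective
      rw [map_mul, map_mul, e'.apply_symm_apply]
      exact Subgroup.mem_center_iff.1 hx (e' y)
    rw [h1, Subgroup.mem_bot] at h2
    rw [Subgroup.mem_bot, ← e'.apply_symm_apply x, h2, map_one]
  obtain ⟨t, v, hS⟩ := Cfsg.Agent.OddHalf.Front.FE.exists_start C S hc hcen
  set ι : Sy n F →* G := K.subtype.comp e'.toMonoidHom with hι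
  have hιi : Function.Injective ι := K.subtype_injective.comp e'.injective
  have hr : ι.range = K := by
    ext x
    constructor
    · rintro ⟨A, rfl⟩
      exact (e' A).2
    · intro hx
      exact ⟨e'.symm ⟨x, hx⟩, congrArg Subtype.val (e'.apply_symm_apply ⟨x, hx⟩)⟩
  have hS0 : Cfsg.Agent.OddHalf.Front.FE.Start0 ι.range t v := by rw [hr]; exact hS.toStart0
  obtain ⟨R, T, hRι, -, h⟩ := exists_fro hιi (Cfsg.Agent.OddHalf.Front.FE.commutator_eq_top C) hS0 hn hq
  exact ⟨R, T, by rw [Frame.K, hRι, hr], h⟩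

end Ctx

end Inst

end Cfsg.Agent.OddHalf.SpN
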