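import Cfsg.Agent.OddHalf.SpN.Rel

/-!
# ODD D7, `K = Sp_2n(q)`: equivariant sections of the doubled root groups (helper780)

* `wf hT χ g0 u` : the conjugate of `g0` by a torus element with `χ = u` (`1` if `u = 0`); `wf_add`: if the doubled group
  is elementary abelian, the section is additive (semisimplicity of the torus, two lines with squares).
* `hi i μ` : the torus element with value `μ` at `i` and `1` elsewhere; `rtF`: the square root.
-/

set_option autoImplicit false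

namespace Cfsg.Agent.OddHalf.SpN

section wf

variable {F : Type*} [Field F] {G : Type*} [Group G] {T : Type*} [CommGroup T] (hT : T →* G) (χ : T →* Fˣ) (g0 : G)

open Classical in
/-- the equivariant section -/
noncomputable def wf (u : F) : G :=
  if h : ∃ τ, (χ τ : F) = u then hT h.choose * g0 * (hT h.choose)⁻¹ else 1

theorem wf_eq (h1 : ∀ τ, χ τ = 1 → Commute (hT τ) g0) {τ : T} {u : F} (h : (χ τ : F) = u) :
    wf hT χ g0 u = hT τ * g0 * (hT τ)⁻¹ := by
  have h' : ∃ τ, (χ τ : F) = u := ⟨τ, h⟩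
  rw [wf, dif_pos h']
  have hs := h'.choose_spec
  set σ := h'.choose
  have e : χ (τ⁻¹ * σ) = 1 := by
    rw [map_mul, map_inv, inv_mul_eq_one]
    exact Units.ext (h.trans hs.symm)
  have c := h1 _ e
  rw [map_mul, map_inv] at c
  calc hT σ * g0 * (hT σ)⁻¹ = hT τ * (((hT τ)⁻¹ * hT σ) * g0) * (hT σ)⁻¹ := by group
    _ = _ := by rw [c.eq]; group

theorem wf_zero : wf hT χ g0 0 = 1 := by
  rw [wf, dif_neg]
  rintro ⟨τ, h⟩
  exact (χ τ).ne_zero h

theorem h_wf (h1 : ∀ τ, χ τ = 1 → Commute (hT τ) g0) (τ : T) (u : F) :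
    hT τ * wf hT χ g0 u * (hT τ)⁻¹ = wf hT χ g0 (χ τ * u) := by
  by_cases h : ∃ σ, (χ σ : F) = u
  · obtain ⟨σ, h⟩ := h
    rw [wf_eq hT χ g0 h1 h, wf_eq hT χ g0 h1 (τ := τ * σ) (by rw [map_mul, Units.val_mul, h]), map_mul]
    group
  · rw [wf, dif_neg h, wf, dif_neg, mul_one, mul_inv_cancel]
    rintro ⟨σ, h2⟩
    refine h ⟨τ⁻¹ * σ, ?_⟩
    rw [map_mul, map_inv, Units.val_mul, h2, Units.inv_mul_cancel_left]

/-- the hypotheses on a doubled root group -/
structure Ln (hT : T →* G) (χ : T →* Fˣ) (t : G) (X : F → G) (W : Subgroup G) : Prop where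
  surj : ∀ μ, ∃ τ, χ τ = μ
  t_h : ∀ τ, Commute (hT τ) t
  X_add : ∀ u v, X (u + v) = X u * X v
  X_mem : ∀ u, X u ∈ W
  h_X : ∀ τ u, hT τ * X u * (hT τ)⁻¹ = X (χ τ * u)
  comm : ∀ g ∈ W, ∀ g' ∈ W, g * g' = g' * g
  torus : ∀ g ∈ W, ∀ τ, hT τ * g * (hT τ)⁻¹ ∈ W
  one : ∀ g ∈ W, ∀ τ, χ τ = 1 → Commute (hT τ) g
  ker : ∀ g ∈ W, t * g * t = g → ∃ a, g = X a
  tt : t * t = 1

variable {hT χ g0} {t : G} {X : F → G} {W : Subgroup G}

namespace Ln

variable (L : Ln hT χ t X W)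
include L

theorem wf_mem (hg : g0 ∈ W) (u : F) : wf hT χ g0 u ∈ W := by
  by_cases h : ∃ σ, (χ σ : F) = u
  · obtain ⟨σ, h⟩ := h
    rw [wf_eq hT χ g0 (L.one g0 hg) h]
    exact L.torus _ hg _
  · rw [wf, dif_neg h]; exact one_mem _

theorem X_zero : X 0 = 1 := by
  have := L.X_add 0 0
  rw [add_zero] at this
  exact left_eq_mul.mp this

theorem wf_t (hg : g0 ∈ W) (h0 : t * g0 * t = g0 * X 1) (u : F) : t * wf hT χ g0 u * t = wf hT χ g0 u * X u := by
  by_cases hu : u = 0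
  · rw [hu, wf_zero, L.X_zero, mul_one, mul_one, L.tt]
  · obtain ⟨σ, h⟩ := L.surj (Units.mk0 u hu)
    have h' : (χ σ : F) = u := by rw [h]; rfl
    rw [wf_eq hT χ g0 (L.one g0 hg) h']
    have c := L.t_h σ
    have e := L.h_X σ 1
    rw [h', mul_one] at e
    have ti : t⁻¹ = t := inv_eq_of_mul_eq_one_right L.tt
    calc t * (hT σ * g0 * (hT σ)⁻¹) * t = (t * hT σ) * g0 * ((hT σ)⁻¹ * t) := by group
      _ = (hT σ * t) * g0 * (t * (hT σ)⁻¹) := by rw [c.eq, c.inv_left.eq]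
      _ = hT σ * (t * g0 * t) * (hT σ)⁻¹ := by group
      _ = _ := by rw [h0, ← e]; group

theorem eq_mul (g g' : G) (hg : g ∈ W) (hg' : g' ∈ W) {u : F} (h : t * g * t = g * X u) (h' : t * g' * t = g' * X u) :
    ∃ a, g = g' * X a := by
  have ti : t⁻¹ = t := inv_eq_of_mul_eq_one_right L.tt
  obtain ⟨a, ha⟩ := L.ker (g'⁻¹ * g) (mul_mem (inv_mem hg') hg) (by
    calc t * (g'⁻¹ * g) * t = (t * g' * t)⁻¹ * (t * g * t) := by
          rw [mul_inv_rev, mul_inv_rev, ti]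
          calc t * (g'⁻¹ * g) * t = t * (g'⁻¹ * 1 * g) * t := by group
            _ = _ := by rw [← L.tt]; group
      _ = (X u)⁻¹ * ((g'⁻¹ * g) * X u) := by rw [h, h', mul_inv_rev]; group
      _ = _ := by rw [L.comm _ (mul_mem (inv_mem hg') hg) _ (L.X_mem u), inv_mul_cancel_left])
  exact ⟨a, by rw [← ha, mul_inv_cancel_left]⟩

/-- heights add -/
theorem t_mul {g g' : G} (hg : g ∈ W) (hg' : g' ∈ W) {u v : F} (h : t * g * t = g * X u) (h' : t * g' * t = g' * X v) :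
    t * (g * g') * t = (g * g') * X (u + v) := by
  calc t * (g * g') * t = (t * g * t) * (t * g' * t) := by
        calc t * (g * g') * t = t * g * 1 * g' * t := by group
          _ = _ := by rw [← L.tt]; group
    _ = g * (X u * g') * X v := by rw [h, h']; group
    _ = _ := by rw [L.comm _ (L.X_mem u) _ hg', L.X_add]; group

/-- the section is multiplicative up to `X` -/
theorem wf_mul (hg : g0 ∈ W) (h0 : t * g0 * t = g0 * X 1) (u v : F) :
    ∃ c, wf hT χ g0 u * wf hT χ g0 v = wf hT χ g0 (u + v) * X c :=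
  L.eq_mul _ _ (mul_mem (L.wf_mem hg u) (L.wf_mem hg v)) (L.wf_mem hg _)
    (L.t_mul (L.wf_mem hg u) (L.wf_mem hg v) (L.wf_t hg h0 u) (L.wf_t hg h0 v)) (L.wf_t hg h0 _)

/-- **elementary abelian ⇒ the equivariant section is additive** -/
theorem wf_add (hg : g0 ∈ W) (h0 : t * g0 * t = g0 * X 1) (two : (2 : F) = 0) (sq : ∀ a : F, ∃ b, b * b = a)
    (el : ∀ g ∈ W, g * g = 1) (u v : F) : wf hT χ g0 (u + v) = wf hT χ g0 u * wf hT χ g0 v := by
  obtain ⟨a, rfl⟩ := sq u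
  obtain ⟨b, rfl⟩ := sq v
  have aa : ∀ x : F, x + x = 0 := fun x => by rw [← two_mul, two, zero_mul]
  by_cases ha : a = 0
  · rw [ha]; simp [wf_zero]
  by_cases hb : b = 0
  · rw [hb]; simp [wf_zero]
  have mem := L.wf_mem hg
  by_cases hab : a + b = 0
  · have e : a = b := by
      have := add_assoc a b b
      rw [hab, aa, zero_add, add_zero] at this; exact this.symm
    rw [e, aa, wf_zero, el _ (mem _)]
  obtain ⟨σ, hσ⟩ := L.surj (Units.mk0 a ha)
  obtain ⟨τ, hτ⟩ := L.surj (Units.mk0 b hb)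
  obtain ⟨ρ, hρ⟩ := L.surj (Units.mk0 (a + b) hab)
  have one := L.one g0 hg
  have s1 : ∀ u, hT σ * wf hT χ g0 u * (hT σ)⁻¹ = wf hT χ g0 (a * u) := fun u => by
    rw [h_wf hT χ g0 one, hσ]; rfl
  have s2 : ∀ u, hT τ * wf hT χ g0 u * (hT τ)⁻¹ = wf hT χ g0 (b * u) := fun u => by
    rw [h_wf hT χ g0 one, hτ]; rfl
  have s3 : ∀ u, hT ρ * wf hT χ g0 u * (hT ρ)⁻¹ = wf hT χ g0 ((a + b) * u) := fun u => by
    rw [h_wf hT χ g0 one, hρ]; rfl
  have x1 : ∀ u, hT σ * X u * (hT σ)⁻¹ = X (a * u) := fun u => by rw [L.h_X, hσ]; rfl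
  have x2 : ∀ u, hT τ * X u * (hT τ)⁻¹ = X (b * u) := fun u => by rw [L.h_X, hτ]; rfl
  have x3 : ∀ u, hT ρ * X u * (hT ρ)⁻¹ = X ((a + b) * u) := fun u => by rw [L.h_X, hρ]; rfl
  have cj : ∀ h x y : G, h * (x * y) * h⁻¹ = (h * x * h⁻¹) * (h * y * h⁻¹) := fun h x y => by group
  obtain ⟨c, hc⟩ := L.wf_mul hg h0 a b
  -- the two ways
  have e1 := congrArg (fun g => hT σ * g * (hT σ)⁻¹) hc
  have e2 := congrArg (fun g => hT τ * g * (hT τ)⁻¹) hc
  have e3 := congrArg (fun g => hT ρ * g * (hT ρ)⁻¹) hc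
  simp only [cj, s1, s2, s3, x1, x2, x3] at e1 e2 e3
  -- e1 : w(aa) w(ab) = w(a(a+b)) X(ac), e2 : w(ba) w(bb) = w(b(a+b)) X(bc), e3 : w((a+b)a) w((a+b)b) = w((a+b)(a+b)) X((a+b)c)
  have XX : X ((a + b) * c) * X ((a + b) * c) = 1 := by rw [← L.X_add, aa, L.X_zero]
  have l1 : wf hT χ g0 (a * a) * wf hT χ g0 (b * b) =
      (wf hT χ g0 (a * a) * wf hT χ g0 (a * b)) * (wf hT χ g0 (b * a) * wf hT χ g0 (b * b)) := by
    rw [mul_comm b a]
    calc wf hT χ g0 (a * a) * wf hT χ g0 (b * b)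
        = wf hT χ g0 (a * a) * (wf hT χ g0 (a * b) * wf hT χ g0 (a * b)) * wf hT χ g0 (b * b) := by
          rw [el _ (mem _), mul_one]
      _ = _ := by group
  have l2 : wf hT χ g0 (a * a) * wf hT χ g0 (b * b) = wf hT χ g0 ((a + b) * (a + b)) := by
    rw [l1, e1, e2]
    have m1 := mem (a * (a + b))
    have m2 := mem (b * (a + b))
    calc wf hT χ g0 (a * (a + b)) * X (a * c) * (wf hT χ g0 (b * (a + b)) * X (b * c))
        = wf hT χ g0 (a * (a + b)) * (X (a * c) * wf hT χ g0 (b * (a + b))) * X (b * c) := by group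
      _ = (wf hT χ g0 ((a + b) * a) * wf hT χ g0 ((a + b) * b)) * (X (a * c) * X (b * c)) := by
          rw [L.comm _ (L.X_mem _) _ m2, mul_comm a (a + b), mul_comm b (a + b)]; group
      _ = wf hT χ g0 ((a + b) * (a + b)) * (X ((a + b) * c) * X ((a + b) * c)) := by
          rw [e3, ← L.X_add, ← add_mul]; group
      _ = _ := by rw [XX, mul_one]
  rw [l2]
  congr 1
  linear_combination -(a * b) * two

end Ln

end wf

section torus

variable {n : ℕ} {F : Type*} [Field F]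

/-- torus element with value `μ` at `i` -/
def hi (i : Ix n) (μ : Fˣ) : Fin n → Fˣ := Sum.elim (fun k => Pi.mulSingle k μ) (fun k => Pi.mulSingle k μ⁻¹) i

theorem ev_hi_self (i : Ix n) (μ : Fˣ) : ev (hi i μ) i = μ := by
  rcases i with i | i <;> simp [hi, ev]

theorem ev_hi_of {i l : Ix n} (h : Dj i l) (μ : Fˣ) : ev (hi i μ) l = 1 := by
  rcases i with i | i <;> rcases l with l | l
  · have : l ≠ i := fun e => h.1 (by rw [e])
    simp [hi, ev, Pi.mulSingle_eq_of_ne this]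
  · have : l ≠ i := fun e => h.2 (by rw [e]; rfl)
    simp [hi, ev, Pi.mulSingle_eq_of_ne this]
  · have : l ≠ i := fun e => h.2 (by rw [e]; rfl)
    simp [hi, ev, Pi.mulSingle_eq_of_ne this]
  · have : l ≠ i := fun e => h.1 (by rw [e])
    simp [hi, ev, Pi.mulSingle_eq_of_ne this]

theorem ev_mul_apply (l m : Fin n → Fˣ) (k : Ix n) : ev (l * m) k = ev l k * ev m k := by
  rcases k with k | k <;> simp [ev, mul_comm]

/-- the character of a short root -/
def chs (i j : Ix n) : (Fin n → Fˣ) →* Fˣ where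
  toFun lam := ev lam i * ev lam j
  map_one' := by
    have : ∀ k : Ix n, ev (1 : Fin n → Fˣ) k = 1 := fun k => by rcases k with k | k <;> simp [ev]
    rw [this, this, one_mul]
  map_mul' l m := by rw [ev_mul_apply, ev_mul_apply]; exact mul_mul_mul_comm _ _ _ _

theorem chs_apply (i j : Ix n) (lam : Fin n → Fˣ) : chs i j lam = ev lam i * ev lam j := rfl

theorem chs_symm (i j : Ix n) : (chs i j : (Fin n → Fˣ) →* Fˣ) = chs j i :=
  MonoidHom.ext fun lam => by rw [chs_apply, chs_apply, mul_comm]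

theorem chs_surj_short {i j : Ix n} (h : Dj i j) (μ : Fˣ) : ∃ lam : Fin n → Fˣ, chs i j lam = μ :=
  ⟨hi i μ, by rw [chs_apply, ev_hi_self, ev_hi_of h, mul_one]⟩

end torus

section root

variable (F : Type*) [Field F] [Finite F] [CharP F 2]

/-- the square root -/
noncomputable def rtF : F →+* F := ((frobeniusEquiv F 2).symm : F ≃+* F)

theorem rt_sq (a : F) : rtF F a * rtF F a = a := by
  rw [← pow_two]
  exact frobeniusEquiv_symm_pow_p F 2 a

theorem rt_mul_self (a : F) : rtF F (a * a) = a := by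
  rw [map_mul, rt_sq]

theorem rt_ne {a : F} (h : a ≠ 0) : rtF F a ≠ 0 := fun h0 => h (by rw [← rt_sq F a, h0, zero_mul])

variable {F} {n : ℕ}

theorem chs_surj_long (i : Ix n) (μ : Fˣ) : ∃ lam : Fin n → Fˣ, chs i i lam = μ :=
  ⟨hi i (Units.mk0 (rtF F μ) (rt_ne F μ.ne_zero)), by
    rw [chs_apply, ev_hi_self]; ext; simp [rt_sq]⟩

end root

section torus

variable {n : ℕ} {F : Type*} [Field F]

end torus

end Cfsg.Agent.OddHalf.SpN
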