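import Mathlib
import Cfsg.Agent.OddHalf.SpN.Cent

/-!
# Centralizers in `Sp_2n(F)`, `char F = 2`: the facts F3 (`Q_i`), F4, F5, I1, I3

All facts in `G` have the form: `c` commutes with `t` and with the given root elements ⇒ `c = k ∨ c = t * k`.
-/

set_option autoImplicit false
set_option linter.unusedSimpArgs false

namespace Cfsg.Agent.OddHalf.SpN

open Cfsg Cfsg.Agent.ClassicalGeometry.SympBasic Cfsg.Agent.ClassicalGeometry.SympAutSemi
open scoped Matrix commutatorElement

variable {n : ℕ} {F : Type*} [Field F]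

theorem ent_mul (A B : Sy n F) (l k : Ix n) : ent (A * B) l k = ∑ m, ent B m k * ent A l m := by
  rw [ent, map_mul, Equiv.Perm.mul_apply, rho_eq_sum]; rfl

/-- a torus element commuting with `A` -/
theorem ent_comm_sh {A : Sy n F} {lam : Fin n → Fˣ} (h : Commute A (sh lam)) (l k : Ix n) :
    (ev lam l : F) * ent A l k = ent A l k * ev lam k := by
  have h1 := congrArg (fun B => rho n F B (be n F k) l) h.eq
  simp only [map_mul, Equiv.Perm.mul_apply, rho_sh] at h1
  have e : rho n F (sh lam) (be n F k) = (ev lam k : F) • be n F k := by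
    ext m
    rw [rho_sh, Pi.smul_apply, smul_eq_mul, be_apply]
    split_ifs with e
    · rw [e]
    · ring
  rw [e, rho_smul, Pi.smul_apply, smul_eq_mul] at h1
  change (ev lam k : F) * ent A l k = ev lam l * ent A l k at h1
  rw [← h1, mul_comm]

section chartwo

variable [CharP F 2]

omit [CharP F 2] in
theorem be_comm (i k : Ix n) : be n F i k = be n F k i := by
  rw [be_apply, be_apply]
  by_cases h : k = i
  · rw [if_pos h, if_pos h.symm]
  · rw [if_neg h, if_neg fun e => h e.symm]

theorem ent_sy (i : Ix n) (a : F) (l k : Ix n) :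
    ent (sy i a) l k = (if l = k then 1 else 0) + if l = i ∧ k = neg i then a else 0 := by
  rw [ent, rho_sy, Pi.add_apply, Pi.smul_apply, smul_eq_mul, be_comm k (neg i), be_apply, be_apply, be_apply]
  by_cases h1 : l = i
  · by_cases h2 : k = neg i
    · have hc : l = i ∧ k = neg i := ⟨h1, h2⟩
      rw [if_pos h1, if_pos h2, if_pos hc]; ring
    · rw [if_neg h2, if_neg fun h : l = i ∧ k = neg i => h2 h.2]; ring
  · rw [if_neg h1, if_neg fun h : l = i ∧ k = neg i => h1 h.1]; ring

/-- right multiplication by a short root element, column `k` -/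
theorem ent_mul_sx {i j : Ix n} (hd : Dj i j) (A : Sy n F) (a : F) (l k : Ix n) :
    ent (A * sx i j a) l k = ent A l k + (if k = neg j then a * ent A l i else 0) +
      if k = neg i then a * ent A l j else 0 := by
  rw [ent, map_mul, Equiv.Perm.mul_apply, rho_sx hd, rho_add, rho_add, rho_smul, rho_smul]
  simp only [Pi.add_apply, Pi.smul_apply, smul_eq_mul]
  rw [be_comm k (neg j), be_comm k (neg i), be_apply, be_apply]
  change ent A l k + a * (if k = neg j then 1 else 0) * ent A l i + a * (if k = neg i then 1 else 0) * ent A l j = _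
  split_ifs <;> ring

theorem ent_mul_sy (i : Ix n) (A : Sy n F) (a : F) (l k : Ix n) :
    ent (A * sy i a) l k = ent A l k + (if k = neg i then a * ent A l i else 0) := by
  rw [ent, map_mul, Equiv.Perm.mul_apply, rho_sy, rho_add, rho_smul]
  simp only [Pi.add_apply, Pi.smul_apply, smul_eq_mul]
  rw [be_comm k (neg i), be_apply]
  change ent A l k + a * (if k = neg i then 1 else 0) * ent A l i = _
  split_ifs <;> ring

/-- an element fixing `e_i` commutes with `y_i` -/
theorem comm_sy_of_fix {A : Sy n F} {i : Ix n} (h : rho n F A (be n F i) = be n F i) (a : F) : Commute A (sy i a) := by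
  apply rho_injective
  ext1 v
  have e : rho n F A v (neg i) = v (neg i) := by rw [← form_be v i, ← sympForm_rho A, h, form_be]
  rw [map_mul, map_mul, Equiv.Perm.mul_apply, Equiv.Perm.mul_apply, rho_sy, rho_sy, rho_add, rho_smul, h, e]

/-- the matrix of an element commuting with `Q_i` -/
theorem cQ {A : Sy n F} {i : Ix n} (hy : Commute A (sy i 1)) (hx : ∀ k, Dj i k → Commute A (sx i k 1)) :
    (∀ l, ent A l l = 1) ∧ (∀ l k, l ≠ k → l ≠ i → k ≠ neg i → ent A l k = 0) ∧
      (∀ k, Dj i k → ent A i k = ent A (neg k) (neg i)) := by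
  have cy := cy_of_comm hy
  have cx : ∀ k, Dj i k → CX A i k := fun k hk => cx_of_comm hk (hx k hk)
  have hdiag : ∀ l, ent A l l = 1 := by
    intro l
    by_cases h1 : l = i
    · rw [h1]; exact cy.diag
    by_cases h2 : l = neg i
    · rw [h2]; exact cy.diag'
    have hd : Dj i l := ⟨fun e => h1 e.symm, fun e => h2 (by rw [e, neg_neg])⟩
    rw [(cx l hd).jj]; exact cy.diag'
  refine ⟨hdiag, fun l k hlk hl hk => ?_, fun k hk => (cx k hk).ij⟩
  by_cases h1 : k = i
  · rw [h1]; exact cy.col l hl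
  have hd : Dj i k := ⟨fun e => h1 e.symm, fun e => hk (by rw [e, neg_neg])⟩
  exact (cx k hd).colj l hl hlk

/-- an element commuting with `Q_i` and with `e_k ↦ e_k`, `|k| ≠ |i|` -/
theorem eq_sy_of_cQ {A : Sy n F} {i : Ix n} (hy : Commute A (sy i 1)) (hx : ∀ k, Dj i k → Commute A (sx i k 1))
    (h0 : ∀ k, Dj i k → ent A i k = 0) : A = sy i (ent A i (neg i)) := by
  obtain ⟨h1, h2, h3⟩ := cQ hy hx
  apply ext_ent
  intro l k
  rw [ent_sy]
  by_cases hlk : l = k
  · subst hlk
    rw [if_pos rfl, h1, if_neg fun h : l = i ∧ l = neg i => neg_ne i (h.2.symm.trans h.1), add_zero]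
  · rw [if_neg hlk, zero_add]
    by_cases hl : l = i
    · by_cases hk : k = neg i
      · rw [if_pos ⟨hl, hk⟩, hl, hk]
      · rw [if_neg fun h : l = i ∧ k = neg i => hk h.2, hl]
        exact h0 k ⟨fun e => hlk (hl.trans e), fun e => hk (by rw [e, neg_neg])⟩
    · rw [if_neg fun h : l = i ∧ k = neg i => hl h.1]
      by_cases hk : k = neg i
      · rw [hk]
        have hlk' : l ≠ neg i := fun e => hlk (e.trans hk.symm)
        have hd : Dj i (neg l) := ⟨fun e => hlk' (by rw [e, neg_neg]), fun e => hl (by rw [e, neg_neg])⟩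
        have := h3 (neg l) hd
        rw [neg_neg] at this
        rw [← this]; exact h0 _ hd
      · exact h2 l k hlk hl hk

/-- **F3** for `Q_i`, with a subtorus. -/
theorem FQ_Sy {A : Sy n F} {i j : Ix n} (hij : Dj i j) (hy : Commute A (sy i 1))
    (hx : ∀ k, Dj i k → Commute A (sx i k 1)) (h0 : ∀ k, Dj i k → Dj j k → ent A i k = 0) :
    ∃ a b d, A = sy i a * sx i j b * sx i (neg j) d := by
  have hcomm : ∀ k m, Dj i k → Dj i m → Commute (sx i k (1 : F)) (sx i m 1) := fun k m hk hm => by
    by_cases e : m = neg k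
    · rw [e, sx_symm i (neg k), sx_symm i k]; exact (sx_comm' (i := k) (j := i) 1 1)
    · exact sx_comm (ne_neg i) hk.2 (fun e => hm.2 (by rw [e, neg_neg])) e 1 1
  have hcomm' : ∀ k m, Dj i k → Dj i m → ∀ b d, Commute (sx i k (b : F)) (sx i m d) := fun k m hk hm b d => by
    by_cases e : m = neg k
    · rw [e, sx_symm i (neg k), sx_symm i k]; exact (sx_comm' (i := k) (j := i) b d)
    · exact sx_comm (ne_neg i) hk.2 (fun e => hm.2 (by rw [e, neg_neg])) e b d
  have hij' : Dj i (neg j) := dj_neg_right.mpr hij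
  have hyx : ∀ k, Dj i k → ∀ b d, Commute (sy i (b : F)) (sx i k d) := fun k hk b d =>
    sy_sx_comm (ne_neg i) (fun e => hk.2 (by rw [e, neg_neg])) b d
  -- kill the entries at ±j
  set B := A * sx i (neg j) (ent A i j) * sx i j (ent A i (neg j)) with hB
  have hBy : Commute B (sy i 1) := (hy.mul_left (hyx _ hij' _ _).symm).mul_left (hyx _ hij _ _).symm
  have hBx : ∀ k, Dj i k → Commute B (sx i k 1) := fun k hk =>
    ((hx k hk).mul_left (hcomm' _ _ hij' hk _ _)).mul_left (hcomm' _ _ hij hk _ _)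
  have hii : ent A i i = 1 := (cQ hy hx).1 i
  have h1 : neg j ≠ i := fun e => hij.2 e.symm
  have hB0 : ∀ k, Dj i k → ent B i k = 0 := by
    intro k hk
    have hki : k ≠ neg i := fun e => hk.2 (by rw [e, neg_neg])
    rw [hB, ent_mul_sx hij, ent_mul_sx hij', ent_mul_sx hij', neg_neg, if_neg hki, if_neg hki, hii]
    by_cases e1 : k = j
    · subst e1
      rw [if_pos rfl, if_neg (ne_neg k)]
      linear_combination ent A i k * (two0 : (2 : F) = 0)
    · rw [if_neg e1]
      by_cases e2 : k = neg j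
      · subst e2
        have e3 : ent (A * sx i (neg j) (ent A i j)) i i = 1 := by
          rw [ent_mul_sx hij', neg_neg, if_neg hij.1, if_neg (ne_neg i), hii]; ring
        rw [if_pos rfl]
        by_cases e4 : i = j
        · exact absurd e4 hij.1
        · simp only [if_neg e4, if_neg (ne_neg i)]
          linear_combination ent A i (neg j) * (two0 : (2 : F) = 0)
      · rw [if_neg e2, h0 k hk ⟨fun e => e1 e.symm, fun e => e2 (by rw [e, neg_neg])⟩]; ring
  have h3 := eq_sy_of_cQ hBy hBx hB0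
  refine ⟨ent B i (neg i), ent A i (neg j), ent A i j, ?_⟩
  rw [← h3, hB]
  have s1 := sx_sq i j (ent A i (neg j))
  have s2 := sx_sq i (neg j) (ent A i j)
  calc A = A * 1 := (mul_one A).symm
    _ = A * (sx i (neg j) (ent A i j) * sx i (neg j) (ent A i j)) := by rw [s2]
    _ = A * sx i (neg j) (ent A i j) * 1 * sx i (neg j) (ent A i j) := by group
    _ = _ := by rw [← s1]; group

/-- an element commuting with `Q_i` is in `Q_i` -/
theorem mem_Q_Sy {i : Ix n} {S : Subgroup (Sy n F)} (hS : ∀ a, sy i a ∈ S) (hS' : ∀ k a, Dj i k → sx i k a ∈ S)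
    (N : ℕ) : ∀ A : Sy n F, Commute A (sy i 1) → (∀ k, Dj i k → Commute A (sx i k 1)) →
      {k | Dj i k ∧ ent A i k ≠ 0}.ncard ≤ N → A ∈ S := by
  have hcomm' : ∀ k m, Dj i k → Dj i m → ∀ b d, Commute (sx i k (b : F)) (sx i m d) := fun k m hk hm b d => by
    by_cases e : m = neg k
    · rw [e, sx_symm i (neg k), sx_symm i k]; exact (sx_comm' (i := k) (j := i) b d)
    · exact sx_comm (ne_neg i) hk.2 (fun e => hm.2 (by rw [e, neg_neg])) e b d
  have hyx : ∀ k, Dj i k → ∀ b d, Commute (sy i (b : F)) (sx i k d) := fun k hk b d =>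
    sy_sx_comm (ne_neg i) (fun e => hk.2 (by rw [e, neg_neg])) b d
  induction N with
  | zero =>
    intro A hy hx hN
    have h0 : ∀ k, Dj i k → ent A i k = 0 := by
      intro k hk
      by_contra hc
      have h1 : k ∈ {k | Dj i k ∧ ent A i k ≠ 0} := ⟨hk, hc⟩
      rw [(Set.ncard_eq_zero (Set.toFinite _)).mp (Nat.le_zero.mp hN)] at h1
      exact h1
    rw [eq_sy_of_cQ hy hx h0]
    exact hS _
  | succ N ih =>
    intro A hy hx hN
    by_cases h0 : ∀ k, Dj i k → ent A i k = 0
    · rw [eq_sy_of_cQ hy hx h0]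
      exact hS _
    · push Not at h0
      obtain ⟨k, hk, hk0⟩ := h0
      have hk' : Dj i (neg k) := dj_neg_right.mpr hk
      have hmem : A * sx i (neg k) (ent A i k) ∈ S := by
        apply ih
        · exact hy.mul_left (hyx _ hk' _ _).symm
        · exact fun m hm => (hx m hm).mul_left (hcomm' _ _ hk' hm _ _)
        · have hii : ent A i i = 1 := (cQ hy hx).1 i
          have hent : ∀ m, Dj i m → ent (A * sx i (neg k) (ent A i k)) i m =
              if m = k then 0 else ent A i m := by
            intro m hm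
            have hmi : m ≠ neg i := fun e => hm.2 (by rw [e, neg_neg])
            rw [ent_mul_sx hk', neg_neg, if_neg hmi, hii]
            by_cases e : m = k
            · rw [if_pos e, if_pos e, e]
              linear_combination ent A i k * (two0 : (2 : F) = 0)
            · rw [if_neg e, if_neg e]; ring
          have hlt : {m | Dj i m ∧ ent (A * sx i (neg k) (ent A i k)) i m ≠ 0} ⊂
              {k | Dj i k ∧ ent A i k ≠ 0} := by
            rw [Set.ssubset_iff_of_subset]
            · refine ⟨k, ⟨hk, hk0⟩, ?_⟩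
              rintro ⟨-, h⟩
              exact h (by rw [hent k hk, if_pos rfl])
            · intro m hm
              refine ⟨hm.1, ?_⟩
              have := hm.2
              rw [hent m hm.1] at this
              by_cases e : m = k
              · rw [if_pos e] at this; exact absurd rfl this
              · rwa [if_neg e] at this
          exact Nat.lt_succ_iff.mp (lt_of_lt_of_le (Set.ncard_lt_ncard hlt (Set.toFinite _)) hN)
      have := mul_mem hmem (hS' (neg k) (ent A i k) hk')
      rwa [mul_assoc, sx_sq, mul_one] at this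

omit [CharP F 2] in
theorem col_eq {A : Sy n F} {k : Ix n} {v : Ix n → F} (h : ∀ l, ent A l k = v l) : rho n F A (be n F k) = v := by
  ext l; exact h l

/-- **F4**: the pair `(j,k)`, `(i,-j)` -/
theorem F4_Sy {A : Sy n F} {i j k : Ix n} (hij : Dj i j) (hik : Dj i k) (hjk : Dj j k)
    (hyi : Commute A (sy i 1)) (hyk : Commute A (sy k 1)) (hx1 : Commute A (sx i j 1))
    (hx2 : Commute A (sx k (neg j) 1)) (hl : ∀ l, Dj i l → Dj j l → Dj k l → Commute A (sy l 1)) :
    ∃ a b M, Symm M ∧ A = sx i (neg j) a * sx j k b * sa {i, k} M := by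
  have ci := cy_of_comm hyi
  have c1 := cx_of_comm hij hx1
  have hkj : Dj k (neg j) := dj_neg_right.mpr hjk.symm
  have hij' : Dj i (neg j) := dj_neg_right.mpr hij
  have c2 := cx_of_comm hkj hx2
  have h1 : neg j ≠ i := fun e => hij.2 e.symm
  have h2 : neg i ≠ j := fun e => hij.2 (by rw [← e, neg_neg])
  have h3 : neg k ≠ i := fun e => hik.2 e.symm
  have h4 : neg i ≠ k := fun e => hik.2 (by rw [← e, neg_neg])
  have h5 : neg k ≠ j := fun e => hjk.2 e.symm
  have h6 : neg j ≠ k := fun e => hjk.2 (by rw [← e, neg_neg])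
  have n1 : neg i ≠ neg j := fun e => hij.1 (neg_inj.mp e)
  have n2 : neg i ≠ neg k := fun e => hik.1 (neg_inj.mp e)
  have n3 : neg j ≠ neg k := fun e => hjk.1 (neg_inj.mp e)
  set α := ent A i j with hα
  set β := ent A k (neg j) with hβ
  have cj : rho n F A (be n F j) = be n F j + α • be n F i := col_eq fun l => by
    simp only [Pi.add_apply, Pi.smul_apply, smul_eq_mul, be_apply]
    by_cases l1 : l = i
    · rw [l1, if_neg hij.1, if_pos rfl, hα]; ring
    · by_cases l2 : l = j
      · rw [l2, if_pos rfl, if_neg hij.1.symm, c1.jj, ci.diag']; ring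
      · rw [c1.colj l l1 l2, if_neg l1, if_neg l2]; ring
  have cj' : rho n F A (be n F (neg j)) = be n F (neg j) + β • be n F k := col_eq fun l => by
    simp only [Pi.add_apply, Pi.smul_apply, smul_eq_mul, be_apply]
    by_cases l1 : l = k
    · rw [l1, if_neg h6.symm, if_pos rfl, hβ]; ring
    · by_cases l2 : l = neg j
      · rw [l2, if_pos rfl, if_neg h6, ← c1.ii, ci.diag]; ring
      · rw [c2.colj l l1 l2, if_neg l1, if_neg l2]; ring
  set B := sx j k β * (sx i (neg j) α * A) with hB
  have hBl : ∀ l, neg l ∉ ({i, k} : Finset (Ix n)) → Commute B (sy l 1) := by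
    intro l hl0
    rw [Finset.mem_insert, Finset.mem_singleton, not_or] at hl0
    have l1 : l ≠ neg i := fun e => hl0.1 (by rw [e, neg_neg])
    have l2 : l ≠ neg k := fun e => hl0.2 (by rw [e, neg_neg])
    by_cases l3 : l = j
    · subst l3
      apply comm_sy_of_fix
      rw [hB, map_mul, map_mul, Equiv.Perm.mul_apply, Equiv.Perm.mul_apply, cj, rho_sx hij', rho_sx hjk]
      ext m
      simp only [Pi.add_apply, Pi.smul_apply, smul_eq_mul, be_apply, neg_neg, if_true, h1, h2, h3, h4, h5, h6, n1, n2,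
        n3, neg_ne, ne_neg, hij.1, hij.1.symm, hik.1, hik.1.symm, hjk.1, hjk.1.symm, if_false, h1.symm, h2.symm,
        h3.symm, h4.symm, h5.symm, h6.symm, n1.symm, n2.symm, n3.symm]
      linear_combination (α * if m = i then 1 else 0) * (two0 : (2 : F) = 0)
    by_cases l4 : l = neg j
    · subst l4
      apply comm_sy_of_fix
      rw [hB, map_mul, map_mul, Equiv.Perm.mul_apply, Equiv.Perm.mul_apply, cj', rho_sx hij', rho_sx hjk]
      ext m
      simp only [Pi.add_apply, Pi.smul_apply, smul_eq_mul, be_apply, neg_neg, if_true, h1, h2, h3, h4, h5, h6, n1, n2,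
        n3, neg_ne, ne_neg, hij.1, hij.1.symm, hik.1, hik.1.symm, hjk.1, hjk.1.symm, if_false, h1.symm, h2.symm,
        h3.symm, h4.symm, h5.symm, h6.symm, n1.symm, n2.symm, n3.symm]
      linear_combination (β * if m = k then 1 else 0) * (two0 : (2 : F) = 0)
    have hA : Commute A (sy l 1) := by
      by_cases l5 : l = i
      · rw [l5]; exact hyi
      by_cases l6 : l = k
      · rw [l6]; exact hyk
      exact hl l ⟨fun e => l5 e.symm, fun e => l1 (by rw [e, neg_neg])⟩
        ⟨fun e => l3 e.symm, fun e => l4 (by rw [e, neg_neg])⟩ ⟨fun e => l6 e.symm, fun e => l2 (by rw [e, neg_neg])⟩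
    refine Commute.mul_left ?_ (Commute.mul_left ?_ hA)
    · exact (sy_sx_comm (fun e => l4 (by rw [e, neg_neg])) (fun e => l2 (by rw [e, neg_neg])) _ _).symm
    · exact (sy_sx_comm (fun e => l1 (by rw [e, neg_neg])) (fun e => l3 (neg_inj.mp e).symm) _ _).symm
  have hU : Isot ({i, k} : Finset (Ix n)) :=
    isot_insert (isot_singleton k) fun l hl => by rw [Finset.mem_singleton] at hl; rw [hl]; exact hik
  obtain ⟨M, hM, hBM⟩ := FU_Sy hU hBl
  refine ⟨α, β, M, hM, ?_⟩
  rw [← hBM, hB]
  calc A = sx i (neg j) α * sx i (neg j) α * A := by rw [sx_sq, one_mul]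
    _ = sx i (neg j) α * (sx j k β * sx j k β) * (sx i (neg j) α * A) := by
      rw [sx_sq j k β, mul_one, mul_assoc]
    _ = _ := by group

/-- **F4** with a torus element -/
theorem F4_torus {i j k : Ix n} (hij : Dj i j) (hik : Dj i k) (hjk : Dj j k) {a b : F} {M : Ix n → Ix n → F}
    (hM : Symm M) {lam : Fin n → Fˣ} (h : Commute (sx i (neg j) a * sx j k b * sa {i, k} M) (sh lam))
    (h1 : (ev lam i : F) * (ev lam (neg j)) = 1) (h2 : (ev lam j : F) * ev lam k = 1)
    (h3 : (ev lam i : F) ^ 2 ≠ 1) : sa {i, k} M = sx i k (M i k) := by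
  have hU : Isot ({i, k} : Finset (Ix n)) :=
    isot_insert (isot_singleton k) fun l hl => by rw [Finset.mem_singleton] at hl; rw [hl]; exact hik
  have hM' : Symm fun i j => (ev lam i : F) * ev lam j * M i j := fun i j => by
    change (ev lam i : F) * ev lam j * M i j = ev lam j * ev lam i * M j i
    rw [hM i j]; ring
  have e1 : sh lam * (sx i (neg j) a * sx j k b * sa {i, k} M) * (sh lam)⁻¹ =
      sx i (neg j) a * sx j k b * sa {i, k} fun i j => ev lam i * ev lam j * M i j := by
    rw [← sh_sa hU hM, show sh lam * (sx i (neg j) a * sx j k b * sa {i, k} M) * (sh lam)⁻¹ =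
      (sh lam * sx i (neg j) a * (sh lam)⁻¹) * (sh lam * sx j k b * (sh lam)⁻¹) *
        (sh lam * sa {i, k} M * (sh lam)⁻¹) by group, sh_sx, sh_sx, h1, h2, one_mul, one_mul]
  rw [← h.eq, mul_inv_cancel_right] at e1
  have e2 := sa_inj hU hM hM' (mul_left_cancel e1)
  have hki : (ev lam k : F) = (ev lam i : F)⁻¹ := by
    have hi := (ev lam i).ne_zero
    have hj := (ev lam j).ne_zero
    rw [ev_neg, Units.val_inv_eq_inv_val] at h1
    have e3 : (ev lam i : F) = ev lam j := by
      field_simp at h1; exact h1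
    rw [← e3] at h2
    exact eq_inv_of_mul_eq_one_right h2
  have hii : M i i = 0 := by
    have := e2 i (Finset.mem_insert_self _ _) i (Finset.mem_insert_self _ _)
    have h4 : ((ev lam i : F) ^ 2 - 1) * M i i = 0 := by linear_combination -this
    rcases mul_eq_zero.mp h4 with h5 | h5
    · exact absurd (sub_eq_zero.mp h5) h3
    · exact h5
  have hkk : M k k = 0 := by
    have hk : k ∈ ({i, k} : Finset (Ix n)) := Finset.mem_insert_of_mem (Finset.mem_singleton_self _)
    have := e2 k hk k hk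
    rw [hki] at this
    have hi := (ev lam i).ne_zero
    have h4 : ((ev lam i : F) ^ 2 - 1) * M k k = 0 := by
      field_simp at this
      linear_combination this
    rcases mul_eq_zero.mp h4 with h5 | h5
    · exact absurd (sub_eq_zero.mp h5) h3
    · exact h5
  rw [sa_two hik hM, hii, hkk, sy_zero, sy_zero, one_mul, one_mul]

/-- **F5** -/
theorem F5_Sy {A : Sy n F} {i j : Ix n} (hij : Dj i j) (hyi : Commute A (sy i 1)) (hx1 : Commute A (sx i j 1))
    (hl : ∀ l, Dj i l → Dj j l → Commute A (sy l 1)) :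
    ∃ a b d e, A = sx i (neg j) a * (sy j b * (sy i e * sx i j d)) := by
  have ci := cy_of_comm hyi
  have c1 := cx_of_comm hij hx1
  have hij' : Dj i (neg j) := dj_neg_right.mpr hij
  have h1 : neg j ≠ i := fun e => hij.2 e.symm
  have h2 : neg i ≠ j := fun e => hij.2 (by rw [← e, neg_neg])
  have n1 : neg i ≠ neg j := fun e => hij.1 (neg_inj.mp e)
  set α := ent A i j with hα
  have cj : rho n F A (be n F j) = be n F j + α • be n F i := col_eq fun l => by
    simp only [Pi.add_apply, Pi.smul_apply, smul_eq_mul, be_apply]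
    by_cases l1 : l = i
    · rw [l1, if_neg hij.1, if_pos rfl, hα]; ring
    · by_cases l2 : l = j
      · rw [l2, if_pos rfl, if_neg hij.1.symm, c1.jj, ci.diag']; ring
      · rw [c1.colj l l1 l2, if_neg l1, if_neg l2]; ring
  set B := sx i (neg j) α * A with hB
  have hBl : ∀ l, neg l ∉ ({i, j} : Finset (Ix n)) → Commute B (sy l 1) := by
    intro l hl0
    rw [Finset.mem_insert, Finset.mem_singleton, not_or] at hl0
    have l1 : l ≠ neg i := fun e => hl0.1 (by rw [e, neg_neg])
    have l2 : l ≠ neg j := fun e => hl0.2 (by rw [e, neg_neg])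
    by_cases l3 : l = j
    · subst l3
      apply comm_sy_of_fix
      rw [hB, map_mul, Equiv.Perm.mul_apply, cj, rho_sx hij']
      ext m
      simp only [Pi.add_apply, Pi.smul_apply, smul_eq_mul, be_apply, neg_neg, if_true, h1, h2, n1,
        neg_ne, ne_neg, hij.1, hij.1.symm, if_false, h1.symm, h2.symm, n1.symm]
      linear_combination (α * if m = i then 1 else 0) * (two0 : (2 : F) = 0)
    have hA : Commute A (sy l 1) := by
      by_cases l5 : l = i
      · rw [l5]; exact hyi
      exact hl l ⟨fun e => l5 e.symm, fun e => l1 (by rw [e, neg_neg])⟩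
        ⟨fun e => l3 e.symm, fun e => l2 (by rw [e, neg_neg])⟩
    refine Commute.mul_left ?_ hA
    exact (sy_sx_comm (fun e => l1 (by rw [e, neg_neg])) (fun e => l3 (neg_inj.mp e).symm) _ _).symm
  have hU : Isot ({i, j} : Finset (Ix n)) :=
    isot_insert (isot_singleton j) fun l hl => by rw [Finset.mem_singleton] at hl; rw [hl]; exact hij
  obtain ⟨M, hM, hBM⟩ := FU_Sy hU hBl
  rw [sa_two hij hM] at hBM
  refine ⟨α, M j j, M i j, M i i, ?_⟩
  rw [← hBM, hB, ← mul_assoc, sx_sq, one_mul]

/-- **I1**: an element commuting with `Y_l`, `|l| ≠ |i|`, is in `⟨Y_i, Y_{-i}⟩`. -/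
theorem I1_Sy {A : Sy n F} {i : Ix n} (h : ∀ l, Dj i l → Commute A (sy l 1)) {S : Subgroup (Sy n F)}
    (h1 : ∀ a, sy i a ∈ S) (h2 : ∀ a, sy (neg i) a ∈ S) : A ∈ S := by
  have hni : neg i ≠ i := neg_ne i
  -- the entries
  have key : ∀ B : Sy n F, (∀ l, Dj i l → Commute B (sy l 1)) →
      (∀ l, Dj i l → rho n F B (be n F l) = be n F l) ∧
      rho n F B (be n F i) = ent B i i • be n F i + ent B (neg i) i • be n F (neg i) ∧
      rho n F B (be n F (neg i)) = ent B i (neg i) • be n F i + ent B (neg i) (neg i) • be n F (neg i) ∧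
      ent B i i * ent B (neg i) (neg i) + ent B i (neg i) * ent B (neg i) i = 1 := by
    intro B hB
    have cy : ∀ l, Dj i l → CY B l := fun l hl => cy_of_comm (hB l hl)
    have hr : ∀ l, Dj i l → ∀ k, k ≠ l → ent B l k = 0 := fun l hl k hk => by
      have := (cy (neg l) (dj_neg_right.mpr hl)).row k (by rwa [neg_neg])
      rwa [neg_neg] at this
    have hd : ∀ l, l ≠ i → l ≠ neg i → Dj i l := fun l a b => ⟨a.symm, fun e => b (by rw [e, neg_neg])⟩
    refine ⟨fun l hl => col_eq fun k => ?_, col_eq fun k => ?_, col_eq fun k => ?_, ?_⟩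
    · rw [be_apply]
      by_cases e : k = l
      · rw [e, if_pos rfl]; exact (cy l hl).diag
      · rw [if_neg e]; exact (cy l hl).col k e
    · simp only [Pi.add_apply, Pi.smul_apply, smul_eq_mul, be_apply]
      by_cases e1 : k = i
      · rw [e1, if_pos rfl, if_neg hni.symm]; ring
      · by_cases e2 : k = neg i
        · rw [e2, if_pos rfl, if_neg hni]; ring
        · rw [hr k (hd k e1 e2) i fun e => e1 e.symm, if_neg e1, if_neg e2]; ring
    · simp only [Pi.add_apply, Pi.smul_apply, smul_eq_mul, be_apply]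
      by_cases e1 : k = i
      · rw [e1, if_pos rfl, if_neg hni.symm]; ring
      · by_cases e2 : k = neg i
        · rw [e2, if_pos rfl, if_neg hni]; ring
        · rw [hr k (hd k e1 e2) (neg i) fun e => e2 e.symm, if_neg e1, if_neg e2]; ring
    · have := ent_form B i (neg i)
      rw [neg_neg, if_pos rfl, ← Finset.sum_subset (Finset.subset_univ ({i, neg i} : Finset (Ix n))),
        Finset.sum_pair hni.symm, neg_neg] at this
      · linear_combination this
      · intro k _ hk
        rw [Finset.mem_insert, Finset.mem_singleton, not_or] at hk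
        rw [hr k (hd k hk.1 hk.2) (neg i) fun e => hk.2 e.symm, mul_zero]
  -- the case of a nonzero lower left entry
  have main : ∀ B : Sy n F, (∀ l, Dj i l → Commute B (sy l 1)) → ent B (neg i) i ≠ 0 → B ∈ S := by
    intro B hB h0
    obtain ⟨k1, k2, k3, k4⟩ := key B hB
    set p := ent B i i
    set q := ent B i (neg i)
    set r := ent B (neg i) i
    set s' := ent B (neg i) (neg i)
    obtain ⟨u, hu⟩ : ∃ u, u * r = p + 1 := ⟨(p + 1) / r, div_mul_cancel₀ _ h0⟩
    obtain ⟨w, hw⟩ : ∃ w, w * r = s' + 1 := ⟨(s' + 1) / r, div_mul_cancel₀ _ h0⟩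
    have hq : q = w + u * s' := by
      apply mul_right_cancel₀ h0
      linear_combination k4 - hw - s' * hu - (p * s' + s') * (two0 : (2 : F) = 0)
    have e : B = sy i u * sy (neg i) r * sy i w := by
      apply ext_ent
      intro l k
      change rho n F B (be n F k) l = rho n F _ (be n F k) l
      rw [map_mul, map_mul, Equiv.Perm.mul_apply, Equiv.Perm.mul_apply]
      by_cases e1 : k = i
      · subst e1
        rw [k2]
        simp only [rho_sy, Pi.add_apply, Pi.smul_apply, smul_eq_mul, be_apply, neg_neg, if_true, if_neg hni,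
          if_neg hni.symm, if_false]
        generalize (if l = k then (1 : F) else 0) = z
        generalize (if l = neg k then (1 : F) else 0) = z'
        linear_combination (-z) * hu - z * (two0 : (2 : F) = 0)
      · by_cases e2 : k = neg i
        · subst e2
          rw [k3]
          simp only [rho_sy, Pi.add_apply, Pi.smul_apply, smul_eq_mul, be_apply, neg_neg, if_true, if_neg hni,
            if_neg hni.symm, if_false]
          generalize (if l = i then (1 : F) else 0) = z
          generalize (if l = neg i then (1 : F) else 0) = z'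
          linear_combination z * hq - (z' + u * z) * hw - (z' + u * z) * (two0 : (2 : F) = 0)
        · have hd : Dj i k := ⟨fun e => e1 e.symm, fun e => e2 (by rw [e, neg_neg])⟩
          have f1 : neg i ≠ k := fun e => e2 e.symm
          rw [k1 k hd]
          simp only [rho_sy, Pi.add_apply, Pi.smul_apply, smul_eq_mul, be_apply, neg_neg, if_neg f1, if_neg hd.1,
            if_neg hni, if_neg hni.symm]
          ring
    rw [e]
    exact mul_mem (mul_mem (h1 _) (h2 _)) (h1 _)
  by_cases h0 : ent A (neg i) i = 0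
  · obtain ⟨k1, k2, k3, k4⟩ := key A h
    have hs : ent A (neg i) (neg i) ≠ 0 := by
      intro e; rw [h0, e] at k4; simp at k4
    have hc : ∀ l, Dj i l → Commute (sy (neg i) (1 : F)) (sy l 1) := fun l hl =>
      sy_comm (by rw [neg_neg]; exact hl.1.symm) _ _
    have := main (A * sy (neg i) 1) (fun l hl => (h l hl).mul_left (hc l hl)) (by
      rw [ent_mul_sy, neg_neg, if_pos rfl, h0, zero_add, one_mul]; exact hs)
    have h3 := mul_mem this (h2 1)
    rwa [mul_assoc, sy_sq, mul_one] at h3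
  · exact main A h h0

/-- **I3**: `C(X_{il}, X_{jl}, X_{ij}, X_{i,-j})` (`|l| ≠ |i|, |j|`) is `Y_i X_{ij}`. -/
theorem I3_Sy (hn : 3 ≤ n) {A : Sy n F} {i j : Ix n} (hij : Dj i j) (hx : Commute A (sx i j 1))
    (hx' : Commute A (sx i (neg j) 1)) (hi : ∀ l, Dj i l → Dj j l → Commute A (sx i l 1))
    (hj : ∀ l, Dj i l → Dj j l → Commute A (sx j l 1)) : ∃ a b, A = sy i a * sx i j b := by
  have h1 : neg j ≠ i := fun e => hij.2 e.symm
  have h2 : neg i ≠ j := fun e => hij.2 (by rw [← e, neg_neg])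
  have cx := cx_of_comm hij hx
  have ci : ∀ l, Dj i l → Dj j l → CX A i l := fun l a b => cx_of_comm a (hi l a b)
  have cj : ∀ l, Dj i l → Dj j l → CX A j l := fun l a b => cx_of_comm b (hj l a b)
  -- there is a third index
  obtain ⟨l0, hil0, hjl0⟩ : ∃ l, Dj i l ∧ Dj j l := by
    have : ∃ l : Ix n, l ∉ ({i, neg i, j, neg j} : Finset (Ix n)) := by
      by_contra hcon
      push Not at hcon
      have h3 : Fintype.card (Ix n) ≤ 4 := by
        have h4 : (Finset.univ : Finset (Ix n)) ⊆ {i, neg i, j, neg j} := fun l _ => hcon l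
        exact (Finset.card_le_card h4).trans (Finset.card_le_four)
      rw [Fintype.card_sum, Fintype.card_fin] at h3
      omega
    obtain ⟨l, hl⟩ := this
    simp only [Finset.mem_insert, Finset.mem_singleton, not_or] at hl
    exact ⟨l, ⟨fun e => hl.1 e.symm, fun e => hl.2.1 (by rw [e, neg_neg])⟩,
      ⟨fun e => hl.2.2.1 e.symm, fun e => hl.2.2.2 (by rw [e, neg_neg])⟩⟩
  have hil0' : Dj i (neg l0) := dj_neg_right.mpr hil0
  have hjl0' : Dj j (neg l0) := dj_neg_right.mpr hjl0
  -- columns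
  have coli : ∀ m, m ≠ i → ent A m i = 0 := fun m hm => by
    by_cases e : m = l0
    · rw [e]; exact (ci _ hil0' hjl0').coli l0 (fun e' => hil0.1 e'.symm) (ne_neg l0)
    · exact (ci _ hil0 hjl0).coli m hm e
  have colj : ∀ m, m ≠ j → ent A m j = 0 := fun m hm => by
    by_cases e : m = l0
    · rw [e]; exact (cj _ hil0' hjl0').coli l0 (fun e' => hjl0.1 e'.symm) (ne_neg l0)
    · exact (cj _ hil0 hjl0).coli m hm e
  have coll : ∀ l, Dj i l → Dj j l → ∀ m, m ≠ l → ent A m l = 0 := fun l a b m hm => by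
    by_cases e : m = i
    · exact (cj l a b).colj m (fun e' => hij.1 (e.symm.trans e')) hm
    · exact (ci l a b).colj m e hm
  -- the diagonal
  have d1 : ∀ l, Dj i l → Dj j l → ent A l l = ent A i i := fun l a b => by
    rw [(ci (neg l) (dj_neg_right.mpr a) (dj_neg_right.mpr b)).ii, neg_neg]
  have d2 : ent A (neg i) (neg i) = ent A i i := by
    rw [← (ci l0 hil0 hjl0).jj, d1 l0 hil0 hjl0]
  have d3 : ent A j j = ent A i i := by
    rw [(cj (neg l0) hil0' hjl0').ii, neg_neg, d1 l0 hil0 hjl0]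
  have d4 : ent A i i = 1 := by
    have h5 := ent_form A i (neg i)
    rw [neg_neg, if_pos rfl, Finset.sum_eq_single (neg i)] at h5
    · rw [neg_neg, d2] at h5
      have h6 : (ent A i i - 1) * (ent A i i - 1) = 0 := by
        linear_combination h5 - (ent A i i - 1) * (two0 : (2 : F) = 0)
      exact sub_eq_zero.mp (mul_self_eq_zero.mp h6)
    · intro k _ hk
      rw [coli (neg k) (fun e => hk (by rw [← e, neg_neg])), zero_mul]
    · intro h; exact absurd (Finset.mem_univ _) h
  have hfix : ∀ m, neg m ∉ ({i, j} : Finset (Ix n)) → Commute A (sy m 1) := by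
    intro m hm
    rw [Finset.mem_insert, Finset.mem_singleton, not_or] at hm
    apply comm_sy_of_fix
    apply col_eq
    intro l
    rw [be_apply]
    by_cases m1 : m = i
    · subst m1
      by_cases e : l = m
      · rw [e, if_pos rfl, d4]
      · rw [if_neg e, coli l e]
    by_cases m2 : m = j
    · subst m2
      by_cases e : l = m
      · rw [e, if_pos rfl, d3, d4]
      · rw [if_neg e, colj l e]
    have a1 : Dj i m := ⟨fun e => m1 e.symm, fun e => hm.1 e.symm⟩
    have a2 : Dj j m := ⟨fun e => m2 e.symm, fun e => hm.2 e.symm⟩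
    by_cases e : l = m
    · rw [e, if_pos rfl, d1 m a1 a2, d4]
    · rw [if_neg e, coll m a1 a2 l e]
  have hU : Isot ({i, j} : Finset (Ix n)) :=
    isot_insert (isot_singleton j) fun l hl => by rw [Finset.mem_singleton] at hl; rw [hl]; exact hij
  obtain ⟨M, hM, hAM⟩ := FU_Sy hU hfix
  rw [sa_two hij hM] at hAM
  -- the component of `Y_j` vanishes
  have g1 : Commute (sy j (M j j)) (sx i (neg j) 1) := by
    have g2 : Commute (sy i (M i i) * sx i j (M i j)) (sx i (neg j) 1) := by
      refine Commute.mul_left (sy_sx_comm (ne_neg i) (fun e => hij.1 (neg_inj.mp e).symm) _ _) ?_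
      rw [sx_symm i (neg j), sx_symm i j]; exact sx_comm' (i := j) (j := i) _ _
    have g3 : sy j (M j j) = A * (sy i (M i i) * sx i j (M i j))⁻¹ := by rw [hAM]; group
    rw [g3]
    exact hx'.mul_left g2.inv_left
  have g4 := sy_rel hij.symm (M j j) 1
  rw [mul_one, one_pow, mul_one, sx_symm (neg j) i, g1.eq] at g4
  have g7 : sx j i (M j j) * sy i (M j j) = 1 := by
    have := mul_right_cancel (b := sx i (neg j) 1 * sy j (M j j)) ((one_mul _).trans g4)
    exact this.symm
  have g5 : sx j i (M j j) = sy i (M j j) := by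
    have g8 := inv_eq_of_mul_eq_one_left g7
    rw [← g8]
    exact inv_eq_of_mul_eq_one_left (sy_sq i (M j j))
  have g6 : M j j = 0 := by
    have := congrArg (fun B => rho n F B (be n F (neg j)) i) g5
    simp only [rho_sx hij.symm, rho_sy, Pi.add_apply, Pi.smul_apply, smul_eq_mul, be_apply, if_true,
      if_neg hij.1, if_neg fun e : neg i = neg j => hij.1 (neg_inj.mp e)] at this
    linear_combination this
  rw [g6, sy_zero, one_mul] at hAM
  exact ⟨_, _, hAM⟩

end chartwo

/-! ### The same in `G` -/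

namespace Frame

variable {G : Type*} [Group G] (R : Frame n F G) [CharP F 2]

theorem a_torus' {U : Finset (Ix n)} (hU : Isot U) {M : Ix n → Ix n → F} (hM : Symm M) {c : G}
    (hc : c = R.a U M ∨ c = R.t * R.a U M) {lam : Fin n → Fˣ} (h : Commute c (R.h lam)) {i j : Ix n} (hi : i ∈ U)
    (hj : j ∈ U) : (ev lam i : F) * ev lam j * M i j = M i j := by
  by_cases e : (ev lam i : F) * ev lam j = 1
  · rw [e, one_mul]
  · rw [R.a_torus hU hM hc h hi hj e, mul_zero]

variable [Finite F]

omit [Finite F] [CharP F 2] in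
theorem pull {c : G} {A : Sy n F} (hc : c = R.ι A ∨ c = R.t * R.ι A) {g : G} (h : R.ι A = g) :
    c = g ∨ c = R.t * g := by
  rw [← h]; exact hc

/-- **(FU)** for `U = {i}` -/
theorem FU1 (hn : 3 ≤ n) {i : Ix n} {c : G} (ht : Commute c R.t)
    (h : ∀ k, k ≠ neg i → ∀ b, Commute c (R.y k b)) : ∃ a, c = R.y i a ∨ c = R.t * R.y i a := by
  obtain ⟨M, hM, hc⟩ := R.FU hn (isot_singleton i) ht fun k hk => h k fun e => hk (by
    rw [e, neg_neg]; exact Finset.mem_singleton_self _)
  rw [R.a_one hM] at hc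
  exact ⟨_, hc⟩

theorem isot_pair {i j : Ix n} (hij : Dj i j) : Isot ({i, j} : Finset (Ix n)) :=
  isot_insert (isot_singleton j) fun l hl => by rw [Finset.mem_singleton] at hl; rw [hl]; exact hij

theorem isot_triple {i j k : Ix n} (hij : Dj i j) (hik : Dj i k) (hjk : Dj j k) :
    Isot ({i, j, k} : Finset (Ix n)) :=
  isot_insert (isot_pair hjk) fun l hl => by
    rw [Finset.mem_insert, Finset.mem_singleton] at hl
    rcases hl with rfl | rfl
    · exact hij
    · exact hik

/-- **(FU)** for `U = {i, j}`; with the action of the torus elements commuting with `c` on the coefficients -/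
theorem FU2 (hn : 3 ≤ n) {i j : Ix n} (hij : Dj i j) {c : G} (ht : Commute c R.t)
    (h : ∀ k, k ≠ neg i → k ≠ neg j → ∀ b, Commute c (R.y k b)) :
    ∃ a b d, (c = R.y i a * R.y j b * R.x i j d ∨ c = R.t * (R.y i a * R.y j b * R.x i j d)) ∧
      ∀ lam, Commute c (R.h lam) →
        (ev lam i : F) ^ 2 * a = a ∧ (ev lam j : F) ^ 2 * b = b ∧ (ev lam i : F) * ev lam j * d = d := by
  obtain ⟨M, hM, hc⟩ := R.FU hn (isot_pair hij) ht fun k hk => h k
    (fun e => hk (by rw [e, neg_neg]; exact Finset.mem_insert_self _ _))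
    (fun e => hk (by rw [e, neg_neg]; exact Finset.mem_insert_of_mem (Finset.mem_singleton_self _)))
  have mi : i ∈ ({i, j} : Finset (Ix n)) := Finset.mem_insert_self _ _
  have mj : j ∈ ({i, j} : Finset (Ix n)) := Finset.mem_insert_of_mem (Finset.mem_singleton_self _)
  refine ⟨M i i, M j j, M i j, ?_, fun lam hl => ⟨?_, ?_, R.a_torus' (isot_pair hij) hM hc hl mi mj⟩⟩
  · have e : R.y i (M i i) * R.y j (M j j) * R.x i j (M i j) = R.a {i, j} M := by
      rw [R.a_two hij hM, ← mul_assoc]
      rw [(R.y_comm (i := i) (j := j) (fun e => hij.2 (by rw [e, neg_neg])) (M i i) (M j j)).eq]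
    rw [e]; exact hc
  · rw [sq]; exact R.a_torus' (isot_pair hij) hM hc hl mi mi
  · rw [sq]; exact R.a_torus' (isot_pair hij) hM hc hl mj mj

/-- **(FU)** for `U = {i, j, k}` -/
theorem FU3 (hn : 3 ≤ n) {i j k : Ix n} (hij : Dj i j) (hik : Dj i k) (hjk : Dj j k) {c : G} (ht : Commute c R.t)
    (h : ∀ l, l ≠ neg i → l ≠ neg j → l ≠ neg k → ∀ b, Commute c (R.y l b)) :
    ∃ a b d e f g, (c = R.y i a * R.y j b * R.y k d * R.x i j e * R.x i k f * R.x j k g ∨
        c = R.t * (R.y i a * R.y j b * R.y k d * R.x i j e * R.x i k f * R.x j k g)) ∧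
      ∀ lam, Commute c (R.h lam) →
        (ev lam i : F) ^ 2 * a = a ∧ (ev lam j : F) ^ 2 * b = b ∧ (ev lam k : F) ^ 2 * d = d ∧
        (ev lam i : F) * ev lam j * e = e ∧ (ev lam i : F) * ev lam k * f = f ∧
        (ev lam j : F) * ev lam k * g = g := by
  have mi : i ∈ ({i, j, k} : Finset (Ix n)) := Finset.mem_insert_self _ _
  have mj : j ∈ ({i, j, k} : Finset (Ix n)) := Finset.mem_insert_of_mem (Finset.mem_insert_self _ _)
  have mk : k ∈ ({i, j, k} : Finset (Ix n)) :=
    Finset.mem_insert_of_mem (Finset.mem_insert_of_mem (Finset.mem_singleton_self _))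
  have hU := isot_triple hij hik hjk
  obtain ⟨M, hM, hc⟩ := R.FU hn hU ht fun l hl => h l
    (fun e => hl (by rw [e, neg_neg]; exact mi)) (fun e => hl (by rw [e, neg_neg]; exact mj))
    (fun e => hl (by rw [e, neg_neg]; exact mk))
  refine ⟨M i i, M j j, M k k, M i j, M i k, M j k, ?_, fun lam hl => ⟨?_, ?_, ?_,
    R.a_torus' hU hM hc hl mi mj, R.a_torus' hU hM hc hl mi mk, R.a_torus' hU hM hc hl mj mk⟩⟩
  · have e : R.y i (M i i) * R.y j (M j j) * R.y k (M k k) * R.x i j (M i j) * R.x i k (M i k) * R.x j k (M j k) =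
        R.a {i, j, k} M := by
      have hji : j ≠ neg i := fun e => hij.2 (by rw [e, neg_neg])
      have hki : k ≠ neg i := fun e => hik.2 (by rw [e, neg_neg])
      have hkj : k ≠ neg j := fun e => hjk.2 (by rw [e, neg_neg])
      rw [R.a_three hij hik hjk hM, R.a_two hjk hM]
      have c1 : Commute (R.y i (M i i)) (R.y j (M j j)) := R.y_comm hji _ _
      have c2 : Commute (R.y i (M i i)) (R.y k (M k k)) := R.y_comm hki _ _
      have c3 : Commute (R.y j (M j j)) (R.y k (M k k)) := R.y_comm hkj _ _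
      have c4 : Commute (R.x j k (M j k)) (R.y i (M i i)) := (R.y_x_comm hji hki _ _).symm
      have c5 : Commute (R.x j k (M j k)) (R.x i j (M i j)) :=
        R.x_comm (fun e => hij.2 e) (fun e => hik.2 e) (ne_neg j) (fun e => hjk.2 e) _ _
      have c6 : Commute (R.x j k (M j k)) (R.x i k (M i k)) :=
        R.x_comm (fun e => hij.2 e) (fun e => hik.2 e) hkj (ne_neg k) _ _
      have c7 : Commute (R.x j k (M j k)) (R.y i (M i i) * R.x i j (M i j) * R.x i k (M i k)) :=
        (c4.mul_right c5).mul_right c6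
      calc R.y i (M i i) * R.y j (M j j) * R.y k (M k k) * R.x i j (M i j) * R.x i k (M i k) * R.x j k (M j k)
          = (R.y i (M i i) * (R.y j (M j j) * R.y k (M k k))) * R.x i j (M i j) * R.x i k (M i k) *
              R.x j k (M j k) := by group
        _ = (R.y k (M k k) * R.y j (M j j)) * ((R.y i (M i i) * R.x i j (M i j) * R.x i k (M i k)) *
              R.x j k (M j k)) := by rw [(c1.mul_right c2).eq, c3.eq]; group
        _ = _ := by rw [← c7.eq]; group
    rw [e]; exact hc
  · rw [sq]; exact R.a_torus' hU hM hc hl mi mi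
  · rw [sq]; exact R.a_torus' hU hM hc hl mj mj
  · rw [sq]; exact R.a_torus' hU hM hc hl mk mk

/-- **F3** for `Q_i = Y_i ∏ X_ik`, with a torus element with `λ_i = λ_j = 1`, `λ_k ≠ 1` for the other `k` -/
theorem FQ (hn : 3 ≤ n) {i j : Ix n} (hij : Dj i j) {c : G} (ht : Commute c R.t) (hy : ∀ b, Commute c (R.y i b))
    (hx : ∀ k, Dj i k → ∀ b, Commute c (R.x i k b)) {lam : Fin n → Fˣ} (hc : Commute c (R.h lam))
    (h1 : (ev lam i : F) = 1) (h2 : ∀ k, Dj i k → Dj j k → (ev lam k : F) ≠ 1) :
    ∃ a b d, c = R.y i a * R.x i j b * R.x i (neg j) d ∨ c = R.t * (R.y i a * R.x i j b * R.x i (neg j) d) := by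
  obtain ⟨A, hA⟩ := R.ct_comm_y hn ht hy
  have hAh : Commute A (sh lam) := R.comm_of hA hc
  obtain ⟨a, b, d, e⟩ := FQ_Sy hij (R.comm_of hA (hy 1)) (fun k hk => R.comm_of hA (hx k hk 1)) fun k hk hjk => by
    have h3 := ent_comm_sh hAh i k
    rw [h1] at h3
    have h4 : ((ev lam k : F) - 1) * ent A i k = 0 := by linear_combination -h3
    rcases mul_eq_zero.mp h4 with h5 | h5
    · exact absurd (sub_eq_zero.mp h5) (h2 k hk hjk)
    · exact h5
  exact ⟨a, b, d, R.pull hA (by rw [e, map_mul, map_mul]; rfl)⟩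

/-- `Q_i = Y_i ∏ X_ik` -/
def Q (i : Ix n) : Subgroup G := Subgroup.closure ({g | ∃ a, g = R.y i a} ∪ {g | ∃ k a, g = R.x i k a})

omit [CharP F 2] [Finite F] in
theorem y_mem_Q (i : Ix n) (a : F) : R.y i a ∈ R.Q i := Subgroup.subset_closure (Or.inl ⟨a, rfl⟩)

omit [CharP F 2] [Finite F] in
theorem x_mem_Q (i k : Ix n) (a : F) : R.x i k a ∈ R.Q i := Subgroup.subset_closure (Or.inr ⟨k, a, rfl⟩)

/-- **F3** for `Q_i`: `C_{C(t)}(Q_i) = ⟨t⟩ Q_i` (`S` = any subgroup containing `Y_i` and the `X_ik`). -/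
theorem CQ (hn : 3 ≤ n) {i : Ix n} {c : G} (ht : Commute c R.t) (hy : ∀ b, Commute c (R.y i b))
    (hx : ∀ k, Dj i k → ∀ b, Commute c (R.x i k b)) {S : Subgroup G} (h1 : ∀ a, R.y i a ∈ S)
    (h2 : ∀ k a, Dj i k → R.x i k a ∈ S) : c ∈ S ∨ R.t * c ∈ S := by
  obtain ⟨A, hA⟩ := R.ct_comm_y hn ht hy
  have h3 : A ∈ S.comap R.ι := mem_Q_Sy (i := i) h1 h2
    {k | Dj i k ∧ ent A i k ≠ 0}.ncard A (R.comm_of hA (hy 1)) (fun k hk => R.comm_of hA (hx k hk 1)) le_rfl
  rcases hA with e | e
  · left; rw [e]; exact h3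
  · right; rw [e, ← mul_assoc, R.tt, one_mul]; exact h3

/-- **F4**: the pair `(j,k)`, `(i,-j)`, with a torus element centralising `X_jk` and `X_{i,-j}` -/
theorem F4 (hn : 3 ≤ n) {i j k : Ix n} (hij : Dj i j) (hik : Dj i k) (hjk : Dj j k) {c : G} (ht : Commute c R.t)
    (hyi : ∀ b, Commute c (R.y i b)) (hyk : Commute c (R.y k 1)) (hx1 : Commute c (R.x i j 1))
    (hx2 : Commute c (R.x k (neg j) 1)) (hl : ∀ l, Dj i l → Dj j l → Dj k l → Commute c (R.y l 1))
    {lam : Fin n → Fˣ} (hc : Commute c (R.h lam)) (h1 : (ev lam i : F) = ev lam j)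
    (h2 : (ev lam j : F) * ev lam k = 1) (h3 : (ev lam i : F) ≠ 1) :
    ∃ a b d, c = R.x i (neg j) a * R.x j k b * R.x i k d ∨ c = R.t * (R.x i (neg j) a * R.x j k b * R.x i k d) := by
  obtain ⟨A, hA⟩ := R.ct_comm_y hn ht hyi
  obtain ⟨a, b, M, hM, e⟩ := F4_Sy hij hik hjk (R.comm_of hA (hyi 1)) (R.comm_of hA hyk) (R.comm_of hA hx1)
    (R.comm_of hA hx2) fun l u v w => R.comm_of hA (hl l u v w)
  have h4 : (ev lam i : F) * (ev lam (neg j) : F) = 1 := by
    rw [ev_neg, Units.val_inv_eq_inv_val, h1]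
    exact mul_inv_cancel₀ (ev lam j).ne_zero
  have h5 : (ev lam i : F) ^ 2 ≠ 1 := by
    intro h
    apply h3
    have h6 : ((ev lam i : F) - 1) * ((ev lam i : F) - 1) = 0 := by
      linear_combination h - ((ev lam i : F) - 1) * (two0 : (2 : F) = 0)
    exact sub_eq_zero.mp (mul_self_eq_zero.mp h6)
  have h6 := F4_torus hij hik hjk (a := a) (b := b) hM (lam := lam) (by rw [← e]; exact R.comm_of hA hc) h4 h2 h5
  rw [h6] at e
  exact ⟨a, b, M i k, R.pull hA (by rw [e, map_mul, map_mul]; rfl)⟩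

/-- **F5** -/
theorem F5 (hn : 3 ≤ n) {i j : Ix n} (hij : Dj i j) {c : G} (ht : Commute c R.t) (hyi : ∀ b, Commute c (R.y i b))
    (hx1 : Commute c (R.x i j 1)) (hl : ∀ l, Dj i l → Dj j l → Commute c (R.y l 1)) :
    ∃ a b d e, c = R.x i (neg j) a * R.y j b * R.x i j d * R.y i e ∨
      c = R.t * (R.x i (neg j) a * R.y j b * R.x i j d * R.y i e) := by
  obtain ⟨A, hA⟩ := R.ct_comm_y hn ht hyi
  obtain ⟨a, b, d, e, h⟩ := F5_Sy hij (R.comm_of hA (hyi 1)) (R.comm_of hA hx1) fun l u v => R.comm_of hA (hl l u v)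
  refine ⟨a, b, d, e, R.pull hA ?_⟩
  have hji : j ≠ neg i := fun e => hij.2 (by rw [e, neg_neg])
  have g : Commute (sy i e) (sx i j d) := sy_sx_comm (ne_neg i) hji _ _
  rw [h, g.eq, map_mul, map_mul, map_mul]
  simp only [x, y, mul_assoc]

/-- **I1**: `C_{C(t)}(Y_l, |l| ≠ |i|) = ⟨t⟩ ⟨Y_i, Y_{-i}⟩` -/
theorem I1 (hn : 3 ≤ n) {i : Ix n} {c : G} (ht : Commute c R.t)
    (h : ∀ l, Dj i l → ∀ b, Commute c (R.y l b)) {S : Subgroup G} (h1 : ∀ a, R.y i a ∈ S)
    (h2 : ∀ a, R.y (neg i) a ∈ S) : c ∈ S ∨ R.t * c ∈ S := by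
  obtain ⟨l, hl⟩ : ∃ l, Dj i l := by
    have : ∃ l : Ix n, l ∉ ({i, neg i} : Finset (Ix n)) := by
      by_contra hcon
      push Not at hcon
      have h3 : Fintype.card (Ix n) ≤ 2 := by
        have h4 : (Finset.univ : Finset (Ix n)) ⊆ {i, neg i} := fun l _ => hcon l
        exact (Finset.card_le_card h4).trans (Finset.card_le_two)
      rw [Fintype.card_sum, Fintype.card_fin] at h3
      omega
    obtain ⟨l, hl⟩ := this
    simp only [Finset.mem_insert, Finset.mem_singleton, not_or] at hl
    exact ⟨l, fun e => hl.1 e.symm, fun e => hl.2 (by rw [e, neg_neg])⟩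
  obtain ⟨A, hA⟩ := R.ct_comm_y hn ht (h l hl)
  have h3 : A ∈ S.comap R.ι := I1_Sy (fun l hl => R.comm_of hA (h l hl 1)) h1 h2
  rcases hA with e | e
  · left; rw [e]; exact h3
  · right; rw [e, ← mul_assoc, R.tt, one_mul]; exact h3

/-- **I3** -/
theorem I3 (hn : 3 ≤ n) {i j : Ix n} (hij : Dj i j) {c : G} (ht : Commute c R.t) (hx : ∀ b, Commute c (R.x i j b))
    (hx' : Commute c (R.x i (neg j) 1)) (hi : ∀ l, Dj i l → Dj j l → Commute c (R.x i l 1))
    (hj : ∀ l, Dj i l → Dj j l → Commute c (R.x j l 1)) :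
    ∃ a b, c = R.y i a * R.x i j b ∨ c = R.t * (R.y i a * R.x i j b) := by
  obtain ⟨A, hA⟩ := R.ct_comm_x hn ht hij hx
  obtain ⟨a, b, h⟩ := I3_Sy hn hij (R.comm_of hA (hx 1)) (R.comm_of hA hx') (fun l u v => R.comm_of hA (hi l u v))
    fun l u v => R.comm_of hA (hj l u v)
  exact ⟨a, b, R.pull hA (by rw [h, map_mul]; rfl)⟩

end Frame

end Cfsg.Agent.OddHalf.SpN
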