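import Cfsg.Agent.OddHalf.SpN.Defs

/-!
# ODD D7, `K = Sp_2n(q)`, `q` even: the doubles of the root groups (helper570)

* `DS R δ` : subgroups `W i j` (`Dj i j`), `X_ij ≤ W i j`, abelian, `t g t = g x_ij(u)` with `u` onto and kernel `X_ij`,
  normalised by the torus, centralised by the kernel of the character `e_i + e_j`; centralised by all root groups
  `X_kl`, `Y_k` with `k, l ∉ {-i, -j}`; partners: `⁅g, x_{i,-j}(b)⁆ = y_i(δ u b)`.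
* `DL R γ` : the same for the long roots, `V i ≥ Y_i`, centralised by `X_kl`, `k, l ≠ -i`, and by `Y_i`;
  `⁅g, y_k(b²)⁆ = x_ik(γ u b)` if `t g t = g y_i(u²)`.

These are the output of sections 2, 3 of `blueprints/ODD-D7-Sp-helper297.md`.
-/

set_option autoImplicit false

namespace Cfsg.Agent.OddHalf.SpN

open scoped commutatorElement

variable {n : ℕ} {F : Type*} [Field F] {G : Type*} [Group G]

/-- the doubles of the short root groups -/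
structure DS [CharP F 2] (R : Frame n F G) (δ : F) where
  W : Ix n → Ix n → Subgroup G
  symm : ∀ i j, W i j = W j i
  x_mem : ∀ i j a, R.x i j a ∈ W i j
  /-- every element has a height -/
  ht : ∀ i j, Dj i j → ∀ g ∈ W i j, ∃ u, R.t * g * R.t = g * R.x i j u
  onto : ∀ i j, Dj i j → ∀ u, ∃ g ∈ W i j, R.t * g * R.t = g * R.x i j u
  ker : ∀ i j, Dj i j → ∀ g ∈ W i j, R.t * g * R.t = g → ∃ a, g = R.x i j a
  comm : ∀ i j, Dj i j → ∀ g ∈ W i j, ∀ g' ∈ W i j, g * g' = g' * g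
  torus : ∀ i j, Dj i j → ∀ g ∈ W i j, ∀ lam, R.h lam * g * (R.h lam)⁻¹ ∈ W i j
  torus_one : ∀ i j, Dj i j → ∀ g ∈ W i j, ∀ lam, ev lam i * ev lam j = 1 → R.h lam * g = g * R.h lam
  weyl : ∀ i j, Dj i j → ∀ g ∈ W i j, ∀ s : SpN.W n, R.w s * g * (R.w s)⁻¹ ∈ W (s.1 i) (s.1 j)
  cx : ∀ i j, Dj i j → ∀ g ∈ W i j, ∀ k l a, k ≠ neg i → k ≠ neg j → l ≠ neg i → l ≠ neg j →
    g * R.x k l a = R.x k l a * g
  cy : ∀ i j, Dj i j → ∀ g ∈ W i j, ∀ k a, k ≠ neg i → k ≠ neg j → g * R.y k a = R.y k a * g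
  par : ∀ i j, Dj i j → ∀ g ∈ W i j, ∀ u, R.t * g * R.t = g * R.x i j u →
    ∀ b, ⁅g, R.x i (neg j) b⁆ = R.y i (δ * u * b)

/-- the doubles of the long root groups -/
structure DL [CharP F 2] (R : Frame n F G) (γ : F) where
  V : Ix n → Subgroup G
  y_mem : ∀ i a, R.y i a ∈ V i
  /-- every element has a height -/
  ht : ∀ i, ∀ g ∈ V i, ∃ u, R.t * g * R.t = g * R.y i u
  onto : ∀ i u, ∃ g ∈ V i, R.t * g * R.t = g * R.y i u
  ker : ∀ i, ∀ g ∈ V i, R.t * g * R.t = g → ∃ a, g = R.y i a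
  comm : ∀ i, ∀ g ∈ V i, ∀ g' ∈ V i, g * g' = g' * g
  torus : ∀ i, ∀ g ∈ V i, ∀ lam, R.h lam * g * (R.h lam)⁻¹ ∈ V i
  torus_one : ∀ i, ∀ g ∈ V i, ∀ lam, ev lam i = 1 → R.h lam * g = g * R.h lam
  weyl : ∀ i, ∀ g ∈ V i, ∀ s : SpN.W n, R.w s * g * (R.w s)⁻¹ ∈ V (s.1 i)
  cx : ∀ i, ∀ g ∈ V i, ∀ k l a, k ≠ neg i → l ≠ neg i → g * R.x k l a = R.x k l a * g
  cy : ∀ i, ∀ g ∈ V i, ∀ a, g * R.y i a = R.y i a * g
  par : ∀ i k, Dj i k → ∀ g ∈ V i, ∀ u, R.t * g * R.t = g * R.y i (u ^ 2) →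
    ∀ b, ⁅g, R.y k (b ^ 2)⁆ = R.x i k (γ * u * b)

end Cfsg.Agent.OddHalf.SpN
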