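import Mathlib
import Cfsg.Agent.OddHalf.SpN.Defs

/-!
# ODD D7, `K = Sp_2n(q)`: the patterns with one length moved, hypotheses (helper200)

* `Rels t x y`: the relations of the root elements (char 2) in the signed index model of `Defs.lean`.
* `DataO t x y W`: pattern `{l}` = (O,0) (only long root groups moved), `W i` = double of `Y i`.
* `DataS t x y W`: pattern `{s}` = (0,O) (only short root groups moved), `W i j` = double of `X i j`.
-/

set_option autoImplicit false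

namespace Cfsg.Agent.OddHalf.SpN

variable {n : ℕ} {F G : Type*} [Field F] [Group G]

/-- Relations of the root elements of `Sp_2n(F)`, `char F = 2`; `t` centralises them. -/
structure Rels (t : G) (x : Ix n → Ix n → F → G) (y : Ix n → F → G) : Prop where
  two : ∀ a : F, a + a = 0
  tt : t * t = 1
  tx : ∀ i j a, Commute t (x i j a)
  ty : ∀ i a, Commute t (y i a)
  symm : ∀ i j a, x i j a = x j i a
  x_add : ∀ i j a b, x i j (a + b) = x i j a * x i j b
  y_add : ∀ i a b, y i (a + b) = y i a * y i b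
  yy : ∀ i j a b, i ≠ neg j → Commute (y i a) (y j b)
  xy : ∀ i j k a b, i ≠ neg k → j ≠ neg k → Commute (x i j a) (y k b)
  xx : ∀ i j k l a b, i ≠ neg k → i ≠ neg l → j ≠ neg k → j ≠ neg l → Commute (x i j a) (x k l b)
  xx' : ∀ i j a b, Commute (x i j a) (x i (neg j) b)
  /-- `[x_{ij}(a), x_{-j,k}(b)] = x_{ik}(ab)` -/
  ss : ∀ i j k a b, Dj i j → Dj j k → Dj i k → x (neg j) k b * x i j a * x (neg j) k b = x i j a * x i k (a * b)
  /-- `y_i(a)^{x_{-i,j}(b)} = y_i(a) x_{ij}(ab) y_j(ab²)` -/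
  sl : ∀ i j a b, Dj i j → x (neg i) j b * y i a * x (neg i) j b = y i a * x i j (a * b) * y j (a * b ^ 2)
  /-- independence of `Y_i, Y_j, X_ij`, and of `t` -/
  ind : ∀ i j a b c, Dj i j → y i a * y j b * x i j c = 1 → a = 0 ∧ b = 0 ∧ c = 0
  indt : ∀ i j a b c, Dj i j → t ≠ y i a * y j b * x i j c

/-- Pattern (O,0): only the long root groups are moved; `W i` is the double of `Y i`. -/
structure DataO (t : G) (x : Ix n → Ix n → F → G) (y : Ix n → F → G) (W : Ix n → Subgroup G) : Prop extends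
    Rels t x y where
  yW : ∀ i a, y i a ∈ W i
  Wsq : ∀ i, ∀ w ∈ W i, ∃ a, w * w = y i a
  Wy : ∀ i, ∀ w ∈ W i, ∀ a, Commute w (y i a)
  d : ∀ i, ∀ w ∈ W i, ∃ a, t * w * t = w * y i a
  onto : ∀ i a, ∃ w ∈ W i, t * w * t = w * y i a
  fix : ∀ i, ∀ w ∈ W i, t * w * t = w → ∃ a, w = y i a
  Wx : ∀ i j, Dj i j → ∀ w ∈ W i, ∀ a, Commute w (x i j a)
  Wx' : ∀ i j k, Dj i j → Dj i k → Dj j k → ∀ w ∈ W i, ∀ a, Commute w (x j k a)
  /-- the double centraliser of `⟨X_ij, X_il, X_jl, X_lm⟩` -/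
  cent : ∀ i j, Dj i j → ∀ g, Commute g t → (∀ a, Commute g (x i j a)) →
    (∀ l, Dj i l → Dj j l → ∀ a, Commute g (x i l a) ∧ Commute g (x j l a)) →
    (∀ l m, Dj i l → Dj j l → Dj i m → Dj j m → Dj l m → ∀ a, Commute g (x l m a)) →
    ∃ a b c, g = y i a * y j b * x i j c ∨ g = t * (y i a * y j b * x i j c)
  /-- short root elements are not moved -/
  nm : ∀ i j a, Dj i j → a ≠ 0 → ¬ IsConj t (t * x i j a)
  /-- `n ≥ 3` -/
  three : ∀ i j : Ix n, ∃ k, Dj i k ∧ Dj j k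
  /-- `F` is perfect -/
  root : ∀ a : F, ∃ b, b ^ 2 = a

end Cfsg.Agent.OddHalf.SpN
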