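import Mathlib
import Cfsg.Agent.OddHalf.SpN.Red
import Cfsg.Agent.OddHalf.SpN.PatDefs

/-!
# The double centraliser of the short root groups `X_ij, X_il, X_jl` is `⟨t⟩ Y_i Y_j X_ij` (helper200)
-/

set_option autoImplicit false

namespace Cfsg.Agent.OddHalf.SpN

open Cfsg Cfsg.Agent.ClassicalGeometry.SympBasic Cfsg.Agent.ClassicalGeometry.SympAutSemi
open scoped Matrix commutatorElement

variable {n : ℕ} {F : Type*} [Field F]

theorem exists_dj (hn : 3 ≤ n) (i j : Ix n) : ∃ k, Dj i k ∧ Dj j k := by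
  obtain ⟨k, h1, h2⟩ : ∃ k : Fin n, k ≠ Sum.elim id id i ∧ k ≠ Sum.elim id id j := by
    obtain ⟨k, hk⟩ := Finset.exists_mem_notMem_of_card_lt_card
      (s := ({Sum.elim id id i, Sum.elim id id j} : Finset (Fin n))) (t := Finset.univ) (by
        refine lt_of_le_of_lt Finset.card_le_two ?_
        rw [Finset.card_univ, Fintype.card_fin]; omega)
    have h := hk.2
    rw [Finset.mem_insert, Finset.mem_singleton, not_or] at h
    exact ⟨k, h.1, h.2⟩
  refine ⟨Sum.inl k, ⟨?_, ?_⟩, ⟨?_, ?_⟩⟩
  · rintro rfl; exact h1 rfl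
  · rintro rfl; exact h1 rfl
  · rintro rfl; exact h2 rfl
  · rintro rfl; exact h2 rfl

section chartwo

variable [CharP F 2]

/-- commutation with the short root element -/
theorem T_Nx {A : Sy n F} {p q : Ix n} (hd : Dj p q) (hc : Commute A (sx p q 1)) (v : Ix n → F) :
    rho n F A (Nx p q v) = Nx p q (rho n F A v) := by
  have h1 := congrArg (fun B => rho n F B v) hc.eq
  simp only [map_mul, Equiv.Perm.mul_apply, (isRoot_x hd).eq, one_smul, (isSemi_rho A).1] at h1
  exact add_left_cancel h1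

theorem Nx_be {p q k : Ix n} : Nx p q (be n F k) = (if neg q = k then (1 : F) else 0) • be n F p +
    (if neg p = k then (1 : F) else 0) • be n F q := by
  rw [Nx, be_apply, be_apply]

theorem cent_short_matrix (hn : 3 ≤ n) {A : Sy n F} {i j : Ix n} (hij : Dj i j) (h0 : Commute A (sx i j 1))
    (hl : ∀ l, Dj i l → Dj j l → Commute A (sx i l 1) ∧ Commute A (sx j l 1)) :
    ∃ a b c, A = sy i a * sy j b * sx i j c := by
  set T := rho n F A with hT
  have Ts : ∀ (a : F) v, T (a • v) = a • T v := (isSemi_rho A).2.1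
  have Ta : ∀ u v, T (u + v) = T u + T v := (isSemi_rho A).1
  have Tf : ∀ u v, sympForm n F (T u) (T v) = sympForm n F u v := fun u v => by
    have := (isSemi_rho A).2.2 u v
    rwa [one_mul] at this
  have apply_be : ∀ (a b : F) (p q k : Ix n), (a • be n F p + b • be n F q) k =
      (if k = p then a else 0) + (if k = q then b else 0) := by
    intro a b p q k
    simp only [Pi.add_apply, Pi.smul_apply, smul_eq_mul, be_apply, mul_ite, mul_one, mul_zero]
  -- `T e_l` for `l ≠ ±i, ±j`
  have key : ∀ p r, Dj p r → (∀ l, Dj p l → Dj r l → Commute A (sx p l 1)) → ∀ l, Dj p l → Dj r l →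
      T (be n F l) = (T (be n F (neg p)) (neg l)) • be n F p + (T (be n F (neg p)) (neg p)) • be n F l := by
    intro p r hpr hc l hpl hrl
    have h1 := T_Nx hpl (hc l hpl hrl) (be n F (neg p))
    rw [Nx_be, if_neg (fun e => hpl.1 (neg_inj.1 e).symm), if_pos rfl, zero_smul, zero_add, one_smul] at h1
    exact h1
  have keyi := key i j hij (fun l h1 h2 => (hl l h1 h2).1)
  have keyj := key j i hij.symm (fun l h1 h2 => (hl l h2 h1).2)
  set ν := T (be n F (neg i)) (neg i) with hν
  have e1 : ∀ l, Dj i l → Dj j l → T (be n F (neg i)) (neg l) = 0 ∧ T (be n F l) = ν • be n F l := by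
    intro l hil hjl
    have h1 := keyi l hil hjl
    have h2 := keyj l hjl hil
    rw [h1] at h2
    have h3 := congrFun h2 i
    rw [apply_be, apply_be, if_pos rfl, if_neg hil.1, if_neg hij.1, if_neg hil.1, add_zero, add_zero] at h3
    refine ⟨h3, ?_⟩
    rw [h1, h3, zero_smul, zero_add]
  have e1' : ∀ l, Dj i l → Dj j l → T (be n F (neg j)) (neg l) = 0 ∧
      T (be n F l) = (T (be n F (neg j)) (neg j)) • be n F l := by
    intro l hil hjl
    have h1 := keyi l hil hjl
    have h2 := keyj l hjl hil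
    rw [h1] at h2
    have h3 := congrFun h2 j
    rw [apply_be, apply_be, if_pos rfl, if_neg hjl.1, if_neg hij.1.symm, if_neg hjl.1, add_zero, add_zero] at h3
    refine ⟨h3.symm, ?_⟩
    rw [keyj l hjl hil, ← h3, zero_smul, zero_add]
  obtain ⟨m, him, hjm⟩ := exists_dj hn i j
  -- `ν = 1`
  have hν2 : ν * ν = 1 := by
    have h1 := Tf (be n F m) (be n F (neg m))
    rw [(e1 m him hjm).2, (e1 (neg m) (dj_neg_right.2 him) (dj_neg_right.2 hjm)).2, sympForm_smul_left,
      sympForm_smul_right, form_be, neg_neg, be_apply, if_pos rfl, mul_one] at h1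
    exact h1
  have hν1 : ν = 1 := by
    have : (ν - 1) * (ν - 1) = 0 := by
      linear_combination hν2 - (ν - 1) * (two0 : (2 : F) = 0)
    exact sub_eq_zero.1 (mul_self_eq_zero.1 this)
  have hνj : T (be n F (neg j)) (neg j) = 1 := by
    have h1 := (e1 m him hjm).2
    have h2 := (e1' m him hjm).2
    rw [h1] at h2
    have h3 := congrFun h2 m
    simp only [Pi.smul_apply, smul_eq_mul, be_apply, if_true, mul_one] at h3
    rw [← h3, hν1]
  have Tl : ∀ l, Dj i l → Dj j l → T (be n F l) = be n F l := fun l h1 h2 => by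
    rw [(e1 l h1 h2).2, hν1, one_smul]
  -- `T e_i = e_i`, `T e_j = e_j`
  have Tp : ∀ p r, Dj p r → (∀ l, Dj p l → Dj r l → Commute A (sx p l 1)) → (∀ l, Dj p l → Dj r l →
      T (be n F l) = be n F l) → ∀ l, Dj p l → Dj r l → T (be n F p) = be n F p := by
    intro p r hpr hc hTl l hpl hrl
    have h1 := T_Nx hpl (hc l hpl hrl) (be n F (neg l))
    have h2 := hTl (neg l) (dj_neg_right.2 hpl) (dj_neg_right.2 hrl)
    rw [← hT, h2, Nx_be, if_pos rfl, if_neg (fun e => hpl.1 (neg_inj.1 e)), zero_smul, add_zero, one_smul] at h1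
    exact h1
  have Ti : T (be n F i) = be n F i := Tp i j hij (fun l h1 h2 => (hl l h1 h2).1) Tl m him hjm
  have Tj : T (be n F j) = be n F j := Tp j i hij.symm (fun l h1 h2 => (hl l h2 h1).2)
    (fun l h1 h2 => Tl l h2 h1) m hjm him
  -- `(T e_{-i})(-j) = 0`
  have f1 : T (be n F (neg i)) (neg j) = 0 := by
    have h1 := T_Nx hij h0 (be n F (neg i))
    rw [Nx_be, if_neg (fun e => hij.1 (neg_inj.1 e).symm), if_pos rfl, zero_smul, zero_add, one_smul, ← hT, Tj] at h1
    have h3 := congrFun h1 i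
    rw [Nx, apply_be, if_pos rfl, if_neg hij.1, be_apply, if_neg hij.1, add_zero] at h3
    exact h3.symm
  have f2 : T (be n F (neg j)) (neg i) = 0 := by
    have h1 := T_Nx hij h0 (be n F (neg j))
    rw [Nx_be, if_pos rfl, if_neg (fun e => hij.1 (neg_inj.1 e)), zero_smul, add_zero, one_smul, ← hT, Ti] at h1
    have h3 := congrFun h1 j
    rw [Nx, apply_be, if_pos rfl, if_neg hij.1.symm, be_apply, if_neg hij.1.symm, zero_add] at h3
    exact h3.symm
  set a := T (be n F (neg i)) i with ha
  set c := T (be n F (neg i)) j with hc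
  set b := T (be n F (neg j)) j with hb
  set c' := T (be n F (neg j)) i with hc'
  have cases4 : ∀ k : Ix n, k = i ∨ k = j ∨ k = neg i ∨ k = neg j ∨ (Dj i k ∧ Dj j k) := by
    intro k
    by_cases k1 : k = i
    · exact Or.inl k1
    by_cases k2 : k = j
    · exact Or.inr (Or.inl k2)
    by_cases k3 : k = neg i
    · exact Or.inr (Or.inr (Or.inl k3))
    by_cases k4 : k = neg j
    · exact Or.inr (Or.inr (Or.inr (Or.inl k4)))
    exact Or.inr (Or.inr (Or.inr (Or.inr ⟨⟨fun e => k1 e.symm, fun e => k3 (by rw [e, neg_neg])⟩,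
      ⟨fun e => k2 e.symm, fun e => k4 (by rw [e, neg_neg])⟩⟩)))
  have hij1 : neg i ≠ j := fun e => hij.2 (by rw [← e, neg_neg])
  have hij2 : neg j ≠ i := fun e => hij.2 e.symm
  have hij3 : neg i ≠ neg j := fun e => hij.1 (neg_inj.1 e)
  have Tni : T (be n F (neg i)) = be n F (neg i) + (a • be n F i + c • be n F j) := by
    ext k
    rw [Pi.add_apply, apply_be, be_apply]
    rcases cases4 k with rfl | rfl | rfl | rfl | ⟨h1, h2⟩
    · rw [if_neg (ne_neg _), if_pos rfl, if_neg hij.1, ha]; ring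
    · rw [if_neg hij1.symm, if_neg hij.1.symm, if_pos rfl, hc]; ring
    · rw [if_pos rfl, if_neg (neg_ne _), if_neg hij1, ← hν, hν1]; ring
    · rw [if_neg hij3.symm, if_neg hij2, if_neg (neg_ne _), f1]; ring
    · have h3 := (e1 (neg k) (dj_neg_right.2 h1) (dj_neg_right.2 h2)).1
      rw [neg_neg] at h3
      rw [h3, if_neg (fun e => h1.2 (by rw [e, neg_neg])), if_neg h1.1.symm, if_neg h2.1.symm]; ring
  have Tnj : T (be n F (neg j)) = be n F (neg j) + (c' • be n F i + b • be n F j) := by
    ext k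
    rw [Pi.add_apply, apply_be, be_apply]
    rcases cases4 k with rfl | rfl | rfl | rfl | ⟨h1, h2⟩
    · rw [if_neg hij2.symm, if_pos rfl, if_neg hij.1, hc']; ring
    · rw [if_neg (ne_neg _), if_neg hij.1.symm, if_pos rfl, hb]; ring
    · rw [if_neg hij3, if_neg (neg_ne _), if_neg hij1, f2]; ring
    · rw [if_pos rfl, if_neg hij2, if_neg (neg_ne _), hνj]; ring
    · have h3 := (e1' (neg k) (dj_neg_right.2 h1) (dj_neg_right.2 h2)).1
      rw [neg_neg] at h3
      rw [h3, if_neg (fun e => h2.2 (by rw [e, neg_neg])), if_neg h1.1.symm, if_neg h2.1.symm]; ring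
  -- `c = c'`
  have hcc : c = c' := by
    have h1 := Tf (be n F (neg i)) (be n F (neg j))
    rw [form_be, neg_neg, be_apply, if_neg hij1.symm, Tni, Tnj] at h1
    simp only [sympForm_add_right, sympForm_smul_right, form_be, neg_neg, Pi.add_apply, Pi.smul_apply, smul_eq_mul,
      be_apply, ne_neg, neg_ne, hij1, hij2, hij3, hij1.symm, hij2.symm, hij3.symm, hij.1, hij.1.symm, if_false, if_true]
      at h1
    linear_combination h1 - c' * (two0 : (2 : F) = 0)
  refine ⟨a, b, c, ?_⟩
  apply rho_injective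
  ext v k
  rw [map_mul, map_mul, Equiv.Perm.mul_apply, Equiv.Perm.mul_apply, ← hT]
  have g1 : T v k = sympForm n F (T v) (be n F (neg k)) := by rw [form_be, neg_neg]
  rw [g1]
  simp only [rho_sy, rho_sx hij, Pi.add_apply, Pi.smul_apply, smul_eq_mul, be_apply]
  rcases cases4 k with rfl | rfl | rfl | rfl | ⟨h1, h2⟩
  · have h3 : be n F (neg k) = T (be n F (neg k)) + (a • T (be n F k) + c • T (be n F j)) := by
      rw [Ti, Tj, Tni]
      ext l
      simp only [Pi.add_apply, Pi.smul_apply, smul_eq_mul]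
      linear_combination -(a * be n F k l + c * be n F j l) * (two0 : (2 : F) = 0)
    rw [h3, sympForm_add_right, sympForm_add_right, sympForm_smul_right, sympForm_smul_right, Tf, Tf, Tf, form_be,
      form_be, form_be, neg_neg]
    simp only [if_true, if_neg hij.1, if_neg hij1, if_neg hij2, if_neg (neg_ne _), if_neg hij3, if_neg hij3.symm]
    ring
  · have h3 : be n F (neg k) = T (be n F (neg k)) + (c • T (be n F i) + b • T (be n F k)) := by
      rw [Ti, Tj, Tnj, hcc]
      ext l
      simp only [Pi.add_apply, Pi.smul_apply, smul_eq_mul]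
      linear_combination -(c' * be n F i l + b * be n F k l) * (two0 : (2 : F) = 0)
    rw [h3, sympForm_add_right, sympForm_add_right, sympForm_smul_right, sympForm_smul_right, Tf, Tf, Tf, form_be,
      form_be, form_be, neg_neg]
    simp only [if_true, if_neg hij.1.symm, if_neg hij1, if_neg hij2, if_neg (neg_ne _), if_neg hij3, if_neg hij3.symm]
    ring
  · rw [neg_neg]
    have h3 : sympForm n F (T v) (be n F i) = sympForm n F (T v) (T (be n F i)) := by rw [Ti]
    rw [h3, Tf, form_be]
    simp only [if_neg (neg_ne i), if_neg hij1, mul_zero, add_zero]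
  · rw [neg_neg]
    have h3 : sympForm n F (T v) (be n F j) = sympForm n F (T v) (T (be n F j)) := by rw [Tj]
    rw [h3, Tf, form_be]
    simp only [if_neg (neg_ne j), if_neg hij2, mul_zero, add_zero]
  · have h3 : sympForm n F (T v) (be n F (neg k)) = sympForm n F (T v) (T (be n F (neg k))) := by
      rw [Tl (neg k) (dj_neg_right.2 h1) (dj_neg_right.2 h2)]
    rw [h3, Tf, form_be, neg_neg]
    simp only [if_neg h1.1.symm, if_neg h2.1.symm, mul_zero, add_zero]

end chartwo

namespace Frame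

variable {G : Type*} [Group G] (R : Frame n F G) [Finite F] [CharP F 2]

/-- **I2**: `g ∈ C(t)` commuting with `X_ij`, all `X_il`, `X_jl` is in `⟨t⟩ Y_i Y_j X_ij`. -/
theorem cent_short (hn : 3 ≤ n) {i j : Ix n} (hij : Dj i j) {g : G} (hg : Commute g R.t)
    (h0 : ∀ a, Commute g (R.x i j a))
    (hl : ∀ l, Dj i l → Dj j l → ∀ a, Commute g (R.x i l a) ∧ Commute g (R.x j l a)) :
    ∃ a b c, g = R.y i a * R.y j b * R.x i j c ∨ g = R.t * (R.y i a * R.y j b * R.x i j c) := by
  obtain ⟨A, hA⟩ := R.ct_comm_x hn hg hij h0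
  obtain ⟨a, b, c, rfl⟩ := cent_short_matrix hn (A := A) hij (comm_of R hA (h0 1)) (fun l h1 h2 =>
    ⟨comm_of R hA (hl l h1 h2 1).1, comm_of R hA (hl l h1 h2 1).2⟩)
  refine ⟨a, b, c, ?_⟩
  rw [map_mul, map_mul] at hA
  exact hA

end Frame

end Cfsg.Agent.OddHalf.SpN
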