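import Mathlib
import Cfsg.Agent.OddHalf.SpN.PatDefs

/-!
# Basic consequences of `Rels` (helper200)
-/

set_option autoImplicit false

namespace Cfsg.Agent.OddHalf.SpN

variable {n : ℕ} {F G : Type*} [Field F] [Group G]

namespace Rels

variable {t : G} {x : Ix n → Ix n → F → G} {y : Ix n → F → G}

theorem x_zero (h : Rels t x y) (i j : Ix n) : x i j 0 = 1 := by
  have := h.x_add i j 0 0
  rw [add_zero] at this
  exact left_eq_mul.1 this

theorem y_zero (h : Rels t x y) (i : Ix n) : y i 0 = 1 := by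
  have := h.y_add i 0 0
  rw [add_zero] at this
  exact left_eq_mul.1 this

theorem x_sq (h : Rels t x y) (i j : Ix n) (a : F) : x i j a * x i j a = 1 := by
  rw [← h.x_add, h.two, h.x_zero]

theorem y_sq (h : Rels t x y) (i : Ix n) (a : F) : y i a * y i a = 1 := by
  rw [← h.y_add, h.two, h.y_zero]

theorem x_inv (h : Rels t x y) (i j : Ix n) (a : F) : (x i j a)⁻¹ = x i j a :=
  inv_eq_of_mul_eq_one_left (h.x_sq i j a)

theorem y_inv (h : Rels t x y) (i : Ix n) (a : F) : (y i a)⁻¹ = y i a :=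
  inv_eq_of_mul_eq_one_left (h.y_sq i a)

theorem t_inv (h : Rels t x y) : t⁻¹ = t := inv_eq_of_mul_eq_one_left h.tt

/-- `X_ij` and `Y_k` commute unless `-k ∈ {i, j}`. -/
theorem x_y (h : Rels t x y) {i j k : Ix n} (h1 : i ≠ neg k) (h2 : j ≠ neg k) (a b : F) :
    Commute (x i j a) (y k b) := h.xy i j k a b h1 h2

theorem x_yi (h : Rels t x y) {i j : Ix n} (h1 : Dj i j) (a b : F) : Commute (x i j a) (y i b) :=
  h.x_y (ne_neg i) (fun e => h1.2 (by rw [e, neg_neg])) a b

theorem x_yj (h : Rels t x y) {i j : Ix n} (h1 : Dj i j) (a b : F) : Commute (x i j a) (y j b) :=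
  h.x_y h1.2 (ne_neg j) a b

theorem y_y (h : Rels t x y) {i j : Ix n} (h1 : i ≠ neg j) (a b : F) : Commute (y i a) (y j b) := h.yy i j a b h1

theorem x_eq_one (h : Rels t x y) {i j : Ix n} (hij : Dj i j) {a : F} (h1 : x i j a = 1) : a = 0 :=
  (h.ind i j 0 0 a hij (by rw [h.y_zero, h.y_zero, one_mul, one_mul, h1])).2.2

theorem y_eq_one (h : Rels t x y) {i j : Ix n} (hij : Dj i j) {a : F} (h1 : y i a = 1) : a = 0 :=
  (h.ind i j a 0 0 hij (by rw [h.y_zero, h.x_zero, mul_one, mul_one, h1])).1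

theorem x_inj (h : Rels t x y) {i j : Ix n} (hij : Dj i j) {a b : F} (h1 : x i j a = x i j b) : a = b := by
  have h2 : x i j (a + b) = 1 := by rw [h.x_add, h1, h.x_sq]
  have h3 := h.x_eq_one hij h2
  calc a = a + (b + b) := by rw [h.two, add_zero]
    _ = (a + b) + b := by ring
    _ = b := by rw [h3, zero_add]

theorem y_inj (h : Rels t x y) {i j : Ix n} (hij : Dj i j) {a b : F} (h1 : y i a = y i b) : a = b := by
  have h2 : y i (a + b) = 1 := by rw [h.y_add, h1, h.y_sq]
  have h3 := h.y_eq_one hij h2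
  calc a = a + (b + b) := by rw [h.two, add_zero]
    _ = (a + b) + b := by ring
    _ = b := by rw [h3, zero_add]

theorem eq_of_add (h : Rels t x y) {a b : F} (h1 : a + b = 0) : a = b := by
  calc a = a + (b + b) := by rw [h.two, add_zero]
    _ = (a + b) + b := by ring
    _ = b := by rw [h1, zero_add]

/-- squares are injective -/
theorem sq_inj (h : Rels t x y) {a b : F} (h1 : a ^ 2 = b ^ 2) : a = b := by
  apply h.eq_of_add
  have h2 : (a + b) ^ 2 = 0 := by
    have : (a + b) ^ 2 = (a ^ 2 + b ^ 2) + (a * b + a * b) := by ring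
    rw [this, h1, h.two, h.two, add_zero]
  exact pow_eq_zero_iff (two_ne_zero) |>.1 h2

/-- products in `Y_i Y_j X_ij` -/
theorem z_mul (h : Rels t x y) {i j : Ix n} (hij : Dj i j) (a b c a' b' c' : F) :
    (y i a * y j b * x i j c) * (y i a' * y j b' * x i j c') =
      y i (a + a') * y j (b + b') * x i j (c + c') := by
  rw [h.y_add, h.y_add, h.x_add]
  have e1 := h.x_yi hij c a'
  have e2 := h.x_yj hij c b'
  have e3 : Commute (y j b) (y i a') := h.y_y (fun e => hij.2 (by rw [e, neg_neg])) b a'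
  calc (y i a * y j b * x i j c) * (y i a' * y j b' * x i j c')
      = y i a * y j b * (x i j c * y i a') * y j b' * x i j c' := by group
    _ = y i a * (y j b * y i a') * (x i j c * y j b') * x i j c' := by rw [e1.eq]; group
    _ = y i a * y i a' * (y j b * y j b') * (x i j c * x i j c') := by rw [e2.eq, e3.eq]; group

theorem z_sq (h : Rels t x y) {i j : Ix n} (hij : Dj i j) (a b c : F) :
    (y i a * y j b * x i j c) * (y i a * y j b * x i j c) = 1 := by
  rw [h.z_mul hij, h.two, h.two, h.two, h.y_zero, h.y_zero, h.x_zero, one_mul, one_mul]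

theorem z_inj (h : Rels t x y) {i j : Ix n} (hij : Dj i j) {a b c a' b' c' : F}
    (e : y i a * y j b * x i j c = y i a' * y j b' * x i j c') : a = a' ∧ b = b' ∧ c = c' := by
  have h1 : y i (a + a') * y j (b + b') * x i j (c + c') = 1 := by
    rw [← h.z_mul hij, e, h.z_sq hij]
  obtain ⟨e1, e2, e3⟩ := h.ind i j _ _ _ hij h1
  exact ⟨h.eq_of_add e1, h.eq_of_add e2, h.eq_of_add e3⟩

end Rels

/-- the assoc form of a rewriting rule -/
theorem asc {M : Type*} [Semigroup M] {a b c : M} (h : a * b = c) (z : M) : a * (b * z) = c * z := by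
  rw [← mul_assoc, h]

end Cfsg.Agent.OddHalf.SpN
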