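import Mathlib
import Cfsg.Agent.OddHalf.SpN.CentShort
import Cfsg.Agent.OddHalf.SpN.RelsBasic
import Cfsg.Agent.OddHalf.SpN.Dbl
import Cfsg.Agent.OddHalf.SpN.PatO

/-!
# `Rels` and `DataO` from the frame (helper200)
-/

set_option autoImplicit false

namespace Cfsg.Agent.OddHalf.SpN

open Cfsg Cfsg.Agent.ClassicalGeometry.SympBasic Cfsg.Agent.ClassicalGeometry.SympAutSemi
open scoped Matrix commutatorElement

variable {n : ℕ} {F : Type*} [Field F]

theorem ind_matrix [CharP F 2] {i j : Ix n} (hij : Dj i j) {a b c : F}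
    (h : sy i a * sy j b * sx i j c = 1) : a = 0 ∧ b = 0 ∧ c = 0 := by
  have e : ∀ v k, rho n F (sy i a * sy j b * sx i j c) v k = v k := fun v k => by rw [h, map_one]; rfl
  have hij1 : neg i ≠ j := fun e => hij.2 (by rw [← e, neg_neg])
  have hij2 : neg j ≠ i := fun e => hij.2 e.symm
  have hij3 : neg i ≠ neg j := fun e => hij.1 (neg_inj.1 e)
  have e1 := e (be n F (neg i)) i
  have e2 := e (be n F (neg j)) j
  have e3 := e (be n F (neg j)) i
  simp only [map_mul, Equiv.Perm.mul_apply, rho_sy, rho_sx hij, Pi.add_apply, Pi.smul_apply, smul_eq_mul, be_apply,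
    neg_ne, ne_neg, hij1, hij2, hij3, hij1.symm, hij2.symm, hij3.symm, hij.1, hij.1.symm, if_false, if_true,
    mul_one, mul_zero, add_zero, zero_add, neg_inj] at e1 e2 e3
  exact ⟨e1, e2, e3⟩

namespace Frame

variable {G : Type*} [Group G] (R : Frame n F G) [CharP F 2]

/-- the relations of the root elements of a frame -/
theorem rels : Rels R.t R.x R.y where
  two := fun a => CharTwo.add_self_eq_zero a
  tt := R.tt
  tx := fun i j a => (R.x_t i j a).symm
  ty := fun i a => (R.y_t i a).symm
  symm := R.x_symm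
  x_add := R.x_add
  y_add := R.y_add
  yy := fun i j a b h => R.y_comm (fun e => h (by rw [e, neg_neg])) a b
  xy := fun i j k a b h1 h2 => (R.y_x_comm h1 h2 b a).symm
  xx := fun i j k l a b h1 h2 h3 h4 => R.x_comm (fun e => h1 (by rw [e, neg_neg])) (fun e => h3 (by rw [e, neg_neg]))
    (fun e => h2 (by rw [e, neg_neg])) (fun e => h4 (by rw [e, neg_neg])) a b
  xx' := fun i j a b => by
    have := R.x_comm' (i := j) (j := i) a b
    rwa [R.x_symm j i, R.x_symm (neg j) i] at this
  ss := fun i j k a b hij hjk hik => by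
    have h1 := R.x_rel hij hjk hik a b
    have h2 : Commute (R.x (neg j) k b) (R.x i k (a * b)) :=
      R.x_comm (by rw [neg_neg]; exact hij.1) hik.2 (by rw [neg_neg]; exact hjk.1.symm) (ne_neg k) _ _
    calc R.x (neg j) k b * R.x i j a * R.x (neg j) k b = R.x (neg j) k b * (R.x i j a * R.x (neg j) k b) := by group
      _ = R.x (neg j) k b * R.x i k (a * b) * (R.x (neg j) k b * R.x i j a) := by rw [h1]; group
      _ = R.x i k (a * b) * (R.x (neg j) k b * R.x (neg j) k b) * R.x i j a := by rw [h2.eq]; group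
      _ = R.x i k (a * b) * R.x i j a := by rw [R.x_sq, mul_one]
      _ = R.x i j a * R.x i k (a * b) := (R.x_comm (ne_neg i) hik.2 hij.symm.2 hjk.2 _ _).eq
  sl := fun i j a b hij => by
    have h1 := R.y_rel hij a b
    have h2 : Commute (R.x i j (a * b)) (R.y j (a * b ^ 2)) := (R.y_x_comm hij.2 (ne_neg j) _ _).symm
    have h3 : Commute (R.x i j (a * b)) (R.y i a) := (R.y_x_comm (ne_neg i) hij.symm.2 _ _).symm
    have h4 : Commute (R.y j (a * b ^ 2)) (R.y i a) := R.y_comm hij.2 _ _
    have h5 : R.x (neg i) j b * R.y i a = (R.x i j (a * b) * R.y j (a * b ^ 2))⁻¹ * (R.y i a * R.x (neg i) j b) := by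
      rw [h1]; group
    calc R.x (neg i) j b * R.y i a * R.x (neg i) j b
        = (R.x i j (a * b) * R.y j (a * b ^ 2))⁻¹ * (R.y i a * (R.x (neg i) j b * R.x (neg i) j b)) := by
          rw [h5]; group
      _ = R.y j (a * b ^ 2) * R.x i j (a * b) * R.y i a := by
          rw [R.x_sq, mul_one, mul_inv_rev, R.x_inv, R.y_inv]
      _ = R.y j (a * b ^ 2) * R.y i a * R.x i j (a * b) := by rw [mul_assoc, h3.eq]; group
      _ = R.y i a * (R.y j (a * b ^ 2) * R.x i j (a * b)) := by rw [h4.eq]; group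
      _ = _ := by rw [← h2.eq]; group
  ind := fun i j a b c hij h => by
    have h1 : R.ι (sy i a * sy j b * sx i j c) = R.ι 1 := by
      rw [map_mul, map_mul, map_one]; exact h
    exact ind_matrix hij (R.inj h1)
  indt := fun i j a b c hij h => by
    refine R.tK (sy i a * sy j b * sx i j c) ?_
    rw [map_mul, map_mul]; exact h.symm

end Frame

end Cfsg.Agent.OddHalf.SpN
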