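import Cfsg.Agent.OddHalf.SpN.BothShort
import Cfsg.Agent.OddHalf.SpN.BothFun
import Cfsg.Agent.OddHalf.SpN.Cent2
import Cfsg.Agent.OddHalf.SpN.Dbl
import Cfsg.Agent.OddHalf.SpN.RelsOf

/-!
# ODD D7, `K = Sp_2n(q)`, pattern ALL: the frame `P2` of a pair from `DS`, `DL` (helper780)
-/

set_option autoImplicit false

namespace Cfsg.Agent.OddHalf.SpN

open scoped commutatorElement

variable {n : ℕ} {F : Type*} [Field F] [CharP F 2] {G : Type*} [Group G]

namespace DS

variable {R : Frame n F G} {δ : F} (D : DS R δ)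

/-- an element of height one -/
noncomputable def g0 (i j : Ix n) : G := Classical.epsilon fun g => g ∈ D.W i j ∧ R.t * g * R.t = g * R.x i j 1

theorem g0_spec {i j : Ix n} (h : Dj i j) : D.g0 i j ∈ D.W i j ∧ R.t * D.g0 i j * R.t = D.g0 i j * R.x i j 1 :=
  Classical.epsilon_spec (p := fun g => g ∈ D.W i j ∧ R.t * g * R.t = g * R.x i j 1) (D.onto i j h 1)

/-- the equivariant section -/
noncomputable def ws (i j : Ix n) (u : F) : G := wf R.h (chs i j) (D.g0 i j) u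

theorem ln {i j : Ix n} (h : Dj i j) : Ln R.h (chs i j) R.t (R.x i j) (D.W i j) where
  surj := chs_surj_short h
  t_h := R.h_t
  X_add := R.x_add i j
  X_mem := D.x_mem i j
  h_X := fun τ u => by rw [R.h_x, chs_apply, Units.val_mul]
  comm := D.comm i j h
  torus := D.torus i j h
  one := fun g hg τ hτ => D.torus_one i j h g hg τ hτ
  ker := D.ker i j h
  tt := R.tt

theorem ws_symm (i j : Ix n) (u : F) : D.ws i j u = D.ws j i u := by
  have e : D.g0 i j = D.g0 j i := by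
    unfold g0
    congr 1
    funext g
    rw [D.symm i j, R.x_symm i j]
  rw [ws, ws, e, chs_symm]

theorem ws_mem {i j : Ix n} (h : Dj i j) (u : F) : D.ws i j u ∈ D.W i j := (D.ln h).wf_mem (D.g0_spec h).1 u

theorem ws_t {i j : Ix n} (h : Dj i j) (u : F) : R.t * D.ws i j u * R.t = D.ws i j u * R.x i j u :=
  (D.ln h).wf_t (D.g0_spec h).1 (D.g0_spec h).2 u

theorem ws_zero (i j : Ix n) : D.ws i j 0 = 1 := wf_zero _ _ _

theorem h_ws {i j : Ix n} (h : Dj i j) (lam : Fin n → Fˣ) (u : F) :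
    R.h lam * D.ws i j u * (R.h lam)⁻¹ = D.ws i j (ev lam i * ev lam j * u) := by
  rw [ws, h_wf _ _ _ ((D.ln h).one _ (D.g0_spec h).1), chs_apply, Units.val_mul]; rfl

theorem ws_add [Finite F] (el : ∀ i j, Dj i j → ∀ g ∈ D.W i j, g * g = 1) {i j : Ix n} (h : Dj i j) (u v : F) :
    D.ws i j (u + v) = D.ws i j u * D.ws i j v :=
  (D.ln h).wf_add (D.g0_spec h).1 (D.g0_spec h).2 CharTwo.two_eq_zero (fun a => ⟨rtF F a, rt_sq F a⟩) (el i j h) u v

/-- an element is determined by its height up to `X` -/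
theorem eq_mul {i j : Ix n} (h : Dj i j) {g g' : G} (hg : g ∈ D.W i j) (hg' : g' ∈ D.W i j) {u : F}
    (e : R.t * g * R.t = g * R.x i j u) (e' : R.t * g' * R.t = g' * R.x i j u) : ∃ a, g = g' * R.x i j a :=
  (D.ln h).eq_mul _ _ hg hg' e e'

/-- partners, in the form of `P2` -/
theorem ws_par {i j : Ix n} (h : Dj i j) (u v : F) :
    D.ws i j u * R.x i (neg j) v = R.x i (neg j) v * D.ws i j u * R.y i (δ * (u * v)) := by
  have e := D.par i j h _ (D.ws_mem h u) u (D.ws_t h u) v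
  have c1 : Commute (D.ws i j u) (R.y i (δ * (u * v))) := D.cy i j h _ (D.ws_mem h u) i _ (ne_neg i) h.2
  have c2 : Commute (R.x i (neg j) v) (R.y i (δ * (u * v))) :=
    (R.y_x_comm (ne_neg i) (fun e => h.1 (neg_inj.mp e).symm) _ _).symm
  rw [commutatorElement_def, mul_assoc δ] at e
  calc D.ws i j u * R.x i (neg j) v
      = (D.ws i j u * R.x i (neg j) v * (D.ws i j u)⁻¹ * (R.x i (neg j) v)⁻¹) * (R.x i (neg j) v * D.ws i j u) := by
        group
    _ = R.x i (neg j) v * (R.y i (δ * (u * v)) * D.ws i j u) := by rw [e, ← mul_assoc, ← c2.eq, mul_assoc]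
    _ = _ := by rw [← c1.eq, mul_assoc]

end DS

namespace DL

variable {R : Frame n F G} {γ : F} (V : DL R γ)

/-- an element of height one -/
noncomputable def g0 (i : Ix n) : G := Classical.epsilon fun g => g ∈ V.V i ∧ R.t * g * R.t = g * R.y i 1

theorem g0_spec (i : Ix n) : V.g0 i ∈ V.V i ∧ R.t * V.g0 i * R.t = V.g0 i * R.y i 1 :=
  Classical.epsilon_spec (p := fun g => g ∈ V.V i ∧ R.t * g * R.t = g * R.y i 1) (V.onto i 1)

/-- the equivariant section -/
noncomputable def wl (i : Ix n) (u : F) : G := wf R.h (chs i i) (V.g0 i) u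

variable [Finite F]

theorem ln (i : Ix n) : Ln R.h (chs i i) R.t (R.y i) (V.V i) where
  surj := chs_surj_long i
  t_h := R.h_t
  X_add := R.y_add i
  X_mem := V.y_mem i
  h_X := fun τ u => by rw [R.h_y, chs_apply, Units.val_mul, pow_two]
  comm := V.comm i
  torus := V.torus i
  one := fun g hg τ hτ => V.torus_one i g hg τ (by
    have h1 : (ev τ i : F) * ev τ i = 1 := by
      have := congrArg (fun u : Fˣ => (u : F)) hτ
      simpa [chs_apply] using this
    apply Units.ext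
    have h2 := congrArg (rtF F) h1
    rw [rt_mul_self, map_one] at h2
    rw [h2, Units.val_one])
  ker := V.ker i
  tt := R.tt

theorem wl_mem (i : Ix n) (u : F) : V.wl i u ∈ V.V i := (V.ln i).wf_mem (V.g0_spec i).1 u

theorem wl_t (i : Ix n) (u : F) : R.t * V.wl i u * R.t = V.wl i u * R.y i u :=
  (V.ln i).wf_t (V.g0_spec i).1 (V.g0_spec i).2 u

omit [Finite F] in
theorem wl_zero (i : Ix n) : V.wl i 0 = 1 := wf_zero _ _ _

theorem h_wl (i : Ix n) (lam : Fin n → Fˣ) (u : F) :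
    R.h lam * V.wl i u * (R.h lam)⁻¹ = V.wl i (ev lam i * ev lam i * u) := by
  rw [wl, h_wf _ _ _ ((V.ln i).one _ (V.g0_spec i).1), chs_apply, Units.val_mul]; rfl

theorem wl_mul (i : Ix n) (u v : F) : ∃ c, V.wl i u * V.wl i v = V.wl i (u + v) * R.y i c :=
  (V.ln i).wf_mul (V.g0_spec i).1 (V.g0_spec i).2 u v

theorem eq_mul (i : Ix n) {g g' : G} (hg : g ∈ V.V i) (hg' : g' ∈ V.V i) {u : F}
    (e : R.t * g * R.t = g * R.y i u) (e' : R.t * g' * R.t = g' * R.y i u) : ∃ a, g = g' * R.y i a :=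
  (V.ln i).eq_mul _ _ hg hg' e e'

/-- the exceptional relation, in the form of `P2` -/
theorem par_rt {i k : Ix n} (h : Dj i k) {g : G} (hg : g ∈ V.V i) {u : F} (hu : R.t * g * R.t = g * R.y i u) (v : F) :
    g * R.y k v = R.y k v * g * R.x i k (γ * rtF F (u * v)) := by
  have e := V.par i k h _ hg (rtF F u) (by rw [hu, pow_two, rt_sq]) (rtF F v)
  have c1 : Commute g (R.x i k (γ * rtF F (u * v))) := V.cx i _ hg i k _ (ne_neg i) (fun e => h.2 (by rw [e, neg_neg]))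
  have c2 : Commute (R.y k v) (R.x i k (γ * rtF F (u * v))) := R.y_x_comm h.2 (ne_neg k) _ _
  rw [commutatorElement_def, pow_two, rt_sq, mul_assoc γ, ← map_mul] at e
  calc g * R.y k v = (g * R.y k v * g⁻¹ * (R.y k v)⁻¹) * (R.y k v * g) := by group
    _ = R.y k v * (R.x i k (γ * rtF F (u * v)) * g) := by rw [e, ← mul_assoc, ← c2.eq, mul_assoc]
    _ = _ := by rw [← c1.eq, mul_assoc]

end DL

/-! ### The transposition -/

theorem tr_i {i j : Ix n} (h : Dj i j) : tr j i i = j := by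
  rw [tr, Equiv.Perm.mul_apply, Equiv.swap_apply_of_ne_of_ne h.2 (ne_neg i), Equiv.swap_apply_right]

theorem tr_j {i j : Ix n} (h : Dj i j) : tr j i j = i := by
  rw [tr, Equiv.Perm.mul_apply, Equiv.swap_apply_of_ne_of_ne (ne_neg j) h.symm.2, Equiv.swap_apply_left]

theorem tr_of {i j k : Ix n} (hik : Dj i k) (hjk : Dj j k) : tr j i k = k := by
  have h1 : k ≠ neg i := fun e => hik.2 (by rw [e, neg_neg])
  have h2 : k ≠ neg j := fun e => hjk.2 (by rw [e, neg_neg])
  rw [tr, Equiv.Perm.mul_apply, Equiv.swap_apply_of_ne_of_ne h2 h1, Equiv.swap_apply_of_ne_of_ne hjk.1.symm hik.1.symm]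

theorem cases5 (i j k : Ix n) : k = i ∨ k = j ∨ k = neg i ∨ k = neg j ∨ (Dj i k ∧ Dj j k) := by
  by_cases h1 : k = i
  · exact Or.inl h1
  by_cases h2 : k = j
  · exact Or.inr (Or.inl h2)
  by_cases h3 : k = neg i
  · exact Or.inr (Or.inr (Or.inl h3))
  by_cases h4 : k = neg j
  · exact Or.inr (Or.inr (Or.inr (Or.inl h4)))
  exact Or.inr (Or.inr (Or.inr (Or.inr ⟨⟨Ne.symm h1, fun e => h3 (by rw [e, neg_neg])⟩,
    ⟨Ne.symm h2, fun e => h4 (by rw [e, neg_neg])⟩⟩)))

theorem tr_tr {i j : Ix n} (h : Dj i j) : tr j i * tr j i = 1 := by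
  have hn : ∀ k, tr j i (neg k) = neg (tr j i k) := tr_mem h.symm
  refine Equiv.Perm.ext fun k => ?_
  rw [Equiv.Perm.mul_apply, Equiv.Perm.one_apply]
  rcases cases5 i j k with rfl | rfl | rfl | rfl | ⟨h1, h2⟩
  · rw [tr_i h, tr_j h]
  · rw [tr_j h, tr_i h]
  · rw [hn, tr_i h, hn, tr_j h]
  · rw [hn, tr_j h, hn, tr_i h]
  · rw [tr_of h1 h2, tr_of h1 h2]

/-- the torus of the indices `i`, `j` -/
def hp (i j : Ix n) (l m : Fˣ) : Fin n → Fˣ := hi i l * hi j m

omit [CharP F 2] in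
theorem ev_hp_i {i j : Ix n} (h : Dj i j) (l m : Fˣ) : ev (hp i j l m) i = l := by
  rw [hp, ev_mul_apply, ev_hi_self, ev_hi_of h.symm, mul_one]

omit [CharP F 2] in
theorem ev_hp_j {i j : Ix n} (h : Dj i j) (l m : Fˣ) : ev (hp i j l m) j = m := by
  rw [hp, ev_mul_apply, ev_hi_self, ev_hi_of h, one_mul]

omit [CharP F 2] in
theorem ev_hp_k {i j k : Ix n} (hik : Dj i k) (hjk : Dj j k) (l m : Fˣ) : ev (hp i j l m) k = 1 := by
  rw [hp, ev_mul_apply, ev_hi_of hik, ev_hi_of hjk, one_mul]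

section frame

variable {R : Frame n F G}

/-- the Weyl element of `e_i - e_j` -/
noncomputable def Frame.N (R : Frame n F G) {i j : Ix n} (h : Dj i j) : G := R.w ⟨tr j i, tr_mem h.symm⟩

theorem N_eq (R : Frame n F G) {i j : Ix n} (h : Dj i j) :
    R.x (neg i) j 1 * R.x i (neg j) 1 * R.x (neg i) j 1 = R.N h := by
  rw [Frame.N, R.w_tr h.symm, R.x_symm j (neg i), R.x_symm (neg j) i]

theorem NN (R : Frame n F G) {i j : Ix n} (h : Dj i j) : R.N h * R.N h = 1 := by
  have e : (⟨tr j i, tr_mem h.symm⟩ : SpN.W n) * ⟨tr j i, tr_mem h.symm⟩ = 1 := Subtype.ext (tr_tr h)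
  rw [Frame.N, ← map_mul, e, map_one]

theorem N_inv (R : Frame n F G) {i j : Ix n} (h : Dj i j) : (R.N h)⁻¹ = R.N h :=
  inv_eq_of_mul_eq_one_right (NN R h)

theorem N_x (R : Frame n F G) {i j : Ix n} (h : Dj i j) (k l : Ix n) (a : F) :
    R.N h * R.x k l a * R.N h = R.x (tr j i k) (tr j i l) a := by
  have := R.w_x ⟨tr j i, tr_mem h.symm⟩ k l a
  have e := N_inv R h
  rw [Frame.N] at e ⊢
  rw [e] at this
  exact this

theorem N_y (R : Frame n F G) {i j : Ix n} (h : Dj i j) (k : Ix n) (a : F) :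
    R.N h * R.y k a * R.N h = R.y (tr j i k) a := by
  have := R.w_y ⟨tr j i, tr_mem h.symm⟩ k a
  have e := N_inv R h
  rw [Frame.N] at e ⊢
  rw [e] at this
  exact this

theorem N_t (R : Frame n F G) {i j : Ix n} (h : Dj i j) : Commute (R.N h) R.t := R.w_t _

theorem N_h (R : Frame n F G) {i j : Ix n} (h : Dj i j) (l m : Fˣ) :
    R.h (hp i j l m) * R.N h = R.N h * R.h (hp i j m l) := by
  have hn : ∀ k, tr j i (neg k) = neg (tr j i k) := tr_mem h.symm
  have := R.w_h ⟨tr j i, tr_mem h.symm⟩ (hp i j m l) (hp i j l m) (fun k => by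
    change ev (hp i j l m) (tr j i k) = _
    rcases cases5 i j k with rfl | rfl | rfl | rfl | ⟨h1, h2⟩
    · rw [tr_i h, ev_hp_j h, ev_hp_i h]
    · rw [tr_j h, ev_hp_j h, ev_hp_i h]
    · rw [hn, tr_i h, ev_neg, ev_neg, ev_hp_j h, ev_hp_i h]
    · rw [hn, tr_j h, ev_neg, ev_neg, ev_hp_j h, ev_hp_i h]
    · rw [tr_of h1 h2, ev_hp_k h1 h2, ev_hp_k h1 h2])
  rw [Frame.N, ← this]; group

variable {γ : F} (V : DL R γ)

/-- `w₂ = w₁ ^ n` -/
noncomputable def DL.w2 {i j : Ix n} (h : Dj i j) (u : F) : G := R.N h * V.wl i u * R.N h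

variable [Finite F]

theorem DL.w2_mem {i j : Ix n} (h : Dj i j) (u : F) : V.w2 h u ∈ V.V j := by
  have := V.weyl i _ (V.wl_mem i u) ⟨tr j i, tr_mem h.symm⟩
  change _ ∈ V.V (tr j i i) at this
  rw [tr_i h] at this
  have e := N_inv R h
  rw [Frame.N] at e
  rw [e] at this
  exact this

theorem DL.w2_t {i j : Ix n} (h : Dj i j) (u : F) : R.t * V.w2 h u * R.t = V.w2 h u * R.y j u := by
  have c := N_t R h
  have n2 : ∀ g, R.N h * (R.N h * g) = g := fun g => by rw [← mul_assoc, NN R h, one_mul]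
  have e := N_y R h i u
  rw [tr_i h] at e
  have e1 := V.wl_t i u
  calc R.t * V.w2 h u * R.t = (R.t * R.N h) * V.wl i u * (R.N h * R.t) := by rw [DL.w2]; group
    _ = (R.N h * R.t) * V.wl i u * (R.t * R.N h) := congrArg₂ (fun a b => a * V.wl i u * b) c.eq.symm c.eq
    _ = R.N h * (R.t * V.wl i u * R.t) * R.N h := by group
    _ = (R.N h * V.wl i u * R.N h) * (R.N h * R.y i u * R.N h) := by
        rw [e1]; simp only [mul_assoc, n2]
    _ = _ := by rw [e, DL.w2]

theorem DL.h_w2 {i j : Ix n} (h : Dj i j) (l m : Fˣ) (u : F) :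
    R.h (hp i j l m) * V.w2 h u * (R.h (hp i j l m))⁻¹ = V.w2 h (m * m * u) := by
  have e := N_h R h l m
  have e' : R.N h * (R.h (hp i j l m))⁻¹ = (R.h (hp i j m l))⁻¹ * R.N h := by
    have := N_h R h m l
    rw [mul_inv_eq_iff_eq_mul, mul_assoc, ← this, inv_mul_cancel_left]
  have e2 := V.h_wl i (hp i j m l) u
  rw [ev_hp_i h] at e2
  calc R.h (hp i j l m) * V.w2 h u * (R.h (hp i j l m))⁻¹
      = (R.h (hp i j l m) * R.N h) * V.wl i u * (R.N h * (R.h (hp i j l m))⁻¹) := by rw [DL.w2]; group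
    _ = R.N h * (R.h (hp i j m l) * V.wl i u * (R.h (hp i j m l))⁻¹) * R.N h := by rw [e, e']; group
    _ = _ := by rw [e2, DL.w2]

/-- the constant `ε` -/
theorem DL.exists_eps (h4 : ∀ i j, Dj i j → ∀ g ∈ V.V i, ∀ g' ∈ V.V j, ∃ a, g * g' = g' * g * R.x i j a)
    {i j : Ix n} (h : Dj i j) : ∃ ε : F, ∀ u v,
      V.wl i u * V.w2 h v = V.w2 h v * V.wl i u * R.x i j (ε * rtF F (u * v)) := by
  choose a ha using fun u v => h4 i j h _ (V.wl_mem i u) _ (V.w2_mem h v)
  have tor : ∀ (l m : Fˣ) u v, a (l * l * u) (m * m * v) = l * m * a u v := fun l m u v => by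
    have e := congrArg (fun g => R.h (hp i j l m) * g * (R.h (hp i j l m))⁻¹) (ha u v)
    have c : ∀ x y, R.h (hp i j l m) * (x * y) * (R.h (hp i j l m))⁻¹ =
      (R.h (hp i j l m) * x * (R.h (hp i j l m))⁻¹) * (R.h (hp i j l m) * y * (R.h (hp i j l m))⁻¹) :=
      fun x y => by group
    simp only [c, V.h_wl, V.h_w2, R.h_x, ev_hp_i h, ev_hp_j h] at e
    rw [ha] at e
    exact R.x_inj h (mul_left_cancel e)
  refine ⟨a 1 1, fun u v => ?_⟩
  rw [ha u v]
  congr 2
  by_cases hu : u = 0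
  · subst hu
    have e := ha 0 v
    rw [V.wl_zero, one_mul, mul_one] at e
    rw [R.x_eq_one h (left_eq_mul.mp e)]; simp
  by_cases hv : v = 0
  · subst hv
    have e := ha u 0
    have w0 : V.w2 h 0 = 1 := by rw [DL.w2, V.wl_zero, mul_one, NN]
    rw [w0, one_mul, mul_one] at e
    rw [R.x_eq_one h (left_eq_mul.mp e)]; simp
  have e := tor (Units.mk0 _ (rt_ne F hu)) (Units.mk0 _ (rt_ne F hv)) 1 1
  simp only [Units.val_mk0, mul_one, rt_sq] at e
  rw [e, map_mul]; ring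

end frame

end Cfsg.Agent.OddHalf.SpN
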