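import Cfsg.Agent.OddHalf.SpN.ShortC

/-!
# ODD D7, `K = Sp_2n(q)`, `q ≥ 4` even: commutators of the doubles of the short root groups, 2 (helper570)

* `par_mem` : `[W_ij, W_{i,-j}] ≤ Y_i`;
* `mem120` : `[W_jk, W_{i,-j}] ≤ W_ik`.
-/

set_option autoImplicit false

namespace Cfsg.Agent.OddHalf.SpN

open scoped commutatorElement

variable {n : ℕ} {F : Type*} [Field F] {G : Type*} [Group G]

theorem exists_nu [CharP F 2] (hF : ∃ μ : Fˣ, (μ : F) ≠ 1) : ∃ ν : Fˣ, ((ν * ν : Fˣ) : F) ≠ 1 := by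
  obtain ⟨μ, hμ⟩ := hF
  refine ⟨μ, fun h => hμ ?_⟩
  have h1 : ((μ : F) - 1) ^ 2 = 0 := by
    have : ((μ : F) - 1) ^ 2 = (μ : F) * μ - 1 - 2 * (μ - 1) := by ring
    rw [this, two0, zero_mul, sub_zero, ← Units.val_mul, h, sub_self]
  exact sub_eq_zero.1 (pow_eq_zero_iff (two_ne_zero) |>.1 h1)

/-- a torus element with two prescribed values -/
theorem exists_lam2 {i j : Ix n} (hij : Dj i j) (μ ν : Fˣ) : ∃ lam : Fin n → Fˣ, ev lam i = μ ∧ ev lam j = ν ∧
    ∀ l, Dj i l → Dj j l → ev lam l = 1 := by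
  obtain ⟨l1, a1, a2⟩ := exists_lam i μ
  obtain ⟨l2, b1, b2⟩ := exists_lam j ν
  have hm : ∀ k, ev (l1 * l2) k = ev l1 k * ev l2 k := by
    intro k
    rcases k with k | k <;> simp [ev, mul_comm]
  exact ⟨l1 * l2, by rw [hm, a1, b2 i hij.symm, mul_one], by rw [hm, a2 j hij, b1, one_mul],
    fun l h1 h2 => by rw [hm, a2 l h1, b2 l h2, mul_one]⟩

/-- `⁅g, A x⁆` if `x⁻¹`-conjugation moves `g` by `w` commuting with everything -/
theorem comm_mul_x' {g A x w : G} (h : x * g * x⁻¹ = g * w) (wg : Commute w g) (wA : Commute w A) :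
    ⁅g, A * x⁆ = ⁅g, A⁆ * w⁻¹ := by
  have h1 : x * g⁻¹ * x⁻¹ = w⁻¹ * g⁻¹ := by
    have : x * g⁻¹ * x⁻¹ = (x * g * x⁻¹)⁻¹ := by group
    rw [this, h, mul_inv_rev]
  rw [commutatorElement_def, commutatorElement_def]
  calc g * (A * x) * g⁻¹ * (A * x)⁻¹ = g * A * (x * g⁻¹ * x⁻¹) * A⁻¹ := by group
    _ = g * A * (w⁻¹ * g⁻¹) * A⁻¹ := by rw [h1]
    _ = g * A * (g⁻¹ * w⁻¹) * A⁻¹ := by rw [wg.inv_inv.eq]
    _ = g * A * g⁻¹ * (w⁻¹ * A⁻¹) := by group
    _ = g * A * g⁻¹ * (A⁻¹ * w⁻¹) := by rw [wA.inv_inv.eq]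
    _ = _ := by group

namespace DS

variable [CharP F 2] {R : Frame n F G} {δ : F} (D : DS R δ)
include D

/-- conjugates of partners -/
theorem par' {i j : Ix n} (hij : Dj i j) {g : G} (hg : g ∈ D.W i j) (b : F) :
    ∃ f, g⁻¹ * R.x i (neg j) b * g = R.x i (neg j) b * R.y i f := by
  obtain ⟨u, hu⟩ := D.ht i j hij g hg
  have h := D.par i j hij g hg u hu b
  refine ⟨δ * u * b, ?_⟩
  have h1 : Commute (R.y i (δ * u * b)) (R.x i (neg j) b) :=
    R.y_x_comm (ne_neg i) (fun e => hij.1 (neg_inj.1 e).symm) _ _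
  have h2 : Commute g (R.y i (δ * u * b)) := D.cy i j hij g hg i _ (ne_neg i) hij.2
  have h3 : g * R.x i (neg j) b = R.y i (δ * u * b) * R.x i (neg j) b * g := by
    rw [← h, commutatorElement_def]; group
  have h4 : R.y i (δ * u * b) * (g⁻¹ * R.x i (neg j) b * g) = R.x i (neg j) b := by
    calc R.y i (δ * u * b) * (g⁻¹ * R.x i (neg j) b * g)
        = (R.y i (δ * u * b) * g⁻¹) * R.x i (neg j) b * g := by group
      _ = g⁻¹ * (R.y i (δ * u * b) * R.x i (neg j) b * g) := by rw [← h2.inv_left.eq]; group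
      _ = _ := by rw [← h3]; group
  calc g⁻¹ * R.x i (neg j) b * g
      = (R.y i (δ * u * b) * R.y i (δ * u * b)) * (g⁻¹ * R.x i (neg j) b * g) := by rw [R.y_sq, one_mul]
    _ = R.y i (δ * u * b) * R.x i (neg j) b := by rw [mul_assoc, h4]
    _ = _ := h1.eq

/-- one half of `par_mem` -/
theorem par_half (hF : ∃ μ : Fˣ, (μ : F) ≠ 1) (hK : KT R) {i j : Ix n} (hij : Dj i j)
    {g g' : G} (hg : g ∈ D.W i j) (hg' : g' ∈ D.W i (neg j)) :
    ∃ a b, ⁅g, g'⁆ = R.x i (neg j) a * R.y i b := by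
  have hij' : Dj i (neg j) := dj_neg_right.2 hij
  have n1 : i ≠ neg j := hij.2
  have n1' : j ≠ neg i := hij.symm.2
  have n4 : i ≠ j := hij.1
  have n4' : neg j ≠ neg i := fun e => hij.1 (neg_inj.1 e).symm
  have nn : ∀ {l : Ix n}, l ≠ j → l ≠ neg (neg j) := fun h e => h (by rw [e, neg_neg])
  -- the decomposition
  have main : ∀ g' ∈ D.W i (neg j), ∃ e f r s, (e = 1 ∨ e = R.t) ∧
      ⁅g, g'⁆ = e * R.x i j f * R.x i (neg j) r * R.y i s := by
    intro g' hg'
    have gy : ∀ s, Commute g (R.y i s) := fun s => D.cy i j hij g hg i s (ne_neg i) n1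
    have gy' : ∀ s, Commute g' (R.y i s) := fun s => D.cy i (neg j) hij' g' hg' i s (ne_neg i) (nn n4)
    obtain ⟨u, hu⟩ := D.ht i j hij g hg
    obtain ⟨u', hu'⟩ := D.ht i (neg j) hij' g' hg'
    have p1 := D.par i j hij g hg u hu u'
    have p2 := D.par i (neg j) hij' g' hg' u' hu' u
    rw [neg_neg] at p2
    have e1 : δ * u' * u = δ * u * u' := by ring
    rw [e1] at p2
    set x := R.x i j u with hx
    set x' := R.x i (neg j) u' with hx'
    set y := R.y i (δ * u * u') with hy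
    have xx' : Commute x x' := by
      have h := R.x_comm' (i := j) (j := i) u u'
      rw [R.x_symm j i, R.x_symm (neg j) i] at h
      exact h
    have yx : Commute y x := R.y_x_comm (ne_neg i) n1' _ _
    have yx' : Commute y x' := R.y_x_comm (ne_neg i) n4' _ _
    have xsq : x * x = 1 := R.x_sq _ _ _
    have x'sq : x' * x' = 1 := R.x_sq _ _ _
    have ysq : y * y = 1 := R.y_sq _ _
    have xinv : x⁻¹ = x := R.x_inv _ _ _
    have x'inv : x'⁻¹ = x' := R.x_inv _ _ _
    have yg : Commute y g := (gy _).symm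
    have yg' : Commute y g' := (gy' _).symm
    -- `x' g x'⁻¹ = g y`
    have q1 : x' * g * x'⁻¹ = g * y := by
      have h1 : g * x' = y * x' * g := by rw [← p1, commutatorElement_def]; group
      have h2 : y * (x' * g * x'⁻¹) = g := by
        calc y * (x' * g * x'⁻¹) = (y * x' * g) * x'⁻¹ := by group
          _ = g * x' * x'⁻¹ := by rw [h1]
          _ = g := by group
      calc x' * g * x'⁻¹ = (y * y) * (x' * g * x'⁻¹) := by rw [ysq, one_mul]
        _ = y * g := by rw [mul_assoc, h2]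
        _ = _ := yg.eq
    have q2 : x * g' * x⁻¹ = g' * y := by
      have h1 : g' * x = y * x * g' := by rw [← p2, commutatorElement_def]; group
      have h2 : y * (x * g' * x⁻¹) = g' := by
        calc y * (x * g' * x⁻¹) = (y * x * g') * x⁻¹ := by group
          _ = g' * x * x⁻¹ := by rw [h1]
          _ = g' := by group
      calc x * g' * x⁻¹ = (y * y) * (x * g' * x⁻¹) := by rw [ysq, one_mul]
        _ = y * g' := by rw [mul_assoc, h2]
        _ = _ := yg'.eq
    have ct : Commute ⁅g, g'⁆ R.t := by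
      apply R.comm_of_t
      rw [commutatorElement_def, R.t_mul, R.t_mul, R.t_mul, R.t_inv', R.t_inv', hu, hu']
      show ⁅g * x, g' * x'⁆ = g * g' * g⁻¹ * g'⁻¹
      have c1 : x' * (g * x) * x'⁻¹ = (g * x) * y := by
        calc x' * (g * x) * x'⁻¹ = (x' * g * x'⁻¹) * (x' * x) * x'⁻¹ := by group
          _ = (g * y) * (x * x') * x'⁻¹ := by rw [q1, xx'.eq]
          _ = g * (y * x) := by group
          _ = _ := by rw [yx.eq]; group
      rw [comm_mul_x' c1 (yg.mul_right yx) yg']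
      have c2 : ⁅g * x, g'⁆ = ⁅g, g'⁆ * y := by
        have h1 : ⁅g', g * x⁆ = ⁅g', g⁆ * y⁻¹ := comm_mul_x' q2 yg' yg
        rw [← commutatorElement_inv, h1, mul_inv_rev, inv_inv, commutatorElement_inv]
        have : Commute y ⁅g, g'⁆ := by
          rw [commutatorElement_def]
          exact ((yg.mul_right yg').mul_right yg.inv_right).mul_right yg'.inv_right
        exact this.eq
      rw [c2, mul_assoc, mul_inv_cancel, mul_one]
      rfl
    have cy : ∀ s, Commute ⁅g, g'⁆ (R.y i s) := by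
      intro s
      exact comm_of_conj (gy s) (by
        have : g'⁻¹ * R.y i s * g' = R.y i s := by rw [(gy' s).inv_left.eq]; group
        rw [this]; exact gy s)
    have cx : ∀ l s, Dj i l → Commute ⁅g, g'⁆ (R.x i l s) := by
      intro l s hl
      have l1 : l ≠ neg i := hl.symm.2
      by_cases h1 : l = neg j
      · rw [h1]
        have c1 : Commute g' (R.x i (neg j) s) := D.comm i (neg j) hij' g' hg' _ (D.x_mem i (neg j) s)
        obtain ⟨f, hf⟩ := D.par' hij hg s
        exact comm_of_conj' c1 (by rw [hf]; exact c1.mul_right (gy' f))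
      have c0 : Commute g (R.x i l s) := D.cX hij hg (ne_neg i) n1 l1 h1 s
      by_cases h2 : l = j
      · rw [h2] at c0 ⊢
        obtain ⟨f, hf⟩ := D.par' hij' hg' s
        rw [neg_neg] at hf
        exact comm_of_conj c0 (by rw [hf]; exact c0.mul_right (gy f))
      · have c1 : Commute g' (R.x i l s) := D.cX hij' hg' (ne_neg i) (nn n4) l1 (nn h2) s
        exact comm_of_conj c0 (by
          have : g'⁻¹ * R.x i l s * g' = R.x i l s := by rw [c1.inv_left.eq]; group
          rw [this]; exact c0)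
    have ch : ∀ lam, ev lam i = 1 → ev lam j = 1 → Commute ⁅g, g'⁆ (R.h lam) := by
      intro lam l1 l2
      have h1 : Commute g (R.h lam) := Commute.symm (D.torus_one i j hij g hg lam (by rw [l1, l2, one_mul]))
      have h2 : Commute g' (R.h lam) := Commute.symm (D.torus_one i (neg j) hij' g' hg' lam (by
        rw [ev_neg, l1, l2, inv_one, one_mul]))
      exact comm_of_conj h1 (by
        have : g'⁻¹ * R.h lam * g' = R.h lam := by rw [h2.inv_left.eq]; group
        rw [this]; exact h1)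
    obtain ⟨e, f, g0, r, he, h⟩ := hK.kQ i j hij _ ct cy cx ch
    exact ⟨e, g0, r, f, he, h⟩
  -- equivariance
  obtain ⟨ν, hν⟩ := exists_nu hF
  obtain ⟨lam, l1, l2, -⟩ := exists_lam2 hij ν ν⁻¹
  have l3 : ev lam i * ev lam j = 1 := by rw [l1, l2, mul_inv_cancel]
  have l4 : ev lam i * ev lam (neg j) = ν * ν := by rw [ev_neg, l1, l2, inv_inv]
  obtain ⟨g1, hg1, a, rfl⟩ := D.exists_decomp hij' hν l4 hg'
  obtain ⟨e, f, r, s, he, h⟩ := main g1 hg1
  have gy1 : ∀ s, Commute g1 (R.y i s) := fun s => D.cy i (neg j) hij' g1 hg1 i s (ne_neg i) (nn n4)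
  -- the subgroup `Q`
  have xy : ∀ a b, Commute (R.x i (neg j) a) (R.y i b) := fun a b => (R.y_x_comm (ne_neg i) n4' _ _).symm
  let Q : Subgroup G :=
    { carrier := {z | ∃ a b, z = R.x i (neg j) a * R.y i b}
      one_mem' := ⟨0, 0, by rw [R.x_zero, R.y_zero, mul_one]⟩
      mul_mem' := by
        rintro _ _ ⟨a, b, rfl⟩ ⟨a', b', rfl⟩
        refine ⟨a + a', b + b', ?_⟩
        rw [R.x_add, R.y_add]
        calc R.x i (neg j) a * R.y i b * (R.x i (neg j) a' * R.y i b')
            = R.x i (neg j) a * (R.y i b * R.x i (neg j) a') * R.y i b' := by group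
          _ = R.x i (neg j) a * (R.x i (neg j) a' * R.y i b) * R.y i b' := by rw [(xy a' b).eq]
          _ = _ := by group
      inv_mem' := by
        rintro _ ⟨a, b, rfl⟩
        exact ⟨a, b, by rw [mul_inv_rev, R.x_inv, R.y_inv, (xy a b).eq]⟩ }
  have memQ : ∀ {z}, z ∈ Q ↔ ∃ a b, z = R.x i (neg j) a * R.y i b := Iff.rfl
  have het : ∀ x : G, Commute x R.t → Commute x e := fun x hx => D.comm_e he hx
  have hee : e * e = 1 := by
    rcases he with rfl | rfl
    · rw [mul_one]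
    · exact R.tt
  have hcom : ∀ z x : G, x ∈ Q → Commute z x → z * z = 1 → z * x * z ∈ Q := by
    intro z x hx hzx hz
    rw [hzx.eq, mul_assoc, hz, mul_one]; exact hx
  have key : ⁅g, g1 * (R.h lam * g1 * (R.h lam)⁻¹)⁆ ∈ Q := by
    refine kill (e := e) (p := R.x i j f) (q := R.x i (neg j) r * R.y i s) Q (memQ.2 ⟨r, s, rfl⟩)
      (by rw [h]; group) (D.torus_one i j hij g hg lam l3) (het _ (R.h_t lam))
      (R.h_comm l3 f) hee (R.x_sq _ _ _) (het _ (R.x_t _ _ _)).symm ?_ ?_ ?_ ?_ ?_ ?_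
    · rintro x ⟨a, b, rfl⟩
      refine ⟨ev lam i * ev lam (neg j) * a, ev lam i ^ 2 * b, ?_⟩
      calc R.h lam * (R.x i (neg j) a * R.y i b) * (R.h lam)⁻¹
            = (R.h lam * R.x i (neg j) a * (R.h lam)⁻¹) * (R.h lam * R.y i b * (R.h lam)⁻¹) := by group
        _ = _ := by rw [R.h_x, R.h_y]
    · intro x hx
      refine hcom _ _ hx (Commute.symm (het _ ?_)) hee
      obtain ⟨a, b, rfl⟩ := hx
      exact (R.x_t _ _ _).mul_left (R.y_t _ _)
    · intro x hx
      refine hcom _ _ hx ?_ (R.x_sq _ _ _)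
      obtain ⟨a, b, rfl⟩ := hx
      refine Commute.mul_right ?_ (R.y_x_comm (ne_neg i) n1' _ _).symm
      have h := R.x_comm' (i := j) (j := i) f a
      rw [R.x_symm j i, R.x_symm (neg j) i] at h
      exact h
    · rintro x ⟨a, b, rfl⟩
      have c1 : Commute g1 (R.x i (neg j) a) := D.comm i (neg j) hij' g1 hg1 _ (D.x_mem i (neg j) a)
      rw [(c1.mul_right (gy1 b)).eq, mul_inv_cancel_right]
      exact ⟨a, b, rfl⟩
    · rcases he with rfl | rfl
      · simpa using one_mem _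
      · obtain ⟨u, hu⟩ := D.conj_t hij' hg1
        rw [hu]
        exact ⟨u, 0, by rw [R.y_zero, mul_one]⟩
    · have h1 := D.par' hij' (inv_mem hg1) f
      rw [neg_neg, inv_inv] at h1
      obtain ⟨b, hb⟩ := h1
      rw [hb]
      refine ⟨0, b, ?_⟩
      have c3 : Commute (R.x i j f) (R.y i b) := (R.y_x_comm (ne_neg i) n1' _ _).symm
      rw [R.x_zero, one_mul, c3.eq, mul_assoc, R.x_sq, mul_one]
  -- the factor `x_{i,-j}(a)`
  obtain ⟨b, hb⟩ := D.par' hij (g := g⁻¹) (inv_mem hg) a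
  rw [inv_inv] at hb
  have gyi : ∀ s, Commute g (R.y i s) := fun s => D.cy i j hij g hg i s (ne_neg i) n1
  have hH1 : R.h lam * g1 * (R.h lam)⁻¹ ∈ D.W i (neg j) := D.torus i (neg j) hij' g1 hg1 lam
  have c4 : R.x i (neg j) a * g * (R.x i (neg j) a)⁻¹ = g * R.y i b := by
    have h1 : g * R.x i (neg j) a = R.x i (neg j) a * (g * R.y i b) := by
      calc g * R.x i (neg j) a = (g * R.x i (neg j) a * g⁻¹) * g := by group
        _ = R.x i (neg j) a * (R.y i b * g) := by rw [hb]; group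
        _ = _ := by rw [(gyi b).eq]
    rw [R.x_inv]
    calc R.x i (neg j) a * g * R.x i (neg j) a = R.x i (neg j) a * (g * R.x i (neg j) a) := by group
      _ = (R.x i (neg j) a * R.x i (neg j) a) * (g * R.y i b) := by rw [h1]; group
      _ = _ := by rw [R.x_sq, one_mul]
  rw [comm_mul_x' c4 (gyi b).symm (Commute.symm (D.cy i (neg j) hij' _ (mul_mem hg1 hH1) i b (ne_neg i) (nn n4)))]
  obtain ⟨a', b', h'⟩ := key
  refine ⟨a', b' + b, ?_⟩
  rw [h', R.y_inv, R.y_add]
  group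

/-- **partners**: `[W_ij, W_{i,-j}] ≤ Y_i` -/
theorem par_mem (hF : ∃ μ : Fˣ, (μ : F) ≠ 1) (hK : KT R) {i j k : Ix n} (hij : Dj i j) (hik : Dj i k)
    (hjk : Dj j k) {g g' : G} (hg : g ∈ D.W i j) (hg' : g' ∈ D.W i (neg j)) : ∃ b, ⁅g, g'⁆ = R.y i b := by
  have hij' : Dj i (neg j) := dj_neg_right.2 hij
  obtain ⟨a, b, h1⟩ := D.par_half hF hK hij hg hg'
  obtain ⟨a', b', h2⟩ := D.par_half hF hK hij' hg' (g' := g) (by rw [neg_neg]; exact hg)
  rw [neg_neg] at h2
  have h3 : R.x i (neg j) a = R.x i j a' * R.y i b' * R.y i b := by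
    have h4 : ⁅g, g'⁆ = R.x i j a' * R.y i b' := by
      rw [← commutatorElement_inv, h2, mul_inv_rev, R.x_inv, R.y_inv]
      exact (R.y_x_comm (ne_neg i) hij.symm.2 _ _).eq
    calc R.x i (neg j) a = R.x i (neg j) a * (R.y i b * R.y i b) := by rw [R.y_sq, mul_one]
      _ = ⁅g, g'⁆ * R.y i b := by rw [h1]; group
      _ = _ := by rw [h4]
  have h5 : Commute (R.x i (neg j) a) (R.x j k 1) := by
    rw [h3]
    exact ((R.x_comm hij.symm.2 (ne_neg j) hik.symm.2 hjk.symm.2 _ _).mul_left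
      (R.y_x_comm hij.symm.2 hik.symm.2 _ _)).mul_left (R.y_x_comm hij.symm.2 hik.symm.2 _ _)
  have h6 := R.x_rel (i := i) (j := neg j) (k := k) hij' (dj_neg_left.mpr hjk) hik a 1
  rw [neg_neg, h5.eq, mul_one] at h6
  have h7 : R.x i k a = 1 := by
    calc R.x i k a = R.x i k a * (R.x j k 1 * R.x i (neg j) a) * (R.x j k 1 * R.x i (neg j) a)⁻¹ := by group
      _ = 1 := by rw [← h6]; group
  have h8 := R.x_eq_one hik h7
  rw [h8, R.x_zero, one_mul] at h1
  exact ⟨b, h1⟩

/-- one half of `mem120` -/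
theorem half120 (hF : ∃ μ : Fˣ, (μ : F) ≠ 1) (hK : KT R) {i j k : Ix n} (hij : Dj i j) (hik : Dj i k)
    (hjk : Dj j k) {g g' : G} (hg : g ∈ D.W j k) (hg' : g' ∈ D.W i (neg j)) :
    ∃ a, ∃ m ∈ D.W i k, ⁅g, g'⁆ = R.x i (neg j) a * m := by
  have hij' : Dj i (neg j) := dj_neg_right.2 hij
  have n1 : i ≠ neg j := hij.2
  have n2 : i ≠ neg k := hik.2
  have n3 : j ≠ neg k := hjk.2
  have n1' : j ≠ neg i := hij.symm.2
  have n2' : k ≠ neg i := hik.symm.2
  have n3' : k ≠ neg j := hjk.symm.2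
  have n4 : i ≠ j := hij.1
  have n5 : i ≠ k := hik.1
  have n6 : j ≠ k := hjk.1
  have m4 : neg j ≠ neg i := fun e => hij.1 (neg_inj.1 e).symm
  have m6 : neg j ≠ neg k := fun e => hjk.1 (neg_inj.1 e)
  have nn : ∀ {l : Ix n}, l ≠ j → l ≠ neg (neg j) := fun h e => h (by rw [e, neg_neg])
  -- `W_ik` centralises `W_jk` and `W_{i,-j}`
  have cjk : ∀ m ∈ D.W i k, ∀ g ∈ D.W j k, Commute m g := by
    intro m hm g hg
    have hm' : m ∈ D.W k i := by rw [D.symm]; exact hm
    have hg' : g ∈ D.W k j := by rw [D.symm]; exact hg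
    exact D.comm60 hF hK hik.symm hjk.symm hij hm' hg'
  have cij : ∀ m ∈ D.W i k, ∀ g' ∈ D.W i (neg j), Commute m g' := fun m hm g' hg' =>
    D.comm60 hF hK hik hij' (dj_neg_right.2 hjk.symm) hm hg'
  have cik : ∀ m ∈ D.W i k, ∀ m' ∈ D.W i k, Commute m m' := fun m hm m' hm' => D.comm i k hik m hm m' hm'
  -- conjugates
  have w1 : ∀ g ∈ D.W j k, ∀ b, g⁻¹ * (R.x i (neg j) b * g * R.x i (neg j) b) ∈ D.W i k := fun g hg b =>
    D.conj_mem hF hK.toKS hij hik hjk hg b
  have w2 : ∀ g' ∈ D.W i (neg j), ∀ b, g'⁻¹ * (R.x j k b * g' * R.x j k b) ∈ D.W i k := by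
    intro g' hg' b
    have h := D.conj_mem hF hK.toKS (i := k) (j := neg j) (k := i) (dj_neg_right.2 hjk.symm) hik.symm
      (dj_neg_left.2 hij.symm) (g := g') (by rw [D.symm]; exact hg') b
    rw [neg_neg, R.x_symm k j, D.symm] at h
    exact h
  have ik_jk : ∀ s s', Commute (R.x i k s) (R.x j k s') := fun s s' => R.x_comm n1' n3 n2' (ne_neg k) _ _
  -- `x_{i,-j}` and `x_jk`
  have xx : ∀ b u, R.x j k u * R.x i (neg j) b * R.x j k u = R.x i (neg j) b * R.x i k (b * u) := by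
    intro b u
    have h := R.x_rel (i := i) (j := neg j) (k := k) hij' (dj_neg_left.mpr hjk) hik b u
    rw [neg_neg] at h
    have c1 : Commute (R.x i k (b * u)) (R.x i (neg j) b) :=
      R.x_comm (ne_neg i) n2 m4 m6 _ _
    calc R.x j k u * R.x i (neg j) b * R.x j k u
        = R.x j k u * (R.x i k (b * u) * (R.x j k u * R.x i (neg j) b)) := by rw [← h]; group
      _ = (R.x j k u * R.x i k (b * u)) * R.x j k u * R.x i (neg j) b := by group
      _ = R.x i k (b * u) * (R.x j k u * R.x j k u) * R.x i (neg j) b := by rw [← (ik_jk _ _).eq]; group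
      _ = _ := by rw [R.x_sq, mul_one, c1.eq]
  -- the decomposition
  have main : ∀ g' ∈ D.W i (neg j), ∃ e f r, ∃ m ∈ D.W i k, (e = 1 ∨ e = R.t) ∧
      ⁅g, g'⁆ = e * R.x j k f * (R.x i (neg j) r * m) := by
    intro g' hg'
    obtain ⟨u, hu⟩ := D.ht j k hjk g hg
    obtain ⟨u', hu'⟩ := D.ht i (neg j) hij' g' hg'
    set c := ⁅g, g'⁆ with hc
    have cc : ∀ m ∈ D.W i k, Commute m c := by
      intro m hm
      have h1 := cjk m hm g hg
      have h2 := cij m hm g' hg'
      rw [hc, commutatorElement_def]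
      exact ((h1.mul_right h2).mul_right h1.inv_right).mul_right h2.inv_right
    obtain ⟨w, hw, hwc⟩ : ∃ w ∈ D.W i k, R.t * c * R.t = w * c := by
      set x := R.x j k u with hx
      set x' := R.x i (neg j) u' with hx'
      set a1 := g⁻¹ * (x' * g * x') with ha1
      set a2 := g'⁻¹ * (x * g' * x) with ha2
      have ma1 : a1 ∈ D.W i k := w1 g hg u'
      have ma2 : a2 ∈ D.W i k := w2 g' hg' u
      have mz : R.x i k (u' * u) ∈ D.W i k := D.x_mem i k _
      have xsq : x * x = 1 := R.x_sq _ _ _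
      have x'sq : x' * x' = 1 := R.x_sq _ _ _
      refine ⟨a2 * R.x i k (u' * u) * a1⁻¹, mul_mem (mul_mem ma2 mz) (inv_mem ma1), ?_⟩
      rw [hc, commutatorElement_def, R.t_mul, R.t_mul, R.t_mul, R.t_inv', R.t_inv', hu, hu']
      have e1 : x * g' * x = g' * a2 := by rw [ha2]; group
      have e2 : x' * g * x' = g * a1 := by rw [ha1]; group
      have e3 : x * x' * x = x' * R.x i k (u' * u) := xx u' u
      have e4 : x' * g⁻¹ * x' = a1⁻¹ * g⁻¹ := by
        have h1 : (x' * g * x')⁻¹ = x' * g⁻¹ * x' := by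
          rw [mul_inv_rev, mul_inv_rev, hx', R.x_inv]; group
        rw [← h1, e2, mul_inv_rev]
      have c1 := cjk _ mz g hg
      have c2 := cjk _ ma2 g hg
      have c3 := cij _ ma2 g' hg'
      have c4 := cjk _ ma1 g hg
      have c5 := cij _ ma1 g' hg'
      have c6 := cij _ mz g' hg'
      have c7 : Commute (R.x i k (u' * u)) x' := (R.x_comm (ne_neg i) n2 m4 m6 _ _)
      have c8 : Commute a2 x' := cij _ ma2 x' (D.x_mem i (neg j) u')
      calc g * x * (g' * x') * (g * x)⁻¹ * (g' * x')⁻¹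
          = g * x * g' * x' * x⁻¹ * g⁻¹ * x'⁻¹ * g'⁻¹ := by group
        _ = g * x * g' * (x * x) * x' * x * g⁻¹ * x' * g'⁻¹ := by
            rw [xsq, mul_one, hx, hx', R.x_inv, R.x_inv]
        _ = g * (x * g' * x) * (x * x' * x) * g⁻¹ * x' * g'⁻¹ := by group
        _ = g * (g' * a2) * (x' * R.x i k (u' * u)) * g⁻¹ * x' * g'⁻¹ := by rw [e1, e3]
        _ = g * g' * (a2 * (x' * R.x i k (u' * u))) * g⁻¹ * x' * g'⁻¹ := by group
        _ = g * g' * (a2 * (R.x i k (u' * u) * x')) * g⁻¹ * x' * g'⁻¹ := by rw [c7.eq]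
        _ = g * g' * (a2 * R.x i k (u' * u)) * (x' * g⁻¹ * x') * g'⁻¹ := by group
        _ = g * g' * (a2 * R.x i k (u' * u)) * (a1⁻¹ * g⁻¹) * g'⁻¹ := by rw [e4]
        _ = g * g' * (a2 * R.x i k (u' * u) * a1⁻¹) * g⁻¹ * g'⁻¹ := by group
        _ = (a2 * R.x i k (u' * u) * a1⁻¹) * (g * g') * g⁻¹ * g'⁻¹ := by
            have h1 : Commute (a2 * R.x i k (u' * u) * a1⁻¹) (g * g') :=
              (((c2.mul_left c1).mul_left c4.inv_left)).mul_right ((c3.mul_left c6).mul_left c5.inv_left)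
            rw [h1.eq]
        _ = _ := by group
    have hww : w * w = 1 := D.sq hF hK.toKS hij hik hjk hw
    have hwt : R.t * w * R.t = w := by
      have h1 : R.t * (R.t * c * R.t) * R.t = c := by
        calc R.t * (R.t * c * R.t) * R.t = (R.t * R.t) * c * (R.t * R.t) := by group
          _ = c := by rw [R.tt, one_mul, mul_one]
      rw [hwc, R.t_mul, hwc] at h1
      calc R.t * w * R.t = (R.t * w * R.t) * (w * c) * (w * c)⁻¹ := by group
        _ = c * (w * c)⁻¹ := by rw [h1]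
        _ = w⁻¹ := by group
        _ = w := inv_eq_of_mul_eq_one_left hww
    obtain ⟨s, rfl⟩ := D.ker i k hik w hw hwt
    obtain ⟨m0, hm0, hm0s⟩ := D.onto i k hik s
    have m0m0 : m0 * m0 = 1 := D.sq hF hK.toKS hij hik hjk hm0
    have cm0 := cc m0 hm0
    have cxs := cc _ (D.x_mem i k s)
    -- `c m0 ∈ C(t)`
    have ht : Commute (c * m0) R.t := by
      apply R.comm_of_t
      rw [R.t_mul, hwc, hm0s]
      calc R.x i k s * c * (m0 * R.x i k s) = R.x i k s * (c * m0) * R.x i k s := by group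
        _ = (c * m0) * R.x i k s * R.x i k s := by
            rw [(cxs.mul_right (cik _ (D.x_mem i k s) _ hm0)).eq]
        _ = _ := by rw [mul_assoc, R.x_sq, mul_one]
    have fix : ∀ {z : G}, Commute c z → Commute m0 z → Commute (c * m0) z := fun h1 h2 => h1.mul_left h2
    have triv : ∀ {z : G}, Commute g z → Commute g' z → Commute c z := by
      intro z h1 h2
      exact comm_of_conj h1 (by
        have : g'⁻¹ * z * g' = z := by rw [h2.inv_left.eq]; group
        rw [this]; exact h1)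
    obtain ⟨e, f, r, s', he, h⟩ := hK.k4 i j k hij hik hjk (c * m0) ht
      (fun s => fix (triv (D.cy j k hjk g hg i s n1 n2) (D.cy i (neg j) hij' g' hg' i s (ne_neg i) (nn n4)))
        (D.cy i k hik m0 hm0 i s (ne_neg i) n2))
      (fun s => fix (triv (D.cy j k hjk g hg k s n3' (ne_neg k)) (D.cy i (neg j) hij' g' hg' k s n2' (nn n6.symm)))
        (D.cy i k hik m0 hm0 k s n2' (ne_neg k)))
      (fun s => by
        refine fix ?_ (D.cX hik hm0 (ne_neg i) n2 n1' n3 s)
        have c1 : Commute g (R.x i j s) := D.cX hjk hg n1 n2 (ne_neg j) n3 s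
        obtain ⟨f, hf⟩ := D.par' hij' hg' s
        rw [neg_neg] at hf
        exact comm_of_conj c1 (by rw [hf]; exact c1.mul_right (D.cy j k hjk g hg i f n1 n2)))
      (fun s => by
        refine fix ?_ (D.cX hik hm0 n2' (ne_neg k) m4 m6 s)
        have c1 : Commute g' (R.x k (neg j) s) := D.cX hij' hg' n2' (nn n6.symm) m4 (nn (neg_ne j)) s
        obtain ⟨f, hf⟩ := D.par' hjk.symm (g := g) (by rw [D.symm]; exact hg) s
        exact comm_of_conj' c1 (by
          rw [hf]; exact c1.mul_right (D.cy i (neg j) hij' g' hg' k f n2' (nn n6.symm))))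
      (fun l s h1 h2 h3 => fix (triv (D.cy j k hjk g hg l s h2.symm.2 h3.symm.2)
        (D.cy i (neg j) hij' g' hg' l s h1.symm.2 (nn h2.symm.1))) (D.cy i k hik m0 hm0 l s h1.symm.2 h3.symm.2))
      (fun lam l1 l2 => fix
        (triv (Commute.symm (D.torus_one j k hjk g hg lam l1))
          (Commute.symm (D.torus_one i (neg j) hij' g' hg' lam (by rw [ev_neg, l2, mul_inv_cancel]))))
        (Commute.symm (D.torus_one i k hik m0 hm0 lam (by rw [l2, l1]))))
    refine ⟨e, f, r, R.x i k s' * m0, mul_mem (D.x_mem i k s') hm0, he, ?_⟩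
    calc c = c * (m0 * m0) := by rw [m0m0, mul_one]
      _ = (c * m0) * m0 := by group
      _ = _ := by rw [h]; group
  -- equivariance
  obtain ⟨μ, hμ⟩ := hF
  obtain ⟨lam, l1, l2⟩ := exists_lam i μ
  have l3 : ev lam j * ev lam k = 1 := by rw [l2 j hij, l2 k hik, one_mul]
  have l4 : ev lam i * ev lam (neg j) = μ := by rw [ev_neg, l1, l2 j hij, inv_one, mul_one]
  obtain ⟨g1, hg1, a, rfl⟩ := D.exists_decomp hij' hμ l4 hg'
  obtain ⟨e, f, r, m, hm, he, h⟩ := main g1 hg1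
  -- the subgroup `Q`
  have xm : ∀ a, ∀ m ∈ D.W i k, Commute (R.x i (neg j) a) m := fun a m hm =>
    (cij m hm _ (D.x_mem i (neg j) a)).symm
  let Q : Subgroup G :=
    { carrier := {z | ∃ a, ∃ m ∈ D.W i k, z = R.x i (neg j) a * m}
      one_mem' := ⟨0, 1, one_mem _, by rw [R.x_zero, mul_one]⟩
      mul_mem' := by
        rintro _ _ ⟨a, m, hm, rfl⟩ ⟨a', m', hm', rfl⟩
        refine ⟨a + a', m * m', mul_mem hm hm', ?_⟩
        rw [R.x_add]
        calc R.x i (neg j) a * m * (R.x i (neg j) a' * m')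
            = R.x i (neg j) a * (m * R.x i (neg j) a') * m' := by group
          _ = R.x i (neg j) a * (R.x i (neg j) a' * m) * m' := by rw [(xm a' m hm).eq]
          _ = _ := by group
      inv_mem' := by
        rintro _ ⟨a, m, hm, rfl⟩
        exact ⟨a, m⁻¹, inv_mem hm, by rw [mul_inv_rev, R.x_inv, (xm a m hm).inv_right.eq]⟩ }
  have memQ : ∀ {z}, z ∈ Q ↔ ∃ a, ∃ m ∈ D.W i k, z = R.x i (neg j) a * m := Iff.rfl
  have mQ : ∀ m ∈ D.W i k, m ∈ Q := fun m hm => ⟨0, m, hm, by rw [R.x_zero, one_mul]⟩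
  have xQ : ∀ a, R.x i (neg j) a ∈ Q := fun a => ⟨a, 1, one_mem _, by rw [mul_one]⟩
  have het : ∀ x : G, Commute x R.t → Commute x e := fun x hx => D.comm_e he hx
  have hee : e * e = 1 := by
    rcases he with rfl | rfl
    · rw [mul_one]
    · exact R.tt
  have jkm : ∀ s, ∀ m ∈ D.W i k, Commute (R.x j k s) m := fun s m hm =>
    (cjk m hm _ (D.x_mem j k s)).symm
  have key : ⁅g, g1 * (R.h lam * g1 * (R.h lam)⁻¹)⁆ ∈ Q := by
    refine kill (e := e) (p := R.x j k f) (q := R.x i (neg j) r * m) Q ⟨r, m, hm, rfl⟩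
      h (D.torus_one j k hjk g hg lam l3) (het _ (R.h_t lam))
      (R.h_comm l3 f) hee (R.x_sq _ _ _) (het _ (R.x_t _ _ _)).symm ?_ ?_ ?_ ?_ ?_ ?_
    · rintro x ⟨a, m, hm, rfl⟩
      refine ⟨ev lam i * ev lam (neg j) * a, R.h lam * m * (R.h lam)⁻¹, D.torus i k hik m hm lam, ?_⟩
      calc R.h lam * (R.x i (neg j) a * m) * (R.h lam)⁻¹
            = (R.h lam * R.x i (neg j) a * (R.h lam)⁻¹) * (R.h lam * m * (R.h lam)⁻¹) := by group
        _ = _ := by rw [R.h_x]
    · rintro x ⟨a, m, hm, rfl⟩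
      have e1 : e * (R.x i (neg j) a * m) * e = (e * R.x i (neg j) a * e) * (e * m * e) := by
        calc e * (R.x i (neg j) a * m) * e = e * R.x i (neg j) a * 1 * m * e := by group
          _ = e * R.x i (neg j) a * (e * e) * m * e := by rw [hee]
          _ = _ := by group
      rw [e1]
      refine mul_mem ?_ (mQ _ ?_)
      · rw [← (het _ (R.x_t i (neg j) a)).eq, mul_assoc, hee, mul_one]; exact xQ a
      · rcases he with rfl | rfl
        · rw [one_mul, mul_one]; exact hm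
        · exact D.t_mem hik hm
    · rintro x ⟨a, m, hm, rfl⟩
      have e1 : R.x j k f * (R.x i (neg j) a * m) * R.x j k f =
          (R.x j k f * R.x i (neg j) a * R.x j k f) * m := by
        calc R.x j k f * (R.x i (neg j) a * m) * R.x j k f
            = R.x j k f * R.x i (neg j) a * (m * R.x j k f) := by group
          _ = R.x j k f * R.x i (neg j) a * (R.x j k f * m) := by rw [(jkm f m hm).eq]
          _ = _ := by group
      rw [e1, xx a f]
      exact mul_mem (mul_mem (xQ a) (mQ _ (D.x_mem i k _))) (mQ _ hm)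
    · rintro x ⟨a, m, hm, rfl⟩
      have c1 : Commute g1 (R.x i (neg j) a) := D.comm i (neg j) hij' g1 hg1 _ (D.x_mem i (neg j) a)
      have c2 : Commute g1 m := (cij m hm g1 hg1).symm
      rw [(c1.mul_right c2).eq, mul_inv_cancel_right]
      exact ⟨a, m, hm, rfl⟩
    · rcases he with rfl | rfl
      · simpa using one_mem _
      · obtain ⟨u, hu⟩ := D.conj_t hij' hg1
        rw [hu]; exact xQ u
    · have h1 := w2 _ (inv_mem hg1) f
      rw [inv_inv] at h1
      have h2 : g1 * R.x j k f * g1⁻¹ * R.x j k f = g1 * (R.x j k f * g1⁻¹ * R.x j k f) := by group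
      rw [h2]
      exact mQ _ h1
  -- the factor `x_{i,-j}(a)`
  have m1 := w1 g hg a
  set w := g⁻¹ * (R.x i (neg j) a * g * R.x i (neg j) a) with hw
  have hH1 : R.h lam * g1 * (R.h lam)⁻¹ ∈ D.W i (neg j) := D.torus i (neg j) hij' g1 hg1 lam
  have c4 : R.x i (neg j) a * g * (R.x i (neg j) a)⁻¹ = g * w := by
    rw [R.x_inv, hw]; group
  rw [comm_mul_x' c4 (cjk w m1 g hg) (cij w m1 _ (mul_mem hg1 hH1))]
  exact mul_mem key (mQ _ (inv_mem m1))

/-- **120 degrees**: `[W_jk, W_{i,-j}] ≤ W_ik` -/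
theorem mem120 (hF : ∃ μ : Fˣ, (μ : F) ≠ 1) (hK : KT R) {i j k : Ix n} (hij : Dj i j) (hik : Dj i k)
    (hjk : Dj j k) {g g' : G} (hg : g ∈ D.W j k) (hg' : g' ∈ D.W i (neg j)) : ⁅g, g'⁆ ∈ D.W i k := by
  obtain ⟨a, m, hm, h1⟩ := D.half120 hF hK hij hik hjk hg hg'
  obtain ⟨b, m', hm', h2⟩ := D.half120 hF hK (i := k) (j := neg j) (k := i) (dj_neg_right.2 hjk.symm) hik.symm
    (dj_neg_left.2 hij.symm) (g := g') (g' := g) (by rw [D.symm]; exact hg') (by rw [neg_neg, D.symm]; exact hg)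
  rw [neg_neg, R.x_symm k j] at h2
  rw [D.symm] at hm'
  have h3 : R.x i (neg j) a = m'⁻¹ * R.x j k b * m⁻¹ := by
    have h4 : ⁅g, g'⁆ = m'⁻¹ * R.x j k b := by
      rw [← commutatorElement_inv, h2, mul_inv_rev, R.x_inv]
    rw [← h4, h1]; group
  have n2 : i ≠ neg k := hik.2
  have cx : ∀ m ∈ D.W i k, ∀ s, Commute m (R.x j k s) := fun m hm s =>
    D.cX hik hm hij.symm.2 hjk.2 hik.symm.2 (ne_neg k) s
  have h5 : Commute (R.x i (neg j) a) (R.x j k 1) := by
    rw [h3]
    exact ((cx _ hm' 1).inv_left.mul_left (R.x_comm (ne_neg j) hjk.2 hjk.symm.2 (ne_neg k) _ _)).mul_left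
      (cx _ hm 1).inv_left
  have h6 := R.x_rel (i := i) (j := neg j) (k := k) (dj_neg_right.2 hij) (dj_neg_left.mpr hjk) hik a 1
  rw [neg_neg, h5.eq, mul_one] at h6
  have h7 : R.x i k a = 1 := by
    calc R.x i k a = R.x i k a * (R.x j k 1 * R.x i (neg j) a) * (R.x j k 1 * R.x i (neg j) a)⁻¹ := by group
      _ = 1 := by rw [← h6]; group
  have h8 := R.x_eq_one hik h7
  rw [h1, h8, R.x_zero, one_mul]
  exact hm

end DS

end Cfsg.Agent.OddHalf.SpN
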