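import Mathlib
import Cfsg.Agent.OddHalf.SpN.Cent2
import Cfsg.Agent.OddHalf.SpN.ShortP

/-!
# The facts `KS`, `KT` on centralizers in `C_G(t)` (`n ≥ 3`, `q ≥ 4`) (helper678)
-/

set_option autoImplicit false

namespace Cfsg.Agent.OddHalf.SpN

open scoped commutatorElement

variable {n : ℕ} {F : Type*} [Field F] {G : Type*} [Group G]

theorem ev_mul_at (l m : Fin n → Fˣ) (k : Ix n) : ev (l * m) k = ev l k * ev m k := by
  rcases k with k | k <;> simp [ev, mul_comm]

/-- a torus element with three prescribed values -/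
theorem exists_lam3 {i j k : Ix n} (hij : Dj i j) (hik : Dj i k) (hjk : Dj j k) (a b c : Fˣ) :
    ∃ lam : Fin n → Fˣ, ev lam i = a ∧ ev lam j = b ∧ ev lam k = c ∧
      ∀ l, Dj i l → Dj j l → Dj k l → ev lam l = 1 := by
  obtain ⟨l1, a1, a2⟩ := exists_lam i a
  obtain ⟨l2, b1, b2⟩ := exists_lam j b
  obtain ⟨l3, c1, c2⟩ := exists_lam k c
  refine ⟨l1 * l2 * l3, ?_, ?_, ?_, fun l h1 h2 h3 => ?_⟩
  · rw [ev_mul_at, ev_mul_at, a1, b2 i hij.symm, c2 i hik.symm, mul_one, mul_one]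
  · rw [ev_mul_at, ev_mul_at, a2 j hij, b1, c2 j hjk.symm, one_mul, mul_one]
  · rw [ev_mul_at, ev_mul_at, a2 k hik, b2 k hjk, c1, one_mul, one_mul]
  · rw [ev_mul_at, ev_mul_at, a2 l h1, b2 l h2, c2 l h3, one_mul, one_mul]

/-- a torus element with value `1` at `i`, `j` and `≠ 1` at the others -/
theorem exists_lam_ne (i j : Ix n) {μ : Fˣ} (hμ : (μ : F) ≠ 1) : ∃ lam : Fin n → Fˣ, ev lam i = 1 ∧ ev lam j = 1 ∧
    ∀ l, Dj i l → Dj j l → (ev lam l : F) ≠ 1 := by
  classical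
  have hμ' : ((μ⁻¹ : Fˣ) : F) ≠ 1 := by
    intro h; apply hμ
    have : μ⁻¹ = 1 := Units.ext h
    rw [inv_eq_one.mp this]; rfl
  have hab : ∀ a b : Ix n, Dj a b → Sum.elim id id a ≠ (Sum.elim id id b : Fin n) := by
    rintro (a | a) (b | b) ⟨h1, h2⟩ e <;> simp_all
  refine ⟨fun m => if m = Sum.elim id id i ∨ m = Sum.elim id id j then 1 else μ, ?_, ?_, ?_⟩
  · rcases i with i | i <;> simp [ev]
  · rcases j with j | j <;> simp [ev]
  · intro l h1 h2
    have e1 := (hab _ _ h1).symm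
    have e2 := (hab _ _ h2).symm
    rcases l with l | l
    · have : ¬ (l = Sum.elim id id i ∨ l = Sum.elim id id j) := fun h => h.elim e1 e2
      simpa only [ev, Sum.elim_inl, if_neg this] using hμ
    · have : ¬ (l = Sum.elim id id i ∨ l = Sum.elim id id j) := fun h => h.elim e1 e2
      simpa only [ev, Sum.elim_inr, if_neg this] using hμ'

theorem eq_zero_of_mul {μ a : F} (h : μ * a = a) (hμ : μ ≠ 1) : a = 0 := by
  have : (μ - 1) * a = 0 := by linear_combination h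
  rcases mul_eq_zero.mp this with h | h
  · exact absurd (sub_eq_zero.mp h) hμ
  · exact h

theorem sq_ne_one [CharP F 2] {μ : F} (hμ : μ ≠ 1) : μ ^ 2 ≠ 1 := by
  intro h
  apply hμ
  have : (μ - 1) * (μ - 1) = 0 := by linear_combination h - (μ - 1) * (two0 : (2 : F) = 0)
  exact sub_eq_zero.mp (mul_self_eq_zero.mp this)

theorem inv_ne_one' {μ : F} (hμ : μ ≠ 1) : μ⁻¹ ≠ 1 := fun h => hμ (inv_eq_one.mp h)

theorem e_form {t c g : G} (h : c = g ∨ c = t * g) : ∃ e, (e = 1 ∨ e = t) ∧ c = e * g := by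
  rcases h with h | h
  · exact ⟨1, Or.inl rfl, by rw [h, one_mul]⟩
  · exact ⟨t, Or.inr rfl, h⟩

namespace Frame

variable [CharP F 2] [Finite F] (R : Frame n F G)

theorem ks (hn : 3 ≤ n) (hF : ∃ μ : Fˣ, (μ : F) ≠ 1) : KS R where
  k60 := by
    intro i j k hij hik hjk c ht _ hy hh
    obtain ⟨μ, hμ⟩ := hF
    obtain ⟨a, b, d, e, f, g, hc, hl⟩ := R.FU3 hn hij hik hjk ht fun l a1 a2 a3 s => hy l s a1 a2 a3
    obtain ⟨lam, li, lj, lk, -⟩ := exists_lam3 hij hik hjk μ μ⁻¹ μ⁻¹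
    obtain ⟨ea, eb, ed, -, -, eg⟩ := hl lam (hh lam (by rw [li, lj, mul_inv_cancel]) (by rw [li, lk, mul_inv_cancel]))
    rw [li] at ea
    rw [lj, Units.val_inv_eq_inv_val] at eb
    rw [lk, Units.val_inv_eq_inv_val] at ed
    rw [lj, lk, Units.val_inv_eq_inv_val, ← sq] at eg
    have ha := eq_zero_of_mul ea (sq_ne_one hμ)
    have hb := eq_zero_of_mul eb (sq_ne_one (inv_ne_one' hμ))
    have hd := eq_zero_of_mul ed (sq_ne_one (inv_ne_one' hμ))
    have hg := eq_zero_of_mul eg (sq_ne_one (inv_ne_one' hμ))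
    rw [ha, hb, hd, hg, R.y_zero, R.y_zero, R.y_zero, R.x_zero] at hc
    simp only [one_mul, mul_one] at hc
    obtain ⟨e', he, h⟩ := e_form hc
    exact ⟨e', e, f, he, by rw [h, mul_assoc]⟩

theorem kt (hn : 3 ≤ n) (hF : ∃ μ : Fˣ, (μ : F) ≠ 1) : KT R where
  toKS := R.ks hn hF
  k90 := by
    intro i j k l hij hik hil hjk hjl hkl c ht _ hy hh
    obtain ⟨μ, hμ⟩ := hF
    have mi : i ∈ ({i, j, k, l} : Finset (Ix n)) := by simp
    have mj : j ∈ ({i, j, k, l} : Finset (Ix n)) := by simp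
    have mk : k ∈ ({i, j, k, l} : Finset (Ix n)) := by simp
    have ml : l ∈ ({i, j, k, l} : Finset (Ix n)) := by simp
    have hU : Isot ({i, j, k, l} : Finset (Ix n)) := isot_insert (isot_triple hjk hjl hkl) fun m hm => by
      rw [Finset.mem_insert, Finset.mem_insert, Finset.mem_singleton] at hm
      rcases hm with rfl | rfl | rfl
      · exact hij
      · exact hik
      · exact hil
    obtain ⟨M, hM, hc⟩ := R.FU hn hU ht fun m hm s => hy m s
      (fun e => hm (by rw [e, neg_neg]; exact mi)) (fun e => hm (by rw [e, neg_neg]; exact mj))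
      (fun e => hm (by rw [e, neg_neg]; exact mk)) (fun e => hm (by rw [e, neg_neg]; exact ml))
    obtain ⟨l1, a1, a2, a3⟩ := exists_lam2 hij μ μ⁻¹
    obtain ⟨l2, b1, b2, b3⟩ := exists_lam2 hkl μ μ⁻¹
    have c1 := hh l1 (by rw [a1, a2, mul_inv_cancel]) (by rw [a3 k hik hjk, a3 l hil hjl, mul_one])
    have c2 := hh l2 (by rw [b3 i hik.symm hil.symm, b3 j hjk.symm hjl.symm, mul_one])
      (by rw [b1, b2, mul_inv_cancel])
    have hμ' : (μ : F)⁻¹ ≠ 1 := inv_ne_one' hμ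
    have z : ∀ {a b : Ix n} (ha : a ∈ ({i, j, k, l} : Finset (Ix n))) (hb : b ∈ ({i, j, k, l} : Finset (Ix n))),
        (ev l1 a : F) * ev l1 b ≠ 1 → M a b = 0 := fun ha hb h => R.a_torus hU hM hc c1 ha hb h
    have z' : ∀ {a b : Ix n} (ha : a ∈ ({i, j, k, l} : Finset (Ix n))) (hb : b ∈ ({i, j, k, l} : Finset (Ix n))),
        (ev l2 a : F) * ev l2 b ≠ 1 → M a b = 0 := fun ha hb h => R.a_torus hU hM hc c2 ha hb h
    have v1 : (ev l1 i : F) = μ := by rw [a1]
    have v2 : (ev l1 j : F) = (μ : F)⁻¹ := by rw [a2, Units.val_inv_eq_inv_val]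
    have v3 : (ev l1 k : F) = 1 := by rw [a3 k hik hjk, Units.val_one]
    have v4 : (ev l1 l : F) = 1 := by rw [a3 l hil hjl, Units.val_one]
    have w1 : (ev l2 k : F) = μ := by rw [b1]
    have w2 : (ev l2 l : F) = (μ : F)⁻¹ := by rw [b2, Units.val_inv_eq_inv_val]
    have zii : M i i = 0 := z mi mi (by rw [v1, ← sq]; exact sq_ne_one hμ)
    have zjj : M j j = 0 := z mj mj (by rw [v2, ← sq]; exact sq_ne_one hμ')
    have zik : M i k = 0 := z mi mk (by rw [v1, v3, mul_one]; exact hμ)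
    have zil : M i l = 0 := z mi ml (by rw [v1, v4, mul_one]; exact hμ)
    have zjk : M j k = 0 := z mj mk (by rw [v2, v3, mul_one]; exact hμ')
    have zjl : M j l = 0 := z mj ml (by rw [v2, v4, mul_one]; exact hμ')
    have zkk : M k k = 0 := z' mk mk (by rw [w1, ← sq]; exact sq_ne_one hμ)
    have zll : M l l = 0 := z' ml ml (by rw [w2, ← sq]; exact sq_ne_one hμ')
    rw [R.a_four hij hik hil hjk hjl hkl hM, R.a_three hjk hjl hkl hM, R.a_two hkl hM, zii, zjj, zik, zil, zjk, zjl,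
      zkk, zll] at hc
    simp only [R.y_zero, R.x_zero, one_mul, mul_one] at hc
    obtain ⟨e', he, h⟩ := e_form hc
    refine ⟨e', M i j, M k l, he, ?_⟩
    have g1 : Commute (R.x k l (M k l)) (R.x i j (M i j)) :=
      R.x_comm (fun e => hik.2 e) (fun e => hil.2 e) (fun e => hjk.2 e) (fun e => hjl.2 e) _ _
    rw [h, g1.eq, mul_assoc]
  kQ := by
    intro i j hij c ht hy hx hh
    obtain ⟨μ, hμ⟩ := hF
    obtain ⟨lam, l1, l2, l3⟩ := exists_lam_ne i j hμ
    obtain ⟨a, b, d, hc⟩ := R.FQ hn hij ht hy (fun k hk s => hx k s hk) (hh lam l1 l2) (by rw [l1, Units.val_one])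
      fun k h1 h2 => l3 k h1 h2
    obtain ⟨e', he, h⟩ := e_form hc
    refine ⟨e', a, b, d, he, ?_⟩
    have g1 : Commute (R.y i a) (R.x i j b) := R.y_x_comm (ne_neg i) (fun e => hij.2 (by rw [e, neg_neg])) _ _
    have g2 : Commute (R.y i a) (R.x i (neg j) d) :=
      R.y_x_comm (ne_neg i) (fun e => hij.1 (neg_inj.mp e).symm) _ _
    have g3 := g1.mul_right g2
    rw [h, mul_assoc (R.y i a), g3.eq]
    simp only [mul_assoc]
  k4 := by
    intro i j k hij hik hjk c ht hyi hyk hx1 hx2 hl hh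
    obtain ⟨μ, hμ⟩ := hF
    obtain ⟨lam, l1, l2, l3, -⟩ := exists_lam3 hij hik hjk μ μ μ⁻¹
    obtain ⟨a, b, d, hc⟩ := R.F4 hn hij hik hjk ht hyi (hyk 1) (hx1 1) (hx2 1) (fun l u v w => hl l 1 u v w)
      (hh lam (by rw [l2, l3, mul_inv_cancel]) (by rw [l1, l2])) (by rw [l1, l2])
      (by rw [l2, l3, ← Units.val_mul, mul_inv_cancel, Units.val_one]) (by rw [l1]; exact hμ)
    obtain ⟨e', he, h⟩ := e_form hc
    -- order of the factors: `x i (neg j) a * x j k b = x j k b * x i (neg j) a * x i k _`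
    have g1 := R.x_rel (i := k) (j := j) (k := i) hjk.symm hij.symm hik.symm b a
    have g2 : R.x i (neg j) a * R.x j k b = R.x j k b * R.x i (neg j) a * R.x i k (b * a) := by
      rw [R.x_symm k j, R.x_symm (neg j) i, R.x_symm k i] at g1
      have n1 : i ≠ neg k := hik.2
      have n2 : k ≠ neg i := hik.symm.2
      have c1 : Commute (R.x i k (b * a)) (R.x i (neg j) a) :=
        R.x_comm (ne_neg i) (fun e => hik.2 e) (fun e => hij.1 (neg_inj.mp e).symm) (fun e => hjk.1 (neg_inj.mp e)) _ _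
      have c2 : Commute (R.x i k (b * a)) (R.x j k b) :=
        R.x_comm (fun e => hij.symm.2 e) (fun e => hjk.2 e) n2 (ne_neg k) _ _
      rw [g1, (c1.mul_right c2).eq, mul_assoc, ← R.x_add, CharTwo.add_self_eq_zero, R.x_zero, mul_one]
    refine ⟨e', b, a, b * a + d, he, ?_⟩
    rw [h, g2, R.x_add]
    simp only [mul_assoc]

end Frame

end Cfsg.Agent.OddHalf.SpN
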