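import Mathlib
import Cfsg.Agent.OddHalf.SpN.KInst

/-!
# ODD D7, `K = Sp_2n(q)`, `q ≥ 4` even, pattern (C,C) (shadows `Sp_2n(q²)`, `Sp_2n(q) wr 2`): 135 degrees (helper678)

Section 9 of `blueprints/ODD-D7-Sp-helper297.md` in subgroup form. `CC R`: the doubles `W i j`, `V i` of all the root
groups with `γ = δ = 0`, elementary, with their commutators except 135 degrees; `CC.mem135`: `⁅W_{i,-j}, V_j⁆ ≤ W_ij V_i`.
-/

set_option autoImplicit false

namespace Cfsg.Agent.OddHalf.SpN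

open scoped commutatorElement

variable {n : ℕ} {F : Type*} [Field F] {G : Type*} [Group G]

/-- the input of section 9 -/
structure CC [CharP F 2] (R : Frame n F G) where
  D : DS R (0 : F)
  L : DL R (0 : F)
  /-- `W_ij` is elementary -/
  Wsq : ∀ i j, Dj i j → ∀ g ∈ D.W i j, g * g = 1
  /-- `V_i` is elementary -/
  Vsq : ∀ i, ∀ g ∈ L.V i, g * g = 1
  /-- 60 degrees -/
  c60 : ∀ i j k, Dj i j → Dj i k → Dj j k → ∀ g ∈ D.W i j, ∀ g' ∈ D.W i k, Commute g g'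
  /-- 90 degrees, short, disjoint -/
  c90 : ∀ i j k l, Dj i j → Dj i k → Dj i l → Dj j k → Dj j l → Dj k l → ∀ g ∈ D.W i j, ∀ g' ∈ D.W k l, Commute g g'
  /-- partners -/
  cpar : ∀ i j, Dj i j → ∀ g ∈ D.W i j, ∀ g' ∈ D.W i (neg j), ∃ b, ⁅g, g'⁆ = R.y i b
  /-- 120 degrees -/
  c120 : ∀ i j k, Dj i j → Dj i k → Dj j k → ∀ g ∈ D.W j k, ∀ g' ∈ D.W i (neg j), ⁅g, g'⁆ ∈ D.W i k
  /-- 45 and 90 degrees -/
  cWV : ∀ i j k, Dj i j → k ≠ neg i → k ≠ neg j → ∀ g ∈ D.W i j, ∀ v ∈ L.V k, Commute g v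
  /-- long, orthogonal -/
  cVV : ∀ i j, Dj i j → ∀ g ∈ L.V i, ∀ g' ∈ L.V j, Commute g g'
  /-- (8.2) -/
  cVx : ∀ i j, Dj i j → ∀ v ∈ L.V j, ∀ b, ∃ a ∈ D.W i j, ∃ v' ∈ L.V i,
    R.x i (neg j) b * v * (R.x i (neg j) b)⁻¹ = v * (a * v')
  /-- (8.3) -/
  cWy : ∀ i j, Dj i j → ∀ g ∈ D.W i (neg j), ∀ b, ∃ a ∈ D.W i j, ∃ v' ∈ L.V i,
    R.y j b * g * (R.y j b)⁻¹ = g * (a * v')

namespace CC

variable [CharP F 2] {R : Frame n F G} (C : CC R)
include C

/-- long root elements commute with the doubles of the other long roots -/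
theorem V_y {i k : Ix n} (h : k ≠ neg i) {g : G} (hg : g ∈ C.L.V i) (b : F) [Finite F] : Commute g (R.y k b) := by
  by_cases e : k = i
  · subst e; exact C.L.cy k g hg b
  · have hd : Dj i k := ⟨fun e' => e e'.symm, fun e' => h (by rw [e', neg_neg])⟩
    exact C.cVV i k hd g hg _ (C.L.y_mem k b)

theorem W_y {i j k : Ix n} (hij : Dj i j) (h1 : k ≠ neg i) (h2 : k ≠ neg j) {g : G} (hg : g ∈ C.D.W i j) (b : F) :
    Commute g (R.y k b) := C.D.cy i j hij g hg k b h1 h2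

/-- `N_ij = W_ij V_i` -/
def NN {i j : Ix n} (hij : Dj i j) : Subgroup G where
  carrier := {g | ∃ a ∈ C.D.W i j, ∃ v ∈ C.L.V i, g = a * v}
  one_mem' := ⟨1, one_mem _, 1, one_mem _, (mul_one 1).symm⟩
  mul_mem' := by
    rintro _ _ ⟨a, ha, v, hv, rfl⟩ ⟨a', ha', v', hv', rfl⟩
    refine ⟨a * a', mul_mem ha ha', v * v', mul_mem hv hv', ?_⟩
    have h : Commute a' v := C.cWV i j i hij (ne_neg i) hij.2 a' ha' v hv
    calc a * v * (a' * v') = a * (v * a') * v' := by group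
      _ = a * (a' * v) * v' := by rw [h.eq]
      _ = _ := by group
  inv_mem' := by
    rintro _ ⟨a, ha, v, hv, rfl⟩
    refine ⟨a⁻¹, inv_mem ha, v⁻¹, inv_mem hv, ?_⟩
    have h : Commute a v := C.cWV i j i hij (ne_neg i) hij.2 a ha v hv
    rw [mul_inv_rev, h.inv_inv.eq]

variable {i j : Ix n} (hij : Dj i j)

theorem W_le {a : G} (ha : a ∈ C.D.W i j) : a ∈ C.NN hij := ⟨a, ha, 1, one_mem _, (mul_one a).symm⟩

theorem V_le {v : G} (hv : v ∈ C.L.V i) : v ∈ C.NN hij := ⟨1, one_mem _, v, hv, (one_mul v).symm⟩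

theorem x_le (a : F) : R.x i j a ∈ C.NN hij := C.W_le hij (C.D.x_mem i j a)

theorem y_le (a : F) : R.y i a ∈ C.NN hij := C.V_le hij (C.L.y_mem i a)

theorem NN_sq {m : G} (hm : m ∈ C.NN hij) : m * m = 1 := by
  obtain ⟨a, ha, v, hv, rfl⟩ := hm
  have h : Commute a v := C.cWV i j i hij (ne_neg i) hij.2 a ha v hv
  calc a * v * (a * v) = a * (v * a) * v := by group
    _ = (a * a) * (v * v) := by rw [← h.eq]; group
    _ = 1 := by rw [C.Wsq i j hij a ha, C.Vsq i v hv, one_mul]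

theorem NN_comm {m m' : G} (hm : m ∈ C.NN hij) (hm' : m' ∈ C.NN hij) : Commute m m' := by
  have h := C.NN_sq hij (mul_mem hm hm')
  have h1 := C.NN_sq hij hm
  have h2 := C.NN_sq hij hm'
  show m * m' = m' * m
  calc m * m' = 1 * (m * m') := (one_mul _).symm
    _ = (m' * m) * ((m * m') * (m * m')) := by
        rw [show (m' * m) * ((m * m') * (m * m')) = m' * (m * m) * m' * (m * m') by group, h1, mul_one, h2]
    _ = m' * m := by rw [h, mul_one]

theorem NN_t {m : G} (hm : m ∈ C.NN hij) : R.t * m * R.t ∈ C.NN hij := by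
  obtain ⟨a, ha, v, hv, rfl⟩ := hm
  obtain ⟨u, hu⟩ := C.D.ht i j hij a ha
  obtain ⟨w, hw⟩ := C.L.ht i v hv
  rw [R.t_mul, hu, hw]
  exact mul_mem (mul_mem (C.W_le hij ha) (C.x_le hij u)) (mul_mem (C.V_le hij hv) (C.y_le hij w))

theorem NN_h {m : G} (hm : m ∈ C.NN hij) (lam : Fin n → Fˣ) : R.h lam * m * (R.h lam)⁻¹ ∈ C.NN hij := by
  obtain ⟨a, ha, v, hv, rfl⟩ := hm
  rw [show R.h lam * (a * v) * (R.h lam)⁻¹ = (R.h lam * a * (R.h lam)⁻¹) * (R.h lam * v * (R.h lam)⁻¹) by group]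
  exact mul_mem (C.W_le hij (C.D.torus i j hij a ha lam)) (C.V_le hij (C.L.torus i v hv lam))

/-- `V_j` centralises `N_ij` -/
theorem NN_V {m g : G} (hm : m ∈ C.NN hij) (hg : g ∈ C.L.V j) : Commute m g := by
  obtain ⟨a, ha, v, hv, rfl⟩ := hm
  exact (C.cWV i j j hij hij.symm.2 (ne_neg j) a ha g hg).mul_left (C.cVV i j hij v hv g hg)

/-- `X_{i,-j}` centralises `N_ij` -/
theorem NN_x {m : G} (hm : m ∈ C.NN hij) (b : F) : Commute m (R.x i (neg j) b) := by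
  obtain ⟨a, ha, v, hv, rfl⟩ := hm
  refine Commute.mul_left ?_ ?_
  · obtain ⟨u, hu⟩ := C.D.ht i j hij a ha
    have h := C.D.par i j hij a ha u hu b
    rw [zero_mul, zero_mul, R.y_zero] at h
    exact commutatorElement_eq_one_iff_mul_comm.mp h
  · exact C.L.cx i v hv i (neg j) b (ne_neg i) (fun e => hij.1 (neg_inj.mp e).symm)

/-- `W_{i,-j}` normalises `N_ij` -/
theorem NN_W {m g : G} (hm : m ∈ C.NN hij) (hg : g ∈ C.D.W i (neg j)) : g * m * g⁻¹ ∈ C.NN hij := by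
  obtain ⟨a, ha, v, hv, rfl⟩ := hm
  obtain ⟨b, hb⟩ := C.cpar i j hij a ha g hg
  have h1 : Commute g v := C.cWV i (neg j) i (dj_neg_right.mpr hij) (ne_neg i) (by rw [neg_neg]; exact hij.1) g hg v hv
  have h2 : g * a * g⁻¹ = (R.y i b)⁻¹ * a := by
    rw [← hb, commutatorElement_def]; group
  rw [show g * (a * v) * g⁻¹ = (g * a * g⁻¹) * (g * v * g⁻¹) by group, h2,
    show g * v * g⁻¹ = v by rw [h1.eq]; group]
  exact mul_mem (mul_mem (inv_mem (C.y_le hij b)) (C.W_le hij ha)) (C.V_le hij hv)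

/-- a fixed point of `t` in `N_ij` is in `X_ij Y_i`, hence a commutator -/
theorem NN_fix [Finite F] {m : G} (hm : m ∈ C.NN hij) (h : Commute m R.t) :
    ∃ m' ∈ C.NN hij, R.t * m' * R.t = m' * m := by
  obtain ⟨a, ha, v, hv, rfl⟩ := hm
  obtain ⟨u, hu⟩ := C.D.ht i j hij a ha
  obtain ⟨w, hw⟩ := C.L.ht i v hv
  have e0 : Commute v (R.x i j u) := C.L.cx i v hv i j u (ne_neg i) hij.symm.2
  have e1 := R.t_of_comm h
  rw [R.t_mul, hu, hw] at e1
  have e2 : R.x i j u * R.y i w = 1 := by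
    have : a * v * (R.x i j u * R.y i w) = a * v := by
      calc a * v * (R.x i j u * R.y i w) = a * (v * R.x i j u) * R.y i w := by group
        _ = a * R.x i j u * (v * R.y i w) := by rw [e0.eq]; group
        _ = a * v := e1
    exact mul_eq_left.mp this
  -- both components vanish
  have e3 : R.x i j u = R.y i w := by
    have h3 := inv_eq_of_mul_eq_one_left e2
    rw [R.y_inv] at h3
    exact h3.symm
  have hu0 : u = 0 := by
    have h4 : sx i j u = sy i w := R.inj e3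
    have h5 : ent (sx i j u) i (neg j) = ent (sy i w) i (neg j) := by rw [h4]
    rw [ent_sy, if_neg fun e : i = neg j => hij.2 e, if_neg fun e : i = i ∧ neg j = neg i => hij.1
      (neg_inj.mp e.2).symm, ← one_mul (sx i j u), ent_mul_sx hij, if_pos rfl,
      if_neg fun e : neg j = neg i => hij.1 (neg_inj.mp e).symm] at h5
    simpa [ent, be_apply, hij.2] using h5
  subst hu0
  rw [R.x_zero] at e3 hu
  have hw0 : w = 0 := R.y_eq_one e3.symm
  subst hw0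
  rw [R.y_zero] at hw
  obtain ⟨p, rfl⟩ := C.D.ker i j hij a ha (by rw [hu, mul_one])
  obtain ⟨q, rfl⟩ := C.L.ker i v hv (by rw [hw, mul_one])
  obtain ⟨a', ha', hp⟩ := C.D.onto i j hij p
  obtain ⟨v', hv', hq⟩ := C.L.onto i q
  refine ⟨a' * v', ⟨a', ha', v', hv', rfl⟩, ?_⟩
  have e4 : Commute v' (R.x i j p) := C.L.cx i v' hv' i j p (ne_neg i) hij.symm.2
  rw [R.t_mul, hp, hq]
  calc a' * R.x i j p * (v' * R.y i q) = a' * (R.x i j p * v') * R.y i q := by group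
    _ = _ := by rw [← e4.eq]; group

/-- `t` moves the commutator by an element of `N_ij` -/
theorem t_comm {g v : G} (hg : g ∈ C.D.W i (neg j)) (hv : v ∈ C.L.V j) :
    ∃ m ∈ C.NN hij, R.t * ⁅g, v⁆ * R.t = m * ⁅g, v⁆ := by
  have hij' : Dj i (neg j) := dj_neg_right.mpr hij
  obtain ⟨u, hu⟩ := C.D.ht i (neg j) hij' g hg
  obtain ⟨w, hw⟩ := C.L.ht j v hv
  set x := R.x i (neg j) u with hx
  set y := R.y j w with hy
  obtain ⟨a1, ha1, v1, hv1, h1⟩ := C.cVx i j hij v hv u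
  obtain ⟨a2, ha2, v2, hv2, h2⟩ := C.cWy i j hij g hg w
  rw [← hx] at h1
  rw [← hy] at h2
  set m1 := a1 * v1
  set m2 := a2 * v2
  have hm1 : m1 ∈ C.NN hij := ⟨a1, ha1, v1, hv1, rfl⟩
  have hm2 : m2 ∈ C.NN hij := ⟨a2, ha2, v2, hv2, rfl⟩
  -- `x y x⁻¹ y⁻¹ ∈ N`
  obtain ⟨m3, hm3, h3⟩ : ∃ m3 ∈ C.NN hij, x * y * x⁻¹ = m3 * y := by
    have h := R.y_rel' (i := j) (j := i) hij.symm w u
    rw [commutatorElement_def] at h
    refine ⟨(R.x j i (w * u) * R.y i (w * u ^ 2))⁻¹, ?_, ?_⟩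
    · refine inv_mem (mul_mem ?_ (C.y_le hij _))
      rw [R.x_symm]; exact C.x_le hij _
    · rw [← h, R.x_symm (neg j) i, ← hx, ← hy]; group
  have cgx : Commute g x := C.D.comm i (neg j) hij' g hg x (C.D.x_mem i (neg j) u)
  have cvy : Commute v y := C.L.cy j v hv w
  have key : R.t * ⁅g, v⁆ * R.t = ⁅g * x, v * y⁆ := by
    rw [commutatorElement_def, commutatorElement_def, R.t_mul, R.t_mul, R.t_mul, R.t_inv', R.t_inv', hu, hw]
  have cvN : ∀ m ∈ C.NN hij, Commute m v := fun m hm => C.NN_V hij hm hv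
  refine ⟨g * (m1 * m3 * m2⁻¹) * g⁻¹, C.NN_W hij (mul_mem (mul_mem hm1 hm3) (inv_mem hm2)) hg, ?_⟩
  rw [key]
  have h4 : y * g⁻¹ * y⁻¹ = m2⁻¹ * g⁻¹ := by
    have : y * g⁻¹ * y⁻¹ = (y * g * y⁻¹)⁻¹ := by group
    rw [this, h2]; group
  calc ⁅g * x, v * y⁆ = g * (x * v * x⁻¹) * (x * y * x⁻¹) * g⁻¹ * (v * y)⁻¹ := by
        rw [commutatorElement_def]; group
    _ = g * (v * m1) * (m3 * y) * g⁻¹ * (y⁻¹ * v⁻¹) := by rw [h1, h3]; group
    _ = g * (v * (m1 * m3)) * (y * g⁻¹ * y⁻¹) * v⁻¹ := by group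
    _ = g * (v * (m1 * m3)) * (m2⁻¹ * g⁻¹) * v⁻¹ := by rw [h4]
    _ = g * (v * (m1 * m3 * m2⁻¹)) * g⁻¹ * v⁻¹ := by group
    _ = g * ((m1 * m3 * m2⁻¹) * v) * g⁻¹ * v⁻¹ := by
        rw [(cvN _ (mul_mem (mul_mem hm1 hm3) (inv_mem hm2))).eq]
    _ = _ := by rw [commutatorElement_def]; group

/-- the first form of the commutator -/
theorem form [Finite F] (hn : 3 ≤ n) {g v : G} (hg : g ∈ C.D.W i (neg j)) (hv : v ∈ C.L.V j) :
    ∃ e a b, ∃ m ∈ C.NN hij, (e = 1 ∨ e = R.t) ∧ ⁅g, v⁆ = e * R.x i (neg j) a * R.y j b * m := by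
  have hij' : Dj i (neg j) := dj_neg_right.mpr hij
  obtain ⟨m, hm, h⟩ := C.t_comm hij hg hv
  set c := ⁅g, v⁆ with hc
  have hmm := C.NN_sq hij hm
  -- `m` is fixed by `t`
  have hmt : Commute m R.t := by
    have h1 : R.t * (R.t * c * R.t) * R.t = c := by
      calc R.t * (R.t * c * R.t) * R.t = (R.t * R.t) * c * (R.t * R.t) := by group
        _ = c := by rw [R.tt, one_mul, mul_one]
    rw [h, R.t_mul, h, ← mul_assoc, mul_eq_right] at h1
    apply R.comm_of_t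
    rw [eq_inv_of_mul_eq_one_left h1]
    exact inv_eq_of_mul_eq_one_left hmm
  obtain ⟨m', hm', h'⟩ := C.NN_fix hij hm hmt
  set k := m' * c with hk
  have hkt : Commute k R.t := by
    apply R.comm_of_t
    rw [hk, R.t_mul, h', h]
    calc m' * m * (m * c) = m' * (m * m) * c := by group
      _ = _ := by rw [hmm, mul_one]
  -- `k` commutes with `y_i`, `x_ij`, `y_l`
  have ky : ∀ b, Commute k (R.y i b) := fun b => by
    have c1 : Commute g (R.y i b) := C.W_y hij' (ne_neg i) (by rw [neg_neg]; exact hij.1) hg b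
    have c2 : Commute v (R.y i b) := C.V_y hij.2 hv b
    have c3 : Commute m' (R.y i b) := C.NN_comm hij hm' (C.y_le hij b)
    rw [hk, hc, commutatorElement_def]
    exact c3.mul_left (((c1.mul_left c2).mul_left c1.inv_left).mul_left c2.inv_left)
  have kx : Commute k (R.x i j 1) := by
    have c1 : Commute g (R.x i j 1) := by
      obtain ⟨u, hu⟩ := C.D.ht i (neg j) hij' g hg
      have h := C.D.par i (neg j) hij' g hg u hu 1
      rw [zero_mul, zero_mul, R.y_zero, neg_neg] at h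
      exact commutatorElement_eq_one_iff_mul_comm.mp h
    have c2 : Commute v (R.x i j 1) := C.L.cx j v hv i j 1 hij.2 (ne_neg j)
    have c3 : Commute m' (R.x i j 1) := C.NN_comm hij hm' (C.x_le hij 1)
    rw [hk, hc, commutatorElement_def]
    exact c3.mul_left (((c1.mul_left c2).mul_left c1.inv_left).mul_left c2.inv_left)
  have kl : ∀ l, Dj i l → Dj j l → Commute k (R.y l 1) := fun l hil hjl => by
    have c1 : Commute g (R.y l 1) := C.W_y hij' hil.symm.2 (by rw [neg_neg]; exact hjl.symm.1) hg 1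
    have c2 : Commute v (R.y l 1) := C.V_y hjl.symm.2 hv 1
    have c3 : Commute m' (R.y l 1) := by
      obtain ⟨a, ha, w, hw, rfl⟩ := hm'
      exact (C.W_y hij hil.symm.2 hjl.symm.2 ha 1).mul_left (C.V_y hil.symm.2 hw 1)
    rw [hk, hc, commutatorElement_def]
    exact c3.mul_left (((c1.mul_left c2).mul_left c1.inv_left).mul_left c2.inv_left)
  obtain ⟨a, b, d, f, hF5⟩ := R.F5 hn hij hkt ky kx kl
  obtain ⟨e, he, h5⟩ := e_form hF5
  have hm2 : R.x i j d * R.y i f ∈ C.NN hij := mul_mem (C.x_le hij d) (C.y_le hij f)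
  -- move `m'⁻¹` to the right
  have ce : Commute e (R.x i (neg j) a * R.y j b) := by
    rcases he with rfl | rfl
    · exact Commute.one_left _
    · exact ((R.x_t _ _ _).mul_left (R.y_t _ _)).symm
  have cmy : Commute m' (R.y j b) := C.NN_V hij hm' (C.L.y_mem j b)
  have cmx : Commute m' (R.x i (neg j) a) := C.NN_x hij hm' a
  have eme : e * m'⁻¹ * e ∈ C.NN hij := by
    rcases he with rfl | rfl
    · rw [one_mul, mul_one]; exact inv_mem hm'
    · exact C.NN_t hij (inv_mem hm')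
  have ee : e * e = 1 := by
    rcases he with rfl | rfl
    · exact mul_one 1
    · exact R.tt
  have cNp : ∀ m ∈ C.NN hij, Commute m (R.x i (neg j) a * R.y j b) := fun m hm =>
    (C.NN_x hij hm a).mul_right (C.NN_V hij hm (C.L.y_mem j b))
  refine ⟨e, a, b, (e * m'⁻¹ * e) * (R.x i j d * R.y i f), mul_mem eme hm2, he, ?_⟩
  calc c = m'⁻¹ * k := by rw [hk]; group
    _ = (e * e) * m'⁻¹ * (e * (R.x i (neg j) a * R.y j b) * (R.x i j d * R.y i f)) := by
        rw [h5, ee]; group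
    _ = e * ((e * m'⁻¹ * e) * (R.x i (neg j) a * R.y j b)) * (R.x i j d * R.y i f) := by group
    _ = e * ((R.x i (neg j) a * R.y j b) * (e * m'⁻¹ * e)) * (R.x i j d * R.y i f) := by
        rw [(cNp _ eme).eq]
    _ = _ := by group

theorem x_conj_V {v : G} (hv : v ∈ C.L.V j) (b : F) :
    v * R.x i (neg j) b * v⁻¹ * R.x i (neg j) b ∈ C.NN hij := by
  obtain ⟨a, ha, w, hw, h⟩ := C.cVx i j hij v⁻¹ (inv_mem hv) b
  have e : v * R.x i (neg j) b * v⁻¹ * R.x i (neg j) b = a * w := by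
    calc v * R.x i (neg j) b * v⁻¹ * R.x i (neg j) b
        = v * (R.x i (neg j) b * v⁻¹ * (R.x i (neg j) b)⁻¹) := by rw [R.x_inv]; group
      _ = a * w := by rw [h]; group
  rw [e]
  exact ⟨a, ha, w, hw, rfl⟩

theorem y_conj_W {g : G} (hg : g ∈ C.D.W i (neg j)) (b : F) : g * R.y j b * g⁻¹ * R.y j b ∈ C.NN hij := by
  obtain ⟨a, ha, w, hw, h⟩ := C.cWy i j hij g⁻¹ (inv_mem hg) b
  have e : g * R.y j b * g⁻¹ * R.y j b = a * w := by
    calc g * R.y j b * g⁻¹ * R.y j b = g * (R.y j b * g⁻¹ * (R.y j b)⁻¹) := by rw [R.y_inv]; group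
      _ = a * w := by rw [h]; group
  rw [e]
  exact ⟨a, ha, w, hw, rfl⟩

theorem yx_mem (a b : F) : R.y j b * R.x i (neg j) a * R.y j b * R.x i (neg j) a ∈ C.NN hij := by
  have h := R.y_rel' (i := j) (j := i) hij.symm b a
  rw [R.x_symm (neg j) i, commutatorElement_def, R.y_inv, R.x_inv] at h
  rw [h, R.x_symm j i]
  exact mul_mem (C.x_le hij _) (C.y_le hij _)

/-- `X_{i,-j} N_ij` -/
def Q1 : Subgroup G where
  carrier := {g | ∃ s, ∃ m ∈ C.NN hij, g = R.x i (neg j) s * m}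
  one_mem' := ⟨0, 1, one_mem _, by rw [R.x_zero, one_mul]⟩
  mul_mem' := by
    rintro _ _ ⟨s, m, hm, rfl⟩ ⟨s', m', hm', rfl⟩
    refine ⟨s + s', m * m', mul_mem hm hm', ?_⟩
    rw [R.x_add]
    calc R.x i (neg j) s * m * (R.x i (neg j) s' * m') = R.x i (neg j) s * (m * R.x i (neg j) s') * m' := by group
      _ = _ := by rw [(C.NN_x hij hm s').eq]; group
  inv_mem' := by
    rintro _ ⟨s, m, hm, rfl⟩
    refine ⟨s, m⁻¹, inv_mem hm, ?_⟩
    rw [mul_inv_rev, R.x_inv, (C.NN_x hij (inv_mem hm) s).eq]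

theorem NN_le_Q1 {m : G} (hm : m ∈ C.NN hij) : m ∈ C.Q1 hij := ⟨0, m, hm, by rw [R.x_zero, one_mul]⟩

theorem x_mem_Q1 (s : F) : R.x i (neg j) s ∈ C.Q1 hij := ⟨s, 1, one_mem _, (mul_one _).symm⟩

/-- every element of `V_j` is `v v^H y` if `H` induces `μ ≠ 1` on the heights -/
theorem exists_decompL {lam : Fin n → Fˣ} {μ : Fˣ} (hμ : (μ : F) ≠ 1) (hl : (ev lam j : F) ^ 2 = μ) {v : G}
    (hv : v ∈ C.L.V j) : ∃ v' ∈ C.L.V j, ∃ a, v = v' * (R.h lam * v' * (R.h lam)⁻¹) * R.y j a := by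
  obtain ⟨u, hu⟩ := C.L.ht j v hv
  have hμ1 : (1 : F) + μ ≠ 0 := by
    intro h
    apply hμ
    have : (μ : F) = -1 := by linear_combination h
    rw [this, CharTwo.neg_eq]
  obtain ⟨g', hg', hu'⟩ := C.L.onto j ((1 + (μ : F))⁻¹ * u)
  have hH := C.L.torus j g' hg' lam
  have h1 : R.t * (R.h lam * g' * (R.h lam)⁻¹) * R.t =
      (R.h lam * g' * (R.h lam)⁻¹) * R.y j (μ * ((1 + (μ : F))⁻¹ * u)) := by
    rw [R.t_mul, R.t_mul, R.t_of_comm (R.h_t lam), R.t_inv', R.t_of_comm (R.h_t lam), hu']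
    have h2 := R.h_y lam j ((1 + (μ : F))⁻¹ * u)
    rw [hl] at h2
    rw [← h2]; group
  have h3 : Commute (R.y j ((1 + (μ : F))⁻¹ * u)) (R.h lam * g' * (R.h lam)⁻¹) :=
    C.L.comm j _ (C.L.y_mem j _) _ hH
  have h4 : R.t * (g' * (R.h lam * g' * (R.h lam)⁻¹)) * R.t =
      g' * (R.h lam * g' * (R.h lam)⁻¹) * R.y j u := by
    rw [R.t_mul, h1, hu']
    calc g' * R.y j ((1 + (μ : F))⁻¹ * u) *
          (R.h lam * g' * (R.h lam)⁻¹ * R.y j (μ * ((1 + (μ : F))⁻¹ * u)))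
        = g' * (R.y j ((1 + (μ : F))⁻¹ * u) * (R.h lam * g' * (R.h lam)⁻¹)) *
            R.y j (μ * ((1 + (μ : F))⁻¹ * u)) := by group
      _ = g' * (R.h lam * g' * (R.h lam)⁻¹) * (R.y j ((1 + (μ : F))⁻¹ * u) *
            R.y j (μ * ((1 + (μ : F))⁻¹ * u))) := by rw [h3.eq]; group
      _ = _ := by
        rw [← R.y_add]
        congr 2
        field_simp
  have hA : g' * (R.h lam * g' * (R.h lam)⁻¹) ∈ C.L.V j := mul_mem hg' hH
  set A := g' * (R.h lam * g' * (R.h lam)⁻¹) with hAdef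
  have hAv : A⁻¹ * v ∈ C.L.V j := mul_mem (inv_mem hA) hv
  obtain ⟨a, ha⟩ := C.L.ker j _ hAv (by
    rw [R.t_mul, R.t_inv', h4, hu]
    calc (A * R.y j u)⁻¹ * (v * R.y j u) = (R.y j u)⁻¹ * ((A⁻¹ * v) * R.y j u) := by group
      _ = (R.y j u)⁻¹ * (R.y j u * (A⁻¹ * v)) := by rw [C.L.comm j _ hAv _ (C.L.y_mem j u)]
      _ = A⁻¹ * v := by group)
  exact ⟨g', hg', a, by rw [← hAdef, ← ha]; group⟩

/-- step 1: the components of `t` and `Y_j` vanish -/
theorem step1 [Finite F] (hn : 3 ≤ n) (hF : ∃ μ : Fˣ, (μ : F) ≠ 1) {g v : G} (hg : g ∈ C.D.W i (neg j))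
    (hv : v ∈ C.L.V j) : ⁅v, g⁆ ∈ C.Q1 hij := by
  have hij' : Dj i (neg j) := dj_neg_right.mpr hij
  obtain ⟨μ, hμ⟩ := hF
  obtain ⟨lam, l1, l2⟩ := exists_lam i μ
  have l3 := l2 j hij
  obtain ⟨g0, hg0, a', rfl⟩ := C.D.exists_decomp hij' hμ (lam := lam) (by rw [l1, ev_neg, l3, inv_one, mul_one]) hg
  obtain ⟨e, a, b, m, hm, he, h⟩ := C.form hij hn hg0 hv
  have ee : e * e = 1 := by
    rcases he with rfl | rfl
    · exact mul_one 1
    · exact R.tt
  have einv : e⁻¹ = e := inv_eq_of_mul_eq_one_left ee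
  have cex : ∀ s, Commute (R.x i (neg j) s) e := fun s => C.D.comm_e he (R.x_t _ _ _)
  have cey : ∀ s, Commute (R.y j s) e := fun s => C.D.comm_e he (R.y_t _ _)
  have eN : ∀ m ∈ C.NN hij, e * m * e ∈ C.NN hij := by
    intro m hm
    rcases he with rfl | rfl
    · rw [one_mul, mul_one]; exact hm
    · exact C.NN_t hij hm
  -- the commutator in the other order
  have h2 : ⁅v, g0⁆ = e * R.y j b * ((R.y j b * (e * m⁻¹ * e) * R.y j b) * (R.x i (neg j) a)) := by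
    rw [← commutatorElement_inv, h]
    have e1 : (e * R.x i (neg j) a * R.y j b * m)⁻¹ = m⁻¹ * R.y j b * (R.x i (neg j) a * e) := by
      rw [mul_inv_rev, mul_inv_rev, mul_inv_rev, R.x_inv, R.y_inv, einv]; group
    rw [e1, (cex a).eq]
    calc m⁻¹ * R.y j b * (e * R.x i (neg j) a) = m⁻¹ * (R.y j b * e) * R.x i (neg j) a := by group
      _ = m⁻¹ * (e * R.y j b) * R.x i (neg j) a := by rw [(cey b).eq]
      _ = (e * e) * m⁻¹ * (e * R.y j b) * R.x i (neg j) a := by rw [ee, one_mul]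
      _ = e * (R.y j b * R.y j b) * (e * m⁻¹ * e) * R.y j b * R.x i (neg j) a := by rw [R.y_sq, mul_one]; group
      _ = _ := by group
  have hyN : ∀ m ∈ C.NN hij, Commute m (R.y j b) := fun m hm => C.NN_V hij hm (C.L.y_mem j b)
  have hq : (R.y j b * (e * m⁻¹ * e) * R.y j b) * (R.x i (neg j) a) ∈ C.Q1 hij := by
    refine mul_mem (C.NN_le_Q1 hij ?_) (C.x_mem_Q1 hij a)
    rw [← (hyN _ (eN _ (inv_mem hm))).eq, mul_assoc, R.y_sq, mul_one]
    exact eN _ (inv_mem hm)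
  have hyQ : ∀ x ∈ C.Q1 hij, R.y j b * x * R.y j b ∈ C.Q1 hij := by
    rintro _ ⟨s, m, hm, rfl⟩
    have h3 := C.yx_mem hij s b
    have h4 : R.y j b * (R.x i (neg j) s * m) * R.y j b =
        (R.y j b * R.x i (neg j) s * R.y j b * R.x i (neg j) s) * (R.x i (neg j) s * m) := by
      calc R.y j b * (R.x i (neg j) s * m) * R.y j b = R.y j b * R.x i (neg j) s * (m * R.y j b) := by group
        _ = R.y j b * R.x i (neg j) s * (R.y j b * m) := by rw [(hyN m hm).eq]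
        _ = R.y j b * R.x i (neg j) s * R.y j b * (R.x i (neg j) s * R.x i (neg j) s) * m := by
            rw [R.x_sq, mul_one]; group
        _ = _ := by group
    rw [h4]
    exact mul_mem (C.NN_le_Q1 hij h3) ⟨s, m, hm, rfl⟩
  have hker := kill (C.Q1 hij) hq h2 (C.L.torus_one j v hv lam l3) (C.D.comm_e he (R.h_t lam))
    (by
      have h3 := R.h_y lam j b
      rw [l3, Units.val_one, one_pow, one_mul, mul_inv_eq_iff_eq_mul] at h3
      exact h3) ee (R.y_sq _ _) (cey b).symm ?_ ?_ hyQ ?_ ?_ ?_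
  · -- pass to `g0 g0^H x`
    set A := g0 * (R.h lam * g0 * (R.h lam)⁻¹) with hA
    have hAW : A ∈ C.D.W i (neg j) := mul_mem hg0 (C.D.torus i (neg j) hij' g0 hg0 lam)
    have h5 : ⁅v, A * R.x i (neg j) a'⁆ = ⁅v, A⁆ * (A * ⁅v, R.x i (neg j) a'⁆ * A⁻¹) := by
      rw [commutatorElement_def, commutatorElement_def, commutatorElement_def]; group
    rw [h5]
    refine mul_mem hker (C.NN_le_Q1 hij (C.NN_W hij ?_ hAW))
    rw [commutatorElement_def, R.x_inv]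
    exact C.x_conj_V hij hv a'
  · rintro _ ⟨s, m, hm, rfl⟩
    rw [show R.h lam * (R.x i (neg j) s * m) * (R.h lam)⁻¹ =
      (R.h lam * R.x i (neg j) s * (R.h lam)⁻¹) * (R.h lam * m * (R.h lam)⁻¹) by group, R.h_x]
    exact mul_mem (C.x_mem_Q1 hij _) (C.NN_le_Q1 hij (C.NN_h hij hm lam))
  · rintro _ ⟨s, m, hm, rfl⟩
    rw [show e * (R.x i (neg j) s * m) * e = (e * R.x i (neg j) s) * m * e by group, ← (cex s).eq,
      show R.x i (neg j) s * e * m * e = R.x i (neg j) s * (e * m * e) by group]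
    exact mul_mem (C.x_mem_Q1 hij _) (C.NN_le_Q1 hij (eN m hm))
  · rintro _ ⟨s, m, hm, rfl⟩
    have cgx : Commute g0 (R.x i (neg j) s) := C.D.comm i (neg j) hij' g0 hg0 _ (C.D.x_mem i (neg j) s)
    rw [show g0 * (R.x i (neg j) s * m) * g0⁻¹ = (g0 * R.x i (neg j) s) * m * g0⁻¹ by group, cgx.eq,
      show R.x i (neg j) s * g0 * m * g0⁻¹ = R.x i (neg j) s * (g0 * m * g0⁻¹) by group]
    exact mul_mem (C.x_mem_Q1 hij _) (C.NN_le_Q1 hij (C.NN_W hij hm hg0))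
  · rcases he with rfl | rfl
    · simp
    · obtain ⟨u, hu⟩ := C.D.conj_t hij' hg0
      rw [hu]; exact C.x_mem_Q1 hij u
  · exact C.NN_le_Q1 hij (C.y_conj_W hij hg0 b)

/-- **(9.1)**: 135 degrees -/
theorem mem135 [Finite F] (hn : 3 ≤ n) (hF : ∃ μ : Fˣ, (μ : F) ≠ 1) {g v : G} (hg : g ∈ C.D.W i (neg j))
    (hv : v ∈ C.L.V j) : ⁅g, v⁆ ∈ C.NN hij := by
  have hij' : Dj i (neg j) := dj_neg_right.mpr hij
  have hF' := hF
  obtain ⟨μ, hμ⟩ := hF
  obtain ⟨lam, l1, l2, -⟩ := exists_lam2 hij μ μ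
  have hμ2 : ((μ ^ 2 : Fˣ) : F) ≠ 1 := by rw [Units.val_pow_eq_pow_val]; exact sq_ne_one hμ
  obtain ⟨v0, hv0, c', rfl⟩ := C.exists_decompL hμ2 (lam := lam) (by rw [l2, Units.val_pow_eq_pow_val]) hv
  have h1 := C.step1 hij hn hF' hg hv0
  have h2 := inv_mem h1
  rw [commutatorElement_inv] at h2
  obtain ⟨a, m, hm, h⟩ := h2
  have hxN : ∀ m ∈ C.NN hij, Commute m (R.x i (neg j) a) := fun m hm => C.NN_x hij hm a
  have hker := kill (C.NN hij) hm (e := 1) (p := R.x i (neg j) a) (H := R.h lam) (by rw [one_mul]; exact h)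
    (C.D.torus_one i (neg j) hij' g hg lam (by rw [l1, ev_neg, l2, mul_inv_cancel])) (Commute.one_right _)
    (R.h_comm (by rw [l1, ev_neg, l2, mul_inv_cancel]) a) (mul_one 1) (R.x_sq _ _ _) (Commute.one_left _)
    (fun x hx => C.NN_h hij hx lam) (fun x hx => by rw [one_mul, mul_one]; exact hx)
    (fun x hx => by rw [← (hxN x hx).eq, mul_assoc, R.x_sq, mul_one]; exact hx)
    (fun x hx => by rw [← (C.NN_V hij hx hv0).eq, mul_inv_cancel_right]; exact hx)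
    (by rw [mul_one, mul_one, mul_inv_cancel]; exact one_mem _) (C.x_conj_V hij hv0 a)
  set A := v0 * (R.h lam * v0 * (R.h lam)⁻¹) with hA
  have hAV : A ∈ C.L.V j := mul_mem hv0 (C.L.torus j v0 hv0 lam)
  have h5 : ⁅g, A * R.y j c'⁆ = ⁅g, A⁆ * (A * ⁅g, R.y j c'⁆ * A⁻¹) := by
    rw [commutatorElement_def, commutatorElement_def, commutatorElement_def]; group
  rw [h5]
  have h6 : ⁅g, R.y j c'⁆ ∈ C.NN hij := by
    rw [commutatorElement_def, R.y_inv]; exact C.y_conj_W hij hg c'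
  refine mul_mem hker ?_
  rw [← (C.NN_V hij h6 hAV).eq, mul_inv_cancel_right]
  exact h6

end CC

end Cfsg.Agent.OddHalf.SpN
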