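import Mathlib
import Cfsg.Agent.OddHalf.F4.EndO

/-!
# A graded group from a family of root groups with distinct degrees (helper200)

`P` = type of roots, `deg : P → ℕ` (0 = not positive), roots of the same positive degree give the same groups.
-/

set_option autoImplicit false

namespace Cfsg.Agent.OddHalf.SpN.GradeOf

open Cfsg.Agent.OddHalf.F4.EndO

variable {G P : Type*} [Group G]

/-- the graded pieces -/
def Vd (deg : P → ℕ) (V : P → Subgroup G) (d : ℕ) : Subgroup G := ⨆ p : P, ⨆ _ : 0 < deg p ∧ deg p = d, V p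

/-- the marked degrees -/
def lgd (deg : P → ℕ) (lg : P → Prop) (d : ℕ) : Prop := ∃ p, 0 < deg p ∧ deg p = d ∧ lg p

theorem le_Vd {deg : P → ℕ} {V : P → Subgroup G} {p : P} (h : 0 < deg p) : V p ≤ Vd deg V (deg p) :=
  le_iSup₂_of_le (f := fun q (_ : 0 < deg q ∧ deg q = deg p) => V q) p ⟨h, rfl⟩ le_rfl

theorem Vd_eq {deg : P → ℕ} {V : P → Subgroup G} (hV : ∀ p q, 0 < deg p → deg p = deg q → V p = V q) {p : P}
    (h : 0 < deg p) : Vd deg V (deg p) = V p := by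
  apply le_antisymm
  · exact iSup₂_le fun q hq => (hV q p hq.1 hq.2).le
  · exact le_Vd h

theorem Vd_bot {deg : P → ℕ} {V : P → Subgroup G} {d : ℕ} (h : ∀ p, 0 < deg p → deg p ≠ d) : Vd deg V d = ⊥ := by
  rw [eq_bot_iff]
  exact iSup₂_le fun q hq => absurd hq.2 (h q hq.1)

theorem le_N' {deg : P → ℕ} {V : P → Subgroup G} {p : P} {h : ℕ} (hp : 0 < deg p) (hh : h ≤ deg p) :
    V p ≤ N (Vd deg V) h := (le_Vd hp).trans (le_N _ hh)

theorem le_Lg' {deg : P → ℕ} {V : P → Subgroup G} {lg : P → Prop} {p : P} {h : ℕ} (hp : 0 < deg p) (hl : lg p)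
    (hh : h ≤ deg p) : V p ≤ Lg (Vd deg V) (lgd deg lg) h := (le_Vd hp).trans (le_Lg hh ⟨p, hp, rfl, hl⟩)

theorem N_eq (deg : P → ℕ) (V : P → Subgroup G) {h : ℕ} (hh : 1 ≤ h) :
    N (Vd deg V) h = ⨆ p : P, ⨆ _ : h ≤ deg p, V p := by
  apply le_antisymm
  · refine N_le fun i hi => iSup₂_le fun p hp => ?_
    exact le_iSup₂_of_le (f := fun q (_ : h ≤ deg q) => V q) p (by rw [hp.2]; exact hi) le_rfl
  · exact iSup₂_le fun p hp => le_N' (by omega) hp

/-- The graded group. -/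
theorem grd {t : G} {deg : P → ℕ} {V X : P → Subgroup G} {lg : P → Prop} {R n : ℕ}
    (hV : ∀ p q, 0 < deg p → deg p = deg q → V p = V q) (hX : ∀ p q, 0 < deg p → deg p = deg q → X p = X q)
    (hlg : ∀ p q, 0 < deg p → deg p = deg q → lg p → lg q)
    (tt : t * t = 1)
    (conj : ∀ p, 0 < deg p → ∀ v ∈ V p, t * v * t ∈ V p)
    (sq : ∀ p, 0 < deg p → ∀ v ∈ V p, v * v = 1)
    (X_le : ∀ p, 0 < deg p → X p ≤ V p)
    (X_fix : ∀ p, 0 < deg p → ∀ x ∈ X p, t * x * t = x)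
    (fix : ∀ p, 0 < deg p → ∀ v ∈ V p, t * v * t = v → v ∈ X p)
    (free : ∀ p, 0 < deg p → ¬ lg p → ∀ x ∈ X p, ∃ w ∈ V p, w⁻¹ * (t * w * t) = x)
    (lgV : ∀ p, 0 < deg p → lg p → V p ≤ X p)
    (comm : ∀ p q, 0 < deg p → 0 < deg q → deg p ≠ deg q → ∀ v ∈ V p, ∀ w ∈ V q,
      v * w * v⁻¹ * w⁻¹ ∈ ⨆ r : P, ⨆ _ : deg p + deg q ≤ deg r, V r)
    (lcomm : ∀ p q, 0 < deg p → 0 < deg q → deg p ≠ deg q → lg p → lg q → ∀ v ∈ X p, ∀ w ∈ X q,
      v * w * v⁻¹ * w⁻¹ ∈ ⨆ r : P, ⨆ _ : deg p + deg q ≤ deg r ∧ lg r, X r)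
    (top : ∀ p, deg p ≤ n)
    (indep : ∀ p, 0 < deg p → X p ⊓ (⨆ r : P, ⨆ _ : deg p + 1 ≤ deg r, X r) = ⊥)
    (lR : ∀ p, 0 < deg p → lg p → deg p ≤ R) :
    Grd t (Vd deg V) (Vd deg X) (lgd deg lg) R n := by
  have cases : ∀ d : ℕ, (∃ p, 0 < deg p ∧ deg p = d) ∨ (∀ p, 0 < deg p → deg p ≠ d) := by
    intro d
    by_cases h : ∃ p, 0 < deg p ∧ deg p = d
    · exact Or.inl h
    · right
      intro p hp he
      exact h ⟨p, hp, he⟩
  have hlg' : ∀ p, 0 < deg p → (lgd deg lg (deg p) ↔ lg p) := by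
    intro p hp
    constructor
    · rintro ⟨q, hq, he, hl⟩
      exact hlg q p hq he hl
    · intro hl
      exact ⟨p, hp, rfl, hl⟩
  refine ⟨tt, ?_, ?_, ?_, ?_, ?_, ?_, ?_, ?_, ?_, ?_, ?_, ?_⟩
  · intro d v hv
    rcases cases d with ⟨p, hp, rfl⟩ | h
    · rw [Vd_eq hV hp] at hv ⊢
      exact conj p hp v hv
    · rw [Vd_bot h, Subgroup.mem_bot] at hv ⊢
      rw [hv, mul_one, tt]
  · intro d v hv
    rcases cases d with ⟨p, hp, rfl⟩ | h
    · rw [Vd_eq hV hp] at hv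
      exact sq p hp v hv
    · rw [Vd_bot h, Subgroup.mem_bot] at hv
      rw [hv, mul_one]
  · intro d
    rcases cases d with ⟨p, hp, rfl⟩ | h
    · rw [Vd_eq hV hp, Vd_eq hX hp]
      exact X_le p hp
    · rw [Vd_bot h]; exact bot_le
  · intro d v hv
    rcases cases d with ⟨p, hp, rfl⟩ | h
    · rw [Vd_eq hX hp] at hv
      exact X_fix p hp v hv
    · rw [Vd_bot h, Subgroup.mem_bot] at hv
      rw [hv, mul_one, tt]
  · intro d v hv hf
    rcases cases d with ⟨p, hp, rfl⟩ | h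
    · rw [Vd_eq hV hp] at hv
      rw [Vd_eq hX hp]
      exact fix p hp v hv hf
    · rw [Vd_bot h, Subgroup.mem_bot] at hv
      rw [hv]; exact one_mem _
  · intro d hl x hx
    rcases cases d with ⟨p, hp, rfl⟩ | h
    · rw [Vd_eq hX hp] at hx
      rw [Vd_eq hV hp]
      exact free p hp (fun h => hl ((hlg' p hp).2 h)) x hx
    · rw [Vd_bot h, Subgroup.mem_bot] at hx
      exact ⟨1, one_mem _, by rw [hx, mul_one, tt, inv_one, one_mul]⟩
  · intro d hl
    rcases cases d with ⟨p, hp, rfl⟩ | h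
    · rw [Vd_eq hV hp, Vd_eq hX hp]
      exact lgV p hp ((hlg' p hp).1 hl)
    · rw [Vd_bot h]; exact bot_le
  · intro d e hd he hne v hv w hw
    rcases cases d with ⟨p, hp, rfl⟩ | h
    · rcases cases e with ⟨q, hq, rfl⟩ | h'
      · rw [Vd_eq hV hp] at hv
        rw [Vd_eq hV hq] at hw
        rw [N_eq deg V (by omega)]
        exact comm p q hp hq hne v hv w hw
      · rw [Vd_bot h', Subgroup.mem_bot] at hw
        rw [hw, mul_one, inv_one, mul_one, mul_inv_cancel]; exact one_mem _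
    · rw [Vd_bot h, Subgroup.mem_bot] at hv
      rw [hv, one_mul, inv_one, mul_one, mul_inv_cancel]; exact one_mem _
  · intro d e hd he hne hld hle v hv w hw
    rcases cases d with ⟨p, hp, rfl⟩ | h
    · rcases cases e with ⟨q, hq, rfl⟩ | h'
      · rw [Vd_eq hX hp] at hv
        rw [Vd_eq hX hq] at hw
        have h1 : (⨆ r : P, ⨆ _ : deg p + deg q ≤ deg r ∧ lg r, X r) ≤ Lg (Vd deg X) (lgd deg lg) (deg p + deg q) :=
          iSup₂_le fun r hr => le_Lg' (by omega) hr.2 hr.1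
        exact h1 (lcomm p q hp hq hne ((hlg' p hp).1 hld) ((hlg' q hq).1 hle) v hv w hw)
      · rw [Vd_bot h', Subgroup.mem_bot] at hw
        rw [hw, mul_one, inv_one, mul_one, mul_inv_cancel]; exact one_mem _
    · rw [Vd_bot h, Subgroup.mem_bot] at hv
      rw [hv, one_mul, inv_one, mul_one, mul_inv_cancel]; exact one_mem _
  · intro d hd
    apply Vd_bot
    intro p _ he
    have := top p
    omega
  · intro d hd
    rcases cases d with ⟨p, hp, rfl⟩ | h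
    · rw [Vd_eq hX hp, N_eq deg X (by omega)]
      exact indep p hp
    · rw [Vd_bot h, bot_inf_eq]
  · rintro d ⟨p, hp, rfl, hl⟩
    exact lR p hp hl

end Cfsg.Agent.OddHalf.SpN.GradeOf
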