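import Cfsg.Agent.OddHalf.SpN.ShortS

/-!
# ODD D7, `K = Sp_2n(q)`, `q ≥ 4` even: commutators of the doubles of the short root groups (helper570)

Section (6.2) of `blueprints/ODD-D7-Sp-helper297.md` in subgroup form.

* `kill` : the abstract lemma which replaces 'equivariance + additivity';
* `comm60`, `comm90` : `[W_ij, W_ik] = 1`, `[W_ij, W_kl] = 1`;
* `par_mem` : `[W_ij, W_{i,-j}] ≤ Y_i`;
* `mem120` : `[W_jk, W_{i,-j}] ≤ W_ik`.
-/

set_option autoImplicit false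

namespace Cfsg.Agent.OddHalf.SpN

open scoped commutatorElement

variable {n : ℕ} {F : Type*} [Field F] {G : Type*} [Group G]

/-- **Equivariance and additivity.** If `c = ⁅g, g'⁆ ∈ e p Q` and `H` centralises `g`, `e`, `p`, then
`⁅g, g' g'^H⁆ ∈ Q`. -/
theorem kill {g g' H e p q : G} (Q : Subgroup G) (hq : q ∈ Q) (hc : ⁅g, g'⁆ = e * p * q)
    (Hg : Commute H g) (He : Commute H e) (Hp : Commute H p) (ee : e * e = 1) (pp : p * p = 1) (ep : Commute e p)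
    (HQ : ∀ x ∈ Q, H * x * H⁻¹ ∈ Q) (eQ : ∀ x ∈ Q, e * x * e ∈ Q) (pQ : ∀ x ∈ Q, p * x * p ∈ Q)
    (gQ : ∀ x ∈ Q, g' * x * g'⁻¹ ∈ Q) (ge : g' * e * g'⁻¹ * e ∈ Q) (gp : g' * p * g'⁻¹ * p ∈ Q) :
    ⁅g, g' * (H * g' * H⁻¹)⁆ ∈ Q := by
  have h1 : ⁅g, H * g' * H⁻¹⁆ = H * ⁅g, g'⁆ * H⁻¹ := by
    rw [commutatorElement_def, commutatorElement_def]
    calc g * (H * g' * H⁻¹) * g⁻¹ * (H * g' * H⁻¹)⁻¹
        = (g * H) * g' * (H⁻¹ * g⁻¹) * H * g'⁻¹ * H⁻¹ := by group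
      _ = (H * g) * g' * (g⁻¹ * H⁻¹) * H * g'⁻¹ * H⁻¹ := by rw [Hg.eq, Hg.inv_inv.eq]
      _ = _ := by group
  have h2 : ⁅g, g' * (H * g' * H⁻¹)⁆ = ⁅g, g'⁆ * (g' * ⁅g, H * g' * H⁻¹⁆ * g'⁻¹) := by
    rw [commutatorElement_def, commutatorElement_def, commutatorElement_def]; group
  have h3 : H * (e * p * q) * H⁻¹ = e * p * (H * q * H⁻¹) := by
    calc H * (e * p * q) * H⁻¹ = (H * (e * p)) * q * H⁻¹ := by group
      _ = (e * p * H) * q * H⁻¹ := by rw [(He.mul_right Hp).eq]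
      _ = _ := by group
  have h4 : g' * (e * p * (H * q * H⁻¹)) * g'⁻¹ =
      (g' * e * g'⁻¹ * e) * e * ((g' * p * g'⁻¹ * p) * p) * (g' * (H * q * H⁻¹) * g'⁻¹) := by
    calc g' * (e * p * (H * q * H⁻¹)) * g'⁻¹
        = (g' * e * g'⁻¹) * (g' * p * g'⁻¹) * (g' * (H * q * H⁻¹) * g'⁻¹) := by group
      _ = (g' * e * g'⁻¹) * (e * e) * ((g' * p * g'⁻¹) * (p * p)) * (g' * (H * q * H⁻¹) * g'⁻¹) := by
          rw [ee, pp, mul_one, mul_one]
      _ = _ := by group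
  rw [h2, h1, hc, h3, h4]
  set a1 := g' * e * g'⁻¹ * e
  set a2 := g' * p * g'⁻¹ * p
  have h5 : e * p * q * (a1 * e * (a2 * p) * (g' * (H * q * H⁻¹) * g'⁻¹)) =
      (e * (p * (q * a1) * p) * e) * (p * a2 * p) * (g' * (H * q * H⁻¹) * g'⁻¹) := by
    calc e * p * q * (a1 * e * (a2 * p) * (g' * (H * q * H⁻¹) * g'⁻¹))
        = e * (p * (q * a1)) * 1 * e * a2 * p * (g' * (H * q * H⁻¹) * g'⁻¹) := by group
      _ = e * (p * (q * a1)) * (p * p) * e * a2 * p * (g' * (H * q * H⁻¹) * g'⁻¹) := by rw [pp]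
      _ = e * (p * (q * a1) * p) * (p * e) * a2 * p * (g' * (H * q * H⁻¹) * g'⁻¹) := by group
      _ = e * (p * (q * a1) * p) * (e * p) * a2 * p * (g' * (H * q * H⁻¹) * g'⁻¹) := by rw [ep.eq]
      _ = _ := by group
  rw [h5]
  exact mul_mem (mul_mem (eQ _ (pQ _ (mul_mem hq ge))) (pQ _ gp)) (gQ _ (HQ _ hq))

theorem comm_mul_x {g A x : G} (h : Commute g x) : ⁅g, A * x⁆ = ⁅g, A⁆ := by
  rw [commutatorElement_def, commutatorElement_def]
  calc g * (A * x) * g⁻¹ * (A * x)⁻¹ = g * A * (x * g⁻¹) * x⁻¹ * A⁻¹ := by group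
    _ = g * A * (g⁻¹ * x) * x⁻¹ * A⁻¹ := by rw [h.inv_left.eq]
    _ = _ := by group

/-- an element centralising `x` and `g'⁻¹ x g'` -/
theorem comm_of_conj {g g' x : G} (h1 : Commute g x) (h2 : Commute g (g'⁻¹ * x * g')) : Commute ⁅g, g'⁆ x := by
  show ⁅g, g'⁆ * x = x * ⁅g, g'⁆
  have h3 : g⁻¹ * (g'⁻¹ * x * g') * g = g'⁻¹ * x * g' := by
    rw [mul_assoc, ← h2.eq]; group
  have h4 : g * x * g⁻¹ = x := by rw [h1.eq]; group
  have h5 : ⁅g, g'⁆ * x * ⁅g, g'⁆⁻¹ = x := by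
    rw [commutatorElement_def]
    calc g * g' * g⁻¹ * g'⁻¹ * x * (g * g' * g⁻¹ * g'⁻¹)⁻¹
        = g * g' * (g⁻¹ * (g'⁻¹ * x * g') * g) * g'⁻¹ * g⁻¹ := by group
      _ = g * x * g⁻¹ := by rw [h3]; group
      _ = x := h4
  rw [mul_inv_eq_iff_eq_mul] at h5
  exact h5

/-- the same with the roles exchanged -/
theorem comm_of_conj' {g g' x : G} (h1 : Commute g' x) (h2 : Commute g' (g⁻¹ * x * g)) : Commute ⁅g, g'⁆ x := by
  have h := (comm_of_conj h1 h2).inv_left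
  rwa [commutatorElement_inv] at h

namespace Frame

variable [CharP F 2] (R : Frame n F G)

theorem h_comm {i j : Ix n} {lam : Fin n → Fˣ} (hl : ev lam i * ev lam j = 1) (a : F) :
    Commute (R.h lam) (R.x i j a) := by
  have h := R.h_x lam i j a
  rw [← Units.val_mul, hl, Units.val_one, one_mul, mul_inv_eq_iff_eq_mul] at h
  exact h

/-- the short root groups -/
def xs (i j : Ix n) : Subgroup G where
  carrier := {x | ∃ a, x = R.x i j a}
  one_mem' := ⟨0, (R.x_zero _ _).symm⟩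
  mul_mem' := by
    rintro _ _ ⟨a, rfl⟩ ⟨b, rfl⟩; exact ⟨a + b, (R.x_add _ _ _ _).symm⟩
  inv_mem' := by
    rintro _ ⟨a, rfl⟩; exact ⟨a, R.x_inv _ _ _⟩

theorem mem_xs {R : Frame n F G} {i j : Ix n} {x : G} : x ∈ R.xs i j ↔ ∃ a, x = R.x i j a := Iff.rfl

/-- the long root groups -/
def ys (i : Ix n) : Subgroup G where
  carrier := {x | ∃ a, x = R.y i a}
  one_mem' := ⟨0, (R.y_zero _).symm⟩
  mul_mem' := by
    rintro _ _ ⟨a, rfl⟩ ⟨b, rfl⟩; exact ⟨a + b, (R.y_add _ _ _).symm⟩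
  inv_mem' := by
    rintro _ ⟨a, rfl⟩; exact ⟨a, R.y_inv _ _⟩

theorem mem_ys {R : Frame n F G} {i : Ix n} {x : G} : x ∈ R.ys i ↔ ∃ a, x = R.y i a := Iff.rfl

end Frame

/-- the facts on centralisers in `C_G(t)` used for the commutators of the short doubles -/
structure KT (R : Frame n F G) : Prop extends KS R where
  /-- 90 degrees -/
  k90 : ∀ i j k l, Dj i j → Dj i k → Dj i l → Dj j k → Dj j l → Dj k l → ∀ c, Commute c R.t →
    (∀ a b s, a ≠ neg i → a ≠ neg j → a ≠ neg k → a ≠ neg l → b ≠ neg i → b ≠ neg j → b ≠ neg k → b ≠ neg l →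
      Commute c (R.x a b s)) →
    (∀ a s, a ≠ neg i → a ≠ neg j → a ≠ neg k → a ≠ neg l → Commute c (R.y a s)) →
    (∀ lam, ev lam i * ev lam j = 1 → ev lam k * ev lam l = 1 → Commute c (R.h lam)) →
    ∃ e f g, (e = 1 ∨ e = R.t) ∧ c = e * R.x i j f * R.x k l g
  /-- `F3` for `Q_i` -/
  kQ : ∀ i j, Dj i j → ∀ c, Commute c R.t → (∀ s, Commute c (R.y i s)) →
    (∀ l s, Dj i l → Commute c (R.x i l s)) →
    (∀ lam, ev lam i = 1 → ev lam j = 1 → Commute c (R.h lam)) →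
    ∃ e f g r, (e = 1 ∨ e = R.t) ∧ c = e * R.x i j g * R.x i (neg j) r * R.y i f
  /-- `F4` -/
  k4 : ∀ i j k, Dj i j → Dj i k → Dj j k → ∀ c, Commute c R.t → (∀ s, Commute c (R.y i s)) →
    (∀ s, Commute c (R.y k s)) → (∀ s, Commute c (R.x i j s)) → (∀ s, Commute c (R.x k (neg j) s)) →
    (∀ l s, Dj i l → Dj j l → Dj k l → Commute c (R.y l s)) →
    (∀ lam, ev lam j * ev lam k = 1 → ev lam i = ev lam j → Commute c (R.h lam)) →
    ∃ e f g r, (e = 1 ∨ e = R.t) ∧ c = e * R.x j k f * R.x i (neg j) g * R.x i k r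

namespace DS

variable [CharP F 2] {R : Frame n F G} {δ : F} (D : DS R δ)
include D

/-- every element of `W_ij` is `g' g'^H x` if `H` induces `μ ≠ 1` on the heights -/
theorem exists_decomp {i j : Ix n} (hij : Dj i j) {lam : Fin n → Fˣ} {μ : Fˣ} (hμ : (μ : F) ≠ 1)
    (hl : ev lam i * ev lam j = μ) {g : G} (hg : g ∈ D.W i j) :
    ∃ g' ∈ D.W i j, ∃ a, g = g' * (R.h lam * g' * (R.h lam)⁻¹) * R.x i j a := by
  obtain ⟨u, hu⟩ := D.ht i j hij g hg
  have hμ1 : (1 : F) + μ ≠ 0 := by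
    intro h
    apply hμ
    have : (μ : F) = -1 := by linear_combination h
    rw [this, CharTwo.neg_eq]
  obtain ⟨g', hg', hu'⟩ := D.onto i j hij ((1 + (μ : F))⁻¹ * u)
  refine ⟨g', hg', ?_⟩
  have hH := D.torus i j hij g' hg' lam
  refine D.eq_mul_x hij (mul_mem hg' hH) hg ?_ hu
  have h1 : R.t * (R.h lam * g' * (R.h lam)⁻¹) * R.t =
      (R.h lam * g' * (R.h lam)⁻¹) * R.x i j (μ * ((1 + (μ : F))⁻¹ * u)) := by
    rw [R.t_mul, R.t_mul, R.t_of_comm (R.h_t lam), R.t_inv', R.t_of_comm (R.h_t lam), hu']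
    have h2 := R.h_x lam i j ((1 + (μ : F))⁻¹ * u)
    rw [← Units.val_mul, hl] at h2
    rw [← h2]; group
  rw [R.t_mul, h1, hu']
  have h3 : Commute (R.x i j ((1 + (μ : F))⁻¹ * u)) (R.h lam * g' * (R.h lam)⁻¹) :=
    D.comm i j hij _ (D.x_mem i j _) _ hH
  calc g' * R.x i j ((1 + (μ : F))⁻¹ * u) *
        (R.h lam * g' * (R.h lam)⁻¹ * R.x i j (μ * ((1 + (μ : F))⁻¹ * u)))
      = g' * (R.x i j ((1 + (μ : F))⁻¹ * u) * (R.h lam * g' * (R.h lam)⁻¹)) *
          R.x i j (μ * ((1 + (μ : F))⁻¹ * u)) := by group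
    _ = g' * (R.h lam * g' * (R.h lam)⁻¹) * (R.x i j ((1 + (μ : F))⁻¹ * u) *
          R.x i j (μ * ((1 + (μ : F))⁻¹ * u))) := by rw [h3.eq]; group
    _ = _ := by
      rw [← R.x_add]
      congr 2
      field_simp

/-- `g' t g'⁻¹ ∈ t X_ij` -/
theorem conj_t {i j : Ix n} (hij : Dj i j) {g' : G} (hg' : g' ∈ D.W i j) :
    ∃ u, g' * R.t * g'⁻¹ * R.t = R.x i j u := by
  obtain ⟨u, hu⟩ := D.ht i j hij g' hg'
  refine ⟨u, ?_⟩
  have h1 : g' * R.t = R.t * (g' * R.x i j u) := by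
    rw [← hu, ← mul_assoc, ← mul_assoc, R.tt, one_mul]
  have h2 : Commute (R.x i j u) g' := D.comm i j hij _ (D.x_mem i j u) _ hg'
  calc g' * R.t * g'⁻¹ * R.t = R.t * (g' * R.x i j u) * g'⁻¹ * R.t := by rw [h1]
    _ = R.t * (R.x i j u * g') * g'⁻¹ * R.t := by rw [h2.eq]
    _ = R.t * R.x i j u * R.t := by group
    _ = R.x i j u := R.t_of_comm (R.x_t _ _ _)

/-- the common part of 60 and 90 degrees -/
theorem mem_of_two {i j k l : Ix n} (hij : Dj i j) (hkl : Dj k l)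
    (hF : ∃ μ : Fˣ, (μ : F) ≠ 1)
    (hlam : ∀ μ : Fˣ, ∃ lam : Fin n → Fˣ, ev lam i * ev lam j = 1 ∧ ev lam k * ev lam l = μ)
    (hxg : ∀ g' ∈ D.W k l, ∀ s, Commute g' (R.x i j s))
    (hxg' : ∀ g ∈ D.W i j, ∀ s, Commute g (R.x k l s))
    (hxx : ∀ s s', Commute (R.x i j s) (R.x k l s'))
    (hc : ∀ g ∈ D.W i j, ∀ g' ∈ D.W k l, ∃ e f r, (e = 1 ∨ e = R.t) ∧ ⁅g, g'⁆ = e * R.x i j f * R.x k l r)
    {g g' : G} (hg : g ∈ D.W i j) (hg' : g' ∈ D.W k l) : ⁅g, g'⁆ ∈ R.xs k l := by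
  obtain ⟨μ, hμ⟩ := hF
  obtain ⟨lam, l1, l2⟩ := hlam μ
  obtain ⟨g1, hg1, a, rfl⟩ := D.exists_decomp hkl hμ l2 hg'
  obtain ⟨e, f, r, he, h⟩ := hc g hg g1 hg1
  rw [comm_mul_x (hxg' g hg a)]
  have het : ∀ x : G, Commute x R.t → Commute x e := by
    intro x hx
    rcases he with rfl | rfl
    · exact Commute.one_right _
    · exact hx
  have hee : e * e = 1 := by
    rcases he with rfl | rfl
    · rw [mul_one]
    · exact R.tt
  refine kill (R.xs k l) (Frame.mem_xs.2 ⟨r, rfl⟩) h (D.torus_one i j hij g hg lam l1) (het _ (R.h_t lam))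
    (R.h_comm l1 f) hee (R.x_sq _ _ _) (het _ (R.x_t _ _ _)).symm ?_ ?_ ?_ ?_ ?_ ?_
  · intro x hx
    obtain ⟨a, rfl⟩ := Frame.mem_xs.1 hx
    exact Frame.mem_xs.2 ⟨_, R.h_x _ _ _ _⟩
  · intro x hx
    obtain ⟨a, rfl⟩ := Frame.mem_xs.1 hx
    rw [← (het _ (R.x_t k l a)).eq, mul_assoc, hee, mul_one]
    exact hx
  · intro x hx
    obtain ⟨a, rfl⟩ := Frame.mem_xs.1 hx
    rw [(hxx f a).eq, mul_assoc, R.x_sq, mul_one]
    exact hx
  · intro x hx
    obtain ⟨a, rfl⟩ := Frame.mem_xs.1 hx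
    have := D.comm k l hkl g1 hg1 _ (D.x_mem k l a)
    rw [this]
    simpa using hx
  · rcases he with rfl | rfl
    · simpa using one_mem _
    · obtain ⟨u, hu⟩ := D.conj_t hkl hg1
      rw [hu]
      exact Frame.mem_xs.2 ⟨u, rfl⟩
  · rw [(hxg g1 hg1 f).eq]
    have : R.x i j f * g1 * g1⁻¹ * R.x i j f = 1 := by
      rw [mul_inv_cancel_right, R.x_sq]
    rw [this]
    exact one_mem _

/-- `e = 1` or `e = t` -/
theorem comm_e {e : G} (he : e = 1 ∨ e = R.t) {x : G} (hx : Commute x R.t) : Commute x e := by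
  rcases he with rfl | rfl
  · exact Commute.one_right _
  · exact hx

theorem xs_disj {i j k l : Ix n} (hij : Dj i j) (hF : ∃ μ : Fˣ, (μ : F) ≠ 1)
    (hlam : ∀ μ : Fˣ, ∃ lam : Fin n → Fˣ, ev lam i * ev lam j = μ ∧ ev lam k * ev lam l = 1)
    {x : G} (h1 : x ∈ R.xs i j) (h2 : x ∈ R.xs k l) : x = 1 := by
  obtain ⟨a, rfl⟩ := Frame.mem_xs.1 h1
  obtain ⟨b, hb⟩ := Frame.mem_xs.1 h2
  obtain ⟨μ, hμ⟩ := hF
  obtain ⟨lam, l1, l2⟩ := hlam μ
  have h3 := R.h_x lam i j a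
  rw [hb, ((R.h_comm l2 b)).eq, mul_inv_cancel_right, ← hb, ← Units.val_mul, l1] at h3
  have h4 := R.x_inj hij h3
  have h5 : a * (μ - 1) = 0 := by linear_combination -h4
  rcases mul_eq_zero.1 h5 with h6 | h6
  · rw [h6, R.x_zero]
  · exact absurd (sub_eq_zero.1 h6) hμ

/-- **(6.2), 60 degrees** -/
theorem comm60 (hF : ∃ μ : Fˣ, (μ : F) ≠ 1) (hK : KT R) {i j k : Ix n} (hij : Dj i j) (hik : Dj i k)
    (hjk : Dj j k) {g g' : G} (hg : g ∈ D.W i j) (hg' : g' ∈ D.W i k) : Commute g g' := by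
  -- the general decomposition
  have main : ∀ j k, Dj i j → Dj i k → Dj j k → ∀ g ∈ D.W i j, ∀ g' ∈ D.W i k,
      ∃ e f r, (e = 1 ∨ e = R.t) ∧ ⁅g, g'⁆ = e * R.x i j f * R.x i k r := by
    intro j k hij hik hjk g hg g' hg'
    have n1 : i ≠ neg j := hij.2
    have n2 : i ≠ neg k := hik.2
    have n3 : j ≠ neg k := hjk.2
    have n1' : j ≠ neg i := hij.symm.2
    have n2' : k ≠ neg i := hik.symm.2
    have n3' : k ≠ neg j := hjk.symm.2
    refine hK.k60 i j k hij hik hjk _ ?_ ?_ ?_ ?_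
    · obtain ⟨u, hu⟩ := D.ht i j hij g hg
      obtain ⟨u', hu'⟩ := D.ht i k hik g' hg'
      apply R.comm_of_t
      have hgx : Commute g (R.x i j u) := D.cX hij hg (ne_neg i) n1 n1' (ne_neg j) _
      have hgx' : Commute g (R.x i k u') := D.cX hij hg (ne_neg i) n1 n2' n3' _
      have hg'x : Commute g' (R.x i j u) := D.cX hik hg' (ne_neg i) n2 n1' n3 _
      have hxx : Commute (R.x i j u) (R.x i k u') := R.x_comm (ne_neg i) n1 n2' n3' _ _
      rw [commutatorElement_def, R.t_mul, R.t_mul, R.t_mul, R.t_inv', R.t_inv', hu, hu']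
      show ⁅g * R.x i j u, g' * R.x i k u'⁆ = ⁅g, g'⁆
      have e1 : Commute (g * R.x i j u) (R.x i k u') := hgx'.mul_left hxx
      rw [comm_mul_x e1]
      rw [← inv_inj, commutatorElement_inv, commutatorElement_inv, comm_mul_x hg'x]
    · intro a b s a1 a2 a3 b1 b2 b3
      exact comm_of_conj (D.cX hij hg a1 a2 b1 b2 s) (by
        have h := D.cX hik hg' a1 a3 b1 b3 s
        have : g'⁻¹ * R.x a b s * g' = R.x a b s := by rw [h.inv_left.eq]; group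
        rw [this]
        exact D.cX hij hg a1 a2 b1 b2 s)
    · intro a s a1 a2 a3
      have h0 : Commute g (R.y a s) := D.cy i j hij g hg a s a1 a2
      exact comm_of_conj h0 (by
        have h : Commute g' (R.y a s) := D.cy i k hik g' hg' a s a1 a3
        have : g'⁻¹ * R.y a s * g' = R.y a s := by rw [h.inv_left.eq]; group
        rw [this]
        exact h0)
    · intro lam l1 l2
      have h1 : Commute g (R.h lam) := Commute.symm (D.torus_one i j hij g hg lam l1)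
      have h2 : Commute g' (R.h lam) := Commute.symm (D.torus_one i k hik g' hg' lam l2)
      exact comm_of_conj h1 (by
        have : g'⁻¹ * R.h lam * g' = R.h lam := by rw [h2.inv_left.eq]; group
        rw [this]; exact h1)
  have lam1 : ∀ j k, Dj i j → Dj i k → Dj j k → ∀ μ : Fˣ, ∃ lam : Fin n → Fˣ,
      ev lam i * ev lam j = 1 ∧ ev lam i * ev lam k = μ := by
    intro j k hij hik hjk μ
    obtain ⟨lam, l1, l2⟩ := exists_lam k μ
    exact ⟨lam, by rw [l2 i hik.symm, l2 j hjk.symm, one_mul], by rw [l2 i hik.symm, l1, one_mul]⟩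
  have two : ∀ j k, Dj i j → Dj i k → Dj j k → ∀ g ∈ D.W i j, ∀ g' ∈ D.W i k, ⁅g, g'⁆ ∈ R.xs i k := by
    intro j k hij hik hjk g hg g' hg'
    refine D.mem_of_two hij hik hF (lam1 j k hij hik hjk) ?_ ?_ ?_ (main j k hij hik hjk) hg hg'
    · intro g' hg' s
      exact D.cX hik hg' (ne_neg i) hik.2 hij.symm.2 hjk.2 s
    · intro g hg s
      exact D.cX hij hg (ne_neg i) hij.2 hik.symm.2 hjk.symm.2 s
    · intro s s'
      exact R.x_comm (ne_neg i) hij.2 hik.symm.2 hjk.symm.2 _ _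
  have h1 := two j k hij hik hjk g hg g' hg'
  have h2 := inv_mem (two k j hik hij hjk.symm g' hg' g hg)
  rw [commutatorElement_inv] at h2
  have h3 := D.xs_disj hij hF (fun μ => by
    obtain ⟨lam, l1, l2⟩ := lam1 k j hik hij hjk.symm μ
    exact ⟨lam, l2, l1⟩) h2 h1
  exact commutatorElement_eq_one_iff_commute.1 h3

/-- **(6.2), 90 degrees, disjoint** -/
theorem comm90 (hF : ∃ μ : Fˣ, (μ : F) ≠ 1) (hK : KT R) {i j k l : Ix n} (hij : Dj i j) (hik : Dj i k)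
    (hil : Dj i l) (hjk : Dj j k) (hjl : Dj j l) (hkl : Dj k l) {g g' : G} (hg : g ∈ D.W i j)
    (hg' : g' ∈ D.W k l) : Commute g g' := by
  have main : ∀ i j k l, Dj i j → Dj i k → Dj i l → Dj j k → Dj j l → Dj k l → ∀ g ∈ D.W i j,
      ∀ g' ∈ D.W k l, ∃ e f r, (e = 1 ∨ e = R.t) ∧ ⁅g, g'⁆ = e * R.x i j f * R.x k l r := by
    intro i j k l hij hik hil hjk hjl hkl g hg g' hg'
    refine hK.k90 i j k l hij hik hil hjk hjl hkl _ ?_ ?_ ?_ ?_
    · obtain ⟨u, hu⟩ := D.ht i j hij g hg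
      obtain ⟨u', hu'⟩ := D.ht k l hkl g' hg'
      apply R.comm_of_t
      have hgx' : Commute g (R.x k l u') := D.cX hij hg hik.symm.2 hjk.symm.2 hil.symm.2 hjl.symm.2 _
      have hg'x : Commute g' (R.x i j u) := D.cX hkl hg' hik.2 hil.2 hjk.2 hjl.2 _
      have hxx : Commute (R.x i j u) (R.x k l u') := R.x_comm hik.symm.2 hjk.symm.2 hil.symm.2 hjl.symm.2 _ _
      rw [commutatorElement_def, R.t_mul, R.t_mul, R.t_mul, R.t_inv', R.t_inv', hu, hu']
      show ⁅g * R.x i j u, g' * R.x k l u'⁆ = ⁅g, g'⁆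
      have e1 : Commute (g * R.x i j u) (R.x k l u') := hgx'.mul_left hxx
      rw [comm_mul_x e1]
      rw [← inv_inj, commutatorElement_inv, commutatorElement_inv, comm_mul_x hg'x]
    · intro a b s a1 a2 a3 a4 b1 b2 b3 b4
      exact comm_of_conj (D.cX hij hg a1 a2 b1 b2 s) (by
        have h := D.cX hkl hg' a3 a4 b3 b4 s
        have : g'⁻¹ * R.x a b s * g' = R.x a b s := by rw [h.inv_left.eq]; group
        rw [this]
        exact D.cX hij hg a1 a2 b1 b2 s)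
    · intro a s a1 a2 a3 a4
      have h0 : Commute g (R.y a s) := D.cy i j hij g hg a s a1 a2
      exact comm_of_conj h0 (by
        have h : Commute g' (R.y a s) := D.cy k l hkl g' hg' a s a3 a4
        have : g'⁻¹ * R.y a s * g' = R.y a s := by rw [h.inv_left.eq]; group
        rw [this]
        exact h0)
    · intro lam l1 l2
      have h1 : Commute g (R.h lam) := Commute.symm (D.torus_one i j hij g hg lam l1)
      have h2 : Commute g' (R.h lam) := Commute.symm (D.torus_one k l hkl g' hg' lam l2)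
      exact comm_of_conj h1 (by
        have : g'⁻¹ * R.h lam * g' = R.h lam := by rw [h2.inv_left.eq]; group
        rw [this]; exact h1)
  have lam1 : ∀ i j k l : Ix n, Dj i k → Dj j k → Dj k l → ∀ μ : Fˣ, ∃ lam : Fin n → Fˣ,
      ev lam i * ev lam j = 1 ∧ ev lam k * ev lam l = μ := by
    intro i j k l hik hjk hkl μ
    obtain ⟨lam, l1, l2⟩ := exists_lam k μ
    exact ⟨lam, by rw [l2 i hik.symm, l2 j hjk.symm, one_mul], by rw [l2 l hkl, l1, mul_one]⟩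
  have two : ∀ i j k l, Dj i j → Dj i k → Dj i l → Dj j k → Dj j l → Dj k l → ∀ g ∈ D.W i j,
      ∀ g' ∈ D.W k l, ⁅g, g'⁆ ∈ R.xs k l := by
    intro i j k l hij hik hil hjk hjl hkl g hg g' hg'
    refine D.mem_of_two hij hkl hF (lam1 i j k l hik hjk hkl) ?_ ?_ ?_
      (main i j k l hij hik hil hjk hjl hkl) hg hg'
    · intro g' hg' s
      exact D.cX hkl hg' hik.2 hil.2 hjk.2 hjl.2 s
    · intro g hg s
      exact D.cX hij hg hik.symm.2 hjk.symm.2 hil.symm.2 hjl.symm.2 s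
    · intro s s'
      exact R.x_comm hik.symm.2 hjk.symm.2 hil.symm.2 hjl.symm.2 _ _
  have h1 := two i j k l hij hik hil hjk hjl hkl g hg g' hg'
  have h2 := inv_mem (two k l i j hkl hik.symm hjk.symm hil.symm hjl.symm hij g' hg' g hg)
  rw [commutatorElement_inv] at h2
  have h3 := D.xs_disj hij hF (fun μ => by
    obtain ⟨lam, l1, l2⟩ := lam1 k l i j hik.symm hil.symm hij μ
    exact ⟨lam, l2, l1⟩) h2 h1
  exact commutatorElement_eq_one_iff_commute.1 h3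

end DS

end Cfsg.Agent.OddHalf.SpN
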