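import Mathlib
import Cfsg.Agent.OddHalf.SpN.Deg
import Cfsg.Agent.OddHalf.SpN.GradeOf
import Cfsg.Agent.OddHalf.SpN.ShortC
import Cfsg.Agent.OddHalf.SpN.RelsOf

/-!
# The root groups of a frame as a graded family, roots = pairs `(i, j)` (helper200)

`XP R (i, i) = Y_i`, `XP R (i, j) = X_ij`; degree functions `dgB`, `dgC`.
-/

set_option autoImplicit false

namespace Cfsg.Agent.OddHalf.SpN

open Cfsg.Agent.OddHalf.F4.EndO

variable {n : ℕ} {F : Type*} [Field F] {G : Type*} [Group G]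

set_option maxHeartbeats 400000

theorem le_iSupP {P : Type*} {V : P → Subgroup G} {S : P → Prop} {r : P} (h : S r) :
    V r ≤ ⨆ q, ⨆ _ : S q, V q := le_iSup₂_of_le (f := fun q (_ : S q) => V q) r h le_rfl

theorem iSupP_mono {P : Type*} {V : P → Subgroup G} {S S' : P → Prop} (h : ∀ r, S r → S' r) :
    (⨆ q, ⨆ _ : S q, V q) ≤ ⨆ q, ⨆ _ : S' q, V q := iSup₂_le fun r hr => le_iSupP (S := S') (h r hr)

/-- pairs of signed indices -/
abbrev PP (n : ℕ) : Type := Ix n × Ix n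

/-- degree as a natural number -/
def dN (dg : Ix n → Ix n → ℤ) (p : PP n) : ℕ := (dg p.1 p.2).toNat

theorem dN_pos {dg : Ix n → Ix n → ℤ} {p : PP n} : 0 < dN dg p ↔ 0 < dg p.1 p.2 := by
  unfold dN; omega

theorem dN_le {dg : Ix n → Ix n → ℤ} {p : PP n} {d : ℕ} (hd : 0 < d) : d ≤ dN dg p ↔ (d : ℤ) ≤ dg p.1 p.2 := by
  unfold dN; omega

theorem dN_cast {dg : Ix n → Ix n → ℤ} {p : PP n} (h : 0 < dg p.1 p.2) : (dN dg p : ℤ) = dg p.1 p.2 := by
  unfold dN; omega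

theorem dgB_ii (i : Ix n) : dgB i i = Fd i := if_pos rfl

theorem dgB_ij {i j : Ix n} (h : i ≠ j) : dgB i j = Fd i + Fd j := if_neg h

theorem dj_of_dgB {i j : Ix n} (h : i ≠ j) (hp : 0 < dgB i j) : Dj i j := by
  refine ⟨h, fun e => ?_⟩
  rw [dgB_ij h, e, Fd_neg] at hp
  omega

theorem dj_of_dgC {i j : Ix n} (h : i ≠ j) (hp : 0 < dgC i j) : Dj i j := by
  refine ⟨h, fun e => ?_⟩
  unfold dgC at hp
  rw [e, Fd_neg] at hp
  omega

/-- the same positive degree: the same root -/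
theorem uniqB {p q : PP n} (hp : 0 < dgB p.1 p.2) (h : dgB p.1 p.2 = dgB q.1 q.2) : p = q ∨ p = (q.2, q.1) := by
  obtain ⟨i, j⟩ := p
  obtain ⟨k, l⟩ := q
  simp only at hp h ⊢
  by_cases h1 : i = j
  · subst h1
    by_cases h2 : k = l
    · subst h2
      rw [dgB_ii, dgB_ii] at h
      rw [Fd_inj h]
      exact Or.inl rfl
    · rw [dgB_ii, dgB_ij h2] at h
      exact absurd h Fd_ne_two
  · have d1 := dj_of_dgB h1 hp
    rw [h] at hp
    by_cases h2 : k = l
    · subst h2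
      rw [dgB_ij h1, dgB_ii] at h
      exact absurd h.symm Fd_ne_two
    · have d2 := dj_of_dgB h2 hp
      rw [dgB_ij h1, dgB_ij h2] at h
      rcases Fd_two d1 d2 h with ⟨e1, e2⟩ | ⟨e1, e2⟩
      · left; rw [e1, e2]
      · right; rw [e1, e2]

theorem uniqC {p q : PP n} (hp : 0 < dgC p.1 p.2) (h : dgC p.1 p.2 = dgC q.1 q.2) : p = q ∨ p = (q.2, q.1) := by
  obtain ⟨i, j⟩ := p
  obtain ⟨k, l⟩ := q
  simp only at hp h ⊢
  by_cases h1 : i = j
  · subst h1
    by_cases h2 : k = l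
    · subst h2
      unfold dgC at h
      have : Fd i = Fd k := by omega
      rw [Fd_inj this]
      exact Or.inl rfl
    · rw [h] at hp
      have d2 := dj_of_dgC h2 hp
      exact absurd h (two_Fd_ne d2)
  · have d1 := dj_of_dgC h1 hp
    rw [h] at hp
    by_cases h2 : k = l
    · subst h2
      exact absurd h.symm (two_Fd_ne d1)
    · have d2 := dj_of_dgC h2 hp
      rcases Fd_two d1 d2 h with ⟨e1, e2⟩ | ⟨e1, e2⟩
      · left; rw [e1, e2]
      · right; rw [e1, e2]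

namespace Frame

variable [CharP F 2] (R : Frame n F G)

/-- the root groups -/
def XP (p : PP n) : Subgroup G := open Classical in if p.1 = p.2 then R.ys p.1 else R.xs p.1 p.2

theorem XP_ii (i : Ix n) : R.XP (i, i) = R.ys i := if_pos rfl

theorem XP_ij {i j : Ix n} (h : i ≠ j) : R.XP (i, j) = R.xs i j := if_neg h

theorem xs_symm (i j : Ix n) : R.xs i j = R.xs j i := by
  ext x
  rw [mem_xs, mem_xs]
  constructor <;> rintro ⟨a, rfl⟩ <;> exact ⟨a, R.x_symm _ _ _⟩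

theorem XP_symm (i j : Ix n) : R.XP (i, j) = R.XP (j, i) := by
  by_cases h : i = j
  · subst h; rfl
  · rw [R.XP_ij h, R.XP_ij (Ne.symm h), R.xs_symm]

theorem XP_fix {p : PP n} {x : G} (hx : x ∈ R.XP p) : R.t * x * R.t = x := by
  have hc : Commute R.t x := by
    unfold XP at hx
    split_ifs at hx with h
    · obtain ⟨a, rfl⟩ := hx; exact (R.y_t _ _).symm
    · obtain ⟨a, rfl⟩ := hx; exact (R.x_t _ _ _).symm
  rw [hc.eq, mul_assoc, R.tt, mul_one]

theorem XP_sq {p : PP n} {x : G} (hx : x ∈ R.XP p) : x * x = 1 := by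
  unfold XP at hx
  split_ifs at hx with h
  · obtain ⟨a, rfl⟩ := hx; exact R.y_sq _ _
  · obtain ⟨a, rfl⟩ := hx; exact R.x_sq _ _ _

/-- commutators of short root elements at positive degrees -/
theorem comm_xx {i j k l : Ix n} (hij : Dj i j) (hkl : Dj k l) (hp : 0 < Fd i + Fd j) (hq : 0 < Fd k + Fd l)
    (a b : F) : R.x i j a * R.x k l b * (R.x i j a)⁻¹ * (R.x k l b)⁻¹ = 1 ∨
      ∃ r s c, Dj r s ∧ Fd r + Fd s = (Fd i + Fd j) + (Fd k + Fd l) ∧
        R.x i j a * R.x k l b * (R.x i j a)⁻¹ * (R.x k l b)⁻¹ = R.x r s c := by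
  -- one opposite pair of indices: `k = -j`
  have aux : ∀ i j l : Ix n, Dj i j → Dj (neg j) l → 0 < Fd i + Fd j → 0 < Fd (neg j) + Fd l → ∀ a b : F,
      R.x i j a * R.x (neg j) l b * (R.x i j a)⁻¹ * (R.x (neg j) l b)⁻¹ = 1 ∨
      ∃ r s c, Dj r s ∧ Fd r + Fd s = (Fd i + Fd j) + (Fd (neg j) + Fd l) ∧
        R.x i j a * R.x (neg j) l b * (R.x i j a)⁻¹ * (R.x (neg j) l b)⁻¹ = R.x r s c := by
    intro i j l hij hjl hp hq a b
    have hjl' : Dj j l := dj_neg_left.1 hjl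
    rw [Fd_neg] at hq
    have hil : i ≠ neg l := by
      intro e
      rw [e, Fd_neg] at hp
      omega
    by_cases e1 : i = l
    · left
      subst e1
      have hc : Commute (R.x i j a) (R.x (neg j) i b) := by
        rw [R.x_symm i j]
        exact R.x_comm' a b
      rw [hc.eq]; group
    · right
      refine ⟨i, l, a * b, ⟨e1, hil⟩, by rw [Fd_neg]; ring, ?_⟩
      rw [R.x_rel hij hjl' ⟨e1, hil⟩]
      group
  by_cases h1 : k = neg j
  · subst h1; exact aux i j l hij hkl hp hq a b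
  by_cases h2 : k = neg i
  · subst h2
    rw [R.x_symm i j, add_comm (Fd i)]
    exact aux j i l hij.symm hkl (by omega) hq a b
  by_cases h3 : l = neg j
  · subst h3
    rw [R.x_symm k, add_comm (Fd k)]
    exact aux i j k hij hkl.symm hp (by omega) a b
  by_cases h4 : l = neg i
  · subst h4
    rw [R.x_symm k, add_comm (Fd k), R.x_symm i j, add_comm (Fd i)]
    exact aux j i k hij.symm hkl.symm (by omega) (by omega) a b
  left
  have hc : Commute (R.x i j a) (R.x k l b) := R.x_comm h2 h1 h4 h3 a b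
  rw [hc.eq]; group

/-- the group of the root groups of degree `≥ d` -/
theorem map_Ud {dg : Ix n → Ix n → ℤ} (hdg : DegOk dg) (hs : ∀ i j, dg i j = dg j i)
    (hdj : ∀ i j, i ≠ j → 0 < dg i j → Dj i j) {d : ℕ} (hd : 0 < d) :
    (⨆ r : PP n, ⨆ _ : d ≤ dN dg r, R.XP r) ≤ (Ud hdg (d : ℤ) (by exact_mod_cast hd)).map R.ι := by
  refine iSup₂_le fun r hr => ?_
  rw [dN_le hd] at hr
  obtain ⟨i, j⟩ := r
  intro x hx
  unfold XP at hx
  simp only at hx hr
  split_ifs at hx with h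
  · obtain ⟨a, rfl⟩ := hx
    subst h
    exact ⟨_, sy_mem_Ud hdg (by omega) hr a, rfl⟩
  · obtain ⟨a, rfl⟩ := hx
    exact ⟨_, sx_mem_Ud hdg hs (by omega) (hdj i j h (by omega)) hr a, rfl⟩

/-- independence of the root groups -/
theorem indepP {dg : Ix n → Ix n → ℤ} (hdg : DegOk dg) (hs : ∀ i j, dg i j = dg j i)
    (hdj : ∀ i j, i ≠ j → 0 < dg i j → Dj i j) {p : PP n} (hp : 0 < dN dg p) :
    R.XP p ⊓ (⨆ r : PP n, ⨆ _ : dN dg p + 1 ≤ dN dg r, R.XP r) = ⊥ := by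
  rw [eq_bot_iff]
  rintro x ⟨hx, hx'⟩
  have h1 := R.map_Ud hdg hs hdj (d := dN dg p + 1) (by omega) hx'
  obtain ⟨A, hA, hAx⟩ := h1
  rw [dN_pos] at hp
  have hc := dN_cast hp
  obtain ⟨i, j⟩ := p
  unfold XP at hx
  simp only at hx hp hc
  rw [Subgroup.mem_bot]
  split_ifs at hx with h
  · obtain ⟨a, rfl⟩ := hx
    subst h
    have e1 : A = sy i a := R.inj hAx
    subst e1
    have := sy_eq_zero hdg _ (by push_cast; omega) hA
    rw [this, R.y_zero]
  · obtain ⟨a, rfl⟩ := hx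
    have e1 : A = sx i j a := R.inj hAx
    subst e1
    have := sx_eq_zero hdg _ (hdj i j h hp) (by push_cast; omega) hA
    rw [this, R.x_zero]

/-- the positive root groups generate a subgroup of `K` -/
theorem N_XP_le_K (dg : Ix n → Ix n → ℤ) : N (GradeOf.Vd (dN dg) R.XP) 1 ≤ R.K := by
  rw [GradeOf.N_eq _ _ le_rfl]
  refine iSup₂_le fun r _ => ?_
  intro x hx
  unfold XP at hx
  split_ifs at hx with h
  · obtain ⟨a, rfl⟩ := hx; exact R.y_mem_K _ _
  · obtain ⟨a, rfl⟩ := hx; exact R.x_mem_K _ _ _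

/-- the positive unipotent group -/
def UpP : Subgroup G := ⨆ p : PP n, ⨆ _ : 0 < Fd p.1 + Fd p.2, R.XP p

theorem N_XP_of (dg : Ix n → Ix n → ℤ) (key : ∀ r : PP n, 0 < dg r.1 r.2 ↔ 0 < Fd r.1 + Fd r.2) :
    N (GradeOf.Vd (dN dg) R.XP) 1 = R.UpP := by
  rw [GradeOf.N_eq _ _ le_rfl]
  apply le_antisymm
  · exact iSupP_mono fun r hr => (key r).1 (dN_pos.1 hr)
  · exact iSupP_mono fun r hr => dN_pos.2 ((key r).2 hr)

theorem N_XP_C : N (GradeOf.Vd (dN dgC) R.XP) 1 = R.UpP := R.N_XP_of dgC fun _ => Iff.rfl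

theorem N_XP_B : N (GradeOf.Vd (dN dgB) R.XP) 1 = R.UpP := by
  refine R.N_XP_of dgB fun r => ?_
  by_cases h : r.1 = r.2
  · rw [← h, dgB_ii]; constructor <;> intro h <;> omega
  · rw [dgB_ij h]

end Frame

end Cfsg.Agent.OddHalf.SpN
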