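import Mathlib
import Cfsg.Agent.OddHalf.SpN.CC
import Cfsg.Agent.OddHalf.SpN.PosGrp

/-!
# END of the pattern (C,C) for `Sp_2n(q)`, `q ≥ 4` even (helper678)

All the root groups are doubled; the doubles of the positive roots generate a `t`-invariant 2-group `S` with
`C_S(t) = U`, and the transfer of `S ⟨t⟩` (`F4/EndO.lean`) gives a homomorphism with `t ↦ -1`.
-/

set_option autoImplicit false
set_option maxHeartbeats 400000

namespace Cfsg.Agent.OddHalf.SpN

open Cfsg.Agent.OddHalf.F4.EndO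
open scoped commutatorElement

variable {n : ℕ} {F : Type*} [Field F] {G : Type*} [Group G] [CharP F 2] {R : Frame n F G}

namespace CC

variable (C : CC R)

/-- the doubled root groups -/
def VC (p : PP n) : Subgroup G := open Classical in if p.1 = p.2 then C.L.V p.1 else C.D.W p.1 p.2

theorem VC_ii (i : Ix n) : C.VC (i, i) = C.L.V i := if_pos rfl

theorem VC_ij {i j : Ix n} (h : i ≠ j) : C.VC (i, j) = C.D.W i j := if_neg h

theorem VC_symm (i j : Ix n) : C.VC (i, j) = C.VC (j, i) := by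
  by_cases h : i = j
  · subst h; rfl
  · rw [C.VC_ij h, C.VC_ij (Ne.symm h), C.D.symm]

/-- membership in the join by degrees -/
theorem mem_sup {i j : Ix n} {d : ℕ} (h : (d : ℤ) ≤ Fd i + Fd j) (hd : 0 < d) {g : G} (hg : g ∈ C.VC (i, j)) :
    g ∈ ⨆ r : PP n, ⨆ _ : d ≤ dN dgC r, C.VC r :=
  le_iSupP (r := (i, j)) (S := fun r => d ≤ dN dgC r) ((dN_le hd).2 h) hg

theorem commWW {i j k l : Ix n} (hij : Dj i j) (hkl : Dj k l) (hp : 0 < Fd i + Fd j) (hq : 0 < Fd k + Fd l)
    (hne : Fd i + Fd j ≠ Fd k + Fd l) {d : ℕ} (hd : 0 < d) (hd' : (d : ℤ) = (Fd i + Fd j) + (Fd k + Fd l)) {v w : G}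
    (hv : v ∈ C.D.W i j) (hw : w ∈ C.D.W k l) : ⁅v, w⁆ ∈ ⨆ r : PP n, ⨆ _ : d ≤ dN dgC r, C.VC r := by
  -- one opposite pair of indices: `k = -j`
  have aux : ∀ i j l : Ix n, Dj i j → Dj (neg j) l → 0 < Fd i + Fd j → 0 < Fd (neg j) + Fd l →
      (d : ℤ) = (Fd i + Fd j) + (Fd (neg j) + Fd l) → ∀ v ∈ C.D.W i j, ∀ w ∈ C.D.W (neg j) l,
      ⁅v, w⁆ ∈ ⨆ r : PP n, ⨆ _ : d ≤ dN dgC r, C.VC r := by
    intro i j l hij hjl hp hq hd' v hv w hw
    have hjl' : Dj j l := dj_neg_left.1 hjl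
    rw [Fd_neg] at hq hd'
    have hil : i ≠ neg l := by
      intro e
      rw [e, Fd_neg] at hp
      omega
    by_cases e1 : i = l
    · subst e1
      rw [C.D.symm] at hw
      obtain ⟨b, hb⟩ := C.cpar i j hij v hv w hw
      rw [hb]
      exact C.mem_sup (i := i) (j := i) (by omega) hd (by rw [C.VC_ii]; exact C.L.y_mem i b)
    · have h1 := C.c120 i (neg j) l (dj_neg_right.2 hij) ⟨e1, hil⟩ hjl w hw v (by rw [neg_neg]; exact hv)
      have h2 := inv_mem h1
      rw [commutatorElement_inv] at h2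
      exact C.mem_sup (i := i) (j := l) (by omega) hd (by rw [C.VC_ij e1]; exact h2)
  by_cases h1 : k = neg j
  · subst h1; exact aux i j l hij hkl hp hq hd' v hv w hw
  by_cases h2 : k = neg i
  · subst h2
    rw [C.D.symm] at hv
    exact aux j i l hij.symm hkl (by omega) hq (by omega) v hv w hw
  by_cases h3 : l = neg j
  · subst h3
    rw [C.D.symm] at hw
    exact aux i j k hij hkl.symm hp (by omega) (by omega) v hv w hw
  by_cases h4 : l = neg i
  · subst h4
    rw [C.D.symm] at hv hw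
    exact aux j i k hij.symm hkl.symm (by omega) (by omega) (by omega) v hv w hw
  have hc : Commute v w := by
    by_cases e1 : k = i
    · subst e1
      exact C.c60 k j l hij hkl ⟨fun e => hne (by rw [e]), fun e => h3 (by rw [e, neg_neg])⟩ v hv w hw
    by_cases e2 : k = j
    · subst e2
      rw [C.D.symm] at hv
      exact C.c60 k i l hij.symm hkl ⟨fun e => hne (by rw [e, add_comm]), fun e => h4 (by rw [e, neg_neg])⟩ v hv w hw
    by_cases e3 : l = i
    · subst e3
      rw [C.D.symm] at hw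
      exact C.c60 l j k hij hkl.symm ⟨fun e => hne (by rw [e, add_comm]), fun e => h1 (by rw [e, neg_neg])⟩ v hv w hw
    by_cases e4 : l = j
    · subst e4
      rw [C.D.symm] at hv hw
      exact C.c60 l i k hij.symm hkl.symm ⟨fun e => hne (by rw [e]), fun e => h2 (by rw [e, neg_neg])⟩ v hv w hw
    have dj : ∀ a b : Ix n, b ≠ a → b ≠ neg a → Dj a b := fun a b h h' => ⟨h.symm, fun e => h' (by rw [e, neg_neg])⟩
    exact C.c90 i j k l hij (dj _ _ e1 h2) (dj _ _ e3 h4) (dj _ _ e2 h1) (dj _ _ e4 h3) hkl v hv w hw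
  rw [commutatorElement_eq_one_iff_commute.mpr hc]
  exact one_mem _

variable [Finite F] (hn : 3 ≤ n) (hF : ∃ μ : Fˣ, (μ : F) ≠ 1)
include hn hF

theorem commWV {i j k : Ix n} (hij : Dj i j) (hp : 0 < Fd i + Fd j) (hk : 0 < Fd k) {d : ℕ} (hd : 0 < d)
    (hd' : (d : ℤ) = (Fd i + Fd j) + (Fd k + Fd k)) {v w : G} (hv : v ∈ C.D.W i j) (hw : w ∈ C.L.V k) :
    ⁅v, w⁆ ∈ ⨆ r : PP n, ⨆ _ : d ≤ dN dgC r, C.VC r := by
  have aux : ∀ i j : Ix n, Dj i j → 0 < Fd i + Fd j → (d : ℤ) = (Fd i + Fd j) + (Fd (neg j) + Fd (neg j)) →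
      ∀ v ∈ C.D.W i j, ∀ w ∈ C.L.V (neg j), ⁅v, w⁆ ∈ ⨆ r : PP n, ⨆ _ : d ≤ dN dgC r, C.VC r := by
    intro i j hij hp hd' v hv w hw
    rw [Fd_neg] at hd'
    have hij' : Dj i (neg j) := dj_neg_right.2 hij
    obtain ⟨a, ha, b, hb, h⟩ := C.mem135 hij' hn hF (g := v) (by rw [neg_neg]; exact hv) hw
    rw [h]
    refine mul_mem ?_ ?_
    · exact C.mem_sup (i := i) (j := neg j) (by rw [Fd_neg]; omega) hd (by rw [C.VC_ij hij'.1]; exact ha)
    · exact C.mem_sup (i := i) (j := i) (by omega) hd (by rw [C.VC_ii]; exact hb)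
  by_cases h1 : k = neg j
  · subst h1; exact aux i j hij hp hd' v hv w hw
  by_cases h2 : k = neg i
  · subst h2
    rw [C.D.symm] at hv
    exact aux j i hij.symm (by omega) (by omega) v hv w hw
  rw [commutatorElement_eq_one_iff_commute.mpr (C.cWV i j k hij h2 h1 v hv w hw)]
  exact one_mem _

theorem grdC : Grd R.t (GradeOf.Vd (dN dgC) C.VC) (GradeOf.Vd (dN dgC) R.XP)
    (GradeOf.lgd (dN dgC) fun _ : PP n => False) 0 (2 * 5 ^ n) := by
  have uniq : ∀ p q : PP n, 0 < dN dgC p → dN dgC p = dN dgC q → p = q ∨ p = (q.2, q.1) := by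
    intro p q hp hpq
    have h1 := dN_pos.1 hp
    have h2 := dN_pos.1 (hpq ▸ hp)
    refine uniqC h1 ?_
    rw [← dN_cast h1, ← dN_cast h2, hpq]
  refine GradeOf.grd ?_ ?_ ?_ R.tt ?_ ?_ ?_ ?_ ?_ ?_ ?_ ?_ ?_ ?_ ?_ ?_
  · intro p q hp hpq
    rcases uniq p q hp hpq with rfl | rfl
    · rfl
    · exact C.VC_symm _ _
  · intro p q hp hpq
    rcases uniq p q hp hpq with rfl | rfl
    · rfl
    · exact R.XP_symm _ _
  · intro p q hp hpq hl
    exact hl
  · rintro ⟨i, j⟩ hp v hv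
    have hp' := dN_pos.1 hp
    by_cases hij : i = j
    · subst hij
      rw [C.VC_ii] at hv ⊢
      obtain ⟨a, ha⟩ := C.L.ht i v hv
      rw [ha]; exact mul_mem hv (C.L.y_mem i a)
    · rw [C.VC_ij hij] at hv ⊢
      obtain ⟨a, ha⟩ := C.D.ht i j (dj_of_dgC hij hp') v hv
      rw [ha]; exact mul_mem hv (C.D.x_mem i j a)
  · rintro ⟨i, j⟩ hp v hv
    have hp' := dN_pos.1 hp
    by_cases hij : i = j
    · subst hij
      rw [C.VC_ii] at hv
      exact C.Vsq i v hv
    · rw [C.VC_ij hij] at hv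
      exact C.Wsq i j (dj_of_dgC hij hp') v hv
  · rintro ⟨i, j⟩ hp
    by_cases hij : i = j
    · subst hij
      rw [C.VC_ii, R.XP_ii]
      rintro _ ⟨a, rfl⟩
      exact C.L.y_mem i a
    · rw [C.VC_ij hij, R.XP_ij hij]
      rintro _ ⟨a, rfl⟩
      exact C.D.x_mem i j a
  · intro p hp x hx
    exact R.XP_fix hx
  · rintro ⟨i, j⟩ hp v hv hf
    have hp' := dN_pos.1 hp
    by_cases hij : i = j
    · subst hij
      rw [C.VC_ii] at hv
      rw [R.XP_ii]
      obtain ⟨a, ha⟩ := C.L.ker i v hv hf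
      exact ⟨a, ha⟩
    · rw [C.VC_ij hij] at hv
      rw [R.XP_ij hij]
      obtain ⟨a, ha⟩ := C.D.ker i j (dj_of_dgC hij hp') v hv hf
      exact ⟨a, ha⟩
  · rintro ⟨i, j⟩ hp - x hx
    have hp' := dN_pos.1 hp
    by_cases hij : i = j
    · subst hij
      rw [R.XP_ii] at hx
      rw [C.VC_ii]
      obtain ⟨a, rfl⟩ := hx
      obtain ⟨w, hw, hw'⟩ := C.L.onto i a
      exact ⟨w, hw, by rw [hw']; group⟩
    · rw [R.XP_ij hij] at hx
      rw [C.VC_ij hij]
      obtain ⟨a, rfl⟩ := hx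
      obtain ⟨w, hw, hw'⟩ := C.D.onto i j (dj_of_dgC hij hp') a
      exact ⟨w, hw, by rw [hw']; group⟩
  · rintro p hp hl
    exact hl.elim
  · rintro ⟨i, j⟩ ⟨k, l⟩ hp hq hne v hv w hw
    have hp' := dN_pos.1 hp
    have hq' := dN_pos.1 hq
    have c1 := dN_cast hp'
    have c2 := dN_cast hq'
    have d1 : dgC i j = Fd i + Fd j := rfl
    have d2 : dgC k l = Fd k + Fd l := rfl
    simp only at hp' hq' c1 c2
    rw [d1] at hp' c1
    rw [d2] at hq' c2
    have hd : 0 < dN dgC (i, j) + dN dgC (k, l) := by omega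
    have hd' : ((dN dgC (i, j) + dN dgC (k, l) : ℕ) : ℤ) = (Fd i + Fd j) + (Fd k + Fd l) := by
      push_cast; rw [c1, c2]
    have hne' : Fd i + Fd j ≠ Fd k + Fd l := fun e => hne (by
      have : ((dN dgC (i, j) : ℕ) : ℤ) = (dN dgC (k, l) : ℕ) := by rw [c1, c2, e]
      exact_mod_cast this)
    rw [show v * w * v⁻¹ * w⁻¹ = ⁅v, w⁆ from rfl]
    by_cases hij : i = j
    · subst hij
      rw [C.VC_ii] at hv
      by_cases hkl : k = l
      · subst hkl
        rw [C.VC_ii] at hw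
        have hik : i ≠ k := fun e => hne (by rw [e])
        have hdj : Dj i k := ⟨hik, fun e => by rw [e, Fd_neg] at hp'; omega⟩
        rw [commutatorElement_eq_one_iff_commute.mpr (C.cVV i k hdj v hv w hw)]
        exact one_mem _
      · have hdj := dj_of_dgC hkl (hq'.trans_eq d2.symm)
        rw [C.VC_ij hkl] at hw
        have h2 := inv_mem (C.commWV hn hF hdj hq' (by omega) hd (by rw [hd']; ring) hw hv)
        rwa [commutatorElement_inv] at h2
    · have hdj := dj_of_dgC hij (hp'.trans_eq d1.symm)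
      rw [C.VC_ij hij] at hv
      by_cases hkl : k = l
      · subst hkl
        rw [C.VC_ii] at hw
        exact C.commWV hn hF hdj hp' (by omega) hd hd' hv hw
      · have hdj' := dj_of_dgC hkl (hq'.trans_eq d2.symm)
        rw [C.VC_ij hkl] at hw
        exact C.commWW hdj hdj' hp' hq' hne' hd hd' hv hw
  · rintro p q - - - hl
    exact hl.elim
  · rintro ⟨i, j⟩
    have h1 : Fd i ≤ 5 ^ n := by
      rcases Fd_cases i with h | h
      · rw [h]; exact pow_le_pow_right₀ (by norm_num) (by unfold ex; omega)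
      · rw [h]
        have h1 := pow_pos (show (0 : ℤ) < 5 by norm_num) (ex i)
        have h2 := pow_pos (show (0 : ℤ) < 5 by norm_num) n
        linarith
    have h2 : Fd j ≤ 5 ^ n := by
      rcases Fd_cases j with h | h
      · rw [h]; exact pow_le_pow_right₀ (by norm_num) (by unfold ex; omega)
      · rw [h]
        have h1 := pow_pos (show (0 : ℤ) < 5 by norm_num) (ex j)
        have h2 := pow_pos (show (0 : ℤ) < 5 by norm_num) n
        linarith
    have h4 : dgC i j ≤ 2 * 5 ^ n := by unfold dgC; linarith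
    have h3 := pow_pos (show (0 : ℤ) < 5 by norm_num) n
    unfold dN
    simp only
    have : ((2 * 5 ^ n : ℕ) : ℤ) = 2 * 5 ^ n := by push_cast; rfl
    omega
  · intro p hp
    exact R.indepP dgC_ok dgC_symm (fun i j => dj_of_dgC) hp
  · rintro p hp hl
    exact hl.elim

include C in
/-- **END (C,C)**. -/
theorem exists_hom [Finite G]
    (hodd : Odd ((R.UpP ⊔ Subgroup.zpowers R.t).relIndex (Subgroup.centralizer {R.t}))) :
    ∃ m : G →* ℤˣ, m R.t = -1 := by
  refine (C.grdC hn hF).exists_hom' ?_ ?_ ?_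
  · intro ht
    exact R.t_notMem_K (R.N_XP_le_K dgC ht)
  · rw [R.N_XP_C]; exact hodd
  · intro l hl hl1
    exfalso
    apply hl1
    have : Lg (GradeOf.Vd (dN dgC) R.XP) (GradeOf.lgd (dN dgC) fun _ : PP n => False) 1 ≤ ⊥ :=
      Lg_le fun i _ hi => by obtain ⟨_, _, _, h⟩ := hi; exact h.elim
    exact Subgroup.mem_bot.1 (this hl)

end CC

end Cfsg.Agent.OddHalf.SpN
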