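import Mathlib
import Cfsg.Agent.OddHalf.SpN.PosGrp

/-!
# END of the pattern (0,O) = `{s}` for `Sp_2n(q)` (helper200)

`DataSE R W`: the doubles `W i j` of the short root groups with all their relations; long root elements are not moved.
`DataSE.exists_hom`: a homomorphism `G → {±1}` with `t ↦ -1`.
-/

set_option autoImplicit false
set_option maxHeartbeats 400000

namespace Cfsg.Agent.OddHalf.SpN

open Cfsg.Agent.OddHalf.F4.EndO

variable {n : ℕ} {F : Type*} [Field F] {G : Type*} [Group G] [CharP F 2]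

/-- Input of the end of pattern `{s}`. -/
structure DataSE (R : Frame n F G) (W : Ix n → Ix n → Subgroup G) : Prop where
  symm : ∀ i j, W i j = W j i
  xW : ∀ i j, Dj i j → ∀ a, R.x i j a ∈ W i j
  sq : ∀ i j, Dj i j → ∀ w ∈ W i j, w * w = 1
  d : ∀ i j, Dj i j → ∀ w ∈ W i j, ∃ a, R.t * w * R.t = w * R.x i j a
  onto : ∀ i j, Dj i j → ∀ a, ∃ w ∈ W i j, R.t * w * R.t = w * R.x i j a
  fix : ∀ i j, Dj i j → ∀ w ∈ W i j, R.t * w * R.t = w → ∃ a, w = R.x i j a
  cy : ∀ i j k, Dj i j → k ≠ neg i → k ≠ neg j → ∀ w ∈ W i j, ∀ a, Commute w (R.y k a)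
  w60 : ∀ i j k, Dj i j → Dj i k → Dj j k → ∀ w ∈ W i j, ∀ w' ∈ W i k, Commute w w'
  w90 : ∀ i j k l, Dj i j → Dj i k → Dj i l → Dj j k → Dj j l → Dj k l → ∀ w ∈ W i j, ∀ w' ∈ W k l, Commute w w'
  par : ∀ i j, Dj i j → ∀ w ∈ W i j, ∀ w' ∈ W i (neg j), ∃ a, w * w' * w⁻¹ * w'⁻¹ = R.y i a
  w120 : ∀ i j k, Dj i j → Dj i k → Dj j k → ∀ w ∈ W j k, ∀ w' ∈ W i (neg j), w * w' * w⁻¹ * w'⁻¹ ∈ W i k
  yw : ∀ i j, Dj i j → ∀ w ∈ W i (neg j), ∀ v, ∃ w' ∈ W i j, ∃ a, R.y j v * w * R.y j v = w * w' * R.y i a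
  nm : ∀ i a, a ≠ 0 → ¬ IsConj R.t (R.t * R.y i a)

/-- the pieces: short doubled, long not -/
def VS (R : Frame n F G) (W : Ix n → Ix n → Subgroup G) (p : PP n) : Subgroup G :=
  open Classical in if p.1 = p.2 then R.ys p.1 else W p.1 p.2

theorem VS_ii (R : Frame n F G) (W : Ix n → Ix n → Subgroup G) (i : Ix n) : VS R W (i, i) = R.ys i := if_pos rfl

theorem VS_ij (R : Frame n F G) (W : Ix n → Ix n → Subgroup G) {i j : Ix n} (h : i ≠ j) : VS R W (i, j) = W i j :=
  if_neg h

omit [CharP F 2] in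
theorem dNC {i j : Ix n} (h : 0 < Fd i + Fd j) : (dN dgC (i, j) : ℤ) = Fd i + Fd j := dN_cast (p := (i, j)) h

namespace DataSE

variable {R : Frame n F G} {W : Ix n → Ix n → Subgroup G}

theorem VS_symm (h : DataSE R W) (i j : Ix n) : VS R W (i, j) = VS R W (j, i) := by
  by_cases hij : i = j
  · subst hij; rfl
  · rw [VS_ij R W hij, VS_ij R W (Ne.symm hij), h.symm]

/-- commutators of the doubles at positive degrees -/
theorem comm_ww (h : DataSE R W) {i j k l : Ix n} (hij : Dj i j) (hkl : Dj k l) (hp : 0 < Fd i + Fd j)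
    (hq : 0 < Fd k + Fd l) (hne : Fd i + Fd j ≠ Fd k + Fd l) {w w' : G} (hw : w ∈ W i j) (hw' : w' ∈ W k l) :
    w * w' * w⁻¹ * w'⁻¹ = 1 ∨
      ∃ r s, Fd r + Fd s = (Fd i + Fd j) + (Fd k + Fd l) ∧ w * w' * w⁻¹ * w'⁻¹ ∈ VS R W (r, s) := by
  -- one opposite pair: `k = -j`
  have aux : ∀ i j l : Ix n, Dj i j → Dj (neg j) l → 0 < Fd i + Fd j → 0 < Fd (neg j) + Fd l →
      ∀ w ∈ W i j, ∀ w' ∈ W (neg j) l,
      ∃ r s, Fd r + Fd s = (Fd i + Fd j) + (Fd (neg j) + Fd l) ∧ w * w' * w⁻¹ * w'⁻¹ ∈ VS R W (r, s) := by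
    intro i j l hij hjl hp hq w hw w' hw'
    have hjl' : Dj j l := dj_neg_left.1 hjl
    rw [Fd_neg] at hq
    by_cases e1 : i = l
    · subst e1
      rw [h.symm (neg j) i] at hw'
      obtain ⟨a, ha⟩ := h.par i j hij w hw w' hw'
      refine ⟨i, i, by rw [Fd_neg]; ring, ?_⟩
      rw [VS_ii, ha]; exact ⟨a, rfl⟩
    · have hil : Dj i l := ⟨e1, fun e => by rw [e, Fd_neg] at hp; omega⟩
      refine ⟨i, l, by rw [Fd_neg]; ring, ?_⟩
      rw [VS_ij R W e1]
      -- `w ∈ W i j = W j i`, `w' ∈ W (-j) l = W l (-j)`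
      rw [h.symm] at hw hw'
      have := h.w120 l j i hjl'.symm hil.symm hij.symm w hw w' hw'
      rw [h.symm]; exact this
  by_cases h1 : k = neg j
  · subst h1; exact Or.inr (aux i j l hij hkl hp hq w hw w' hw')
  by_cases h2 : k = neg i
  · subst h2
    obtain ⟨r, s, h3, h4⟩ := aux j i l hij.symm hkl (by omega) hq w (by rw [h.symm]; exact hw) w' hw'
    exact Or.inr ⟨r, s, by omega, h4⟩
  by_cases h3 : l = neg j
  · subst h3
    obtain ⟨r, s, h4, h5⟩ := aux i j k hij hkl.symm hp (by omega) w hw w' (by rw [h.symm]; exact hw')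
    exact Or.inr ⟨r, s, by omega, h5⟩
  by_cases h4 : l = neg i
  · subst h4
    obtain ⟨r, s, h5, h6⟩ := aux j i k hij.symm hkl.symm (by omega) (by omega) w (by rw [h.symm]; exact hw) w'
      (by rw [h.symm]; exact hw')
    exact Or.inr ⟨r, s, by omega, h6⟩
  -- no opposite pair: commute
  have hc : Commute w w' := by
    have n1 : i ≠ neg k := fun e => h2 (by rw [e, neg_neg])
    have n2 : i ≠ neg l := fun e => h4 (by rw [e, neg_neg])
    have n3 : j ≠ neg k := fun e => h1 (by rw [e, neg_neg])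
    have n4 : j ≠ neg l := fun e => h3 (by rw [e, neg_neg])
    by_cases e1 : i = k
    · subst e1
      have e2 : j ≠ l := fun e => hne (by rw [e])
      exact h.w60 i j l hij hkl ⟨e2, n4⟩ w hw w' hw'
    by_cases e2 : i = l
    · subst e2
      have e3 : j ≠ k := fun e => hne (by rw [e, add_comm])
      rw [h.symm k i] at hw'
      exact h.w60 i j k hij hkl.symm ⟨e3, n3⟩ w hw w' hw'
    by_cases e3 : j = k
    · subst e3
      rw [h.symm i j] at hw
      exact h.w60 j i l hij.symm hkl ⟨e2, n2⟩ w hw w' hw'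
    by_cases e4 : j = l
    · subst e4
      rw [h.symm i j] at hw
      rw [h.symm k j] at hw'
      exact h.w60 j i k hij.symm hkl.symm ⟨e1, n1⟩ w hw w' hw'
    exact h.w90 i j k l hij ⟨e1, n1⟩ ⟨e2, n2⟩ ⟨e3, n3⟩ ⟨e4, n4⟩ hkl w hw w' hw'
  left
  rw [hc.eq]; group

/-- commutators `[y, w]` at positive degrees -/
theorem comm_yw (h : DataSE R W) {k i j : Ix n} (hij : Dj i j) (hk : 0 < Fd k) (hp : 0 < Fd i + Fd j)
    {w : G} (hw : w ∈ W i j) (v : F) : R.y k v * w * (R.y k v)⁻¹ * w⁻¹ ∈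
      ⨆ r : PP n, ⨆ _ : dN dgC (k, k) + dN dgC (i, j) ≤ dN dgC r, VS R W r := by
  have key : ∀ k j : Ix n, Dj (neg k) j → 0 < Fd k → 0 < Fd (neg k) + Fd j → ∀ w ∈ W (neg k) j,
      R.y k v * w * (R.y k v)⁻¹ * w⁻¹ ∈ 
        ⨆ r : PP n, ⨆ _ : dN dgC (k, k) + dN dgC (neg k, j) ≤ dN dgC r, VS R W r := by
    intro k j hkj hk hp w hw
    have hkj' : Dj k j := dj_neg_left.1 hkj
    rw [h.symm] at hw
    obtain ⟨w', hw', a, e1⟩ := h.yw j k hkj'.symm w hw v
    have hw1 : w⁻¹ = w := inv_eq_of_mul_eq_one_left (h.sq j (neg k) hkj.symm w hw)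
    have hww' : ∃ b, w * w' * w⁻¹ * w'⁻¹ = R.y j b := by
      obtain ⟨b, hb⟩ := h.par j k hkj'.symm w' hw' w hw
      refine ⟨b, ?_⟩
      have : w * w' * w⁻¹ * w'⁻¹ = (w' * w * w'⁻¹ * w⁻¹)⁻¹ := by group
      rw [this, hb, R.y_inv]
    obtain ⟨b, hb⟩ := hww'
    have hc : Commute w (R.y j a) := h.cy j (neg k) j hkj.symm (ne_neg j) (by rw [neg_neg]; exact hkj'.1.symm) w hw a
    have e2 : R.y k v * w * (R.y k v)⁻¹ * w⁻¹ = R.y j b * w' * R.y j a := by
      calc R.y k v * w * (R.y k v)⁻¹ * w⁻¹ = w * w' * R.y j a * w⁻¹ := by rw [R.y_inv, e1]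
        _ = w * w' * (w⁻¹ * R.y j a) := by rw [mul_assoc, hc.inv_left.eq]
        _ = (w * w' * w⁻¹ * w'⁻¹) * w' * R.y j a := by group
        _ = R.y j b * w' * R.y j a := by rw [hb]
    rw [e2]
    rw [Fd_neg] at hp
    have n1 : (dN dgC (k, k) : ℤ) = Fd k + Fd k := dNC (by omega)
    have n2 : (dN dgC (neg k, j) : ℤ) = -Fd k + Fd j := by rw [dNC (by rw [Fd_neg]; omega), Fd_neg]
    have n3 : (dN dgC (j, j) : ℤ) = Fd j + Fd j := dNC (by omega)
    have n4 : (dN dgC (j, k) : ℤ) = Fd j + Fd k := dNC (by omega)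
    have m1 : ∀ b, R.y j b ∈ VS R W (j, j) := fun b => by rw [VS_ii]; exact ⟨b, rfl⟩
    have m2 : w' ∈ VS R W (j, k) := by rw [VS_ij R W hkj'.1.symm]; exact hw'
    refine mul_mem (mul_mem ?_ ?_) ?_
    · exact le_iSupP (r := (j, j)) (S := fun r => dN dgC (k, k) + dN dgC (neg k, j) ≤ dN dgC r) (by omega) (m1 b)
    · exact le_iSupP (r := (j, k)) (S := fun r => dN dgC (k, k) + dN dgC (neg k, j) ≤ dN dgC r) (by omega) m2
    · exact le_iSupP (r := (j, j)) (S := fun r => dN dgC (k, k) + dN dgC (neg k, j) ≤ dN dgC r) (by omega) (m1 a)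
  by_cases h1 : i = neg k
  · subst h1; exact key k j hij hk hp w hw
  by_cases h2 : j = neg k
  · subst h2
    have h3 := key k i hij.symm hk (by omega) w (by rw [h.symm]; exact hw)
    have h4 : dN dgC (i, neg k) = dN dgC (neg k, i) := by unfold dN; rw [dgC_symm]
    rw [h4]; exact h3
  have hc : Commute w (R.y k v) := h.cy i j k hij (fun e => h1 (by rw [e, neg_neg])) (fun e => h2 (by rw [e, neg_neg]))
    w hw v
  have : R.y k v * w * (R.y k v)⁻¹ * w⁻¹ = 1 := by rw [← hc.eq]; group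
  rw [this]; exact one_mem _

theorem grdS (h : DataSE R W) :
    Grd R.t (GradeOf.Vd (dN dgC) (VS R W)) (GradeOf.Vd (dN dgC) R.XP)
      (GradeOf.lgd (dN dgC) fun p : PP n => p.1 = p.2) (2 * 5 ^ n) (2 * 5 ^ n) := by
  have uniq : ∀ p q : PP n, 0 < dN dgC p → dN dgC p = dN dgC q → p = q ∨ p = (q.2, q.1) := by
    intro p q hp hpq
    have h1 := dN_pos.1 hp
    have h2 := dN_pos.1 (hpq ▸ hp)
    refine uniqC h1 ?_
    rw [← dN_cast h1, ← dN_cast h2, hpq]
  have hle : ∀ p : PP n, dN dgC p ≤ 2 * 5 ^ n := by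
    rintro ⟨i, j⟩
    have h1 : Fd i ≤ 5 ^ n := by
      rcases Fd_cases i with h | h
      · rw [h]; exact pow_le_pow_right₀ (by norm_num) (by unfold ex; omega)
      · rw [h]
        have h1 := pow_pos (show (0 : ℤ) < 5 by norm_num) (ex i)
        have h2 := pow_pos (show (0 : ℤ) < 5 by norm_num) n
        linarith
    have h2 : Fd j ≤ 5 ^ n := by
      rcases Fd_cases j with h | h
      · rw [h]; exact pow_le_pow_right₀ (by norm_num) (by unfold ex; omega)
      · rw [h]
        have h1 := pow_pos (show (0 : ℤ) < 5 by norm_num) (ex j)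
        have h2 := pow_pos (show (0 : ℤ) < 5 by norm_num) n
        linarith
    have h4 : dgC i j ≤ 2 * 5 ^ n := by unfold dgC; linarith
    have : ((2 * 5 ^ n : ℕ) : ℤ) = 2 * 5 ^ n := by push_cast; rfl
    unfold dN
    simp only
    have h5 := pow_pos (show (0 : ℤ) < 5 by norm_num) n
    omega
  refine GradeOf.grd ?_ ?_ ?_ R.tt ?_ ?_ ?_ ?_ ?_ ?_ ?_ ?_ ?_ ?_ ?_ ?_
  · intro p q hp hpq
    rcases uniq p q hp hpq with rfl | rfl
    · rfl
    · exact h.VS_symm _ _
  · intro p q hp hpq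
    rcases uniq p q hp hpq with rfl | rfl
    · rfl
    · exact R.XP_symm _ _
  · intro p q hp hpq hl
    rcases uniq p q hp hpq with rfl | rfl
    · exact hl
    · exact Eq.symm hl
  · rintro ⟨i, j⟩ hp v hv
    by_cases hij : i = j
    · subst hij
      have hx := hv
      rw [VS_ii, ← R.XP_ii] at hx
      rw [R.XP_fix hx]; exact hv
    · have hd := dj_of_dgC hij (dN_pos.1 hp)
      rw [VS_ij R W hij] at hv ⊢
      obtain ⟨a, ha⟩ := h.d i j hd v hv
      rw [ha]; exact mul_mem hv (h.xW i j hd a)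
  · rintro ⟨i, j⟩ hp v hv
    by_cases hij : i = j
    · subst hij
      rw [VS_ii, ← R.XP_ii] at hv
      exact R.XP_sq hv
    · have hd := dj_of_dgC hij (dN_pos.1 hp)
      rw [VS_ij R W hij] at hv
      exact h.sq i j hd v hv
  · rintro ⟨i, j⟩ hp
    by_cases hij : i = j
    · subst hij
      rw [VS_ii, R.XP_ii]
    · have hd := dj_of_dgC hij (dN_pos.1 hp)
      rw [VS_ij R W hij, R.XP_ij hij]
      rintro _ ⟨a, rfl⟩
      exact h.xW i j hd a
  · intro p hp x hx
    exact R.XP_fix hx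
  · rintro ⟨i, j⟩ hp v hv hf
    by_cases hij : i = j
    · subst hij
      rw [VS_ii] at hv
      rw [R.XP_ii]; exact hv
    · have hd := dj_of_dgC hij (dN_pos.1 hp)
      rw [VS_ij R W hij] at hv
      rw [R.XP_ij hij]
      obtain ⟨a, ha⟩ := h.fix i j hd v hv hf
      exact ⟨a, ha⟩
  · rintro ⟨i, j⟩ hp hl x hx
    have hd := dj_of_dgC hl (dN_pos.1 hp)
    rw [R.XP_ij hl] at hx
    rw [VS_ij R W hl]
    obtain ⟨a, rfl⟩ := hx
    obtain ⟨w, hw, hw'⟩ := h.onto i j hd a
    exact ⟨w, hw, by rw [hw']; group⟩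
  · rintro ⟨i, j⟩ hp hl
    simp only at hl
    subst hl
    rw [VS_ii, R.XP_ii]
  · rintro ⟨i, j⟩ ⟨k, l⟩ hp hq hne v hv w hw
    have hp' := dN_pos.1 hp
    have hq' := dN_pos.1 hq
    by_cases hij : i = j
    · subst hij
      rw [VS_ii] at hv
      obtain ⟨a, rfl⟩ := hv
      by_cases hkl : k = l
      · subst hkl
        rw [VS_ii] at hw
        obtain ⟨b, rfl⟩ := hw
        have hik : k ≠ neg i := by
          intro e
          unfold dgC at hp' hq'
          simp only at hp' hq'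
          rw [e, Fd_neg] at hq'
          omega
        have : R.y i a * R.y k b * (R.y i a)⁻¹ * (R.y k b)⁻¹ = 1 := by rw [(R.y_comm hik a b).eq]; group
        rw [this]; exact one_mem _
      · have hd := dj_of_dgC hkl hq'
        rw [VS_ij R W hkl] at hw
        have hp2 : 0 < Fd i := by
          have : 0 < Fd i + Fd i := hp'
          omega
        exact h.comm_yw hd hp2 hq' hw a
    · have hd := dj_of_dgC hij hp'
      rw [VS_ij R W hij] at hv
      by_cases hkl : k = l
      · subst hkl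
        rw [VS_ii] at hw
        obtain ⟨b, rfl⟩ := hw
        have hq2 : 0 < Fd k := by
          have : 0 < Fd k + Fd k := hq'
          omega
        have h1 := inv_mem (h.comm_yw hd hq2 hp' hv b)
        have h3 : (R.y k b * v * (R.y k b)⁻¹ * v⁻¹)⁻¹ = v * R.y k b * v⁻¹ * (R.y k b)⁻¹ := by group
        rw [h3, add_comm] at h1
        exact h1
      · have hd' := dj_of_dgC hkl hq'
        rw [VS_ij R W hkl] at hw
        have f1 : (dN dgC (i, j) : ℤ) = Fd i + Fd j := dNC hp'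
        have f2 : (dN dgC (k, l) : ℤ) = Fd k + Fd l := dNC hq'
        have hpp : 0 < Fd i + Fd j := hp'
        have hqq : 0 < Fd k + Fd l := hq'
        rcases h.comm_ww hd hd' hp' hq' (fun e => hne (by
          have : (dN dgC (i, j) : ℤ) = dN dgC (k, l) := by rw [f1, f2, e]
          exact_mod_cast this)) hv hw with h1 | ⟨r, s, hdeg, h1⟩
        · rw [h1]; exact one_mem _
        · have f3 : (dN dgC (r, s) : ℤ) = Fd r + Fd s := dNC (by omega)
          exact le_iSupP (r := (r, s)) (S := fun r => dN dgC (i, j) + dN dgC (k, l) ≤ dN dgC r) (by omega) h1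
  · rintro ⟨i, j⟩ ⟨k, l⟩ hp hq hne hij hkl v hv w hw
    simp only at hij hkl
    subst hij
    subst hkl
    have hp' := dN_pos.1 hp
    have hq' := dN_pos.1 hq
    rw [R.XP_ii] at hv hw
    obtain ⟨a, rfl⟩ := hv
    obtain ⟨b, rfl⟩ := hw
    have hik : k ≠ neg i := by
      intro e
      unfold dgC at hp' hq'
      simp only at hp' hq'
      rw [e, Fd_neg] at hq'
      omega
    have : R.y i a * R.y k b * (R.y i a)⁻¹ * (R.y k b)⁻¹ = 1 := by rw [(R.y_comm hik a b).eq]; group
    rw [this]; exact one_mem _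
  · exact hle
  · intro p hp
    exact R.indepP dgC_ok dgC_symm (fun i j => dj_of_dgC) hp
  · intro p _ _
    exact hle p

/-! ### The diagonal elements -/

/-- the group generated by `Y_k`, `k ∈ S` -/
def YS (R : Frame n F G) (S : Finset (Fin n)) : Subgroup G := ⨆ k : Fin n, ⨆ _ : k ∈ S, R.ys (Sum.inl k)

theorem YS_comm {S : Finset (Fin n)} {l : G} (hl : l ∈ YS R S) {g : G}
    (hg : ∀ k ∈ S, ∀ a, Commute g (R.y (Sum.inl k) a)) : Commute g l := by
  have h1 : YS R S ≤ Subgroup.centralizer {g} := by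
    refine iSup₂_le fun k hk => ?_
    rintro _ ⟨a, rfl⟩
    rw [Subgroup.mem_centralizer_singleton_iff]
    exact (hg k hk a).eq.symm
  exact (Subgroup.mem_centralizer_singleton_iff.1 (h1 hl)).symm

theorem YS_mono {S S' : Finset (Fin n)} (h : S ⊆ S') : YS R S ≤ YS R S' :=
  iSup₂_le fun k hk => le_iSup₂_of_le (f := fun k (_ : k ∈ S') => R.ys (Sum.inl k)) k (h hk) le_rfl

theorem inl_ne_neg_inl (k l : Fin n) : (Sum.inl k : Ix n) ≠ neg (Sum.inl l) := by simp

theorem YS_insert {S : Finset (Fin n)} {k : Fin n} {l : G} (hl : l ∈ YS R (insert k S)) :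
    ∃ a, ∃ l' ∈ YS R S, l = R.y (Sum.inl k) a * l' := by
  let T : Subgroup G :=
    { carrier := {l | ∃ a, ∃ l' ∈ YS R S, l = R.y (Sum.inl k) a * l'}
      one_mem' := ⟨0, 1, one_mem _, by rw [R.y_zero, mul_one]⟩
      mul_mem' := by
        rintro _ _ ⟨a, l, hl, rfl⟩ ⟨b, m, hm, rfl⟩
        refine ⟨a + b, l * m, mul_mem hl hm, ?_⟩
        have hc : Commute (R.y (Sum.inl k) b) l := YS_comm hl fun j _ c => R.y_comm (inl_ne_neg_inl j k) _ _
        rw [R.y_add]
        calc R.y (Sum.inl k) a * l * (R.y (Sum.inl k) b * m) = R.y (Sum.inl k) a * (l * R.y (Sum.inl k) b) * m := by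
              group
          _ = _ := by rw [← hc.eq]; group
      inv_mem' := by
        rintro _ ⟨a, l, hl, rfl⟩
        refine ⟨a, l⁻¹, inv_mem hl, ?_⟩
        have hc : Commute (R.y (Sum.inl k) a) l⁻¹ := YS_comm (inv_mem hl) fun j _ c => R.y_comm (inl_ne_neg_inl j k) _ _
        rw [mul_inv_rev, R.y_inv, hc.eq] }
  have hT : YS R (insert k S) ≤ T := by
    refine iSup₂_le fun j hj => ?_
    rintro _ ⟨a, rfl⟩
    rcases Finset.mem_insert.1 hj with rfl | hj'
    · exact ⟨a, 1, one_mem _, (mul_one _).symm⟩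
    · refine ⟨0, R.y (Sum.inl j) a, ?_, by rw [R.y_zero, one_mul]⟩
      exact le_iSup₂_of_le (f := fun k (_ : k ∈ S) => R.ys (Sum.inl k)) j hj' le_rfl ⟨a, rfl⟩
  exact hT hl

/-- a nontrivial diagonal element has a nontrivial component -/
theorem YS_split {S : Finset (Fin n)} {l : G} (hl : l ∈ YS R S) :
    l = 1 ∨ ∃ k ∈ S, ∃ b, b ≠ 0 ∧ ∃ l' ∈ YS R (S.erase k), l = R.y (Sum.inl k) b * l' := by
  classical
  induction S using Finset.induction_on generalizing l with
  | empty =>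
    left
    have : YS R (∅ : Finset (Fin n)) = ⊥ := by
      rw [eq_bot_iff]
      exact iSup₂_le fun k hk => absurd hk (Finset.notMem_empty k)
    rw [this] at hl
    exact Subgroup.mem_bot.1 hl
  | insert k S hk ih =>
    obtain ⟨a, l', hl', rfl⟩ := YS_insert hl
    by_cases ha : a = 0
    · subst ha
      rw [R.y_zero, one_mul]
      rcases ih hl' with h1 | ⟨j, hj, b, hb, m, hm, h1⟩
      · exact Or.inl h1
      · right
        exact ⟨j, Finset.mem_insert_of_mem hj, b, hb, m, YS_mono (Finset.erase_subset_erase _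
          (Finset.subset_insert _ _)) hm, h1⟩
    · right
      refine ⟨k, Finset.mem_insert_self _ _, a, ha, l', ?_, rfl⟩
      rw [Finset.erase_insert hk]; exact hl'

/-- removal of the other components -/
theorem conj_single (h : DataSE R W) [Finite F] {j : Fin n} {b : F} (hb : b ≠ 0) (S : Finset (Fin n)) (hj : j ∉ S) {l : G}
    (hl : l ∈ YS R S) : IsConj (R.t * (R.y (Sum.inl j) b * l)) (R.t * R.y (Sum.inl j) b) := by
  classical
  induction S using Finset.induction_on generalizing l with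
  | empty =>
    have : YS R (∅ : Finset (Fin n)) = ⊥ := by
      rw [eq_bot_iff]
      exact iSup₂_le fun k hk => absurd hk (Finset.notMem_empty k)
    rw [this] at hl
    rw [Subgroup.mem_bot.1 hl, mul_one]
  | insert k S hk ih =>
    rw [Finset.mem_insert, not_or] at hj
    obtain ⟨a, l', hl', rfl⟩ := YS_insert hl
    refine IsConj.trans ?_ (ih hj.2 hl')
    -- `g = x_{k,-j}(c)`, `b c² = a`
    set K : Ix n := Sum.inl k with hK
    set J : Ix n := Sum.inl j with hJ
    have hKJ : Dj K J := by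
      refine ⟨fun e => hj.1 ?_, inl_ne_neg_inl k j⟩
      exact (Sum.inl_injective e).symm
    have hJK := hKJ.symm
    obtain ⟨c, hc⟩ : ∃ c, b * c ^ 2 = a := by
      obtain ⟨c, hc⟩ : ∃ c : F, c ^ 2 = a / b := by
        have : Function.Surjective (fun x : F => x ^ 2) := by
          refine Finite.injective_iff_surjective.mp ?_
          intro x y hxy
          have h0 : (x - y) * (x - y) = 0 := by
            have : x ^ 2 = y ^ 2 := hxy
            linear_combination this - (x * y - y ^ 2) * (two0 : (2 : F) = 0)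
          exact sub_eq_zero.mp (mul_self_eq_zero.mp h0)
        exact this (a / b)
      exact ⟨c, by rw [hc]; field_simp⟩
    set g := R.x (neg J) K c with hg
    have gg : g * g = 1 := R.x_sq _ _ _
    have ginv : g⁻¹ = g := inv_eq_of_mul_eq_one_left gg
    have tg : Commute R.t g := (R.x_t _ _ _).symm
    have g1 : g * R.y J b * g = R.y J b * R.x J K (b * c) * R.y K a := by
      have := R.rels.sl J K b c hJK
      rw [hc] at this; exact this
    have g2 : Commute g (R.y K a) := (R.y_x_comm (i := K) (j := neg J) (k := K)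
      (fun e => hKJ.1 (neg_inj.1 e).symm) (ne_neg K) a c).symm
    have g3 : Commute g l' := YS_comm hl' fun m hm d => by
      refine (R.y_x_comm (i := Sum.inl m) (j := neg J) (k := K) (fun e => ?_) (inl_ne_neg_inl k m) d c).symm
      have := neg_inj.1 e
      exact hj.2 (by rw [Sum.inl_injective this]; exact hm)
    obtain ⟨w, hw, hwt⟩ := h.onto K J hKJ (b * c)
    have w2 : w * w = 1 := h.sq K J hKJ w hw
    have wi : w⁻¹ = w := inv_eq_of_mul_eq_one_left w2
    have w1 : Commute w (R.y J b) := h.cy K J J hKJ (fun e => hKJ.2 (by rw [e, neg_neg])) (ne_neg J) w hw b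
    have w3 : Commute w l' := YS_comm hl' fun m hm d => h.cy K J _ hKJ (inl_ne_neg_inl m k) (inl_ne_neg_inl m j) w hw d
    have w4 : Commute w (R.x K J (b * c)) := by
      -- `t w t = w x`, so `w x w = ...`
      have h1 : (w * R.x K J (b * c)) * (w * R.x K J (b * c)) = 1 := by
        rw [← hwt]
        calc R.t * w * R.t * (R.t * w * R.t) = R.t * w * (R.t * R.t) * w * R.t := by group
          _ = R.t * (w * w) * R.t := by rw [R.tt]; group
          _ = 1 := by rw [w2, mul_one, R.tt]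
      have hx : (R.x K J (b * c))⁻¹ = R.x K J (b * c) := R.x_inv _ _ _
      calc w * R.x K J (b * c) = (w * R.x K J (b * c))⁻¹ * ((w * R.x K J (b * c)) * (w * R.x K J (b * c))) := by group
        _ = R.x K J (b * c) * w := by rw [h1, mul_one, mul_inv_rev, hx, wi]
    have ly : Commute (R.y K a) l' := YS_comm hl' fun m hm d => R.y_comm (inl_ne_neg_inl m k) _ _
    have yy : Commute (R.y J b) (R.y K a) := R.y_comm hKJ.2 _ _
    have yx : Commute (R.x J K (b * c)) (R.y K a) := (R.y_x_comm hJK.2 (ne_neg K) _ _).symm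
    have yx' : Commute (R.x J K (b * c)) (R.y J b) := (R.y_x_comm (ne_neg J) hKJ.2 _ _).symm
    have hxx : R.x J K (b * c) = R.x K J (b * c) := R.x_symm _ _ _
    have hxt : Commute R.t (R.x K J (b * c)) := (R.x_t _ _ _).symm
    rw [isConj_iff]
    refine ⟨w * g, ?_⟩
    -- after `g`
    have e1 : g * (R.t * (R.y J b * (R.y K a * l'))) * g⁻¹ = R.t * (R.y J b * R.x K J (b * c) * l') := by
      rw [ginv]
      calc g * (R.t * (R.y J b * (R.y K a * l'))) * g = (g * R.t) * R.y J b * R.y K a * (l' * g) := by group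
        _ = R.t * (g * R.y J b) * (R.y K a * g) * l' := by rw [← tg.eq, ← g3.eq]; group
        _ = R.t * (g * R.y J b * g) * R.y K a * l' := by rw [← g2.eq]; group
        _ = R.t * (R.y J b * R.x J K (b * c) * (R.y K a * R.y K a)) * l' := by rw [g1]; group
        _ = _ := by rw [R.y_sq, mul_one, hxx]; group
    have e2 : w * (R.t * (R.y J b * R.x K J (b * c) * l')) * w⁻¹ = R.t * (R.y J b * l') := by
      have h1 : w * R.t = R.t * (w * R.x K J (b * c)) := by
        rw [← hwt]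
        calc w * R.t = (R.t * R.t) * w * R.t := by rw [R.tt, one_mul]
          _ = _ := by group
      have hx2 : R.x K J (b * c) * R.x K J (b * c) = 1 := R.x_sq _ _ _
      rw [hxx] at yx'
      calc w * (R.t * (R.y J b * R.x K J (b * c) * l')) * w⁻¹
          = (w * R.t) * (R.y J b * R.x K J (b * c) * l') * w⁻¹ := by group
        _ = R.t * w * (R.x K J (b * c) * R.y J b) * R.x K J (b * c) * l' * w⁻¹ := by rw [h1]; group
        _ = R.t * w * R.y J b * (R.x K J (b * c) * R.x K J (b * c)) * l' * w⁻¹ := by rw [yx'.eq]; group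
        _ = R.t * (w * (R.y J b * l')) * w⁻¹ := by rw [hx2]; group
        _ = R.t * (R.y J b * l') := by rw [(w1.mul_right w3).eq]; group
    calc w * g * (R.t * (R.y J b * (R.y K a * l'))) * (w * g)⁻¹
        = w * (g * (R.t * (R.y J b * (R.y K a * l'))) * g⁻¹) * w⁻¹ := by group
      _ = _ := by rw [e1, e2]

theorem nm_Lg [Finite F] (h : DataSE R W) {l : G}
    (hl : l ∈ Lg (GradeOf.Vd (dN dgC) R.XP) (GradeOf.lgd (dN dgC) fun p : PP n => p.1 = p.2) 1) (hl1 : l ≠ 1) :
    ¬ IsConj R.t (R.t * l) := by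
  intro hconj
  have h1 : Lg (GradeOf.Vd (dN dgC) R.XP) (GradeOf.lgd (dN dgC) fun p : PP n => p.1 = p.2) 1 ≤
      YS R Finset.univ := by
    refine Lg_le fun d _ hld => ?_
    obtain ⟨⟨i, j⟩, hp, rfl, hij⟩ := hld
    simp only at hij
    subst hij
    have hX : ∀ p q : PP n, 0 < dN dgC p → dN dgC p = dN dgC q → R.XP p = R.XP q := by
      intro p q hp hpq
      have h1 := dN_pos.1 hp
      have h2 := dN_pos.1 (hpq ▸ hp)
      rcases uniqC (p := p) (q := q) h1 (by rw [← dN_cast h1, ← dN_cast h2, hpq]) with rfl | rfl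
      · rfl
      · exact R.XP_symm _ _
    rw [GradeOf.Vd_eq hX hp, R.XP_ii]
    have hpos : 0 < Fd i + Fd i := dN_pos.1 hp
    rcases i with k | k
    · exact le_iSup₂_of_le (f := fun k (_ : k ∈ Finset.univ) => R.ys (Sum.inl k)) k (Finset.mem_univ k) le_rfl
    · exfalso
      have h2 : Fd (Sum.inr k : Ix n) = -5 ^ ex (Sum.inr k : Ix n) := rfl
      have h3 := pow_pos (show (0 : ℤ) < 5 by norm_num) (ex (Sum.inr k : Ix n))
      omega
  rcases YS_split (h1 hl) with h2 | ⟨k, -, b, hb, l', hl', rfl⟩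
  · exact hl1 h2
  · exact h.nm (Sum.inl k) b hb (hconj.trans (h.conj_single hb _ (Finset.notMem_erase _ _) hl'))

/-- **END (0,O)**. -/
theorem exists_hom [Finite F] [Finite G] (h : DataSE R W)
    (hodd : Odd ((R.UpP ⊔ Subgroup.zpowers R.t).relIndex (Subgroup.centralizer {R.t}))) :
    ∃ m : G →* ℤˣ, m R.t = -1 := by
  refine h.grdS.exists_hom' ?_ ?_ fun l hl hl1 _ _ => h.nm_Lg hl hl1
  · intro ht
    exact R.t_notMem_K (R.N_XP_le_K dgC ht)
  · rw [R.N_XP_C]; exact hodd

end DataSE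

end Cfsg.Agent.OddHalf.SpN
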