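import Mathlib
import Cfsg.Agent.OddHalf.SpN.PosGrp
import Cfsg.Agent.OddHalf.SpN.PatO

/-!
# END of the pattern (O,0) = `{l}` for `Sp_2n(q)`, all `q` (helper200)
-/

set_option autoImplicit false
set_option maxHeartbeats 400000

namespace Cfsg.Agent.OddHalf.SpN

open Cfsg.Agent.OddHalf.F4.EndO

variable {n : ℕ} {F : Type*} [Field F] {G : Type*} [Group G] [CharP F 2] (R : Frame n F G)

/-- the pieces: long doubled, short not -/
def VL (W : Ix n → Subgroup G) (p : PP n) : Subgroup G := open Classical in if p.1 = p.2 then W p.1 else R.xs p.1 p.2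

theorem VL_ii (W : Ix n → Subgroup G) (i : Ix n) : VL R W (i, i) = W i := if_pos rfl

theorem VL_ij (W : Ix n → Subgroup G) {i j : Ix n} (h : i ≠ j) : VL R W (i, j) = R.xs i j := if_neg h

theorem VL_symm (W : Ix n → Subgroup G) (i j : Ix n) : VL R W (i, j) = VL R W (j, i) := by
  by_cases h : i = j
  · subst h; rfl
  · rw [VL_ij R W h, VL_ij R W (Ne.symm h), R.xs_symm]

/-- bounds of the degrees -/
theorem ex_le (i : Ix n) : ex i ≤ n := by unfold ex; omega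

theorem Fd_le_ex (i : Ix n) : Fd i ≤ 5 ^ ex i := by
  rcases Fd_cases i with h | h
  · rw [h]
  · rw [h]; have := pow_pos (show (0 : ℤ) < 5 by norm_num) (ex i); linarith

theorem pow5_le {a b : ℕ} (h : a ≤ b) : (5 : ℤ) ^ a ≤ 5 ^ b := pow_le_pow_right₀ (by norm_num) h

theorem pow5_lt {a b : ℕ} (h : a < b) : (5 : ℤ) ^ a < 5 ^ b := pow_lt_pow_right₀ (by norm_num) h

theorem Fd_le_n (i : Ix n) : Fd i ≤ 5 ^ n := (Fd_le_ex i).trans (pow5_le (ex_le i))

theorem Fd_add_le {i j : Ix n} (h : Dj i j) : Fd i + Fd j ≤ 5 ^ n + 5 ^ (n - 1) := by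
  have h1 := ex_ne h
  have h2 := ex_le i
  have h3 := ex_le j
  have h4 := Fd_le_ex i
  have h5 := Fd_le_ex j
  rcases lt_or_gt_of_ne h1 with h6 | h6
  · have h7 := pow5_le (show ex i ≤ n - 1 by omega)
    have h8 := pow5_le h3
    linarith
  · have h7 := pow5_le (show ex j ≤ n - 1 by omega)
    have h8 := pow5_le h2
    linarith

/-- the combinatorial push -/
theorem exists_push (hn : 3 ≤ n) {i j : Ix n} (hij : Dj i j) (hp : 0 < Fd i + Fd j)
    (hR : Fd i + Fd j ≠ 5 ^ n + 5 ^ (n - 1)) : ∃ k, Dj i k ∧ Dj j k ∧ (Fd j < Fd k ∨ Fd i < Fd k) := by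
  have mk : ∀ m : ℕ, m < 3 → ∃ k : Ix n, Fd k = 5 ^ (n - m) ∧ ex k = n - m := fun m hm =>
    ⟨Sum.inl ⟨m, by omega⟩, rfl, rfl⟩
  have dj : ∀ i k : Ix n, ex i ≠ ex k → Dj i k := fun i k h => ⟨fun e => h (by rw [e]),
    fun e => h (by rw [e, ex_neg])⟩
  have hi := ex_le i
  have hj := ex_le j
  have hne := ex_ne hij
  have fi := Fd_le_ex i
  have fj := Fd_le_ex j
  obtain ⟨k0, f0, e0⟩ := mk 0 (by omega)
  obtain ⟨k1, f1, e1⟩ := mk 1 (by omega)
  obtain ⟨k2, f2, e2⟩ := mk 2 (by omega)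
  rw [Nat.sub_zero] at f0 e0
  -- the symmetric half
  have half : ∀ i j : Ix n, Dj i j → 0 < Fd i + Fd j → Fd i + Fd j ≠ 5 ^ n + 5 ^ (n - 1) → ex i = n → 
      ∃ k, Dj i k ∧ Dj j k ∧ Fd j < Fd k := by
    intro i j hij hp hR hi
    have hne := ex_ne hij
    have hj := ex_le j
    by_cases h1 : ex j = n - 1
    · refine ⟨k2, dj _ _ (by omega), dj _ _ (by omega), ?_⟩
      rw [f2]
      have p2 := pow_pos (show (0 : ℤ) < 5 by norm_num) (n - 2)
      have p1 := pow_pos (show (0 : ℤ) < 5 by norm_num) (n - 1)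
      have p3 := pow5_lt (show n - 1 < n by omega)
      rcases Fd_cases i with h2 | h2 <;> rcases Fd_cases j with h3 | h3
      all_goals rw [hi] at h2; rw [h1] at h3
      · exfalso; apply hR; rw [h2, h3]
      · linarith
      · rw [h2, h3] at hp; linarith
      · rw [h2, h3] at hp; linarith
    · refine ⟨k1, dj _ _ (by omega), dj _ _ (by omega), ?_⟩
      rw [f1]
      exact (Fd_le_ex j).trans_lt (pow5_lt (by omega))
  by_cases h1 : ex i = n
  · obtain ⟨k, a, b, c⟩ := half i j hij hp hR h1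
    exact ⟨k, a, b, Or.inl c⟩
  · by_cases h2 : ex j = n
    · obtain ⟨k, a, b, c⟩ := half j i hij.symm (by rw [add_comm]; exact hp) (by rw [add_comm (Fd j)]; exact hR) h2
      exact ⟨k, b, a, Or.inr c⟩
    · refine ⟨k0, dj _ _ (by omega), dj _ _ (by omega), Or.inl ?_⟩
      rw [f0]
      exact fj.trans_lt (pow5_lt (by omega))

namespace DataO

variable {R} {W : Ix n → Subgroup G}

/-- commutators `[w, x]` at positive degrees -/
theorem comm_wx (h : DataO R.t R.x R.y W) (he : ∀ i, ∀ w ∈ W i, w * w = 1) {k i j : Ix n} (hij : Dj i j)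
    (hk : 0 < Fd k) (hp : 0 < Fd i + Fd j) {w : G} (hw : w ∈ W k) (a : F) :
    w * R.x i j a * w⁻¹ * (R.x i j a)⁻¹ ∈ ⨆ r : PP n, ⨆ _ : dN dgB (k, k) + dN dgB (i, j) ≤ dN dgB r, VL R W r := by
  have key : ∀ k j : Ix n, Dj (neg k) j → 0 < Fd k → 0 < Fd (neg k) + Fd j → ∀ w ∈ W k, ∀ a : F,
      w * R.x (neg k) j a * w⁻¹ * (R.x (neg k) j a)⁻¹ ∈
        ⨆ r : PP n, ⨆ _ : dN dgB (k, k) + dN dgB (neg k, j) ≤ dN dgB r, VL R W r := by
    intro k j hkj hk hp w hw a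
    have hkj' : Dj k j := dj_neg_left.1 hkj
    obtain ⟨w', hw', d, h2⟩ := h.r2 he hkj'.symm hw a
    obtain ⟨m, hm⟩ := h.ww he hkj' hw hw'
    have gi : (R.x (neg k) j a)⁻¹ = R.x (neg k) j a := R.x_inv _ _ _
    have wi : w⁻¹ = w := inv_eq_of_mul_eq_one_left (he k w hw)
    have wi' : w'⁻¹ = w' := inv_eq_of_mul_eq_one_left (he j w' hw')
    have e0 : R.x (neg k) j a * w * (R.x (neg k) j a)⁻¹ = R.x j k d * (w * w') := by rw [gi]; exact h2
    have e1 : w * R.x (neg k) j a * w⁻¹ * (R.x (neg k) j a)⁻¹ = R.x k j m * w' * R.x j k d := by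
      calc w * R.x (neg k) j a * w⁻¹ * (R.x (neg k) j a)⁻¹
          = w * (R.x (neg k) j a * w * (R.x (neg k) j a)⁻¹)⁻¹ := by group
        _ = w * w'⁻¹ * w⁻¹ * (R.x j k d)⁻¹ := by rw [e0]; group
        _ = w * w' * w * R.x j k d := by rw [wi', wi, R.x_inv]
        _ = (w * w' * w * w') * w'⁻¹ * R.x j k d := by group
        _ = R.x k j m * w' * R.x j k d := by rw [hm, wi']
    rw [e1]
    rw [Fd_neg] at hp
    have d1 : dgB k k = Fd k := dgB_ii k
    have d2 : dgB (neg k) j = -Fd k + Fd j := by rw [dgB_ij hkj.1, Fd_neg]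
    have d3 : dgB k j = Fd k + Fd j := dgB_ij hkj'.1
    have d4 : dgB j k = Fd j + Fd k := dgB_ij hkj'.1.symm
    have d5 : dgB j j = Fd j := dgB_ii j
    have m1 : R.x k j m ∈ VL R W (k, j) := by rw [VL_ij R W hkj'.1]; exact ⟨m, rfl⟩
    have m2 : w' ∈ VL R W (j, j) := by rw [VL_ii]; exact hw'
    have m3 : R.x j k d ∈ VL R W (j, k) := by rw [VL_ij R W hkj'.1.symm]; exact ⟨d, rfl⟩
    refine mul_mem (mul_mem ?_ ?_) ?_
    · refine le_iSupP (r := (k, j)) (S := fun r => dN dgB (k, k) + dN dgB (neg k, j) ≤ dN dgB r) ?_ m1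
      unfold dN; simp only; rw [d1, d2, d3]; omega
    · refine le_iSupP (r := (j, j)) (S := fun r => dN dgB (k, k) + dN dgB (neg k, j) ≤ dN dgB r) ?_ m2
      unfold dN; simp only; rw [d1, d2, d5]; omega
    · refine le_iSupP (r := (j, k)) (S := fun r => dN dgB (k, k) + dN dgB (neg k, j) ≤ dN dgB r) ?_ m3
      unfold dN; simp only; rw [d1, d2, d4]; omega
  by_cases h1 : i = neg k
  · subst h1; exact key k j hij hk hp w hw a
  by_cases h2 : j = neg k
  · subst h2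
    have h3 := key k i hij.symm hk (by omega) w hw a
    have h4 : dN dgB (i, neg k) = dN dgB (neg k, i) := by unfold dN; rw [dgB_symm]
    rw [R.x_symm i (neg k), h4]
    exact h3
  have hc : Commute w (R.x i j a) := by
    by_cases h3 : k = i
    · subst h3; exact h.Wx k j hij w hw a
    by_cases h4 : k = j
    · subst h4; rw [R.x_symm]; exact h.Wx k i hij.symm w hw a
    exact h.Wx' k i j ⟨h3, fun e => h1 (by rw [e, neg_neg])⟩ ⟨h4, fun e => h2 (by rw [e, neg_neg])⟩ hij w hw a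
  have : w * R.x i j a * w⁻¹ * (R.x i j a)⁻¹ = 1 := by rw [hc.eq]; group
  rw [this]; exact one_mem _

theorem grdL (hn : 3 ≤ n) (h : DataO R.t R.x R.y W) (he : ∀ i, ∀ w ∈ W i, w * w = 1) :
    Grd R.t (GradeOf.Vd (dN dgB) (VL R W)) (GradeOf.Vd (dN dgB) R.XP)
      (GradeOf.lgd (dN dgB) fun p : PP n => p.1 ≠ p.2) (5 ^ n + 5 ^ (n - 1)) (2 * 5 ^ n) := by
  have uniq : ∀ p q : PP n, 0 < dN dgB p → dN dgB p = dN dgB q → p = q ∨ p = (q.2, q.1) := by
    intro p q hp hpq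
    have h1 := dN_pos.1 hp
    have h2 := dN_pos.1 (hpq ▸ hp)
    refine uniqB h1 ?_
    rw [← dN_cast h1, ← dN_cast h2, hpq]
  have dj : ∀ p : PP n, 0 < dN dgB p → p.1 ≠ p.2 → Dj p.1 p.2 := fun p hp hne => dj_of_dgB hne (dN_pos.1 hp)
  refine GradeOf.grd ?_ ?_ ?_ R.tt ?_ ?_ ?_ ?_ ?_ ?_ ?_ ?_ ?_ ?_ ?_ ?_
  · intro p q hp hpq
    rcases uniq p q hp hpq with rfl | rfl
    · rfl
    · exact VL_symm R W _ _
  · intro p q hp hpq
    rcases uniq p q hp hpq with rfl | rfl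
    · rfl
    · exact R.XP_symm _ _
  · intro p q hp hpq hl
    rcases uniq p q hp hpq with rfl | rfl
    · exact hl
    · exact Ne.symm hl
  · rintro ⟨i, j⟩ hp v hv
    by_cases hij : i = j
    · subst hij
      rw [VL_ii] at hv ⊢
      obtain ⟨a, ha⟩ := h.d i v hv
      rw [ha]; exact mul_mem hv (h.yW i a)
    · have hx := hv
      rw [VL_ij R W hij, ← R.XP_ij hij] at hx
      rw [R.XP_fix hx]; exact hv
  · rintro ⟨i, j⟩ hp v hv
    by_cases hij : i = j
    · subst hij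
      rw [VL_ii] at hv
      exact he i v hv
    · rw [VL_ij R W hij, ← R.XP_ij hij] at hv
      exact R.XP_sq hv
  · rintro ⟨i, j⟩ hp
    by_cases hij : i = j
    · subst hij
      rw [VL_ii, R.XP_ii]
      rintro _ ⟨a, rfl⟩
      exact h.yW i a
    · rw [VL_ij R W hij, R.XP_ij hij]
  · intro p hp x hx
    exact R.XP_fix hx
  · rintro ⟨i, j⟩ hp v hv hf
    by_cases hij : i = j
    · subst hij
      rw [VL_ii] at hv
      rw [R.XP_ii]
      obtain ⟨a, ha⟩ := h.fix i v hv hf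
      exact ⟨a, ha⟩
    · rw [VL_ij R W hij] at hv
      rw [R.XP_ij hij]; exact hv
  · rintro ⟨i, j⟩ hp hl x hx
    have hij : i = j := by
      by_contra h'; exact hl h'
    subst hij
    rw [R.XP_ii] at hx
    rw [VL_ii]
    obtain ⟨a, rfl⟩ := hx
    obtain ⟨w, hw, hw'⟩ := h.onto i a
    exact ⟨w, hw, by rw [hw']; group⟩
  · rintro ⟨i, j⟩ hp hl
    rw [VL_ij R W hl, R.XP_ij hl]
  · rintro ⟨i, j⟩ ⟨k, l⟩ hp hq hne v hv w hw
    have hp' := dN_pos.1 hp
    have hq' := dN_pos.1 hq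
    simp only at hp' hq'
    by_cases hij : i = j
    · subst hij
      rw [VL_ii] at hv
      rw [dgB_ii] at hp'
      by_cases hkl : k = l
      · subst hkl
        rw [VL_ii] at hw
        rw [dgB_ii] at hq'
        have hik : i ≠ k := fun e => hne (by rw [e])
        have hd : Dj i k := ⟨hik, fun e => by rw [e, Fd_neg] at hp'; omega⟩
        obtain ⟨d, hd'⟩ := h.ww he hd hv hw
        have e1 : v * w * v⁻¹ * w⁻¹ = R.x i k d := by
          rw [inv_eq_of_mul_eq_one_left (he i v hv), inv_eq_of_mul_eq_one_left (he k w hw), hd']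
        rw [e1]
        refine le_iSupP (r := (i, k)) (S := fun r => dN dgB (i, i) + dN dgB (k, k) ≤ dN dgB r) ?_ (by
          rw [VL_ij R W hik]; exact ⟨d, rfl⟩)
        have d1 : dgB i i = Fd i := dgB_ii i
        have d2 : dgB k k = Fd k := dgB_ii k
        have d3 : dgB i k = Fd i + Fd k := dgB_ij hik
        unfold dN; simp only; rw [d1, d2, d3]; omega
      · have hd := dj_of_dgB hkl hq'
        rw [VL_ij R W hkl] at hw
        obtain ⟨a, rfl⟩ := hw
        rw [dgB_ij hkl] at hq'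
        exact h.comm_wx he hd hp' hq' hv a
    · have hd := dj_of_dgB hij hp'
      rw [VL_ij R W hij] at hv
      obtain ⟨a, rfl⟩ := hv
      rw [dgB_ij hij] at hp'
      by_cases hkl : k = l
      · subst hkl
        rw [VL_ii] at hw
        rw [dgB_ii] at hq'
        have h1 := h.comm_wx he hd hq' hp' hw a
        have h2 := inv_mem h1
        have h3 : (w * R.x i j a * w⁻¹ * (R.x i j a)⁻¹)⁻¹ = R.x i j a * w * (R.x i j a)⁻¹ * w⁻¹ := by group
        rw [h3, add_comm] at h2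
        exact h2
      · have hd' := dj_of_dgB hkl hq'
        rw [VL_ij R W hkl] at hw
        obtain ⟨b, rfl⟩ := hw
        rw [dgB_ij hkl] at hq'
        rcases R.comm_xx hd hd' hp' hq' a b with h1 | ⟨r, s, c, hrs, hdeg, h1⟩
        · rw [h1]; exact one_mem _
        · rw [h1]
          refine le_iSupP (r := (r, s)) (S := fun r => dN dgB (i, j) + dN dgB (k, l) ≤ dN dgB r) ?_ (by
            rw [VL_ij R W hrs.1]; exact ⟨c, rfl⟩)
          have d1 : dgB i j = Fd i + Fd j := dgB_ij hij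
          have d2 : dgB k l = Fd k + Fd l := dgB_ij hkl
          have d3 : dgB r s = Fd r + Fd s := dgB_ij hrs.1
          unfold dN; simp only; rw [d1, d2, d3]; omega
  · rintro ⟨i, j⟩ ⟨k, l⟩ hp hq hne hij hkl v hv w hw
    have hp' := dN_pos.1 hp
    have hq' := dN_pos.1 hq
    simp only at hp' hq' hij hkl
    have hd := dj_of_dgB hij hp'
    have hd' := dj_of_dgB hkl hq'
    rw [R.XP_ij hij] at hv
    rw [R.XP_ij hkl] at hw
    obtain ⟨a, rfl⟩ := hv
    obtain ⟨b, rfl⟩ := hw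
    rw [dgB_ij hij] at hp'
    rw [dgB_ij hkl] at hq'
    rcases R.comm_xx hd hd' hp' hq' a b with h1 | ⟨r, s, c, hrs, hdeg, h1⟩
    · rw [h1]; exact one_mem _
    · rw [h1]
      refine le_iSupP (r := (r, s)) (S := fun r => dN dgB (i, j) + dN dgB (k, l) ≤ dN dgB r ∧ r.1 ≠ r.2) ?_ (by
        rw [R.XP_ij hrs.1]; exact ⟨c, rfl⟩)
      have d1 : dgB i j = Fd i + Fd j := dgB_ij hij
      have d2 : dgB k l = Fd k + Fd l := dgB_ij hkl
      have d3 : dgB r s = Fd r + Fd s := dgB_ij hrs.1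
      refine ⟨?_, hrs.1⟩
      unfold dN; simp only; rw [d1, d2, d3]; omega
  · rintro ⟨i, j⟩
    have h1 := Fd_le_n i
    have h2 := Fd_le_n j
    have h3 := pow_pos (show (0 : ℤ) < 5 by norm_num) n
    have h4 : dgB i j ≤ 2 * 5 ^ n := by
      by_cases hij : i = j
      · rw [← hij, dgB_ii]; linarith
      · rw [dgB_ij hij]; linarith
    unfold dN
    simp only
    have : ((2 * 5 ^ n : ℕ) : ℤ) = 2 * 5 ^ n := by push_cast; rfl
    omega
  · intro p hp
    exact R.indepP dgB_ok dgB_symm (fun i j => dj_of_dgB) hp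
  · rintro ⟨i, j⟩ hp hl
    have hp' := dN_pos.1 hp
    have hd := dj_of_dgB hl hp'
    have h1 : Fd i + Fd j ≤ 5 ^ n + 5 ^ (n - 1) := Fd_add_le hd
    have h2 : dgB i j = Fd i + Fd j := dgB_ij hl
    have h3 := pow_pos (show (0 : ℤ) < 5 by norm_num) n
    have h4 := pow_pos (show (0 : ℤ) < 5 by norm_num) (n - 1)
    unfold dN
    simp only
    rw [h2]
    have : ((5 ^ n + 5 ^ (n - 1) : ℕ) : ℤ) = 5 ^ n + 5 ^ (n - 1) := by push_cast; rfl
    omega

omit [CharP F 2] in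
theorem dN_symm (i j : Ix n) : dN dgB (i, j) = dN dgB (j, i) := by unfold dN; rw [dgB_symm]

theorem XP_dgB {p q : PP n} (hp : 0 < dN dgB p) (hpq : dN dgB p = dN dgB q) : R.XP p = R.XP q := by
  have h1 := dN_pos.1 hp
  have h2 := dN_pos.1 (hpq ▸ hp)
  rcases uniqB (p := p) (q := q) h1 (by rw [← dN_cast h1, ← dN_cast h2, hpq]) with rfl | rfl
  · rfl
  · exact R.XP_symm _ _

theorem pushL (hn : 3 ≤ n) (d : ℕ) (hd : 1 ≤ d) (hld : GradeOf.lgd (dN dgB) (fun p : PP n => p.1 ≠ p.2) d)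
    (hR : d ≠ 5 ^ n + 5 ^ (n - 1)) (x : G) (hx : x ∈ GradeOf.Vd (dN dgB) R.XP d) (hx1 : x ≠ 1) :
    ∃ j, 1 ≤ j ∧ GradeOf.lgd (dN dgB) (fun p : PP n => p.1 ≠ p.2) j ∧
      GradeOf.lgd (dN dgB) (fun p : PP n => p.1 ≠ p.2) (d + j) ∧
      ∃ y ∈ GradeOf.Vd (dN dgB) R.XP j, y * x * y⁻¹ * x⁻¹ ∈ GradeOf.Vd (dN dgB) R.XP (d + j) ∧ y * x ≠ x * y := by
  have hX : ∀ p q : PP n, 0 < dN dgB p → dN dgB p = dN dgB q → R.XP p = R.XP q := by
    intro p q hp hpq
    exact XP_dgB hp hpq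
  have h5n := pow_pos (show (0 : ℤ) < 5 by norm_num) n
  have h5n' := pow_pos (show (0 : ℤ) < 5 by norm_num) (n - 1)
  have hRc : ((5 ^ n + 5 ^ (n - 1) : ℕ) : ℤ) = 5 ^ n + 5 ^ (n - 1) := by push_cast; rfl
  obtain ⟨⟨i, j⟩, hp, rfl, hij⟩ := hld
  simp only at hij
  rw [GradeOf.Vd_eq hX hp, R.XP_ij hij] at hx
  obtain ⟨a, rfl⟩ := hx
  have hp' := dN_pos.1 hp
  have hdj := dj_of_dgB hij hp'
  have hdg : dgB i j = Fd i + Fd j := dgB_ij hij
  have hdN : (dN dgB (i, j) : ℤ) = Fd i + Fd j := by rw [dN_cast hp']; exact hdg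
  have hpos : 0 < Fd i + Fd j := by rw [← hdg]; exact hp'
  obtain ⟨k, hik, hjk, hk⟩ := exists_push hn hdj hpos (by
    intro e
    apply hR
    have : (dN dgB (i, j) : ℤ) = ((5 ^ n + 5 ^ (n - 1) : ℕ) : ℤ) := by rw [hdN, e, hRc]
    exact_mod_cast this)
  have main : ∀ i j : Ix n, Dj i j → Dj i k → Dj j k → 0 < Fd i + Fd j → Fd j < Fd k → R.x i j a ≠ 1 →
      ∃ e, 1 ≤ e ∧ GradeOf.lgd (dN dgB) (fun p : PP n => p.1 ≠ p.2) e ∧
        GradeOf.lgd (dN dgB) (fun p : PP n => p.1 ≠ p.2) (dN dgB (i, j) + e) ∧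
        ∃ y ∈ GradeOf.Vd (dN dgB) R.XP e, y * R.x i j a * y⁻¹ * (R.x i j a)⁻¹ ∈
          GradeOf.Vd (dN dgB) R.XP (dN dgB (i, j) + e) ∧ y * R.x i j a ≠ R.x i j a * y := by
    intro i j hij hik hjk hpos hk hx1
    have hjk' : Dj (neg j) k := dj_neg_left.2 hjk
    have d1 : dgB (neg j) k = -Fd j + Fd k := by rw [dgB_ij hjk'.1, Fd_neg]
    have d2 : dgB i j = Fd i + Fd j := dgB_ij hij.1
    have d3 : dgB i k = Fd i + Fd k := dgB_ij hik.1
    have n1 : (dN dgB (neg j, k) : ℤ) = -Fd j + Fd k := by rw [dN_cast (by simp only; omega)]; exact d1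
    have n2 : (dN dgB (i, j) : ℤ) = Fd i + Fd j := by rw [dN_cast (by simp only; omega)]; exact d2
    have n3 : (dN dgB (i, k) : ℤ) = Fd i + Fd k := by rw [dN_cast (by simp only; omega)]; exact d3
    have n4 : dN dgB (i, j) + dN dgB (neg j, k) = dN dgB (i, k) := by
      have : ((dN dgB (i, j) + dN dgB (neg j, k) : ℕ) : ℤ) = (dN dgB (i, k) : ℤ) := by
        push_cast; rw [n1, n2, n3]; ring
      exact_mod_cast this
    have e1 : R.x (neg j) k 1 * R.x i j a * (R.x (neg j) k 1)⁻¹ * (R.x i j a)⁻¹ = R.x i k a := by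
      have h1 := R.rels.ss i j k a 1 hij hjk hik
      rw [mul_one] at h1
      have h2 : Commute (R.x i k a) (R.x i j a) := R.x_comm (ne_neg i) hik.2 hij.symm.2 hjk.2 _ _
      rw [R.x_inv (neg j), h1, ← h2.eq]; group
    have pk : 0 < dN dgB (neg j, k) := by omega
    have pk' : 0 < dN dgB (i, k) := by omega
    refine ⟨dN dgB (neg j, k), by omega, ⟨(neg j, k), pk, rfl, hjk'.1⟩, ?_, R.x (neg j) k 1, ?_, ?_, ?_⟩
    · rw [n4]; exact ⟨(i, k), pk', rfl, hik.1⟩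
    · rw [GradeOf.Vd_eq hX pk, R.XP_ij hjk'.1]; exact ⟨1, rfl⟩
    · rw [n4, GradeOf.Vd_eq hX pk', R.XP_ij hik.1, e1]; exact ⟨a, rfl⟩
    · intro hc
      have h1 : R.x i k a = 1 := by rw [← e1, hc]; group
      have h2 := R.x_eq_one hik h1
      apply hx1
      rw [h2, R.x_zero]
  rcases hk with hk | hk
  · exact main i j hdj hik hjk hpos hk hx1
  · have h1 := main j i hdj.symm hjk hik (by omega) hk (by rw [R.x_symm]; exact hx1)
    rw [R.x_symm j i, dN_symm j i] at h1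
    exact h1

theorem nmL (hn : 3 ≤ n) (h : DataO R.t R.x R.y W) :
    ∀ x ∈ GradeOf.Vd (dN dgB) R.XP (5 ^ n + 5 ^ (n - 1)), x ≠ 1 → ¬ IsConj R.t (R.t * x) := by
  have hX : ∀ p q : PP n, 0 < dN dgB p → dN dgB p = dN dgB q → R.XP p = R.XP q := by
    intro p q hp hpq
    exact XP_dgB hp hpq
  have h5n := pow_pos (show (0 : ℤ) < 5 by norm_num) n
  have h5n' := pow_pos (show (0 : ℤ) < 5 by norm_num) (n - 1)
  have hRc : ((5 ^ n + 5 ^ (n - 1) : ℕ) : ℤ) = 5 ^ n + 5 ^ (n - 1) := by push_cast; rfl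
  intro x hx hx1
  let k0 : Ix n := Sum.inl ⟨0, by omega⟩
  let k1 : Ix n := Sum.inl ⟨1, by omega⟩
  have h01 : Dj k0 k1 := by
    refine ⟨fun e => ?_, fun e => ?_⟩
    · have := congrArg ex e
      have e0 : ex k0 = n := rfl
      have e1 : ex k1 = n - 1 := rfl
      omega
    · have := congrArg ex e
      rw [ex_neg] at this
      have e0 : ex k0 = n := rfl
      have e1 : ex k1 = n - 1 := rfl
      omega
  have d0 : dgB k0 k1 = 5 ^ n + 5 ^ (n - 1) := dgB_ij h01.1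
  have n0 : dN dgB (k0, k1) = 5 ^ n + 5 ^ (n - 1) := by
    have : (dN dgB (k0, k1) : ℤ) = ((5 ^ n + 5 ^ (n - 1) : ℕ) : ℤ) := by
      rw [dN_cast (by simp only; omega), hRc]; exact d0
    exact_mod_cast this
  have p0 : 0 < dN dgB (k0, k1) := by rw [n0]; positivity
  rw [← n0, GradeOf.Vd_eq hX p0, R.XP_ij h01.1] at hx
  obtain ⟨a, rfl⟩ := hx
  refine h.nm k0 k1 a h01 ?_
  rintro rfl
  exact hx1 (R.x_zero _ _)

/-- **END (O,0)**. -/
theorem exists_hom [Finite G] (hn : 3 ≤ n) (h : DataO R.t R.x R.y W) (he : ∀ i, ∀ w ∈ W i, w * w = 1)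
    (hodd : Odd ((R.UpP ⊔ Subgroup.zpowers R.t).relIndex (Subgroup.centralizer {R.t}))) :
    ∃ m : G →* ℤˣ, m R.t = -1 := by
  refine (h.grdL hn he).exists_hom (fun d hd hld hR x hx hx1 => pushL hn d hd hld hR x hx hx1) ?_ ?_ (h.nmL hn)
  · intro ht
    exact R.t_notMem_K (R.N_XP_le_K dgB ht)
  · rw [R.N_XP_B]; exact hodd

end DataO

end Cfsg.Agent.OddHalf.SpN
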