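import Mathlib
import Cfsg.Agent.OddHalf.SpN.EndL

/-!
# Pattern `{l}` from helper570's structure `DL` (helper200)
-/

set_option autoImplicit false
set_option maxHeartbeats 400000

namespace Cfsg.Agent.OddHalf.SpN

variable {n : ℕ} {F : Type*} [Field F] {G : Type*} [Group G] [CharP F 2] {R : Frame n F G}

theorem exists_root [Finite F] (a : F) : ∃ b : F, b ^ 2 = a := by
  have : Function.Surjective (fun x : F => x ^ 2) := by
    refine Finite.injective_iff_surjective.mp ?_
    intro x y hxy
    have h0 : (x - y) * (x - y) = 0 := by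
      have : x ^ 2 = y ^ 2 := hxy
      linear_combination this - (x * y - y ^ 2) * (two0 : (2 : F) = 0)
    exact sub_eq_zero.mp (mul_self_eq_zero.mp h0)
  exact this a

/-- `DataO` from the long doubles if short root elements are not moved -/
theorem DL.dataO [Finite F] (hn : 3 ≤ n) {γ : F} (D : DL R γ)
    (nm : ∀ i j a, Dj i j → a ≠ 0 → ¬ IsConj R.t (R.t * R.x i j a)) : DataO R.t R.x R.y D.V where
  toRels := R.rels
  yW := D.y_mem
  Wsq := fun i w hw => by
    obtain ⟨u, hu⟩ := D.ht i w hw
    refine D.ker i (w * w) (mul_mem hw hw) ?_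
    have hc : Commute w (R.y i u) := D.cy i w hw u
    calc R.t * (w * w) * R.t = R.t * w * (R.t * R.t)⁻¹ * w * R.t := by rw [R.tt]; group
      _ = (R.t * w * R.t) * (R.t * w * R.t) := by
        have : (R.t * R.t)⁻¹ = R.t * R.t := by rw [R.tt, inv_one]
        rw [this]; group
      _ = w * (R.y i u * w) * R.y i u := by rw [hu]; group
      _ = w * w * (R.y i u * R.y i u) := by rw [← hc.eq]; group
      _ = w * w := by rw [R.y_sq, mul_one]
  Wy := fun i w hw a => D.cy i w hw a
  d := fun i w hw => D.ht i w hw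
  onto := fun i a => D.onto i a
  fix := fun i w hw hf => D.ker i w hw hf
  Wx := fun i j hij w hw a => D.cx i w hw i j a (ne_neg i) hij.symm.2
  Wx' := fun i j k hij hik _ w hw a => D.cx i w hw j k a hij.symm.2 hik.symm.2
  cent := fun i j hij g hg h0 hl _ => R.cent_short hn hij hg h0 hl
  nm := nm
  three := exists_dj hn
  root := exists_root

/-- **pattern `{l}`**, `q ≥ 4`: a homomorphism to `{±1}` with `t ↦ -1`. -/
theorem DL.exists_hom [Finite F] [Finite G] (hn : 3 ≤ n) {γ : F} (D : DL R γ) (hq : 3 ≤ Nat.card F)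
    (nm : ∀ i j a, Dj i j → a ≠ 0 → ¬ IsConj R.t (R.t * R.x i j a))
    (hodd : Odd ((R.UpP ⊔ Subgroup.zpowers R.t).relIndex (Subgroup.centralizer {R.t}))) :
    ∃ m : G →* ℤˣ, m R.t = -1 := by
  have h := D.dataO hn nm
  refine h.exists_hom hn (h.elem (fun i w hw w' hw' => D.comm i w hw w' hw') ?_) hodd
  intro b hb
  -- `b' ∉ {0, b}`
  have := Fintype.ofFinite F
  classical
  obtain ⟨b', hb'⟩ := Finset.exists_mem_notMem_of_card_lt_card (s := ({0, b} : Finset F)) (t := Finset.univ) (by
    refine lt_of_le_of_lt Finset.card_le_two ?_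
    rw [Finset.card_univ, ← Nat.card_eq_fintype_card]; omega)
  have h2 := hb'.2
  rw [Finset.mem_insert, Finset.mem_singleton, not_or] at h2
  refine ⟨b', h2.1, fun e => h2.2 ?_⟩
  have : b' = -b := by linear_combination e
  rw [this, CharTwo.neg_eq]

end Cfsg.Agent.OddHalf.SpN
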