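import Cfsg.Agent.OddHalf.SpN.ShortP

/-!
# ODD D7, `K = Sp_2n(q)`, `q ≥ 4` even, pattern `{s}` (`δ = 1`): the long root groups on the short doubles (helper570)

(6.3) of `blueprints/ODD-D7-Sp-helper297.md`: `DS.y_conj_mem` : `y_j(v) g y_j(v) ∈ g W_ij Y_i` for `g ∈ W_{i,-j}`.
-/

set_option autoImplicit false

namespace Cfsg.Agent.OddHalf.SpN

open scoped commutatorElement

variable {n : ℕ} {F : Type*} [Field F] {G : Type*} [Group G]

namespace Frame

variable [CharP F 2] (R : Frame n F G)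

/-- `y_j(v) x_{i,-j}(u) y_j(v)` -/
theorem y_conj_x {i j : Ix n} (hij : Dj i j) (u v : F) :
    R.y j v * R.x i (neg j) u * R.y j v = R.x i (neg j) u * (R.x i j (u * v) * R.y i (u ^ 2 * v)) := by
  have h := R.y_rel (i := j) (j := i) hij.symm v u
  rw [R.x_symm (neg j) i, R.x_symm j i] at h
  have c1 : Commute (R.x i j (v * u) * R.y i (v * u ^ 2)) (R.x i (neg j) u) := by
    refine Commute.mul_left ?_ (R.y_x_comm (ne_neg i) (fun e => hij.1 (neg_inj.1 e).symm) _ _)
    have h := R.x_comm' (i := j) (j := i) (v * u) u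
    rw [R.x_symm j i, R.x_symm (neg j) i] at h
    exact h
  calc R.y j v * R.x i (neg j) u * R.y j v
      = R.x i j (v * u) * R.y i (v * u ^ 2) * R.x i (neg j) u * (R.y j v * R.y j v) := by rw [h]; group
    _ = _ := by rw [R.y_sq, mul_one, c1.eq, mul_comm v u, mul_comm v (u ^ 2)]

end Frame

namespace DS

variable [CharP F 2] {R : Frame n F G} (D : DS R 1)
include D

/-- the first step of (6.3) -/
theorem y_step (hK : KT R) {i j : Ix n} (hij : Dj i j) {g : G} (hg : g ∈ D.W i (neg j)) (v : F) :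
    ∃ m ∈ D.W i j, ∃ e r s, (e = 1 ∨ e = R.t) ∧
      R.y j v * g * R.y j v = g * (m * R.y i s) * (e * R.x i (neg j) r) := by
  have hij' : Dj i (neg j) := dj_neg_right.2 hij
  have n1 : i ≠ neg j := hij.2
  have n1' : j ≠ neg i := hij.symm.2
  have n4 : i ≠ j := hij.1
  have m4 : neg j ≠ neg i := fun e => hij.1 (neg_inj.1 e).symm
  have nn : ∀ {l : Ix n}, l ≠ j → l ≠ neg (neg j) := fun h e => h (by rw [e, neg_neg])
  obtain ⟨u, hu⟩ := D.ht i (neg j) hij' g hg
  obtain ⟨g2, hg2, hu2⟩ := D.onto i j hij (u * v)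
  set y := R.y j v with hy
  have yy : y * y = 1 := R.y_sq _ _
  -- commutations
  have gyi : ∀ s, Commute g (R.y i s) := fun s => D.cy i (neg j) hij' g hg i s (ne_neg i) (nn n4)
  have g2yi : ∀ s, Commute g2 (R.y i s) := fun s => D.cy i j hij g2 hg2 i s (ne_neg i) n1
  have yyi : ∀ s, Commute y (R.y i s) := fun s => R.y_comm n1 _ _
  have xyi : ∀ s s', Commute (R.x i j s) (R.y i s') := fun s s' => (R.y_x_comm (ne_neg i) n1' _ _).symm
  have x'yi : ∀ s s', Commute (R.x i (neg j) s) (R.y i s') := fun s s' => (R.y_x_comm (ne_neg i) m4 _ _).symm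
  have xx' : ∀ s s', Commute (R.x i j s) (R.x i (neg j) s') := fun s s' => by
    have h := R.x_comm' (i := j) (j := i) s s'
    rw [R.x_symm j i, R.x_symm (neg j) i] at h
    exact h
  have gx' : ∀ s, Commute g (R.x i (neg j) s) := fun s => D.comm i (neg j) hij' g hg _ (D.x_mem i (neg j) s)
  have g2x : ∀ s, Commute g2 (R.x i j s) := fun s => D.comm i j hij g2 hg2 _ (D.x_mem i j s)
  have yx : ∀ s, Commute y (R.x i j s) := fun s => R.y_x_comm n1 (ne_neg j) _ _
  -- `g x_ij(s) = x_ij(s) y_i(us) g`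
  have gx : ∀ s, g * R.x i j s = R.x i j s * R.y i (u * s) * g := by
    intro s
    have h := D.par i (neg j) hij' g hg u hu s
    rw [neg_neg, one_mul] at h
    calc g * R.x i j s = ⁅g, R.x i j s⁆ * R.x i j s * g := by rw [commutatorElement_def]; group
      _ = _ := by rw [h, (xyi s (u * s)).eq]
  have g2x' : ∀ s, g2 * R.x i (neg j) s = R.x i (neg j) s * R.y i (u * v * s) * g2 := by
    intro s
    have h := D.par i j hij g2 hg2 (u * v) hu2 s
    rw [one_mul] at h
    calc g2 * R.x i (neg j) s = ⁅g2, R.x i (neg j) s⁆ * R.x i (neg j) s * g2 := by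
          rw [commutatorElement_def]; group
      _ = _ := by rw [h, (x'yi s (u * v * s)).eq]
  have yx' : ∀ s, y * R.x i (neg j) s = R.x i (neg j) s * (R.x i j (s * v) * R.y i (s ^ 2 * v)) * y := by
    intro s
    rw [← R.y_conj_x hij s v]
    calc y * R.x i (neg j) s = y * R.x i (neg j) s * (y * y) := by rw [yy, mul_one]
      _ = _ := by rw [hy]; group
  -- `c = y g y`
  set c := y * g * y with hc
  have cyi : ∀ s, Commute c (R.y i s) := fun s => ((yyi s).mul_left (gyi s)).mul_left (yyi s)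
  have cx : ∀ s, c * R.x i j s = R.x i j s * R.y i (u * s) * c := by
    intro s
    calc c * R.x i j s = y * g * (y * R.x i j s) := by rw [hc]; group
      _ = y * (g * R.x i j s) * y := by rw [(yx s).eq]; group
      _ = y * (R.x i j s * R.y i (u * s) * g) * y := by rw [gx]
      _ = (y * R.x i j s) * R.y i (u * s) * g * y := by group
      _ = R.x i j s * (y * R.y i (u * s)) * g * y := by rw [(yx s).eq]; group
      _ = R.x i j s * (R.y i (u * s) * y) * g * y := by rw [(yyi _).eq]
      _ = _ := by rw [hc]; group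
  have cx' : ∀ s, c * R.x i (neg j) s = R.x i (neg j) s * R.y i (u * v * s) * c := by
    intro s
    set x := R.x i (neg j) s with hx
    set a := R.x i j (s * v) with ha
    set b := R.y i (s ^ 2 * v) with hb
    have aa : a * a = 1 := R.x_sq _ _ _
    have bb : b * b = 1 := R.y_sq _ _
    have ab : Commute a b := xyi _ _
    have e1 : y * x = x * (a * b) * y := yx' s
    have e0 : Commute g x := gx' s
    have e2 : g * a = a * R.y i (u * v * s) * g := by rw [ha, gx, mul_comm s v, ← mul_assoc]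
    set d := R.y i (u * v * s) with hd
    have bd : Commute b d := R.y_comm (ne_neg i) _ _
    have ad : Commute a d := xyi _ _
    have yd : Commute y d := yyi _
    calc c * x = y * g * (y * x) := by rw [hc]; group
      _ = y * (g * x) * (a * b) * y := by rw [e1]; group
      _ = (y * x) * (g * a) * b * y := by rw [e0.eq]; group
      _ = x * (a * b) * y * (a * d * g) * b * y := by rw [e1, e2]
      _ = x * (a * b) * (y * a) * d * (g * b) * y := by group
      _ = x * (a * b) * (a * y) * d * (b * g) * y := by rw [(yx (s * v)).eq, (gyi (s ^ 2 * v)).eq]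
      _ = x * a * (b * a) * (y * (d * b)) * g * y := by group
      _ = x * a * (a * b) * ((d * b) * y) * g * y := by
          rw [← ab.eq, (yd.mul_right (yyi (s ^ 2 * v))).eq]
      _ = x * (a * a) * (b * d) * b * (y * g * y) := by group
      _ = x * (a * a) * (d * b) * b * (y * g * y) := by rw [bd.eq]
      _ = x * (a * a) * d * (b * b) * (y * g * y) := by group
      _ = x * d * c := by rw [aa, bb, mul_one, mul_one]
  -- `k = (g g₂)⁻¹ c`
  set w := g * g2 with hw
  have wyi : ∀ s, Commute w (R.y i s) := fun s => (gyi s).mul_left (g2yi s)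
  have wx : ∀ s, w * R.x i j s = R.x i j s * R.y i (u * s) * w := by
    intro s
    calc w * R.x i j s = g * (g2 * R.x i j s) := by rw [hw]; group
      _ = (g * R.x i j s) * g2 := by rw [(g2x s).eq]; group
      _ = _ := by rw [gx, hw]; group
  have wx' : ∀ s, w * R.x i (neg j) s = R.x i (neg j) s * R.y i (u * v * s) * w := by
    intro s
    calc w * R.x i (neg j) s = g * (g2 * R.x i (neg j) s) := by rw [hw]; group
      _ = (g * R.x i (neg j) s) * R.y i (u * v * s) * g2 := by rw [g2x']; group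
      _ = R.x i (neg j) s * (g * R.y i (u * v * s)) * g2 := by rw [(gx' s).eq]; group
      _ = _ := by rw [(gyi _).eq, hw]; group
  have key : ∀ {z r : G}, c * z = r * c → w * z = r * w → Commute (w⁻¹ * c) z := by
    intro z r h1 h2
    show w⁻¹ * c * z = z * (w⁻¹ * c)
    calc w⁻¹ * c * z = w⁻¹ * (c * z) := by group
      _ = w⁻¹ * (r * w) * w⁻¹ * c := by rw [h1]; group
      _ = z * (w⁻¹ * c) := by rw [← h2]; group
  have kyi : ∀ s, Commute (w⁻¹ * c) (R.y i s) := fun s => key (cyi s).eq (wyi s).eq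
  have kx : ∀ s, Commute (w⁻¹ * c) (R.x i j s) := fun s => key (cx s) (wx s)
  have kx' : ∀ s, Commute (w⁻¹ * c) (R.x i (neg j) s) := fun s => key (cx' s) (wx' s)
  set z := R.x i (neg j) u * (R.x i j (u * v) * R.y i (u ^ 2 * v)) with hz
  have kz : Commute (w⁻¹ * c) z := (kx' u).mul_right ((kx (u * v)).mul_right (kyi (u ^ 2 * v)))
  have tc : R.t * c * R.t = c * z := by
    rw [hc, R.t_mul, R.t_mul, R.t_of_comm (R.y_t j v), hu]
    calc y * (g * R.x i (neg j) u) * y = y * g * (y * y) * R.x i (neg j) u * y := by rw [yy]; group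
      _ = (y * g * y) * (y * R.x i (neg j) u * y) := by group
      _ = _ := by rw [hz, hy, R.y_conj_x hij u v]
  have tw : R.t * w * R.t = w * z := by
    have e1 : R.x i (neg j) u * g2 = g2 * (R.x i (neg j) u * R.y i (u ^ 2 * v)) := by
      have h := g2x' u
      have c1 : Commute g2 (R.y i (u * v * u)) := g2yi _
      have e2 : u * v * u = u ^ 2 * v := by ring
      rw [e2] at h c1
      calc R.x i (neg j) u * g2
          = R.x i (neg j) u * R.y i (u ^ 2 * v) * g2 * R.y i (u ^ 2 * v) := by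
            calc R.x i (neg j) u * g2 = R.x i (neg j) u * (R.y i (u ^ 2 * v) * R.y i (u ^ 2 * v)) * g2 := by
                  rw [R.y_sq, mul_one]
              _ = R.x i (neg j) u * R.y i (u ^ 2 * v) * (R.y i (u ^ 2 * v) * g2) := by group
              _ = _ := by rw [← c1.eq]; group
        _ = _ := by rw [← h]; group
    rw [hw, R.t_mul, hu, hu2]
    calc g * R.x i (neg j) u * (g2 * R.x i j (u * v))
        = g * (R.x i (neg j) u * g2) * R.x i j (u * v) := by group
      _ = g * g2 * (R.x i (neg j) u * (R.y i (u ^ 2 * v) * R.x i j (u * v))) := by rw [e1]; group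
      _ = _ := by rw [← (xyi _ _).eq]
  have kt : Commute (w⁻¹ * c) R.t := by
    apply R.comm_of_t
    rw [R.t_mul, R.t_inv', tc, tw]
    calc (w * z)⁻¹ * (c * z) = z⁻¹ * ((w⁻¹ * c) * z) := by group
      _ = z⁻¹ * (z * (w⁻¹ * c)) := by rw [kz.eq]
      _ = _ := by group
  have kl : ∀ l s, Dj i l → Commute (w⁻¹ * c) (R.x i l s) := by
    intro l s hl
    by_cases h1 : l = j
    · rw [h1]; exact kx s
    by_cases h2 : l = neg j
    · rw [h2]; exact kx' s
    have l1 : l ≠ neg i := hl.symm.2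
    have a1 : Commute g (R.x i l s) := D.cX hij' hg (ne_neg i) (nn n4) l1 (nn h1) s
    have a2 : Commute g2 (R.x i l s) := D.cX hij hg2 (ne_neg i) n1 l1 h2 s
    have a3 : Commute y (R.x i l s) := R.y_x_comm n1 h2 _ _
    exact ((a1.mul_left a2).inv_left).mul_left ((a3.mul_left a1).mul_left a3)
  have kh : ∀ lam, ev lam i = 1 → ev lam j = 1 → Commute (w⁻¹ * c) (R.h lam) := by
    intro lam l1 l2
    have a1 : Commute g (R.h lam) := Commute.symm (D.torus_one i (neg j) hij' g hg lam (by
      rw [ev_neg, l1, l2, inv_one, one_mul]))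
    have a2 : Commute g2 (R.h lam) := Commute.symm (D.torus_one i j hij g2 hg2 lam (by rw [l1, l2, one_mul]))
    have a3 : Commute y (R.h lam) := by
      have h := R.h_y lam j v
      rw [l2, Units.val_one, one_pow, one_mul, mul_inv_eq_iff_eq_mul] at h
      exact (show Commute (R.h lam) y from h).symm
    exact ((a1.mul_left a2).inv_left).mul_left ((a3.mul_left a1).mul_left a3)
  obtain ⟨e, f, f2, r, he, h⟩ := hK.kQ i j hij _ kt kyi kl kh
  refine ⟨g2 * R.x i j f2, mul_mem hg2 (D.x_mem i j f2), e, r, f, he, ?_⟩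
  have te : ∀ {x : G}, Commute x R.t → Commute x e := fun hx => D.comm_e he hx
  calc c = w * (w⁻¹ * c) := by group
    _ = g * g2 * (e * R.x i j f2) * (R.x i (neg j) r * R.y i f) := by rw [h, hw]; group
    _ = g * g2 * (R.x i j f2 * e) * (R.y i f * R.x i (neg j) r) := by
        rw [(x'yi r f).eq, ← (te (R.x_t i j f2)).eq]
    _ = g * g2 * R.x i j f2 * (e * R.y i f) * R.x i (neg j) r := by group
    _ = g * g2 * R.x i j f2 * (R.y i f * e) * R.x i (neg j) r := by rw [← (te (R.y_t i f)).eq]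
    _ = _ := by group

/-- **(6.3) for `{s}`**: `y_j(v) g y_j(v) ∈ g W_ij Y_i` for `g ∈ W_{i,-j}` -/
theorem y_conj_mem (hF : ∃ μ : Fˣ, (μ : F) ≠ 1) (hK : KT R) {i j : Ix n} (hij : Dj i j) {g : G}
    (hg : g ∈ D.W i (neg j)) (v : F) :
    ∃ m ∈ D.W i j, ∃ s, R.y j v * g * R.y j v = g * (m * R.y i s) := by
  have hij' : Dj i (neg j) := dj_neg_right.2 hij
  have n1 : i ≠ neg j := hij.2
  have n1' : j ≠ neg i := hij.symm.2
  have n4 : i ≠ j := hij.1
  have m4 : neg j ≠ neg i := fun e => hij.1 (neg_inj.1 e).symm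
  have nn : ∀ {l : Ix n}, l ≠ j → l ≠ neg (neg j) := fun h e => h (by rw [e, neg_neg])
  obtain ⟨μ, hμ⟩ := exists_nu hF
  have hμ2 : (μ : F) ^ 2 ≠ 1 := fun h => hμ (by rw [Units.val_mul, ← pow_two, h])
  have hμ1 : (1 : F) + μ ^ 2 ≠ 0 := by
    intro h
    apply hμ2
    have : (μ : F) ^ 2 = -1 := by linear_combination h
    rw [this, CharTwo.neg_eq]
  obtain ⟨lam, l1, l2, -⟩ := exists_lam2 hij μ μ
  set v0 := (1 + (μ : F) ^ 2)⁻¹ * v with hv0
  have hv : v = μ ^ 2 * v0 + v0 := by rw [hv0]; field_simp; ring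
  obtain ⟨m, hm, e, r, s, he, h0⟩ := D.y_step hK hij hg v0
  have l3 : ev lam i * ev lam (neg j) = 1 := by rw [ev_neg, l1, l2, mul_inv_cancel]
  set H := R.h lam with hH
  have Hg : Commute H g := D.torus_one i (neg j) hij' g hg lam l3
  set y0 := R.y j v0 with hy0
  set y1 := R.y j (μ ^ 2 * v0) with hy1
  have Hy : H * y0 * H⁻¹ = y1 := by rw [hH, hy0, R.h_y, l2]
  have y1y1 : y1 * y1 = 1 := R.y_sq _ _
  have hy : R.y j v = y1 * y0 := by rw [hy1, hy0, ← R.y_add, ← hv]
  have hy' : R.y j v = y0 * y1 := by rw [hy1, hy0, ← R.y_add, add_comm, ← hv]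
  set x' := R.x i (neg j) r with hx'
  have te : ∀ {x : G}, Commute x R.t → Commute x e := fun hx => D.comm_e he hx
  have Hs : Commute H (e * x') := (te (R.h_t lam)).mul_right (R.h_comm l3 r)
  set N := m * R.y i s with hN
  have h1 : y1 * g * y1 = g * (H * N * H⁻¹) * (e * x') := by
    calc y1 * g * y1 = (H * y0 * H⁻¹) * g * (H * y0 * H⁻¹) := by rw [Hy]
      _ = H * y0 * H⁻¹ * (g * H) * y0 * H⁻¹ := by group
      _ = H * y0 * H⁻¹ * (H * g) * y0 * H⁻¹ := by rw [Hg.eq]
      _ = H * (y0 * g * y0) * H⁻¹ := by group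
      _ = H * (g * N * (e * x')) * H⁻¹ := by rw [h0]
      _ = (H * g) * N * (e * x') * H⁻¹ := by group
      _ = g * H * N * (H⁻¹ * (H * (e * x'))) * H⁻¹ := by rw [Hg.eq]; group
      _ = g * H * N * (H⁻¹ * ((e * x') * H)) * H⁻¹ := by rw [Hs.eq]
      _ = _ := by group
  -- commutations with `y1`
  have y1m : Commute y1 m := Commute.symm (D.cy i j hij m hm j _ n1' (ne_neg j))
  have y1N : Commute y1 N := y1m.mul_right (R.y_comm n1 _ _)
  have y1e : Commute y1 e := te (R.y_t _ _)
  obtain ⟨p, q, hpq⟩ : ∃ p q, y1 * x' * y1 = x' * (R.x i j p * R.y i q) := ⟨_, _, R.y_conj_x hij r (μ ^ 2 * v0)⟩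
  have hfin : R.y j v * g * R.y j v = g * ((H * N * H⁻¹) * ((e * x') * N * (e * x')) * (R.x i j p * R.y i q)) := by
    calc R.y j v * g * R.y j v = (y1 * y0) * g * (y0 * y1) := by rw [← hy, ← hy', hy]
      _ = y1 * (y0 * g * y0) * y1 := by group
      _ = y1 * (g * N * (e * x')) * y1 := by rw [h0]
      _ = y1 * g * 1 * N * e * 1 * x' * y1 := by group
      _ = y1 * g * (y1 * y1) * N * e * (y1 * y1) * x' * y1 := by rw [y1y1]
      _ = (y1 * g * y1) * (y1 * N) * (e * y1) * (y1 * x' * y1) := by group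
      _ = (y1 * g * y1) * (N * y1) * (y1 * e) * (y1 * x' * y1) := by rw [y1N.eq, y1e.eq]
      _ = (y1 * g * y1) * N * (y1 * y1) * e * (y1 * x' * y1) := by group
      _ = (g * (H * N * H⁻¹) * (e * x')) * N * e * (x' * (R.x i j p * R.y i q)) := by rw [h1, y1y1, mul_one, hpq]
      _ = _ := by group
  -- the subgroup `W_ij Y_i`
  have my : ∀ m ∈ D.W i j, ∀ s, Commute m (R.y i s) := fun m hm s => D.cy i j hij m hm i s (ne_neg i) n1
  let S : Subgroup G :=
    { carrier := {z | ∃ m ∈ D.W i j, ∃ s, z = m * R.y i s}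
      one_mem' := ⟨1, one_mem _, 0, by rw [R.y_zero, mul_one]⟩
      mul_mem' := by
        rintro _ _ ⟨m, hm, s, rfl⟩ ⟨m', hm', s', rfl⟩
        refine ⟨m * m', mul_mem hm hm', s + s', ?_⟩
        rw [R.y_add]
        calc m * R.y i s * (m' * R.y i s') = m * (R.y i s * m') * R.y i s' := by group
          _ = m * (m' * R.y i s) * R.y i s' := by rw [(my m' hm' s).eq]
          _ = _ := by group
      inv_mem' := by
        rintro _ ⟨m, hm, s, rfl⟩
        exact ⟨m⁻¹, inv_mem hm, s, by rw [mul_inv_rev, R.y_inv, (my m hm s).inv_left.eq]⟩ }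
  have mS : ∀ m ∈ D.W i j, m ∈ S := fun m hm => ⟨m, hm, 0, by rw [R.y_zero, mul_one]⟩
  have yS : ∀ s, R.y i s ∈ S := fun s => ⟨1, one_mem _, s, by rw [one_mul]⟩
  have NS : N ∈ S := ⟨m, hm, s, rfl⟩
  have a1 : H * N * H⁻¹ ∈ S := by
    refine ⟨H * m * H⁻¹, D.torus i j hij m hm lam, ev lam i ^ 2 * s, ?_⟩
    calc H * N * H⁻¹ = (H * m * H⁻¹) * (H * R.y i s * H⁻¹) := by rw [hN]; group
      _ = _ := by rw [hH, R.h_y]
  -- `e x'` is an involution normalising `S`
  have x'x' : x' * x' = 1 := R.x_sq _ _ _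
  have xm : ∀ m ∈ D.W i j, x' * m * x' ∈ S := by
    intro m hm
    obtain ⟨u, hu⟩ := D.ht i j hij m hm
    have hp := D.par i j hij m hm u hu r
    refine ⟨m, hm, 1 * u * r, ?_⟩
    have e1 : m * x' = R.y i (1 * u * r) * x' * m := by
      rw [← hp, commutatorElement_def, hx']; group
    have c1 : Commute (R.y i (1 * u * r)) x' := R.y_x_comm (ne_neg i) m4 _ _
    have e2 : R.y i (1 * u * r) * (x' * m * x') = m := by
      have e3 : R.y i (1 * u * r) * x' = x' * R.y i (1 * u * r) := c1.eq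
      calc R.y i (1 * u * r) * (x' * m * x') = (R.y i (1 * u * r) * x' * m) * x' := by group
        _ = m * x' * x' := by rw [e1]
        _ = m := by rw [mul_assoc, x'x', mul_one]
    calc x' * m * x' = (R.y i (1 * u * r) * R.y i (1 * u * r)) * (x' * m * x') := by rw [R.y_sq, one_mul]
      _ = R.y i (1 * u * r) * m := by rw [mul_assoc, e2]
      _ = _ := (my m hm _).symm.eq
  have a2 : (e * x') * N * (e * x') ∈ S := by
    have e1 : (e * x') * N * (e * x') = e * (x' * N * x') * e := by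
      have : e * x' = x' * e := ((te (R.x_t i (neg j) r)).eq).symm
      calc (e * x') * N * (e * x') = (e * x') * N * (x' * e) := by rw [this]
        _ = _ := by group
    rw [e1]
    have b1 : x' * N * x' ∈ S := by
      have : x' * N * x' = (x' * m * x') * (x' * R.y i s * x') := by
        calc x' * N * x' = x' * m * 1 * R.y i s * x' := by rw [hN]; group
          _ = x' * m * (x' * x') * R.y i s * x' := by rw [x'x']
          _ = _ := by group
      rw [this]
      refine mul_mem (xm m hm) ?_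
      have c1 : Commute x' (R.y i s) := (R.y_x_comm (ne_neg i) m4 _ _).symm
      rw [c1.eq, mul_assoc, x'x', mul_one]; exact yS s
    obtain ⟨m', hm', s', hms⟩ := b1
    rw [hms]
    rcases he with rfl | rfl
    · rw [one_mul, mul_one]; exact ⟨m', hm', s', rfl⟩
    · rw [R.t_mul, R.t_of_comm (R.y_t i s')]
      exact ⟨_, D.t_mem hij hm', s', rfl⟩
  have a3 := mul_mem (mul_mem a1 a2) (mul_mem (mS _ (D.x_mem i j p)) (yS q))
  obtain ⟨m', hm', s', h'⟩ := a3
  exact ⟨m', hm', s', by rw [hfin, h']⟩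

end DS

end Cfsg.Agent.OddHalf.SpN
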