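import Mathlib
import Cfsg.Agent.OddHalf.SpN.EndS
import Cfsg.Agent.OddHalf.SpN.OfDL
import Cfsg.Agent.OddHalf.SpN.ShortY
import Cfsg.Agent.OddHalf.SpN.KInst
import Cfsg.Agent.OddHalf.SpN.SylU

/-!
# Patterns `{l}` and `{s}` in the clean case, `q ≥ 4` (helper200)
-/

set_option autoImplicit false
set_option maxHeartbeats 400000

namespace Cfsg.Agent.OddHalf.SpN

open scoped commutatorElement

variable {n : ℕ} {F : Type*} [Field F] {G : Type*} [Group G] [CharP F 2] {R : Frame n F G}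

/-- the two descriptions of the positive unipotent group -/
theorem UpP_eq (R : Frame n F G) : R.UpP = R.Up := by
  rw [R.Up_eq_closure]
  apply le_antisymm
  · refine iSup₂_le ?_
    rintro ⟨i, j⟩ hr
    simp only at hr
    by_cases hij : i = j
    · subst hij
      rw [R.XP_ii]
      rintro _ ⟨a, rfl⟩
      exact Subgroup.subset_closure (Or.inr ⟨i, by omega, a, rfl⟩)
    · rw [R.XP_ij hij]
      rintro _ ⟨a, rfl⟩
      exact Subgroup.subset_closure (Or.inl ⟨i, j, dj_of_dgC hij hr, hr, a, rfl⟩)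
  · rw [Subgroup.closure_le]
    rintro _ (⟨i, j, hij, h, a, rfl⟩ | ⟨i, h, a, rfl⟩)
    · exact le_iSupP (V := R.XP) (r := (i, j)) (S := fun q : PP n => 0 < Fd q.1 + Fd q.2) h (by
        rw [R.XP_ij hij.1]; exact ⟨a, rfl⟩)
    · exact le_iSupP (V := R.XP) (r := (i, i)) (S := fun q : PP n => 0 < Fd q.1 + Fd q.2) (by simp only; omega) (by
        rw [R.XP_ii]; exact ⟨a, rfl⟩)

/-- (3.2): if long root elements are not moved then `δ = 1`. -/
theorem DS.delta_eq_one {δ : F} (D : DS R δ) {i j : Ix n} (hij : Dj i j)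
    (nm : ∀ i a, a ≠ 0 → ¬ IsConj R.t (R.t * R.y i a)) : δ = 1 := by
  by_contra hne
  have hδ : 1 + δ ≠ 0 := by
    intro h
    apply hne
    have : δ = -1 := by linear_combination h
    rw [this, CharTwo.neg_eq]
  have hij' : Dj i (neg j) := dj_neg_right.2 hij
  obtain ⟨w, hw, hwt⟩ := D.onto i j hij 1
  obtain ⟨w', hw', hwt'⟩ := D.onto i (neg j) hij' 1
  set g := R.y (neg j) 1 with hg
  have gg : g * g = 1 := R.y_sq _ _
  have ginv : g⁻¹ = g := inv_eq_of_mul_eq_one_left gg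
  have tg : Commute R.t g := (R.y_t _ _).symm
  have ti := R.t_inv
  -- `g x_ij(1) g = x_ij(1) x_{i,-j}(1) y_i(1)`
  have gx : g * R.x i j 1 * g = R.x i j 1 * R.x i (neg j) 1 * R.y i 1 := by
    have h1 := R.rels.sl (neg j) i 1 1 (dj_neg_left.2 hij.symm)
    rw [neg_neg, mul_one, one_pow, mul_one] at h1
    -- `x_{j,i} y_{-j} x_{j,i} = y_{-j} x_{-j,i} y_i`
    rw [R.x_symm j i, R.x_symm (neg j) i, ← hg] at h1
    have h2 : R.x i j 1 * R.x i j 1 = 1 := R.x_sq _ _ _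
    calc g * R.x i j 1 * g = g * (R.x i j 1 * g * R.x i j 1) * R.x i j 1 := by
          calc g * R.x i j 1 * g = g * R.x i j 1 * g * (R.x i j 1 * R.x i j 1) := by rw [h2, mul_one]
            _ = _ := by group
      _ = (g * g) * R.x i (neg j) 1 * (R.y i 1 * R.x i j 1) := by rw [h1]; group
      _ = R.x i (neg j) 1 * (R.x i j 1 * R.y i 1) := by
        rw [gg, one_mul, (R.y_x_comm (ne_neg i) hij.symm.2 1 1).eq]
      _ = _ := by
        have h3 := R.rels.xx' i j 1 1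
        rw [← mul_assoc, ← h3.eq]
  set u := g * w * g with hu
  have tu : R.t * u * R.t = u * (R.x i j 1 * R.x i (neg j) 1 * R.y i 1) := by
    have tgt : R.t * g * R.t = g := R.t_of_comm tg.symm
    calc R.t * (g * w * g) * R.t = (R.t * g * R.t) * (R.t * w * R.t) * (R.t * g * R.t) := by rw [R.t_mul, R.t_mul]
      _ = g * w * (g * g) * R.x i j 1 * g := by rw [tgt, hwt, gg]; group
      _ = (g * w * g) * (g * R.x i j 1 * g) := by group
      _ = _ := by rw [gx]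
  have t_of : ∀ v z : G, R.t * v * R.t = v * z → v⁻¹ * R.t * v = z * R.t := by
    intro v z hv
    calc v⁻¹ * R.t * v = v⁻¹ * (R.t * v * R.t) * R.t⁻¹ := by group
      _ = z * R.t := by rw [hv, ti]; group
  have e1 := t_of _ _ tu
  have e2 := t_of _ _ hwt
  have e3 := t_of _ _ hwt'
  have e4 := D.par i (neg j) hij' w' hw' 1 hwt' 1
  rw [neg_neg, mul_one, mul_one] at e4
  -- `w'⁻¹ x_ij(1) w' = x_ij(1) y_i(δ)`
  have hy : Commute w' (R.y i δ) := D.cy i (neg j) hij' w' hw' i δ (ne_neg i) (by rw [neg_neg]; exact hij.1)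
  have hyx : Commute (R.y i δ) (R.x i j 1) := R.y_x_comm (ne_neg i) hij.symm.2 _ _
  have e5 : w'⁻¹ * R.x i j 1 * w' = R.x i j 1 * R.y i δ := by
    rw [commutatorElement_def] at e4
    have h1 : w' * R.x i j 1 * w'⁻¹ = R.y i δ * R.x i j 1 := by rw [← e4]; group
    have h2 : R.x i j 1 = w'⁻¹ * R.y i δ * w' * (w'⁻¹ * R.x i j 1 * w') := by
      calc R.x i j 1 = w'⁻¹ * (w' * R.x i j 1 * w'⁻¹) * w' := by group
        _ = _ := by rw [h1]; group
    have h3 : w'⁻¹ * R.y i δ * w' = R.y i δ := by rw [mul_assoc, ← hy.eq]; group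
    rw [h3] at h2
    calc w'⁻¹ * R.x i j 1 * w' = R.y i δ * (R.y i δ * (w'⁻¹ * R.x i j 1 * w')) := by
          rw [← mul_assoc, R.y_sq, one_mul]
      _ = R.x i j 1 * R.y i δ := by rw [← h2, hyx.eq]
  have ux : ∀ a, Commute u (R.y i a) := by
    intro a
    have c1 : Commute g (R.y i a) := R.y_comm (by rw [neg_neg]; exact hij.1) _ _
    have c2 : Commute w (R.y i a) := D.cy i j hij w hw i a (ne_neg i) hij.2
    exact (c1.mul_left c2).mul_left c1
  have e6 : (w * w')⁻¹ * R.t * (w * w') = (u⁻¹ * R.t * u) * R.y i (1 + δ) := by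
    have c1 : Commute (R.y i δ) (R.x i (neg j) 1) := R.y_x_comm (ne_neg i) hij'.symm.2 _ _
    have c2 : Commute R.t (R.y i (1 + δ)) := (R.y_t _ _).symm
    rw [e1]
    calc (w * w')⁻¹ * R.t * (w * w') = w'⁻¹ * (w⁻¹ * R.t * w) * w' := by group
      _ = (w'⁻¹ * R.x i j 1 * w') * (w'⁻¹ * R.t * w') := by rw [e2]; group
      _ = R.x i j 1 * (R.y i δ * R.x i (neg j) 1) * R.t := by rw [e5, e3]; group
      _ = R.x i j 1 * R.x i (neg j) 1 * R.y i δ * R.t := by rw [c1.eq]; group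
      _ = R.x i j 1 * R.x i (neg j) 1 * (R.y i 1 * R.y i (1 + δ)) * R.t := by
        rw [← R.y_add, ← add_assoc, CharTwo.add_self_eq_zero, zero_add]
      _ = R.x i j 1 * R.x i (neg j) 1 * R.y i 1 * (R.y i (1 + δ) * R.t) := by group
      _ = _ := by rw [← c2.eq]; group
  refine nm i (1 + δ) hδ ?_
  rw [isConj_iff]
  refine ⟨u * (w * w')⁻¹, ?_⟩
  calc u * (w * w')⁻¹ * R.t * (u * (w * w')⁻¹)⁻¹ = u * ((w * w')⁻¹ * R.t * (w * w')) * u⁻¹ := by group
    _ = u * ((u⁻¹ * R.t * u) * R.y i (1 + δ)) * u⁻¹ := by rw [e6]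
    _ = R.t * (u * R.y i (1 + δ) * u⁻¹) := by group
    _ = R.t * R.y i (1 + δ) := by rw [(ux _).eq]; group

/-- the relations of pattern `{s}`, `q ≥ 4` -/
theorem DS.dataSE [Finite F] (hn : 3 ≤ n) (hF : ∃ μ : Fˣ, (μ : F) ≠ 1) (D : DS R (1 : F))
    (nm : ∀ i a, a ≠ 0 → ¬ IsConj R.t (R.t * R.y i a)) : DataSE R D.W where
  symm := D.symm
  xW := fun i j _ a => D.x_mem i j a
  sq := fun i k hik w hw => by
    obtain ⟨j, hij, hkj⟩ := exists_dj hn i k
    exact D.sq hF (R.ks hn hF) hij hik hkj.symm hw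
  d := fun i j hij w hw => D.ht i j hij w hw
  onto := fun i j hij a => D.onto i j hij a
  fix := fun i j hij w hw hf => D.ker i j hij w hw hf
  cy := fun i j k hij h1 h2 w hw a => D.cy i j hij w hw k a h1 h2
  w60 := fun i j k hij hik hjk w hw w' hw' => D.comm60 hF (R.kt hn hF) hij hik hjk hw hw'
  w90 := fun i j k l hij hik hil hjk hjl hkl w hw w' hw' => D.comm90 hF (R.kt hn hF) hij hik hil hjk hjl hkl hw hw'
  par := fun i j hij w hw w' hw' => by
    obtain ⟨k, hik, hjk⟩ := exists_dj hn i j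
    exact D.par_mem hF (R.kt hn hF) hij hik hjk hw hw'
  w120 := fun i j k hij hik hjk w hw w' hw' => D.mem120 hF (R.kt hn hF) hij hik hjk hw hw'
  yw := fun i j hij w hw v => by
    obtain ⟨m, hm, s, h⟩ := D.y_conj_mem hF (R.kt hn hF) hij hw v
    exact ⟨m, hm, s, by rw [h]; group⟩
  nm := nm

/-- **pattern `{s}`**, `q ≥ 4`. -/
theorem DS.exists_hom [Finite F] [Finite G] (hn : 3 ≤ n) (hF : ∃ μ : Fˣ, (μ : F) ≠ 1) {δ : F} (D : DS R δ)
    (nm : ∀ i a, a ≠ 0 → ¬ IsConj R.t (R.t * R.y i a))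
    (hodd : Odd ((R.Up ⊔ Subgroup.zpowers R.t).relIndex (Subgroup.centralizer {R.t}))) :
    ∃ m : G →* ℤˣ, m R.t = -1 := by
  obtain ⟨j, hj, -⟩ := exists_dj hn (Sum.inl ⟨0, by omega⟩ : Ix n) (Sum.inl ⟨0, by omega⟩)
  have hδ := D.delta_eq_one hj nm
  subst hδ
  rw [← UpP_eq] at hodd
  exact (D.dataSE hn hF nm).exists_hom hodd

/-- clean case, `{l}` -/
theorem CFrame.exists_hom_l [Finite F] [Finite G] (R : CFrame n F G) (hn : 3 ≤ n) (hq : 3 ≤ Nat.card F) {γ : F}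
    (D : DL R.toFrame γ) (nm : ∀ i j a, Dj i j → a ≠ 0 → ¬ IsConj R.t (R.t * R.x i j a)) :
    ∃ m : G →* ℤˣ, m R.t = -1 := by
  refine D.exists_hom hn hq nm ?_
  rw [UpP_eq]
  exact R.odd_cent

/-- clean case, `{s}` -/
theorem CFrame.exists_hom_s [Finite F] [Finite G] (R : CFrame n F G) (hn : 3 ≤ n) (hF : ∃ μ : Fˣ, (μ : F) ≠ 1) {δ : F}
    (D : DS R.toFrame δ) (nm : ∀ i a, a ≠ 0 → ¬ IsConj R.t (R.t * R.y i a)) :
    ∃ m : G →* ℤˣ, m R.t = -1 := D.exists_hom hn hF nm R.odd_cent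

end Cfsg.Agent.OddHalf.SpN
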