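import Cfsg.Agent.OddHalf.SpN.TU

/-!
# ODD D7, `K = Sp_2n(q)`, `q` even: `T₁ = ⟨t⟩ U` (helper297)

* `Uu_comm_sy`, `Uu_comm_sx` : `Y_1`, `X_12` are central in `U = Uu n F` (`TU.lean`);
* `R.T1` : `⟨t⟩ U`, `R.ι_mem_T1_iff`, `R.T1_t`, `R.h_T1`, `R.T1_pgroup`.
-/

set_option autoImplicit false

namespace Cfsg.Agent.OddHalf.SpN

open Cfsg Cfsg.Agent.ClassicalGeometry.SympBasic Cfsg.Agent.ClassicalGeometry.SympAutSemi
open scoped Matrix commutatorElement
open Subgroup TU

variable {n : ℕ} {F : Type*} [Field F]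

section mat

variable [CharP F 2]

/-- `Y_1` is central in `U` -/
theorem Uu_comm_sy {A : Sy n F} (hA : A ∈ Uu n F) {i : Ix n} (hi : pos i = 0) (a : F) : Commute A (sy i a) := by
  have hrow : ∀ v, rho n F A v (neg i) = v (neg i) := by
    intro v
    rw [rho_eq_sum, Finset.sum_eq_single (neg i)]
    · rw [Uu_diag hA, mul_one]
    · intro k _ hk
      rw [Uu_zero hA, mul_zero]
      rcases lt_or_ge (pos k) (pos (neg i)) with h | h
      · exact h
      · exfalso; apply hk
        apply pos_inj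
        have := pos_lt k
        rw [pos_neg] at h ⊢
        omega
    · intro h; exact absurd (Finset.mem_univ _) h
  have hcol : rho n F A (be n F i) = be n F i := by
    ext l
    rw [be_apply]
    exact hA l i (by omega)
  apply rho_injective
  ext v l
  rw [map_mul, map_mul, Equiv.Perm.mul_apply, Equiv.Perm.mul_apply, rho_sy, rho_sy, rho_add, rho_smul, hcol, hrow]

/-- `X_12` is central in `U` -/
theorem Uu_comm_sx {A : Sy n F} (hA : A ∈ Uu n F) {i j : Ix n} (hi : pos i = 0) (hj : pos j = 1) (hd : Dj i j)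
    (a : F) : Commute A (sx i j a) := by
  have hn : 2 ≤ n := by
    by_contra h
    have h1 := pos_lt i
    have h2 := pos_lt (neg j)
    apply hd.2
    apply pos_inj
    rw [pos_neg]; omega
  have hrow : ∀ v, rho n F A v (neg i) = v (neg i) := by
    intro v
    rw [rho_eq_sum, Finset.sum_eq_single (neg i)]
    · rw [Uu_diag hA, mul_one]
    · intro k _ hk
      rw [Uu_zero hA, mul_zero]
      rcases lt_or_ge (pos k) (pos (neg i)) with h | h
      · exact h
      · exfalso; apply hk
        apply pos_inj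
        have := pos_lt k
        rw [pos_neg] at h ⊢
        omega
    · intro h; exact absurd (Finset.mem_univ _) h
  have hne : neg i ≠ neg j := fun e => hd.1 (neg_inj.mp e)
  have hrow' : ∀ v, rho n F A v (neg j) = v (neg j) + v (neg i) * ent A (neg j) (neg i) := by
    intro v
    rw [rho_eq_sum, ← Finset.sum_subset (Finset.subset_univ ({neg j, neg i} : Finset (Ix n))),
      Finset.sum_pair hne.symm, Uu_diag hA, mul_one]
    intro k _ hk
    rw [Finset.mem_insert, Finset.mem_singleton, not_or] at hk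
    rw [Uu_zero hA, mul_zero]
    rcases lt_or_ge (pos k) (pos (neg j)) with h | h
    · exact h
    · exfalso
      have h1 := pos_lt k
      rw [pos_neg] at h
      rcases Nat.lt_or_ge (pos k) (2 * n - 1) with h2 | h2
      · apply hk.1; apply pos_inj; rw [pos_neg]; omega
      · apply hk.2; apply pos_inj; rw [pos_neg]; omega
  have hcol : rho n F A (be n F i) = be n F i := by
    ext l
    rw [be_apply]
    exact hA l i (by omega)
  have hcol' : rho n F A (be n F j) = be n F j + ent A i j • be n F i := by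
    ext l
    rw [Pi.add_apply, Pi.smul_apply, be_apply, be_apply, smul_eq_mul]
    show ent A l j = _
    by_cases h1 : l = i
    · subst h1
      rw [if_neg hd.1, if_pos rfl]; ring
    · rw [if_neg h1, hA l j (by
        have : pos l ≠ 0 := fun e => h1 (pos_inj (by omega))
        omega)]
      ring
  have hc : ent A (neg j) (neg i) = ent A i j := by
    rw [← ent_inv]
    -- `A⁻¹ e_j = e_j + c e_i`
    have hI := inv_mem hA
    have e1 : ent (A⁻¹ * A) i j = 0 := by rw [inv_mul_cancel, ent_one, if_neg hd.1]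
    rw [ent_mul, ← Finset.sum_subset (Finset.subset_univ ({i, j} : Finset (Ix n))), Finset.sum_pair hd.1,
      Uu_diag hI, Uu_diag hA] at e1
    · linear_combination e1 - ent A i j * (two0 : (2 : F) = 0)
    · intro k _ hk
      rw [Finset.mem_insert, Finset.mem_singleton, not_or] at hk
      rw [Uu_zero hA, mul_zero]
      have h1 : pos k ≠ 0 := fun e => hk.1 (pos_inj (by omega))
      have h2 : pos k ≠ 1 := fun e => hk.2 (pos_inj (by omega))
      omega
  apply rho_injective
  ext v l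
  rw [map_mul, map_mul, Equiv.Perm.mul_apply, Equiv.Perm.mul_apply, rho_sx hd, rho_sx hd, rho_add, rho_add, rho_smul,
    rho_smul, hcol, hcol', hrow, hrow', hc]
  simp only [Pi.add_apply, Pi.smul_apply, smul_eq_mul]
  ring

end mat

namespace Frame

variable {G : Type*} [Group G] (R : Frame n F G) [CharP F 2]

/-- `T₁ = ⟨t⟩ U` -/
def T1 : Subgroup G where
  carrier := {g | ∃ A ∈ Uu n F, g = R.ι A ∨ g = R.t * R.ι A}
  one_mem' := ⟨1, one_mem _, Or.inl (map_one _).symm⟩
  mul_mem' := by
    rintro a b ⟨A, hA, ha⟩ ⟨B, hB, hb⟩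
    refine ⟨A * B, mul_mem hA hB, ?_⟩
    have e := (R.comm A).eq
    rcases ha with rfl | rfl <;> rcases hb with rfl | rfl
    · left; rw [map_mul]
    · right; rw [map_mul, ← mul_assoc, e, mul_assoc]
    · right; rw [map_mul, mul_assoc]
    · left
      rw [map_mul]
      calc R.t * R.ι A * (R.t * R.ι B) = R.t * (R.ι A * R.t) * R.ι B := by group
        _ = (R.t * R.t) * R.ι A * R.ι B := by rw [e]; group
        _ = _ := by rw [R.tt, one_mul]
  inv_mem' := by
    rintro a ⟨A, hA, ha⟩
    refine ⟨A⁻¹, inv_mem hA, ?_⟩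
    rcases ha with rfl | rfl
    · left; rw [map_inv]
    · right
      have e := ((R.comm A).inv_left).eq
      rw [mul_inv_rev, R.t_inv, map_inv, e]

theorem mem_T1 {g : G} : g ∈ R.T1 ↔ ∃ A ∈ Uu n F, g = R.ι A ∨ g = R.t * R.ι A := Iff.rfl

theorem ι_mem_T1 {A : Sy n F} (hA : A ∈ Uu n F) : R.ι A ∈ R.T1 := ⟨A, hA, Or.inl rfl⟩

theorem t_mem_T1 : R.t ∈ R.T1 := ⟨1, one_mem _, Or.inr (by rw [map_one, mul_one])⟩

/-- `K ∩ T₁ = U` -/
theorem ι_mem_T1_iff {A : Sy n F} : R.ι A ∈ R.T1 ↔ A ∈ Uu n F := by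
  constructor
  · rintro ⟨B, hB, h | h⟩
    · rwa [R.inj h]
    · exfalso
      apply R.tK (A * B⁻¹)
      rw [map_mul, map_inv, h]; group
  · exact R.ι_mem_T1

theorem T1_t {g : G} (hg : g ∈ R.T1) : g * R.t = R.t * g := by
  obtain ⟨A, -, h | h⟩ := hg
  · rw [h]; exact R.comm A
  · rw [h, mul_assoc, (R.comm A).eq]

theorem h_T1 (lam : Fin n → Fˣ) : R.h lam ∈ normalizer (R.T1 : Set G) := by
  have key : ∀ lam : Fin n → Fˣ, ∀ g ∈ R.T1, R.h lam * g * (R.h lam)⁻¹ ∈ R.T1 := by
    rintro lam g ⟨A, hA, h⟩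
    refine ⟨sh lam * A * (sh lam)⁻¹, ?_, ?_⟩
    · exact sh_norm lam hA
    · rcases h with rfl | rfl
      · left
        rw [map_mul, map_mul, map_inv]; rfl
      · right
        have e := (R.h_t lam).eq
        rw [map_mul, map_mul, map_inv]
        calc R.h lam * (R.t * R.ι A) * (R.h lam)⁻¹ = (R.h lam * R.t) * R.ι A * (R.h lam)⁻¹ := by group
          _ = R.t * (R.h lam * R.ι A * (R.h lam)⁻¹) := by rw [e]; group
  rw [mem_normalizer_iff]
  intro g
  refine ⟨key lam g, fun h => ?_⟩
  have := key lam⁻¹ _ h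
  rw [map_inv] at this
  have e : (R.h lam)⁻¹ * (R.h lam * g * (R.h lam)⁻¹) * (R.h lam)⁻¹⁻¹ = g := by group
  rwa [e] at this

theorem T1_pgroup : IsPGroup 2 R.T1 := by
  rintro ⟨g, A, hA, h⟩
  obtain ⟨k, hk⟩ := Uu_isPGroup (⟨A, hA⟩ : Uu n F)
  have hk' : A ^ 2 ^ k = 1 := congrArg Subtype.val hk
  refine ⟨k + 1, Subtype.ext ?_⟩
  have h1 : g ^ 2 ^ (k + 1) = 1 := by
    rw [pow_succ, pow_mul]
    rcases h with rfl | rfl
    · rw [← map_pow, hk', map_one, one_pow]
    · rw [((R.comm A).symm).mul_pow, ← map_pow, hk', map_one, mul_one, ← pow_mul, mul_comm, pow_mul, pow_two, R.tt,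
        one_pow]
  exact h1

end Frame

end Cfsg.Agent.OddHalf.SpN
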