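import Mathlib
import Cfsg.Agent.OddHalf.SpN.SylU
import Cfsg.Agent.OddHalf.SpN.WT1
import Cfsg.Agent.OddHalf.Out.Exclude

/-!
# ODD D7, `K = Sp_2n(q)`: the outer 2-part, definitions (helper859)

`R : Frame n F G` (general: `C(t)` induces field automorphisms on `K`).

* `R.Sem y σ lam` : `y ∈ C(t)` acts on the frame as `diag(lam) ∘ σ`;
* `R.OutT T` : `T` is a maximal 2-subgroup of `C(t)` containing `U = R.Up`; `T / U` abelian; every element of `T` is a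
  product of an element of `T` with `Sem` and an element of `U`;
* `OutT.D` : the subgroup of the `y ∈ T` with `Sem`; `T = D U`;
* `OutT.field` : `y ∈ D`, `y² ∈ U`, `y ∉ U`, `t y ∉ U`: then `σ² = 1 ≠ σ`;
* `OutT.fr` : the frame `Out.Exclude.Fr t T U U*` for every 2-group `U*` normalised by `T` with `C_{U*}(t) = U`.
-/

set_option autoImplicit false

namespace Cfsg.Agent.OddHalf.SpN

open Cfsg.Agent.OddHalf.SpN.TU

variable {n : ℕ} {F : Type*} [Field F] {G : Type*} [Group G]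

/-- a field automorphism on the torus -/
def fm (σ : F ≃+* F) (lam : Fin n → Fˣ) : Fin n → Fˣ := fun k => Units.map (σ : F →* F) (lam k)

theorem ev_fm (σ : F ≃+* F) (lam : Fin n → Fˣ) (i : Ix n) : ((ev (fm σ lam) i : Fˣ) : F) = σ (ev lam i) := by
  rcases i with i | i
  · rfl
  · simp [ev, fm]

theorem ev_mul (lam mu : Fin n → Fˣ) (i : Ix n) : ev (lam * mu) i = ev lam i * ev mu i := by
  rcases i with i | i
  · rfl
  · simp [ev, mul_comm]

theorem ev_one_fun (i : Ix n) : ev (1 : Fin n → Fˣ) i = 1 := by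
  rcases i with i | i <;> simp [ev]

theorem ev_inv_fun (lam : Fin n → Fˣ) (i : Ix n) : ev lam⁻¹ i = (ev lam i)⁻¹ := by
  rcases i with i | i <;> simp [ev]

namespace Frame

variable (R : Frame n F G)

/-- `y ∈ C(t)` acts on the frame as `diag(lam) ∘ σ` -/
structure Sem (y : G) (σ : F ≃+* F) (lam : Fin n → Fˣ) : Prop where
  yt : Commute y R.t
  yx : ∀ i j, Dj i j → ∀ a, y * R.x i j a * y⁻¹ = R.x i j (ev lam i * ev lam j * σ a)
  yy : ∀ i a, y * R.y i a * y⁻¹ = R.y i ((ev lam i : F) ^ 2 * σ a)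
  yh : ∀ mu : Fin n → Fˣ, y * R.h mu * y⁻¹ = R.h (fm σ mu)

variable {R}

theorem Sem.one : R.Sem 1 1 1 where
  yt := Commute.one_left _
  yx := fun i j _ a => by rw [ev_one_fun, ev_one_fun]; simp
  yy := fun i a => by rw [ev_one_fun]; simp
  yh := fun mu => by
    have : fm (1 : F ≃+* F) mu = mu := by ext k; rfl
    rw [this]; group

theorem Sem.mul {y z : G} {σ τ : F ≃+* F} {lam mu : Fin n → Fˣ} (hy : R.Sem y σ lam) (hz : R.Sem z τ mu) :
    R.Sem (y * z) (σ * τ) (lam * fm σ mu) where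
  yt := hy.yt.mul_left hz.yt
  yx := fun i j hij a => by
    have e : y * z * R.x i j a * (y * z)⁻¹ = y * (z * R.x i j a * z⁻¹) * y⁻¹ := by group
    rw [e, hz.yx i j hij, hy.yx i j hij, ev_mul, ev_mul, Units.val_mul, Units.val_mul, ev_fm, ev_fm, map_mul, map_mul]
    congr 1
    change _ = _ * σ (τ a)
    ring
  yy := fun i a => by
    have e : y * z * R.y i a * (y * z)⁻¹ = y * (z * R.y i a * z⁻¹) * y⁻¹ := by group
    rw [e, hz.yy i, hy.yy i, ev_mul, Units.val_mul, ev_fm, map_mul, map_pow]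
    congr 1
    change _ = _ * σ (τ a)
    ring
  yh := fun nu => by
    have e : y * z * R.h nu * (y * z)⁻¹ = y * (z * R.h nu * z⁻¹) * y⁻¹ := by group
    rw [e, hz.yh, hy.yh]
    rfl

theorem Sem.inv {y : G} {σ : F ≃+* F} {lam : Fin n → Fˣ} (hy : R.Sem y σ lam) :
    R.Sem y⁻¹ σ⁻¹ (fm σ⁻¹ lam⁻¹) where
  yt := hy.yt.inv_left
  yx := fun i j hij a => by
    have h1 := hy.yx i j hij (ev (fm σ⁻¹ lam⁻¹) i * ev (fm σ⁻¹ lam⁻¹) j * (σ⁻¹ : F ≃+* F) a)
    rw [map_mul, map_mul, ev_fm, ev_fm] at h1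
    have hs : ∀ c : F, σ ((σ⁻¹ : F ≃+* F) c) = c := fun c => σ.apply_symm_apply c
    rw [hs, hs, hs, ev_inv_fun, ev_inv_fun, Units.val_inv_eq_inv_val, Units.val_inv_eq_inv_val] at h1
    have e : (ev lam i : F) * ev lam j * (((ev lam i : Fˣ) : F)⁻¹ * ((ev lam j : Fˣ) : F)⁻¹ * a) = a := by
      have h2 := (ev lam i).ne_zero
      have h3 := (ev lam j).ne_zero
      field_simp
    rw [e] at h1
    rw [ev_fm, ev_fm, ← h1]
    have h2 : ∀ c : G, y⁻¹ * (y * c * y⁻¹) * y⁻¹⁻¹ = c := fun c => by group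
    rw [h2, ev_inv_fun, ev_inv_fun, Units.val_inv_eq_inv_val, Units.val_inv_eq_inv_val]
  yy := fun i a => by
    have h1 := hy.yy i ((ev (fm σ⁻¹ lam⁻¹) i : F) ^ 2 * (σ⁻¹ : F ≃+* F) a)
    rw [map_mul, map_pow, ev_fm] at h1
    have hs : ∀ c : F, σ ((σ⁻¹ : F ≃+* F) c) = c := fun c => σ.apply_symm_apply c
    rw [hs, hs, ev_inv_fun, Units.val_inv_eq_inv_val] at h1
    have e : (ev lam i : F) ^ 2 * (((ev lam i : Fˣ) : F)⁻¹ ^ 2 * a) = a := by
      have h2 := (ev lam i).ne_zero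
      field_simp
    rw [e] at h1
    rw [ev_fm, ← h1]
    have h2 : ∀ c : G, y⁻¹ * (y * c * y⁻¹) * y⁻¹⁻¹ = c := fun c => by group
    rw [h2, ev_inv_fun, Units.val_inv_eq_inv_val]
  yh := fun mu => by
    have h1 := hy.yh (fm σ⁻¹ mu)
    have e : fm σ (fm σ⁻¹ mu) = mu := by
      funext k
      exact Units.ext (σ.apply_symm_apply _)
    rw [e] at h1
    rw [← h1]; group

/-- the torus itself -/
theorem Sem.h [CharP F 2] (lam : Fin n → Fˣ) (ht : Commute (R.h lam) R.t)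
    (hx : ∀ i j, Dj i j → ∀ a, R.h lam * R.x i j a * (R.h lam)⁻¹ = R.x i j (ev lam i * ev lam j * a))
    (hy : ∀ i a, R.h lam * R.y i a * (R.h lam)⁻¹ = R.y i ((ev lam i : F) ^ 2 * a)) :
    R.Sem (R.h lam) 1 lam where
  yt := ht
  yx := fun i j hij a => hx i j hij a
  yy := fun i a => hy i a
  yh := fun mu => by
    have : fm (1 : F ≃+* F) mu = mu := by ext k; rfl
    rw [this, ← map_inv, ← map_mul, ← map_mul]
    congr 1
    rw [mul_comm lam mu, mul_inv_cancel_right]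

variable (R)

/-- The 2-group `T` -/
structure OutT (T : Subgroup G) : Prop where
  T2 : IsPGroup 2 T
  tT : R.t ∈ T
  Tc : ∀ d ∈ T, d * R.t = R.t * d
  Tmax : ∀ P : Subgroup G, IsPGroup 2 P → T ≤ P → (∀ x ∈ P, x * R.t = R.t * x) → P ≤ T
  UT : R.Up ≤ T
  TK : ∀ A, R.ι A ∈ T → R.ι A ∈ R.Up
  ab : ∀ a ∈ T, ∀ b ∈ T, a * b * a⁻¹ * b⁻¹ ∈ R.Up
  dec : ∀ z ∈ T, ∃ y ∈ T, ∃ u ∈ R.Up, z = y * u ∧ ∃ σ lam, R.Sem y σ lam
  lin : ∀ y ∈ T, ∀ lam, R.Sem y 1 lam → y ∈ R.Up ∨ R.t * y ∈ R.Up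

variable {R} {T : Subgroup G}

/-- the subgroup of the `y ∈ T` acting as `diag ∘ σ` -/
def D (R : Frame n F G) (T : Subgroup G) : Subgroup G where
  carrier := {y | y ∈ T ∧ ∃ σ lam, R.Sem y σ lam}
  one_mem' := ⟨one_mem _, 1, 1, Sem.one⟩
  mul_mem' := by
    rintro y z ⟨hy, σ, lam, h1⟩ ⟨hz, τ, mu, h2⟩
    exact ⟨mul_mem hy hz, _, _, h1.mul h2⟩
  inv_mem' := by
    rintro y ⟨hy, σ, lam, h1⟩
    exact ⟨inv_mem hy, _, _, h1.inv⟩

theorem mem_D {y : G} : y ∈ D R T ↔ y ∈ T ∧ ∃ σ lam, R.Sem y σ lam := Iff.rfl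

theorem D_le : D R T ≤ T := fun _ h => h.1

theorem OutT.exists_D (h : R.OutT T) {z : G} (hz : z ∈ T) : ∃ y ∈ D R T, ∃ u ∈ R.Up, z = y * u := by
  obtain ⟨y, hy, u, hu, e, σ, lam, hs⟩ := h.dec z hz
  exact ⟨y, ⟨hy, σ, lam, hs⟩, u, hu, e⟩

/-- `σ` is determined -/
theorem Sem.unique [CharP F 2] {y : G} {σ τ : F ≃+* F} {lam mu : Fin n → Fˣ} (h1 : R.Sem y σ lam)
    (h2 : R.Sem y τ mu) (i : Ix n) (hinj : ∀ a b, R.y i a = R.y i b → a = b) : σ = τ := by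
  have key : ∀ a, (ev lam i : F) ^ 2 * σ a = (ev mu i : F) ^ 2 * τ a := fun a =>
    hinj _ _ ((h1.yy i a).symm.trans (h2.yy i a))
  have e1 := key 1
  rw [map_one, map_one, mul_one, mul_one] at e1
  ext a
  have e2 := key a
  rw [e1] at e2
  exact mul_left_cancel₀ (pow_ne_zero 2 (ev mu i).ne_zero) e2

/-- elements of `U` commute with `Y_1` -/
theorem Up_comm_y [CharP F 2] [Finite F] {g : G} (hg : g ∈ R.Up) {i : Ix n} (hi : pos i = 0) (a : F) :
    Commute g (R.y i a) := by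
  rw [R.Up_eq] at hg
  obtain ⟨A, hA, rfl⟩ := hg
  change R.ι A * R.ι (sy i a) = R.ι (sy i a) * R.ι A
  rw [← map_mul, ← map_mul, (Uu_comm_sy hA hi a).eq]

theorem Up_comm_t {g : G} (hg : g ∈ R.Up) : Commute g R.t := by
  obtain ⟨A, -, rfl⟩ := hg
  exact R.comm A

/-- elements of `U` with `Sem` are linear -/
theorem Sem.eq_one_of_mem [CharP F 2] [Finite F] (hn : 0 < n) {y : G} {σ : F ≃+* F} {lam : Fin n → Fˣ}
    (hs : R.Sem y σ lam) (hy : y ∈ R.Up) : σ = 1 := by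
  have hi : pos (Sum.inl ⟨0, hn⟩ : Ix n) = 0 := pos_inl _
  have key : ∀ a, (ev lam (Sum.inl ⟨0, hn⟩) : F) ^ 2 * σ a = a := fun a => R.y_inj
    ((hs.yy (Sum.inl ⟨0, hn⟩) a).symm.trans (mul_inv_eq_of_eq_mul (Up_comm_y hy hi a).eq))
  have e1 := key 1
  rw [map_one, mul_one] at e1
  ext a
  have e2 := key a
  rw [e1, one_mul] at e2
  exact e2

theorem Sem.t : R.Sem R.t 1 1 where
  yt := Commute.refl _
  yx := fun i j _ a => by
    rw [ev_one_fun, ev_one_fun]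
    have e : R.t * R.x i j a * R.t⁻¹ = R.x i j a := mul_inv_eq_of_eq_mul (R.comm _).symm.eq
    rw [e]; simp
  yy := fun i a => by
    rw [ev_one_fun]
    have e : R.t * R.y i a * R.t⁻¹ = R.y i a := mul_inv_eq_of_eq_mul (R.comm _).symm.eq
    rw [e]; simp
  yh := fun mu => by
    have : fm (1 : F ≃+* F) mu = mu := by ext k; rfl
    rw [this]
    exact mul_inv_eq_of_eq_mul (R.comm _).symm.eq

/-- the outer involutions are of field type -/
theorem OutT.field [CharP F 2] [Finite F] (hn : 0 < n) (h : R.OutT T) {y : G} (hy : y ∈ T) {σ : F ≃+* F}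
    {lam : Fin n → Fˣ} (hs : R.Sem y σ lam) (h2 : y * y ∈ R.Up) (h3 : y ∉ R.Up) (h4 : R.t * y ∉ R.Up) :
    (∀ a, σ (σ a) = a) ∧ ∃ a, σ a ≠ a := by
  have e1 := (hs.mul hs).eq_one_of_mem hn h2
  refine ⟨fun a => by
    have := congrArg (fun f : F ≃+* F => f a) e1
    exact this, ?_⟩
  by_contra hcon
  push Not at hcon
  have e2 : σ = 1 := by ext a; exact hcon a
  subst e2
  rcases h.lin y hy lam hs with h5 | h5
  · exact h3 h5
  · exact h4 h5

/-- the frame for a 2-group `U*` -/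
theorem OutT.fr (h : R.OutT T) {Us : Subgroup G} (Us2 : IsPGroup 2 Us) (norm : ∀ d ∈ T, ∀ w ∈ Us, d * w * d⁻¹ ∈ Us)
    (hU : ∀ w, w ∈ R.Up ↔ w ∈ Us ∧ w * R.t = R.t * w) : Out.Exclude.Fr R.t T R.Up Us where
  tt := R.tt
  T2 := h.T2
  tT := h.tT
  Tc := h.Tc
  Tmax := h.Tmax
  Us2 := Us2
  norm := norm
  UT := h.UT
  hU := hU
  ab := h.ab

/-- normalisation has to be checked on `D` and `U` only -/
theorem OutT.norm_of (h : R.OutT T) {Us : Subgroup G} (hU : R.Up ≤ Us)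
    (hD : ∀ y ∈ T, ∀ σ lam, R.Sem y σ lam → ∀ w ∈ Us, y * w * y⁻¹ ∈ Us) : ∀ d ∈ T, ∀ w ∈ Us, d * w * d⁻¹ ∈ Us := by
  intro d hd w hw
  obtain ⟨y, hy, u, hu, e, σ, lam, hs⟩ := h.dec d hd
  have e1 : d * w * d⁻¹ = y * (u * w * u⁻¹) * y⁻¹ := by rw [e]; group
  rw [e1]
  exact hD y hy σ lam hs _ (mul_mem (mul_mem (hU hu) hw) (inv_mem (hU hu)))

end Frame

end Cfsg.Agent.OddHalf.SpN
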