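import Mathlib
import Cfsg.Agent.OddHalf.SpN.OfDS
import Cfsg.Agent.OddHalf.SpN.OutDefs

/-!
# Field automorphisms in `C(t)` normalise the doubles of the root groups (helper200)

`FldAct R σ g` : `g ∈ C(t)` induces the (standard) field automorphism `σ` on `K`.
`DL.fld_mem`, `DS.fld_mem` : `g` normalises `V i`, `W i j`.
`DL.sem_mem`, `DS.sem_mem` : the same for helper859's `Sem`.
-/

set_option autoImplicit false
set_option maxHeartbeats 400000

namespace Cfsg.Agent.OddHalf.SpN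

open scoped commutatorElement

variable {n : ℕ} {F : Type*} [Field F] {G : Type*} [Group G] [CharP F 2] {R : Frame n F G}

/-- `g ∈ C(t)` acts on the root elements and on the torus as the field automorphism `σ` -/
structure FldAct (R : Frame n F G) (σ : F ≃+* F) (g : G) : Prop where
  ct : Commute g R.t
  x : ∀ i j a, g * R.x i j a * g⁻¹ = R.x i j (σ a)
  y : ∀ i a, g * R.y i a * g⁻¹ = R.y i (σ a)
  h : ∀ lam : Fin n → Fˣ, g * R.h lam * g⁻¹ = R.h (fm σ lam)

namespace FldAct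

variable {σ τ : F ≃+* F} {g g' : G}

omit [CharP F 2] in
/-- conjugation commutes with conjugation by `t` -/
theorem tconj (A : FldAct R σ g) (v : G) : R.t * (g * v * g⁻¹) * R.t = g * (R.t * v * R.t) * g⁻¹ := by
  have h1 := A.ct.eq
  have h2 : g⁻¹ * R.t = R.t * g⁻¹ := by rw [(A.ct.inv_left).eq]
  calc R.t * (g * v * g⁻¹) * R.t = (R.t * g) * v * (g⁻¹ * R.t) := by group
    _ = _ := by rw [← h1, h2]; group

omit [CharP F 2] in
theorem conj_mul (g a b : G) : g * (a * b) * g⁻¹ = (g * a * g⁻¹) * (g * b * g⁻¹) := by group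

end FldAct

theorem one_add_sq_ne {a : F} (h : a ≠ 1) : 1 + a ^ 2 ≠ 0 := by
  intro h0
  have h1 : (a - 1) * (a - 1) = 0 := by linear_combination h0 - a * (two0 : (2 : F) = 0)
  exact h (sub_eq_zero.mp (mul_self_eq_zero.mp h1))

/-- `g` normalises the long doubles -/
theorem DL.fld_mem (hn : 3 ≤ n) (hF : ∃ μ : Fˣ, (μ : F) ≠ 1) [Finite F] {γ : F} (D : DL R γ) {σ : F ≃+* F} {g : G}
    (A : FldAct R σ g) (hσ : σ γ = γ) {i : Ix n} {v : G} (hv : v ∈ D.V i) : g * v * g⁻¹ ∈ D.V i := by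
  have tV : ∀ v ∈ D.V i, R.t * v * R.t ∈ D.V i := by
    intro v hv
    obtain ⟨u, hu⟩ := D.ht i v hv
    rw [hu]; exact mul_mem hv (D.y_mem i u)
  -- up to `t`
  have key : ∀ v ∈ D.V i, g * v * g⁻¹ ∈ D.V i ∨ R.t * (g * v * g⁻¹) ∈ D.V i := by
    intro v hv
    obtain ⟨u, hu⟩ := D.ht i v hv
    obtain ⟨r, hr⟩ := exists_root u
    obtain ⟨w, hw, hwt⟩ := D.onto i (σ u)
    have hyw : ∀ a, Commute w (R.y i a) := fun a => D.cy i w hw a
    set v' := g * v * g⁻¹ with hv'
    have hyv : ∀ a, Commute v' (R.y i a) := by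
      intro a
      have h1 : R.y i a = g * R.y i (σ.symm a) * g⁻¹ := by rw [A.y, RingEquiv.apply_symm_apply]
      have h2 : Commute v (R.y i (σ.symm a)) := D.cy i v hv _
      rw [h1]
      change v' * _ = _ * v'
      rw [hv']
      calc g * v * g⁻¹ * (g * R.y i (σ.symm a) * g⁻¹) = g * (v * R.y i (σ.symm a)) * g⁻¹ := by group
        _ = _ := by rw [h2.eq]; group
    have hvt : R.t * v' * R.t = v' * R.y i (σ u) := by
      rw [hv', A.tconj, hu, FldAct.conj_mul, A.y]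
    set k := v' * w⁻¹ with hk
    have hkt : Commute k R.t := by
      have h2 : R.t * k * R.t = k := by
        rw [hk, R.t_mul, R.t_inv', hvt, hwt]; group
      change k * R.t = R.t * k
      calc k * R.t = (R.t * k * R.t) * R.t := by rw [h2]
        _ = R.t * k * (R.t * R.t) := by group
        _ = _ := by rw [R.tt, mul_one]
    have hky : ∀ l, l ≠ neg i → ∀ b, Commute k (R.y l b) := by
      intro l hl b
      by_cases hli : l = i
      · subst hli
        exact (hyv b).mul_left (hyw b).inv_left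
      have hd : Dj i l := ⟨fun e => hli e.symm, fun e => hl (by rw [e, neg_neg])⟩
      obtain ⟨s, hs⟩ := exists_root b
      have h1 : ⁅w, R.y l b⁆ = R.x i l (γ * σ r * s) := by
        rw [← hs]
        exact D.par i l hd w hw (σ r) (by rw [hwt, ← map_pow, hr]) s
      have h2 : ⁅v', R.y l b⁆ = R.x i l (γ * σ r * s) := by
        have h3 := D.par i l hd v hv r (by rw [hu, hr]) (σ.symm s)
        have h4 : R.y l b = g * R.y l (σ.symm s ^ 2) * g⁻¹ := by
          rw [A.y, map_pow, RingEquiv.apply_symm_apply, hs]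
        have h5 : g * ⁅v, R.y l (σ.symm s ^ 2)⁆ * g⁻¹ = ⁅v', R.y l b⁆ := by
          rw [h4, hv', commutatorElement_def, commutatorElement_def]; group
        rw [← h5, h3, A.x, map_mul, map_mul, hσ, RingEquiv.apply_symm_apply]
      -- `v' y v'⁻¹ = w y w⁻¹`
      have h3 : v' * R.y l b * v'⁻¹ = w * R.y l b * w⁻¹ := by
        rw [commutatorElement_def] at h1 h2
        rw [← h2] at h1
        exact mul_right_cancel h1.symm
      have h4 : R.y l b = w⁻¹ * (v' * R.y l b * v'⁻¹) * w := by rw [h3]; group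
      -- `w⁻¹ v'` commutes; `k = v' w⁻¹`
      have hx : ∀ c, Commute w (R.x i l c) := fun c => D.cx i w hw i l c (ne_neg i) hd.symm.2
      have hx' : ∀ c, Commute v' (R.x i l c) := by
        intro c
        have h1 : R.x i l c = g * R.x i l (σ.symm c) * g⁻¹ := by rw [A.x, RingEquiv.apply_symm_apply]
        have h2 : Commute v (R.x i l (σ.symm c)) := D.cx i v hv i l _ (ne_neg i) hd.symm.2
        rw [h1]
        change v' * _ = _ * v'
        rw [hv']
        calc g * v * g⁻¹ * (g * R.x i l (σ.symm c) * g⁻¹) = g * (v * R.x i l (σ.symm c)) * g⁻¹ := by group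
          _ = _ := by rw [h2.eq]; group
      -- `w⁻¹ y w = w⁻¹ [w, y]⁻¹ (w y) = x y`
      have h5 : w⁻¹ * R.y l b * w = R.x i l (γ * σ r * s) * R.y l b := by
        rw [commutatorElement_def] at h1
        have e1 : w * R.y l b * w⁻¹ = R.x i l (γ * σ r * s) * R.y l b := by rw [← h1]; group
        have e2 : R.y l b = w⁻¹ * R.x i l (γ * σ r * s) * w * (w⁻¹ * R.y l b * w) := by
          calc R.y l b = w⁻¹ * (w * R.y l b * w⁻¹) * w := by group
            _ = _ := by rw [e1]; group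
        have e3 : w⁻¹ * R.x i l (γ * σ r * s) * w = R.x i l (γ * σ r * s) := by
          rw [mul_assoc, ← (hx _).eq]; group
        rw [e3] at e2
        calc w⁻¹ * R.y l b * w = R.x i l (γ * σ r * s) * (R.x i l (γ * σ r * s) * (w⁻¹ * R.y l b * w)) := by
              rw [← mul_assoc, R.x_sq, one_mul]
          _ = _ := by rw [← e2]
      have h6 : v' * R.y l b * v'⁻¹ = R.x i l (γ * σ r * s) * R.y l b := by
        rw [commutatorElement_def] at h2
        rw [← h2]; group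
      have h7 : v' * R.x i l (γ * σ r * s) * v'⁻¹ = R.x i l (γ * σ r * s) := by rw [(hx' _).eq]; group
      change k * R.y l b = R.y l b * k
      have h8 : k * R.y l b * k⁻¹ = R.y l b := by
        calc k * R.y l b * k⁻¹ = v' * (w⁻¹ * R.y l b * w) * v'⁻¹ := by rw [hk]; group
          _ = (v' * R.x i l (γ * σ r * s) * v'⁻¹) * (v' * R.y l b * v'⁻¹) := by rw [h5]; group
          _ = R.x i l (γ * σ r * s) * R.x i l (γ * σ r * s) * R.y l b := by rw [h7, h6]; group
          _ = _ := by rw [R.x_sq, one_mul]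
      calc k * R.y l b = k * R.y l b * k⁻¹ * k := by group
        _ = _ := by rw [h8]
    obtain ⟨a, ha⟩ := R.FU1 hn hkt hky
    have hvk : v' = k * w := by rw [hk]; group
    rcases ha with ha | ha
    · left; rw [hvk, ha]; exact mul_mem (D.y_mem i a) hw
    · right
      rw [hvk, ha]
      have : R.t * (R.t * R.y i a * w) = R.y i a * w := by
        rw [← mul_assoc, ← mul_assoc, R.tt, one_mul]
      rw [this]
      exact mul_mem (D.y_mem i a) hw
  -- the commutators with the torus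
  have key2 : ∀ v ∈ D.V i, ∀ lam, g * (v⁻¹ * (R.h lam * v * (R.h lam)⁻¹)) * g⁻¹ ∈ D.V i := by
    intro v hv lam
    set lam' : Fin n → Fˣ := fm σ lam with hlam
    have e : g * (v⁻¹ * (R.h lam * v * (R.h lam)⁻¹)) * g⁻¹ =
        (g * v * g⁻¹)⁻¹ * (R.h lam' * (g * v * g⁻¹) * (R.h lam')⁻¹) := by
      rw [← A.h lam]; group
    rw [e]
    rcases key v hv with h1 | h1
    · exact mul_mem (inv_mem h1) (D.torus i _ h1 lam')
    · have h2 := D.torus i _ h1 lam'
      have h3 : R.t * (R.h lam' * (g * v * g⁻¹) * (R.h lam')⁻¹) ∈ D.V i := by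
        have : R.t * (R.h lam' * (g * v * g⁻¹) * (R.h lam')⁻¹) =
            R.h lam' * (R.t * (g * v * g⁻¹)) * (R.h lam')⁻¹ := by
          have hc := (R.h_t lam').eq
          calc R.t * (R.h lam' * (g * v * g⁻¹) * (R.h lam')⁻¹) =
              (R.t * R.h lam') * (g * v * g⁻¹) * (R.h lam')⁻¹ := by group
            _ = _ := by rw [← hc]; group
        rw [this]; exact h2
      have h4 := mul_mem (inv_mem h1) h3
      have h5 : (R.t * (g * v * g⁻¹))⁻¹ * (R.t * (R.h lam' * (g * v * g⁻¹) * (R.h lam')⁻¹)) =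
          (g * v * g⁻¹)⁻¹ * (R.h lam' * (g * v * g⁻¹) * (R.h lam')⁻¹) := by group
      rwa [h5] at h4
  obtain ⟨u, hu⟩ := D.ht i v hv
  obtain ⟨μ, hμ⟩ := hF
  obtain ⟨lam, hlam, -⟩ := exists_lam i μ
  have hl : (ev lam i : F) ≠ 1 := by rw [hlam]; exact hμ
  have hl2 := one_add_sq_ne hl
  obtain ⟨v0, hv0, hvt⟩ := D.onto i (u / (1 + (ev lam i : F) ^ 2))
  set v1 := v0⁻¹ * (R.h lam * v0 * (R.h lam)⁻¹) with hv1
  have hv1m : v1 ∈ D.V i := mul_mem (inv_mem hv0) (D.torus i _ hv0 lam)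
  have hy0 : ∀ a, Commute v0 (R.y i a) := fun a => D.cy i v0 hv0 a
  have hh : ∀ z, R.t * (R.h lam * z * (R.h lam)⁻¹) * R.t = R.h lam * (R.t * z * R.t) * (R.h lam)⁻¹ := by
    intro z
    have hc := (R.h_t lam).eq
    have hc' : (R.h lam)⁻¹ * R.t = R.t * (R.h lam)⁻¹ := (R.h_t lam).inv_left.eq
    calc R.t * (R.h lam * z * (R.h lam)⁻¹) * R.t = (R.t * R.h lam) * z * ((R.h lam)⁻¹ * R.t) := by group
      _ = _ := by rw [← hc, hc']; group
  have hv1t : R.t * v1 * R.t = v1 * R.y i u := by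
    have e1 : R.t * v0⁻¹ * R.t = v0⁻¹ * R.y i (u / (1 + (ev lam i : F) ^ 2)) := by
      rw [R.t_inv', hvt, mul_inv_rev, R.y_inv, ← (hy0 _).inv_left.eq]
    have e2 : R.t * (R.h lam * v0 * (R.h lam)⁻¹) * R.t = (R.h lam * v0 * (R.h lam)⁻¹) *
        R.y i ((ev lam i : F) ^ 2 * (u / (1 + (ev lam i : F) ^ 2))) := by
      rw [hh, hvt, FldAct.conj_mul, R.h_y]
    have e3 : Commute (R.y i (u / (1 + (ev lam i : F) ^ 2))) (R.h lam * v0 * (R.h lam)⁻¹) :=
      (D.cy i _ (D.torus i _ hv0 lam) _).symm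
    calc R.t * v1 * R.t = (R.t * v0⁻¹ * R.t) * (R.t * (R.h lam * v0 * (R.h lam)⁻¹) * R.t) := by
          rw [hv1, R.t_mul]
      _ = v0⁻¹ * (R.y i (u / (1 + (ev lam i : F) ^ 2)) * (R.h lam * v0 * (R.h lam)⁻¹)) *
          R.y i ((ev lam i : F) ^ 2 * (u / (1 + (ev lam i : F) ^ 2))) := by rw [e1, e2]; group
      _ = v1 * (R.y i (u / (1 + (ev lam i : F) ^ 2)) *
          R.y i ((ev lam i : F) ^ 2 * (u / (1 + (ev lam i : F) ^ 2)))) := by rw [e3.eq, hv1]; group
      _ = v1 * R.y i u := by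
        rw [← R.y_add]
        congr 2
        field_simp
  -- `v = v1 y(a)`
  obtain ⟨a, ha⟩ := D.ker i (v1⁻¹ * v) (mul_mem (inv_mem hv1m) hv) (by
    have hy1 : Commute v1 (R.y i u) := D.cy i v1 hv1m _
    have e1 : R.t * v1⁻¹ * R.t = (v1 * R.y i u)⁻¹ := by rw [R.t_inv', hv1t]
    calc R.t * (v1⁻¹ * v) * R.t = (v1 * R.y i u)⁻¹ * (v * R.y i u) := by rw [R.t_mul, e1, hu]
      _ = v1⁻¹ * ((R.y i u)⁻¹ * v * R.y i u) := by rw [hy1.eq]; group
      _ = v1⁻¹ * v := by
        rw [mul_assoc (R.y i u)⁻¹, (D.cy i v hv u : v * R.y i u = R.y i u * v)]; group)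
  have hv2 : v = v1 * R.y i a := by rw [← ha]; group
  rw [hv2, FldAct.conj_mul, A.y]
  exact mul_mem (key2 v0 hv0 lam) (D.y_mem i _)

/-- `g` normalises the short doubles -/
theorem DS.fld_mem [Finite F] (hn : 3 ≤ n) (hF : ∃ μ : Fˣ, (μ : F) ≠ 1) {δ : F} (D : DS R δ) {σ : F ≃+* F} {g : G}
    (A : FldAct R σ g) {i j : Ix n} (hij : Dj i j) {v : G} (hv : v ∈ D.W i j) : g * v * g⁻¹ ∈ D.W i j := by
  obtain ⟨μ, hμ⟩ := hF
  -- up to `t`
  have key : ∀ v ∈ D.W i j, g * v * g⁻¹ ∈ D.W i j ∨ R.t * (g * v * g⁻¹) ∈ D.W i j := by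
    intro v hv
    obtain ⟨u, hu⟩ := D.ht i j hij v hv
    obtain ⟨w, hw, hwt⟩ := D.onto i j hij (σ u)
    set v' := g * v * g⁻¹ with hv'
    have hyv : ∀ l, l ≠ neg i → l ≠ neg j → ∀ a, Commute v' (R.y l a) := by
      intro l h1 h2 a
      have h3 : R.y l a = g * R.y l (σ.symm a) * g⁻¹ := by rw [A.y, RingEquiv.apply_symm_apply]
      have h4 : Commute v (R.y l (σ.symm a)) := D.cy i j hij v hv l _ h1 h2
      rw [h3]
      change v' * _ = _ * v'
      rw [hv']
      calc g * v * g⁻¹ * (g * R.y l (σ.symm a) * g⁻¹) = g * (v * R.y l (σ.symm a)) * g⁻¹ := by group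
        _ = _ := by rw [h4.eq]; group
    have hvt : R.t * v' * R.t = v' * R.x i j (σ u) := by
      rw [hv', A.tconj, hu, FldAct.conj_mul, A.x]
    set k := v' * w⁻¹ with hk
    have hkt : Commute k R.t := by
      apply R.comm_of_t
      rw [hk, R.t_mul, R.t_inv', hvt, hwt]; group
    have hky : ∀ l, l ≠ neg i → l ≠ neg j → ∀ b, Commute k (R.y l b) := fun l h1 h2 b =>
      (hyv l h1 h2 b).mul_left (Commute.inv_left (D.cy i j hij w hw l b h1 h2))
    obtain ⟨a, b, d, hc, hlam⟩ := R.FU2 hn hij hkt hky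
    -- the torus
    obtain ⟨l1, hl1, hl1'⟩ := exists_lam i μ
    obtain ⟨l2, hl2, hl2'⟩ := exists_lam j μ⁻¹
    have e1 : ev (l1 * l2) i = μ := by rw [ev_mul_at, hl1, hl2' i hij.symm, mul_one]
    have e2 : ev (l1 * l2) j = μ⁻¹ := by rw [ev_mul_at, hl2, hl1' j hij, one_mul]
    set lam := l1 * l2 with hlamd
    have hkh : Commute k (R.h lam) := by
      have h1 : Commute w (R.h lam) := (D.torus_one i j hij w hw lam (by rw [e1, e2, mul_inv_cancel])).symm
      set lam' : Fin n → Fˣ := fm σ.symm lam with hlam'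
      have h2 : g * R.h lam' * g⁻¹ = R.h lam := by
        rw [A.h]
        congr 1
        funext k
        exact Units.ext (σ.apply_symm_apply _)
      have h3 : Commute v (R.h lam') := (D.torus_one i j hij v hv lam' (by
        apply Units.ext
        rw [Units.val_mul, hlam', ev_fm, ev_fm, e1, e2, ← map_mul, Units.mul_inv, map_one]; rfl)).symm
      have h4 : Commute v' (R.h lam) := by
        rw [← h2]
        change v' * _ = _ * v'
        rw [hv']
        calc g * v * g⁻¹ * (g * R.h lam' * g⁻¹) = g * (v * R.h lam') * g⁻¹ := by group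
          _ = _ := by rw [h3.eq]; group
      exact h4.mul_left h1.inv_left
    obtain ⟨h1, h2, -⟩ := hlam lam hkh
    have ne0 : ∀ ν : F, ν ≠ 1 → ∀ a : F, ν ^ 2 * a = a → a = 0 := by
      intro ν hν a ha
      have h3 := one_add_sq_ne hν
      have h4 : (1 + ν ^ 2) * a = 0 := by linear_combination ha + a * (two0 : (2 : F) = 0)
      exact (mul_eq_zero.mp h4).resolve_left h3
    have ha : a = 0 := ne0 _ (by rw [e1]; exact hμ) a h1
    have hb : b = 0 := ne0 _ (by
      rw [e2]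
      intro h
      apply hμ
      have : μ⁻¹ = 1 := Units.ext h
      rw [inv_eq_one.mp this]; rfl) b h2
    rw [ha, hb, R.y_zero, R.y_zero, one_mul, one_mul] at hc
    have hvk : v' = k * w := by rw [hk]; group
    rcases hc with hc | hc
    · left; rw [hvk, hc]; exact mul_mem (D.x_mem i j d) hw
    · right
      rw [hvk, hc]
      have : R.t * (R.t * R.x i j d * w) = R.x i j d * w := by
        rw [← mul_assoc, ← mul_assoc, R.tt, one_mul]
      rw [this]
      exact mul_mem (D.x_mem i j d) hw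
  -- the commutators with the torus
  have key2 : ∀ v ∈ D.W i j, ∀ lam, g * (v⁻¹ * (R.h lam * v * (R.h lam)⁻¹)) * g⁻¹ ∈ D.W i j := by
    intro v hv lam
    set lam' : Fin n → Fˣ := fm σ lam with hlam
    have e : g * (v⁻¹ * (R.h lam * v * (R.h lam)⁻¹)) * g⁻¹ =
        (g * v * g⁻¹)⁻¹ * (R.h lam' * (g * v * g⁻¹) * (R.h lam')⁻¹) := by
      rw [← A.h lam]; group
    rw [e]
    rcases key v hv with h1 | h1
    · exact mul_mem (inv_mem h1) (D.torus i j hij _ h1 lam')
    · have h2 := D.torus i j hij _ h1 lam'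
      have h3 : R.t * (R.h lam' * (g * v * g⁻¹) * (R.h lam')⁻¹) ∈ D.W i j := by
        have : R.t * (R.h lam' * (g * v * g⁻¹) * (R.h lam')⁻¹) =
            R.h lam' * (R.t * (g * v * g⁻¹)) * (R.h lam')⁻¹ := by
          have hc := (R.h_t lam').eq
          calc R.t * (R.h lam' * (g * v * g⁻¹) * (R.h lam')⁻¹) =
              (R.t * R.h lam') * (g * v * g⁻¹) * (R.h lam')⁻¹ := by group
            _ = _ := by rw [← hc]; group
        rw [this]; exact h2
      have h4 := mul_mem (inv_mem h1) h3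
      have h5 : (R.t * (g * v * g⁻¹))⁻¹ * (R.t * (R.h lam' * (g * v * g⁻¹) * (R.h lam')⁻¹)) =
          (g * v * g⁻¹)⁻¹ * (R.h lam' * (g * v * g⁻¹) * (R.h lam')⁻¹) := by group
      rwa [h5] at h4
  obtain ⟨u, hu⟩ := D.ht i j hij v hv
  obtain ⟨lam, hlam, hlam'⟩ := exists_lam i μ
  have hl : (ev lam i : F) * ev lam j = μ := by rw [hlam, hlam' j hij, Units.val_one, mul_one]
  have hl2 : 1 + (μ : F) ≠ 0 := by
    intro h0
    apply hμ
    linear_combination h0 - (two0 : (2 : F) = 0)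
  obtain ⟨v0, hv0, hvt⟩ := D.onto i j hij (u / (1 + (μ : F)))
  have hx : ∀ w ∈ D.W i j, ∀ a, Commute w (R.x i j a) := fun w hw a =>
    D.comm i j hij w hw _ (D.x_mem i j a)
  set v1 := v0⁻¹ * (R.h lam * v0 * (R.h lam)⁻¹) with hv1
  have hv1m : v1 ∈ D.W i j := mul_mem (inv_mem hv0) (D.torus i j hij _ hv0 lam)
  have hh : ∀ z, R.t * (R.h lam * z * (R.h lam)⁻¹) * R.t = R.h lam * (R.t * z * R.t) * (R.h lam)⁻¹ := by
    intro z
    have hc := (R.h_t lam).eq
    have hc' : (R.h lam)⁻¹ * R.t = R.t * (R.h lam)⁻¹ := (R.h_t lam).inv_left.eq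
    calc R.t * (R.h lam * z * (R.h lam)⁻¹) * R.t = (R.t * R.h lam) * z * ((R.h lam)⁻¹ * R.t) := by group
      _ = _ := by rw [← hc, hc']; group
  have hv1t : R.t * v1 * R.t = v1 * R.x i j u := by
    have e1 : R.t * v0⁻¹ * R.t = v0⁻¹ * R.x i j (u / (1 + (μ : F))) := by
      rw [R.t_inv', hvt, mul_inv_rev, R.x_inv, ← (hx _ hv0 _).inv_left.eq]
    have e2 : R.t * (R.h lam * v0 * (R.h lam)⁻¹) * R.t = (R.h lam * v0 * (R.h lam)⁻¹) *
        R.x i j (μ * (u / (1 + (μ : F)))) := by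
      rw [hh, hvt, FldAct.conj_mul, R.h_x, hl]
    have e3 : Commute (R.x i j (u / (1 + (μ : F)))) (R.h lam * v0 * (R.h lam)⁻¹) :=
      (hx _ (D.torus i j hij _ hv0 lam) _).symm
    calc R.t * v1 * R.t = (R.t * v0⁻¹ * R.t) * (R.t * (R.h lam * v0 * (R.h lam)⁻¹) * R.t) := by
          rw [hv1, R.t_mul]
      _ = v0⁻¹ * (R.x i j (u / (1 + (μ : F))) * (R.h lam * v0 * (R.h lam)⁻¹)) *
          R.x i j (μ * (u / (1 + (μ : F)))) := by rw [e1, e2]; group
      _ = v1 * (R.x i j (u / (1 + (μ : F))) * R.x i j (μ * (u / (1 + (μ : F))))) := by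
        rw [e3.eq, hv1]; group
      _ = v1 * R.x i j u := by
        rw [← R.x_add]
        congr 2
        field_simp
  -- `v = v1 x(a)`
  obtain ⟨a, ha⟩ := D.ker i j hij (v1⁻¹ * v) (mul_mem (inv_mem hv1m) hv) (by
    have e1 : R.t * v1⁻¹ * R.t = (v1 * R.x i j u)⁻¹ := by rw [R.t_inv', hv1t]
    calc R.t * (v1⁻¹ * v) * R.t = (v1 * R.x i j u)⁻¹ * (v * R.x i j u) := by rw [R.t_mul, e1, hu]
      _ = v1⁻¹ * ((R.x i j u)⁻¹ * v * R.x i j u) := by rw [(hx _ hv1m u).eq]; group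
      _ = v1⁻¹ * v := by rw [mul_assoc (R.x i j u)⁻¹, (hx _ hv u).eq]; group)
  have hv2 : v = v1 * R.x i j a := by rw [← ha]; group
  rw [hv2, FldAct.conj_mul, A.x]
  exact mul_mem (key2 v0 hv0 lam) (D.x_mem i j _)

/-- `Sem` up to the torus -/
theorem Frame.Sem.fld {y : G} {σ : F ≃+* F} {lam : Fin n → Fˣ} (h : R.Sem y σ lam) :
    FldAct R σ ((R.h lam)⁻¹ * y) where
  ct := (R.h_t lam).inv_left.mul_left h.yt
  x := fun i j a => by
    by_cases hij : Dj i j
    · have h1 := h.yx i j hij a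
      have h2 := R.h_x lam i j (σ a)
      have h3 : R.x i j (σ a) = (R.h lam)⁻¹ * R.x i j (ev lam i * ev lam j * σ a) * R.h lam := by
        rw [← h2]; group
      rw [h3, ← h1]; group
    · rw [R.x_of_not hij, R.x_of_not hij]; group
  y := fun i a => by
    have h1 := h.yy i a
    have h2 := R.h_y lam i (σ a)
    have h3 : R.y i (σ a) = (R.h lam)⁻¹ * R.y i (ev lam i ^ 2 * σ a) * R.h lam := by
      rw [← h2]; group
    rw [h3, ← h1]; group
  h := fun mu => by
    have h1 := h.yh mu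
    have h2 : (R.h lam)⁻¹ * R.h (fm σ mu) * R.h lam = R.h (fm σ mu) := by
      rw [← map_inv, ← map_mul, ← map_mul]
      congr 1
      rw [mul_comm lam⁻¹, inv_mul_cancel_right]
    calc (R.h lam)⁻¹ * y * R.h mu * ((R.h lam)⁻¹ * y)⁻¹ = (R.h lam)⁻¹ * (y * R.h mu * y⁻¹) * R.h lam := by group
      _ = _ := by rw [h1, h2]

theorem DL.sem_mem [Finite F] (hn : 3 ≤ n) (hF : ∃ μ : Fˣ, (μ : F) ≠ 1) {γ : F} (D : DL R γ) {σ : F ≃+* F}
    {lam : Fin n → Fˣ} {y : G} (A : R.Sem y σ lam) (hσ : σ γ = γ) {i : Ix n} {v : G} (hv : v ∈ D.V i) :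
    y * v * y⁻¹ ∈ D.V i := by
  have h1 := D.torus i _ (D.fld_mem hn hF A.fld hσ hv) lam
  have h2 : R.h lam * ((R.h lam)⁻¹ * y * v * ((R.h lam)⁻¹ * y)⁻¹) * (R.h lam)⁻¹ = y * v * y⁻¹ := by group
  rwa [h2] at h1

theorem DS.sem_mem [Finite F] (hn : 3 ≤ n) (hF : ∃ μ : Fˣ, (μ : F) ≠ 1) {δ : F} (D : DS R δ) {σ : F ≃+* F}
    {lam : Fin n → Fˣ} {y : G} (A : R.Sem y σ lam) {i j : Ix n} (hij : Dj i j) {v : G} (hv : v ∈ D.W i j) :
    y * v * y⁻¹ ∈ D.W i j := by
  have h1 := D.torus i j hij _ (D.fld_mem hn hF A.fld hij hv) lam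
  have h2 : R.h lam * ((R.h lam)⁻¹ * y * v * ((R.h lam)⁻¹ * y)⁻¹) * (R.h lam)⁻¹ = y * v * y⁻¹ := by group
  rwa [h2] at h1

end Cfsg.Agent.OddHalf.SpN
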