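import Mathlib
import Cfsg.Agent.OddHalf.SpN.OutDefs
import Cfsg.Agent.OddHalf.SpN.OutTri

/-!
# ODD D7, `K = Sp_2n(q)`, `q` even, outer 2-part: the order of `T` (helper625)

`OutT.card_T`: `|T| ≤ 2 q² |U|`.
-/

set_option autoImplicit false

namespace Cfsg.Agent.OddHalf.SpN

open Subgroup TU

variable {n : ℕ} {F : Type*} [Field F]

namespace Frame

variable [CharP F 2] [Finite F] {G : Type*} [Group G] {R : Frame n F G} {T : Subgroup G}

/-- `|T| ≤ 2 q² |U|` -/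
theorem OutT.card_T [Finite G] (h : R.OutT T) (hn : 3 ≤ n) :
    Nat.card T ≤ Nat.card F ^ 2 * (2 * Nat.card R.Up) := by
  classical
  obtain ⟨ζ, hζ⟩ := IsCyclic.exists_generator (α := Fˣ)
  set i : Ix n := Sum.inl (Out.c0 hn) with hi
  have h0 : pos i = 0 := pos_inl _
  have ht : ∀ d ∈ T, R.t * d = d * R.t := fun d hd => (h.Tc d hd).symm
  have hact : ∀ z : T, ∀ a, ∃ b, (z : G) * R.y i a * (z : G)⁻¹ = R.y i b := by
    intro z a
    obtain ⟨y, hy, u, hu, e, σ, lam, hs⟩ := h.dec z z.2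
    refine ⟨(ev lam i : F) ^ 2 * σ a, ?_⟩
    rw [e]
    have h1 := (Up_comm_y hu h0 a).eq
    calc y * u * R.y i a * (y * u)⁻¹ = y * (u * R.y i a) * u⁻¹ * y⁻¹ := by group
      _ = y * R.y i a * y⁻¹ := by rw [h1]; group
      _ = _ := hs.yy i a
  choose m hm using hact
  -- same values: same coset of `⟨t⟩ U`
  have hco : ∀ z z' : T, m z 1 = m z' 1 → m z ζ = m z' ζ →
      (z : G)⁻¹ * z' ∈ R.Up ∨ R.t * ((z : G)⁻¹ * z') ∈ R.Up := by
    intro z z' e1 e2
    have hw : (z : G)⁻¹ * z' ∈ T := mul_mem (inv_mem z.2) z'.2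
    obtain ⟨y, hy, u, hu, e, σ, lam, hs⟩ := h.dec _ hw
    have hfix : ∀ a, m z a = m z' a → (ev lam i : F) ^ 2 * σ a = a := by
      intro a ea
      apply R.y_inj (i := i)
      rw [← hs.yy]
      have h1 := (Up_comm_y hu h0 a).eq
      have h2 : ((z : G)⁻¹ * z') * R.y i a * ((z : G)⁻¹ * z')⁻¹ = R.y i a := by
        calc ((z : G)⁻¹ * z') * R.y i a * ((z : G)⁻¹ * z')⁻¹ = (z : G)⁻¹ * (z' * R.y i a * (z' : G)⁻¹) * z := by group
          _ = (z : G)⁻¹ * (z * R.y i a * (z : G)⁻¹) * z := by rw [hm, hm, ea]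
          _ = _ := by group
      rw [e] at h2
      calc y * R.y i a * y⁻¹ = y * (R.y i a * u) * u⁻¹ * y⁻¹ := by group
        _ = y * u * R.y i a * (y * u)⁻¹ := by rw [← h1]; group
        _ = _ := h2
    have f1 := hfix 1 e1
    rw [map_one, mul_one] at f1
    have f2 := hfix ζ e2
    rw [f1, one_mul] at f2
    have f3 : ∀ x : Fˣ, σ (x : F) = x := by
      intro x
      obtain ⟨k, rfl⟩ := mem_zpowers_iff.1 (hζ x)
      rw [Units.val_zpow_eq_zpow_val, map_zpow₀, f2]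
    have f4 : σ = 1 := by
      ext a
      by_cases ha : a = 0
      · subst ha; rw [map_zero, map_zero]
      · exact f3 (Units.mk0 a ha)
    subst f4
    rw [e]
    rcases h.lin y hy lam hs with h5 | h5
    · exact Or.inl (mul_mem h5 hu)
    · right; rw [← mul_assoc]; exact mul_mem h5 hu
  -- representatives
  have hrep : ∀ p : F × F, ∃ z : T, ∀ z' : T, (m z' 1, m z' ζ) = p → (m z 1, m z ζ) = p := by
    intro p
    by_cases hp : ∃ z : T, (m z 1, m z ζ) = p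
    · obtain ⟨z, hz⟩ := hp
      exact ⟨z, fun _ _ => hz⟩
    · exact ⟨1, fun z' hz' => absurd ⟨z', hz'⟩ hp⟩
  choose r hr using hrep
  have hmem : ∀ z : T, ((r (m z 1, m z ζ) : G))⁻¹ * z ∈ R.Up ∨ R.t * (((r (m z 1, m z ζ) : G))⁻¹ * z) ∈ R.Up := by
    intro z
    have h1 := hr (m z 1, m z ζ) z rfl
    have h2 := Prod.mk.inj h1
    exact hco _ _ h2.1 h2.2
  have hcard : Nat.card ((F × F) × (Bool × R.Up)) = Nat.card F ^ 2 * (2 * Nat.card R.Up) := by
    rw [Nat.card_prod, Nat.card_prod, Nat.card_prod, pow_two]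
    simp
  rw [← hcard]
  refine Nat.card_le_card_of_injective (fun z : T => ((m z 1, m z ζ),
    (if hz : ((r (m z 1, m z ζ) : G))⁻¹ * z ∈ R.Up then (true, ⟨_, hz⟩)
      else (false, ⟨_, (hmem z).resolve_left hz⟩) : Bool × R.Up))) ?_
  intro z z' hzz
  obtain ⟨e1, e2⟩ := Prod.mk.inj hzz
  apply Subtype.ext
  have e3 : r (m z 1, m z ζ) = r (m z' 1, m z' ζ) := by rw [e1]
  by_cases c1 : ((r (m z 1, m z ζ) : G))⁻¹ * z ∈ R.Up
  · by_cases c2 : ((r (m z' 1, m z' ζ) : G))⁻¹ * z' ∈ R.Up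
    · rw [dif_pos c1, dif_pos c2] at e2
      have e4 : ((r (m z 1, m z ζ) : G))⁻¹ * z = ((r (m z' 1, m z' ζ) : G))⁻¹ * z' :=
        congrArg Subtype.val (Prod.mk.inj e2).2
      rw [e3] at e4
      exact mul_left_cancel e4
    · rw [dif_pos c1, dif_neg c2] at e2
      exact absurd (Prod.mk.inj e2).1 (by decide)
  · by_cases c2 : ((r (m z' 1, m z' ζ) : G))⁻¹ * z' ∈ R.Up
    · rw [dif_neg c1, dif_pos c2] at e2
      exact absurd (Prod.mk.inj e2).1 (by decide)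
    · rw [dif_neg c1, dif_neg c2] at e2
      have e4 : R.t * (((r (m z 1, m z ζ) : G))⁻¹ * z) = R.t * (((r (m z' 1, m z' ζ) : G))⁻¹ * z') :=
        congrArg Subtype.val (Prod.mk.inj e2).2
      rw [e3] at e4
      exact mul_left_cancel (mul_left_cancel e4)

end Frame

end Cfsg.Agent.OddHalf.SpN
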