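import Mathlib
import Cfsg.Agent.OddHalf.SpN.OutFld
import Cfsg.Agent.OddHalf.SpN.OutPar
import Cfsg.Agent.OddHalf.D7Out.FrOf

/-!
# D7, `K = Sp_2n(q)`, `q` even, `q ≥ 4`: the frame `Fr` and the field part `Fld` (helper979)

* `exists_T`: from `Front.FE.Start0` a Sylow 2-subgroup `T` of `C(t)` with `T ∩ K = ι(Up)`: `DatT ι t v T`;
* `DatT.fr`: `Defs.Fr t v K U Z T`, `U = ι(Up)`, `Z = ι(Zz) = X_12 Y_1`;
* `DatT.exists_fld`: `Defs.Fld`;
* `DatT.hrep`: the hypothesis of `TransMin.lf_eq_one_of`.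
-/

set_option autoImplicit false

namespace Cfsg.Agent.OddHalf.SpN.Out

open Cfsg Cfsg.Agent.ClassicalGeometry.SympBasic Cfsg.Agent.ClassicalGeometry.SympAutSemi
open Cfsg.Agent.OddHalf.SpN Cfsg.Agent.OddHalf.D7Out
open scoped Matrix commutatorElement

universe u w

variable {n : ℕ} {F : Type u} [Field F] [CharP F 2] [Finite F]

omit [CharP F 2] [Finite F] in
theorem dat_of {G : Type w} [Group G] {ι : Sy n F →* G} (hι : Function.Injective ι) {t v : G}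
    (S : Front.FE.Start0 ι.range t v) : Dat ι t v where
  inj := hι
  tt := S.tt
  t1 := S.t1
  tQ := S.tQ
  pQ := S.pQ
  qK := fun A => S.qK _ ⟨A, rfl⟩
  nK := S.nK
  cK := fun c hc h => S.cK c hc (by rintro _ ⟨A, rfl⟩; exact h A)

theorem exists_T {G : Type w} [Group G] [Finite G] {ι : Sy n F →* G} (hι : Function.Injective ι) {t v : G}
    (S : Front.FE.Start0 ι.range t v) : ∃ T : Subgroup G, DatT ι t v T := by
  obtain ⟨T, pT, vT, tc, max, e⟩ := FrOf.exists_T S (U₀ := (Up n F).map ι) (isPGroup_Up.map ι)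
    (Subgroup.map_le_range ι _) (by
      intro P hP hU hPK
      have h1 : P.comap ι ≤ Up n F := by
        apply Up_max
        · exact hP.comap_of_injective ι hι
        · exact Subgroup.map_le_iff_le_comap.1 hU
      rw [← Subgroup.map_comap_eq_self hPK]
      exact Subgroup.map_mono h1)
  exact ⟨T, { dat_of hι S with pT := pT, vT := vT, tc := tc, max := max, U_eq := e.symm }⟩

namespace DatT

variable {G : Type w} [Group G] {ι : Sy n F →* G} {t v : G} {T : Subgroup G} (D : DatT ι t v T) (hn : 3 ≤ n)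

include D

/-- the action of `T` on `Z` -/
theorem conj_zz {x : G} (hx : x ∈ T) {d : Fin n → F} (hd : Tri (D.sH hn ⟨x, D.hT hx⟩) d) (a b : F) :
    x * ι (zz hn a b) * x⁻¹ = ι (zz hn (d (c0 hn) * d (c1 hn) * D.lf hn ⟨x, D.hT hx⟩ a)
      (d (c0 hn) ^ 2 * D.lf hn ⟨x, D.hT hx⟩ b)) :=
  (D.acts hn ⟨x, D.hT hx⟩).eq (hd.conj_zz hn (D.si hn _) a b)

/-- `C_T(Y_1)` acts linearly -/
theorem lf_of_Y {x : G} (hx : x ∈ T) (h : ∀ b, x * ι (zz hn 0 b) = ι (zz hn 0 b) * x) :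
    D.lf hn ⟨x, D.hT hx⟩ = 1 := by
  obtain ⟨d, hd⟩ := D.tri hn hx
  have key : ∀ b, d (c0 hn) ^ 2 * D.lf hn ⟨x, D.hT hx⟩ b = b := by
    intro b
    have h1 := D.conj_zz hn hx hd 0 b
    rw [h, mul_inv_cancel_right] at h1
    exact ((zz_inj hn (D.inj h1)).2).symm
  have h1 := key 1
  rw [map_one, mul_one] at h1
  ext b
  have h2 := key b
  rw [h1, one_mul] at h2
  exact h2

/-- `C_T(X_12)` acts linearly -/
theorem lf_of_X {x : G} (hx : x ∈ T) (h : ∀ a, x * ι (zz hn a 0) = ι (zz hn a 0) * x) :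
    D.lf hn ⟨x, D.hT hx⟩ = 1 := by
  obtain ⟨d, hd⟩ := D.tri hn hx
  have key : ∀ a, d (c0 hn) * d (c1 hn) * D.lf hn ⟨x, D.hT hx⟩ a = a := by
    intro a
    have h1 := D.conj_zz hn hx hd a 0
    rw [h, mul_inv_cancel_right] at h1
    exact ((zz_inj hn (D.inj h1)).1).symm
  have h1 := key 1
  rw [map_one, mul_one] at h1
  ext b
  have h2 := key b
  rw [h1, one_mul] at h2
  exact h2

/-- **the frame** -/
theorem fr (hq : ∃ c : F, c ≠ 0 ∧ c ≠ 1) : Defs.Fr t v ι.range ((Up n F).map ι) ((Zz hn).map ι) T where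
  tt := D.tt
  t1 := D.t1
  pR := D.pQ
  tR := D.tQ
  nK := D.nK
  vK := by rintro _ ⟨A, rfl⟩; exact D.qK A
  cK := fun c hc h => D.cK c hc fun A => h _ ⟨A, rfl⟩
  KR := by
    rintro _ ⟨A, rfl⟩ h
    rw [D.KR (by omega : 1 ≤ n) h, map_one]
  pT := D.pT
  vT := D.vT
  tc := D.tc
  max := D.max
  U_eq := D.U_eq
  ZU := Subgroup.map_mono (Zz_le hn)
  Zc := by
    rintro _ ⟨_, ⟨a, b, rfl⟩, rfl⟩ _ ⟨B, hB, rfl⟩
    rw [← map_mul, ← map_mul, (comm_Z hn hB a b).eq]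
  Zsq := by
    rintro _ ⟨_, ⟨a, b, rfl⟩, rfl⟩
    rw [← map_mul, zz_mul, CharTwo.add_self_eq_zero, CharTwo.add_self_eq_zero, zz_zero, map_one]
  Z1 := by
    intro h
    have h1 : ι (zz hn 1 0) ∈ (Zz hn).map ι := ⟨_, ⟨1, 0, rfl⟩, rfl⟩
    rw [h, Subgroup.mem_bot, ← map_one ι, ← zz_zero hn] at h1
    exact one_ne_zero (zz_inj hn (D.inj h1)).1
  cU := by
    intro x hx h
    have hl : D.lf hn ⟨x, D.hT hx⟩ = 1 := D.lf_of_Y hn hx fun b => h _ ⟨_, zz_mem_Up hn 0 b, rfl⟩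
    obtain ⟨A, hA, r, hr, e, -⟩ := D.mem_UR hn hx hl
    refine ⟨r, hr, ι A, ⟨A, ?_, rfl⟩, by rw [e, D.QK hr]⟩
    show A ∈ Zz hn
    rw [mem_Zz_iff]
    intro B hB
    apply D.inj
    have h1 := h _ ⟨B, hB, rfl⟩
    rw [e, mul_assoc, ← D.QK hr, ← mul_assoc, ← mul_assoc] at h1
    rw [map_mul, map_mul]
    exact (mul_right_cancel h1).symm
  nconj := by
    rintro _ ⟨_, ⟨a, b, rfl⟩, rfl⟩ g
    exact D.nconj hn hq g

end DatT

/-! ### the field part -/

/-- the group of field automorphisms is commutative -/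
@[reducible] noncomputable def autGroup (F : Type u) [Field F] [Finite F] : CommGroup (F ≃+* F) :=
  { (inferInstance : Group (F ≃+* F)) with mul_comm := aut_comm }

theorem exists_odd (F : Type u) [Field F] [Finite F] : ∃ k m : ℕ, Odd m ∧ ∀ x : F ≃+* F, x ^ (2 ^ k * m) = 1 := by
  have : Finite (F ≃+* F) := DFunLike.finite (F ≃+* F)
  obtain ⟨k, m, hm, h⟩ := Nat.exists_eq_two_pow_mul_odd (Nat.card_pos (α := F ≃+* F)).ne'
  exact ⟨k, m, hm, fun x => by rw [← h, pow_card_eq_one']⟩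

/-- the involution is unique -/
theorem aut_unique (F : Type u) [Field F] [Finite F] {x y : F ≃+* F} (hx : x ≠ 1) (hx2 : x * x = 1) (hy : y ≠ 1)
    (hy2 : y * y = 1) : x = y := by
  classical
  have hc : IsCyclic (F ≃+* F) := Cfsg.Agent.LieRecognition.FieldSemilinear.isCyclic_ringAut F
  have : Finite (F ≃+* F) := DFunLike.finite (F ≃+* F)
  have : Fintype (F ≃+* F) := Fintype.ofFinite _
  by_contra hne
  have h1 := IsCyclic.card_pow_eq_one_le (α := F ≃+* F) (n := 2) (by norm_num)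
  have h2 : ({1, x, y} : Finset (F ≃+* F)) ⊆ Finset.univ.filter fun a => a ^ 2 = 1 := by
    intro a ha
    rw [Finset.mem_insert, Finset.mem_insert, Finset.mem_singleton] at ha
    rw [Finset.mem_filter]
    refine ⟨Finset.mem_univ _, ?_⟩
    rcases ha with rfl | rfl | rfl
    · exact one_pow 2
    · rw [pow_two, hx2]
    · rw [pow_two, hy2]
  have h3 : ({1, x, y} : Finset (F ≃+* F)).card = 3 := by
    rw [Finset.card_insert_of_notMem, Finset.card_insert_of_notMem, Finset.card_singleton]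
    · rw [Finset.mem_singleton]; exact hne
    · rw [Finset.mem_insert, Finset.mem_singleton]
      rintro (h | h)
      · exact hx h.symm
      · exact hy h.symm
  have h4 := Finset.card_le_card h2
  omega

theorem eq_one_of_odd_pow {H : Type*} [Group H] {x : H} {m j : ℕ} (hm : Odd m) (h1 : x ^ m = 1) (h2 : x ^ 2 ^ j = 1) :
    x = 1 := by
  have h3 := orderOf_dvd_of_pow_eq_one h1
  have h4 := orderOf_dvd_of_pow_eq_one h2
  have h5 : Nat.Coprime m (2 ^ j) := Nat.Coprime.pow_right _ (Nat.coprime_two_right.2 hm)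
  have h6 := Nat.eq_one_of_dvd_coprimes h5 h3 h4
  exact orderOf_eq_one_iff.1 h6

namespace DatT

variable {G : Type w} [Group G] [Finite G] {ι : Sy n F →* G} {t v : G} {T : Subgroup G} (D : DatT ι t v T) (hn : 3 ≤ n)

include D

/-- **the field part**. `lf x = 1 ↔ x` acts linearly, `x ∈ T`. -/
theorem exists_fld (hq : ∃ c : F, c ≠ 0 ∧ c ≠ 1) :
    ∃ (A : Type u) (_ : CommGroup A) (lf : Subgroup.centralizer ({t} : Set G) →* A),
      Defs.Fld (D.fr hn hq) lf D.hT ∧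
      ∀ x (hx : x ∈ T), lf ⟨x, D.hT hx⟩ = 1 ↔ D.lf hn ⟨x, D.hT hx⟩ = 1 := by
  obtain ⟨k, m, hm, hkm⟩ := exists_odd F
  let cg : CommGroup (F ≃+* F) := autGroup F
  let f : Subgroup.centralizer ({t} : Set G) →* (F ≃+* F) :=
    { toFun := fun x => D.lf hn x ^ m
      map_one' := by rw [map_one, one_pow]
      map_mul' := fun x y => by
        rw [map_mul]
        exact (show Commute (D.lf hn x) (D.lf hn y) from aut_comm _ _).mul_pow m }
  have hf : ∀ x, f x = D.lf hn x ^ m := fun _ => rfl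
  have key : ∀ x (hx : x ∈ T), f ⟨x, D.hT hx⟩ = 1 ↔ D.lf hn ⟨x, D.hT hx⟩ = 1 := by
    intro x hx
    rw [hf]
    constructor
    · intro h
      obtain ⟨j, hj⟩ := D.pT ⟨x, hx⟩
      refine eq_one_of_odd_pow hm h (j := j) ?_
      rw [← map_pow]
      have e : (⟨x, D.hT hx⟩ : Subgroup.centralizer ({t} : Set G)) ^ 2 ^ j = 1 :=
        Subtype.ext (show x ^ 2 ^ j = 1 from congrArg (fun z : ↥T => (z : G)) hj)
      rw [e, map_one]
    · intro h; rw [h, one_pow]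
  have good : ∀ {y : G}, Defs.GoodY (v := v) f D.hT y → GY D hn y := by
    rintro y ⟨hy, h1, h2, h3⟩
    refine ⟨hy, fun h => h1 ((key y hy).2 h), ?_, h3⟩
    have h4 : f ⟨y * y, D.hT (mul_mem hy hy)⟩ = 1 := by
      rw [← h2, ← map_mul]; rfl
    have h5 := (key _ (mul_mem hy hy)).1 h4
    rw [← h5, ← map_mul]; rfl
  refine ⟨F ≃+* F, cg, f, ?_, key⟩
  constructor
  · rintro ⟨x, hx⟩ ⟨A, rfl⟩
    rw [hf, D.lf_iota, one_pow]
  · intro x hx
    rw [hf, D.lf_R hn hx, one_pow]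
  · intro x
    refine ⟨k, ?_⟩
    rw [hf, ← pow_mul, mul_comm, hkm]
  · intro x y hx hx2 hy hy2
    exact aut_unique F hx hx2 hy hy2
  · intro y hy h1 h2
    have h3 : D.lf hn ⟨y, D.hT hy⟩ ≠ 1 := fun h => h1 ((key y hy).2 h)
    have h4 : D.lf hn ⟨y, D.hT hy⟩ * D.lf hn ⟨y, D.hT hy⟩ = 1 := by
      have h4 : f ⟨y * y, D.hT (mul_mem hy hy)⟩ = 1 := by
        rw [← h2, ← map_mul]; rfl
      have h5 := (key _ (mul_mem hy hy)).1 h4
      rw [← h5, ← map_mul]; rfl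
    obtain ⟨y', g, hl, ho⟩ := GY.exists D hn hy h3 h4
    refine ⟨y', ⟨g.yT, ?_, ?_, g.R⟩, ho⟩
    · rw [hf, hl, ← hf]; exact h1
    · rw [hf, hl, ← hf]; exact h2
  · intro y hy u hu huy hc
    obtain ⟨b, N⟩ := (good hy).nf
    obtain ⟨r, hr, A, hA, hAy, h⟩ := N.cent hu huy fun A hA hAy => hc _ ⟨A, hA, rfl⟩ hAy
    exact ⟨r, hr, ι A, ⟨A, hA, rfl⟩, hAy, h⟩
  · rintro y hy _ ⟨A, hA, rfl⟩ hc
    obtain ⟨b, N⟩ := (good hy).nf
    obtain ⟨B, hB, e⟩ := N.exists_conj hA hc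
    exact ⟨ι B, ⟨B, hB, rfl⟩, e⟩
  · rintro y hy _ ⟨A, hA, rfl⟩ hc
    obtain ⟨b, N⟩ := (good hy).nf
    exact N.mem_der hA hc

end DatT

end Cfsg.Agent.OddHalf.SpN.Out
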