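import Cfsg.Agent.OddHalf.SpN.Start

/-!
# ODD D7, `K = Sp_2n(q)`, `q ≥ 4`: the start of the fusion inside `T` (clean and outer case)

`T₁ = ⟨t⟩ U`, `A = Y_1 = X_{2e_1}`, `B = X_12`.

* `TU.norm_B`, `TU.norm_A`: `A` and `B` are characteristic in `T₁`;
* `OT.norm_T1`: `T₁` is `N(T)`-invariant;
* `SInp.fusA`, `SInp.fusB`, `SInp.start`: the fusion needed in `WTorus.Inp`;
* `SInp.patA`, `SInp.patB`: if `A` (or `B`) and the mixed elements are moved, then both `A` and `B` are.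
-/

set_option autoImplicit false

namespace Cfsg.Agent.OddHalf.SpN.StartB

open Subgroup Cfsg.Agent.OddHalf.D7Out.Defs Cfsg.Agent.OddHalf.D7Out.Front Cfsg.Agent.OddHalf.SpN.Start

variable {G : Type*} [Group G]

/-- `[v, u]` -/
def com (v u : G) : G := v * u * v⁻¹ * u⁻¹

theorem com_conj (n v u : G) : com (n * v * n⁻¹) (n * u * n⁻¹) = n * com v u * n⁻¹ := by
  unfold com; group

/-- commutator data on `T₁ = ⟨t⟩ U` -/
structure TU {F : Type*} [Field F] (T1 : Subgroup G) (xa xb x13 x22 : F → G) (r b : G → F) : Prop where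
  two : ∀ s : F, s + s = 0
  perf : ∀ s : F, ∃ w, w ^ 2 = s
  /-- `|F| ≥ 4` -/
  four : ∃ s : F, s ≠ 0 ∧ s ≠ 1
  xa_mem : ∀ s, xa s ∈ T1
  xb_mem : ∀ s, xb s ∈ T1
  x13_mem : ∀ s, x13 s ∈ T1
  x22_mem : ∀ s, x22 s ∈ T1
  xa_add : ∀ s s', xa (s + s') = xa s * xa s'
  xb_add : ∀ s s', xb (s + s') = xb s * xb s'
  ind : ∀ s s', xb s * xa s' = 1 → s = 0 ∧ s' = 0
  xac : ∀ s, ∀ u ∈ T1, u * xa s = xa s * u
  xbc : ∀ s, ∀ u ∈ T1, u * xb s = xb s * u
  /-- the second centre -/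
  z2 : ∀ v ∈ T1, (∀ u ∈ T1, ∀ w ∈ T1, w * com v u = com v u * w) →
    ∃ a c, ∃ z, (∀ w ∈ T1, w * z = z * w) ∧ z ∈ T1 ∧ v = x13 a * x22 c * z
  r_mul : ∀ u ∈ T1, ∀ w ∈ T1, r (u * w) = r u + r w
  onto : ∀ ρ β, ∃ u ∈ T1, r u = ρ ∧ b u = β
  c13 : ∀ a, ∀ u ∈ T1, com (x13 a) u = xb (a * r u)
  c22 : ∀ c, ∀ u ∈ T1, com (x22 c) u = xb (c * b u) * xa (c * b u ^ 2)

namespace TU

variable {F : Type*} [Field F] {T1 : Subgroup G} {xa xb x13 x22 : F → G} {r b : G → F}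

theorem xa0 (D : TU T1 xa xb x13 x22 r b) : xa 0 = 1 := by
  have h := D.xa_add 0 0
  rw [add_zero] at h
  exact (mul_eq_left.1 h.symm)

theorem xb0 (D : TU T1 xa xb x13 x22 r b) : xb 0 = 1 := by
  have h := D.xb_add 0 0
  rw [add_zero] at h
  exact (mul_eq_left.1 h.symm)

theorem xai (D : TU T1 xa xb x13 x22 r b) (s : F) : (xa s)⁻¹ = xa s := by
  apply inv_eq_of_mul_eq_one_left
  rw [← D.xa_add, D.two, D.xa0]

theorem xbi (D : TU T1 xa xb x13 x22 r b) (s : F) : (xb s)⁻¹ = xb s := by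
  apply inv_eq_of_mul_eq_one_left
  rw [← D.xb_add, D.two, D.xb0]

/-- independence -/
theorem ind' (D : TU T1 xa xb x13 x22 r b) {s s' p p' : F} (h : xb s * xa s' = xb p * xa p') :
    s = p ∧ s' = p' := by
  have h1 : xb (s + p) * xa (s' + p') = 1 := by
    rw [D.xb_add, D.xa_add]
    have e : xb s * xb p * (xa s' * xa p') = xb s * xa s' * (xb p * xa p') := by
      have := D.xac s' (xb p) (D.xb_mem p)
      calc xb s * xb p * (xa s' * xa p') = xb s * (xb p * xa s') * xa p' := by group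
        _ = xb s * (xa s' * xb p) * xa p' := by rw [this]
        _ = _ := by group
    rw [e, h]
    have := D.xac p' (xb p) (D.xb_mem p)
    calc xb p * xa p' * (xb p * xa p') = xb p * (xa p' * xb p) * xa p' := by group
      _ = xb p * xb p * (xa p' * xa p') := by rw [← this]; group
      _ = 1 := by rw [← D.xb_add, ← D.xa_add, D.two, D.two, D.xb0, D.xa0, one_mul]
  obtain ⟨h2, h3⟩ := D.ind _ _ h1
  have key : ∀ x y : F, x + y = 0 → x = y := by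
    intro x y hxy
    have := D.two y
    calc x = x + (y + y) := by rw [this, add_zero]
      _ = (x + y) + y := by ring
      _ = y := by rw [hxy, zero_add]
  exact ⟨key _ _ h2, key _ _ h3⟩

/-- the commutators of an element of the second centre -/
theorem com_eq (D : TU T1 xa xb x13 x22 r b) (a c : F) {z : G} (hz : ∀ w ∈ T1, w * z = z * w) {u : G}
    (hu : u ∈ T1) : com (x13 a * x22 c * z) u = xb (a * r u + c * b u) * xa (c * b u ^ 2) := by
  have h1 : com (x13 a * x22 c * z) u = com (x13 a * x22 c) u := by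
    unfold com
    have := hz u hu
    calc x13 a * x22 c * z * u * (x13 a * x22 c * z)⁻¹ * u⁻¹ =
          x13 a * x22 c * (z * u) * z⁻¹ * (x13 a * x22 c)⁻¹ * u⁻¹ := by group
      _ = x13 a * x22 c * (u * z) * z⁻¹ * (x13 a * x22 c)⁻¹ * u⁻¹ := by rw [this]
      _ = _ := by group
  have h2 : com (x13 a * x22 c) u = x13 a * com (x22 c) u * (x13 a)⁻¹ * com (x13 a) u := by
    unfold com; group
  rw [h1, h2, D.c22 c u hu, D.c13 a u hu]
  have e1 := D.xbc (c * b u) (x13 a) (D.x13_mem a)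
  have e2 := D.xac (c * b u ^ 2) (x13 a) (D.x13_mem a)
  have e3 := D.xbc (a * r u) (xa (c * b u ^ 2)) (D.xa_mem _)
  calc x13 a * (xb (c * b u) * xa (c * b u ^ 2)) * (x13 a)⁻¹ * xb (a * r u) =
        (x13 a * xb (c * b u)) * xa (c * b u ^ 2) * (x13 a)⁻¹ * xb (a * r u) := by group
    _ = xb (c * b u) * (x13 a * xa (c * b u ^ 2)) * (x13 a)⁻¹ * xb (a * r u) := by rw [e1]; group
    _ = xb (c * b u) * (xa (c * b u ^ 2) * xb (a * r u)) := by rw [e2]; group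
    _ = xb (c * b u) * xb (a * r u) * xa (c * b u ^ 2) := by rw [e3]; group
    _ = xb (a * r u + c * b u) * xa (c * b u ^ 2) := by rw [← D.xb_add, add_comm]

/-- the second centre is `N(T₁)`-invariant -/
theorem z2_conj (D : TU T1 xa xb x13 x22 r b) {n : G} (hn : n ∈ normalizer (T1 : Set G)) {v : G} (hv : v ∈ T1)
    (hv2 : ∀ u ∈ T1, ∀ w ∈ T1, w * com v u = com v u * w) :
    ∃ a c, ∃ z, (∀ w ∈ T1, w * z = z * w) ∧ z ∈ T1 ∧ n * v * n⁻¹ = x13 a * x22 c * z := by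
  apply D.z2 _ ((mem_normalizer_iff.1 hn v).1 hv)
  have hn' : ∀ x ∈ T1, n⁻¹ * x * n ∈ T1 := by
    intro x hx
    have := (mem_normalizer_iff.1 (inv_mem hn) x).1 hx
    rwa [inv_inv] at this
  intro u hu w hw
  have h1 := hv2 _ (hn' u hu) _ (hn' w hw)
  have h2 : com (n * v * n⁻¹) u = n * com v (n⁻¹ * u * n) * n⁻¹ := by
    rw [← com_conj]; congr 1; group
  rw [h2]
  calc w * (n * com v (n⁻¹ * u * n) * n⁻¹) = n * (n⁻¹ * w * n * com v (n⁻¹ * u * n)) * n⁻¹ := by group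
    _ = n * (com v (n⁻¹ * u * n) * (n⁻¹ * w * n)) * n⁻¹ := by rw [h1]
    _ = _ := by group

theorem central13 (D : TU T1 xa xb x13 x22 r b) (a : F) : ∀ u ∈ T1, ∀ w ∈ T1, w * com (x13 a) u = com (x13 a) u * w := by
  intro u hu w hw
  rw [D.c13 a u hu]
  exact D.xbc _ w hw

theorem central22 (D : TU T1 xa xb x13 x22 r b) (c : F) : ∀ u ∈ T1, ∀ w ∈ T1, w * com (x22 c) u = com (x22 c) u * w := by
  intro u hu w hw
  rw [D.c22 c u hu, ← mul_assoc, D.xbc _ w hw, mul_assoc, D.xac _ w hw, mul_assoc]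

theorem central_prod (D : TU T1 xa xb x13 x22 r b) (a c : F) :
    ∀ u ∈ T1, ∀ w ∈ T1, w * com (x13 a * x22 c) u = com (x13 a * x22 c) u * w := by
  intro u hu w hw
  have h := D.com_eq a c (z := 1) (fun w _ => by rw [mul_one, one_mul]) hu
  rw [mul_one] at h
  rw [h, ← mul_assoc, D.xbc _ w hw, mul_assoc, D.xac _ w hw, mul_assoc]

/-- `n` maps commutators of the second centre into `A B` -/
theorem conj_com (D : TU T1 xa xb x13 x22 r b) {n : G} (hn : n ∈ normalizer (T1 : Set G)) {v : G} (hv : v ∈ T1)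
    (hv2 : ∀ u ∈ T1, ∀ w ∈ T1, w * com v u = com v u * w) :
    ∃ a c : F, (∀ u ∈ T1, n * com v u * n⁻¹ =
      xb (a * r (n * u * n⁻¹) + c * b (n * u * n⁻¹)) * xa (c * b (n * u * n⁻¹) ^ 2)) := by
  obtain ⟨a, c, z, hz, -, e⟩ := D.z2_conj hn hv hv2
  refine ⟨a, c, fun u hu => ?_⟩
  rw [← com_conj, e]
  exact D.com_eq a c hz ((mem_normalizer_iff.1 hn u).1 hu)

/-- `A B` is `N(T₁)`-invariant -/
theorem conj_AB (D : TU T1 xa xb x13 x22 r b) {n : G} (hn : n ∈ normalizer (T1 : Set G)) (s s' : F) :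
    ∃ p p', n * (xb s * xa s') * n⁻¹ = xb p * xa p' := by
  -- `x_b(s) x_a(s')` is a commutator of `x13 1 * x22 1`
  obtain ⟨w, hw⟩ := D.perf s'
  obtain ⟨u, hu, hr, hb⟩ := D.onto (s + w) w
  have h := D.com_eq 1 1 (z := 1) (fun w _ => by rw [mul_one, one_mul]) hu
  rw [mul_one, hr, hb, one_mul, one_mul, one_mul, hw, add_assoc, D.two, add_zero] at h
  obtain ⟨a, c, hac⟩ := D.conj_com hn (mul_mem (D.x13_mem 1) (D.x22_mem 1)) (D.central_prod 1 1)
  have h1 := hac u hu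
  rw [h] at h1
  exact ⟨_, _, h1⟩

theorem add_self_inj (D : TU T1 xa xb x13 x22 r b) {x y : F} (h : x + y = 0) : x = y := by
  have := D.two y
  calc x = x + (y + y) := by rw [this, add_zero]
    _ = (x + y) + y := by ring
    _ = y := by rw [h, zero_add]

/-- `B` is `N(T₁)`-invariant -/
theorem conj_B (D : TU T1 xa xb x13 x22 r b) {n : G} (hn : n ∈ normalizer (T1 : Set G)) (s : F) :
    ∃ p, n * xb s * n⁻¹ = xb p := by
  obtain ⟨a0, ha0, ha1⟩ := D.four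
  have hn' : ∀ x ∈ T1, n⁻¹ * x * n ∈ T1 := by
    intro x hx
    have := (mem_normalizer_iff.1 (inv_mem hn) x).1 hx
    rwa [inv_inv] at this
  have cc : ∀ x : G, n * (n⁻¹ * x * n) * n⁻¹ = x := fun x => by group
  obtain ⟨a1, c1, h1⟩ := D.conj_com hn (D.x13_mem 1) (D.central13 1)
  obtain ⟨a2, c2, h2⟩ := D.conj_com hn (D.x13_mem a0) (D.central13 a0)
  -- every commutator of `(a1, c1)` is `n xb(s) n⁻¹`
  have g1 : ∀ ρ β, ∃ s, xb (a1 * ρ + c1 * β) * xa (c1 * β ^ 2) = n * xb s * n⁻¹ := by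
    intro ρ β
    obtain ⟨u, hu, hr, hb⟩ := D.onto ρ β
    have e := h1 _ (hn' u hu)
    rw [cc, hr, hb, D.c13 1 _ (hn' u hu)] at e
    exact ⟨_, e.symm⟩
  have g2 : ∀ s, ∃ ρ β, n * xb s * n⁻¹ = xb (a2 * ρ + c2 * β) * xa (c2 * β ^ 2) := by
    intro s
    obtain ⟨u, hu, hr, -⟩ := D.onto (a0⁻¹ * s) 0
    have e := h2 u hu
    rw [D.c13 a0 u hu, hr, mul_inv_cancel_left₀ ha0] at e
    exact ⟨_, _, e⟩
  have g3 : ∀ s, ∃ ρ β, n * xb s * n⁻¹ = xb (a1 * ρ + c1 * β) * xa (c1 * β ^ 2) := by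
    intro s
    obtain ⟨u, hu, hr, -⟩ := D.onto s 0
    have e := h1 u hu
    rw [D.c13 1 u hu, hr, one_mul] at e
    exact ⟨_, _, e⟩
  have g4 : ∀ ρ β, ∃ s, xb (a2 * ρ + c2 * β) * xa (c2 * β ^ 2) = n * xb s * n⁻¹ := by
    intro ρ β
    obtain ⟨u, hu, hr, hb⟩ := D.onto ρ β
    have e := h2 _ (hn' u hu)
    rw [cc, hr, hb, D.c13 a0 _ (hn' u hu)] at e
    exact ⟨_, e.symm⟩
  -- not everything
  have notall : ∀ a c : F, a ≠ 0 → c ≠ 0 →
      ¬ ∀ ρ β, ∃ s, xb (a * ρ + c * β) * xa (c * β ^ 2) = n * xb s * n⁻¹ := by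
    intro a c ha hc hall
    obtain ⟨p, p', hp⟩ := D.conj_AB hn 0 1
    obtain ⟨β, hβ⟩ := D.perf (c⁻¹ * p')
    obtain ⟨s, hs⟩ := hall (a⁻¹ * (p + c * β)) β
    have e1 : a * (a⁻¹ * (p + c * β)) + c * β = p := by
      rw [mul_inv_cancel_left₀ ha, add_assoc, D.two, add_zero]
    rw [e1, hβ, mul_inv_cancel_left₀ hc, ← hp] at hs
    have hs' : xb 0 * xa 1 = xb s * xa 0 := by
      rw [D.xa0, mul_one]
      exact mul_left_cancel (mul_right_cancel hs)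
    exact one_ne_zero (D.ind' hs').2
  have hc1 : c1 = 0 := by
    by_contra hc1
    have ha1' : a1 = 0 := by
      by_contra ha1'
      exact notall a1 c1 ha1' hc1 g1
    -- the element `β = 1` of `D_{c1}`
    obtain ⟨s, hs⟩ := g1 0 1
    obtain ⟨ρ, β, hβ⟩ := g2 s
    rw [← hs, ha1'] at hβ
    have h3 := D.ind' hβ
    rw [zero_mul, zero_add, mul_one, one_pow, mul_one] at h3
    have hc2 : c2 ≠ 0 := by
      rintro rfl
      rw [zero_mul, zero_mul] at h3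
      exact hc1 h3.2
    have ha2 : a2 = 0 := by
      by_contra ha2
      exact notall a2 c2 ha2 hc2 g4
    rw [ha2, zero_mul, zero_add] at h3
    have hβ0 : β ≠ 0 := by
      rintro rfl
      rw [mul_zero] at h3
      exact hc1 h3.1
    have h4 : β = 1 := by
      have h5 : c2 * β ^ 2 = c2 * β := by rw [← h3.1, ← h3.2]
      have h6 : β ^ 2 = β := mul_left_cancel₀ hc2 h5
      rw [pow_two] at h6
      exact mul_left_cancel₀ hβ0 (by rw [h6, mul_one])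
    have h5 : c1 = c2 := by rw [h3.1, h4, mul_one]
    obtain ⟨u, hu, hr, -⟩ := D.onto 1 0
    have k1 := h1 u hu
    have k2 := h2 u hu
    rw [ha1', zero_mul, zero_add, h5] at k1
    rw [ha2, zero_mul, zero_add, ← k1, D.c13 a0 u hu, D.c13 1 u hu, hr, mul_one, mul_one] at k2
    have k3 : xb a0 = xb 1 := mul_left_cancel (mul_right_cancel k2)
    have k4 : xb a0 * xa 0 = xb 1 * xa 0 := by rw [k3]
    exact ha1 (D.ind' k4).1
  obtain ⟨ρ, β, h⟩ := g3 s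
  rw [hc1, zero_mul, zero_mul, add_zero, D.xa0, mul_one] at h
  exact ⟨_, h⟩

/-- `A` is `N(T₁)`-invariant -/
theorem conj_A (D : TU T1 xa xb x13 x22 r b) {n : G} (hn : n ∈ normalizer (T1 : Set G)) (s : F) :
    ∃ p, n * xa s * n⁻¹ = xa p := by
  by_cases hs0 : s = 0
  · exact ⟨0, by rw [hs0, D.xa0]; group⟩
  obtain ⟨p, p', h⟩ := D.conj_AB hn 0 s
  rw [D.xb0, one_mul] at h
  by_cases hp : p = 0
  · exact ⟨p', by rw [h, hp, D.xb0, one_mul]⟩
  exfalso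
  have cc : ∀ x : G, n⁻¹ * (n * x * n⁻¹) * n = x := fun x => by group
  have hni : n⁻¹ ∈ normalizer (T1 : Set G) := inv_mem hn
  have hn1 : ∀ x ∈ T1, n * x * n⁻¹ ∈ T1 := fun x hx => (mem_normalizer_iff.1 hn x).1 hx
  by_cases hp' : p' = 0
  · rw [hp', D.xa0, mul_one] at h
    obtain ⟨k, hk⟩ := D.conj_B hni p
    rw [← h, inv_inv, cc] at hk
    have : xb 0 * xa s = xb k * xa 0 := by rw [D.xb0, D.xa0, one_mul, mul_one, hk]
    exact hs0 (D.ind' this).2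
  -- `z' = [x22 c, u]`
  set c : F := p ^ 2 * p'⁻¹ with hc
  set β : F := p' * p⁻¹ with hβ
  have hc0 : c ≠ 0 := mul_ne_zero (pow_ne_zero 2 hp) (inv_ne_zero hp')
  obtain ⟨u, hu, hr, hb⟩ := D.onto 0 β
  have e1 : com (x22 c) u = n * xa s * n⁻¹ := by
    rw [D.c22 c u hu, hb, h]
    congr 2
    · rw [hc, hβ]; field_simp
    · rw [hc, hβ]; field_simp
  obtain ⟨a2, c2, h2⟩ := D.conj_com hni (D.x22_mem c) (D.central22 c)
  have k1 := h2 u hu
  rw [e1, inv_inv, cc] at k1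
  have k2 : xb 0 * xa s = xb (a2 * r (n⁻¹ * u * n) + c2 * b (n⁻¹ * u * n)) * xa (c2 * b (n⁻¹ * u * n) ^ 2) := by
    rw [D.xb0, one_mul]; exact k1
  obtain ⟨k3, k4⟩ := D.ind' k2
  have hc2 : c2 ≠ 0 := by
    intro h0
    rw [h0, zero_mul] at k4
    exact hs0 k4
  have ha2 : a2 ≠ 0 := by
    intro h0
    rw [h0, zero_mul, zero_add] at k3
    have hb0 : b (n⁻¹ * u * n) = 0 := (mul_eq_zero.1 k3.symm).resolve_left hc2
    rw [hb0] at k4
    apply hs0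
    rw [k4]; ring
  -- `xb 1` is a commutator of `x22 c`
  obtain ⟨q, q', hq⟩ := D.conj_AB hni 1 0
  obtain ⟨γ, hγ⟩ := D.perf (c2⁻¹ * q')
  obtain ⟨w, hw, hwr, hwb⟩ := D.onto (a2⁻¹ * (q + c2 * γ)) γ
  have h3 := h2 _ (hn1 w hw)
  rw [inv_inv, cc, hwr, hwb, mul_inv_cancel_left₀ ha2, add_assoc, D.two, add_zero, hγ,
    mul_inv_cancel_left₀ hc2, ← hq, inv_inv] at h3
  have h4 : com (x22 c) (n * w * n⁻¹) = xb 1 * xa 0 := mul_left_cancel (mul_right_cancel h3)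
  rw [D.c22 c _ (hn1 w hw)] at h4
  obtain ⟨h5, h6⟩ := D.ind' h4
  have h7 : b (n * w * n⁻¹) = 0 := by
    have := (mul_eq_zero.1 h6).resolve_left hc0
    exact pow_eq_zero_iff (two_ne_zero) |>.1 this
  rw [h7, mul_zero] at h5
  exact zero_ne_one h5

end TU

/-! ### `T₁` is `N(T)`-invariant -/

/-- `T₁ ≤ T`, elements of `T` acting trivially on the coordinate `r` or on `B` lie in `T₁` -/
structure OT {F : Type*} [Field F] (T T1 : Subgroup G) (xa xb x13 x22 : F → G) (r b : G → F) : Prop extends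
    TU T1 xa xb x13 x22 r b where
  T1T : T1 ≤ T
  nT1 : ∀ g ∈ T, g ∈ normalizer (T1 : Set G)
  ract : ∀ g ∈ T, (∀ u ∈ T1, r (g * u * g⁻¹) = r u) → g ∈ T1
  bact : ∀ g ∈ T, (∀ s, g * xb s = xb s * g) → g ∈ T1

namespace OT

variable {F : Type*} [Field F] {T T1 : Subgroup G} {xa xb x13 x22 : F → G} {r b : G → F}

theorem r_central (D : OT T T1 xa xb x13 x22 r b) {z : G} (hz : z ∈ T1) (hzc : ∀ w ∈ T1, w * z = z * w) :
    r z = 0 := by
  have h := D.c13 1 z hz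
  have h1 : com (x13 1) z = 1 := by
    unfold com
    rw [hzc _ (D.x13_mem 1)]; group
  rw [h1, one_mul] at h
  have : xb 0 * xa 0 = xb (r z) * xa 0 := by rw [← h, D.toTU.xb0]
  exact (D.toTU.ind' this).1.symm

/-- the second centre of `P > T₁` centralises `T₁` -/
theorem z2_comm (D : OT T T1 xa xb x13 x22 r b) {P : Subgroup G} (hP1 : T1 ≤ P) (hPT : P ≤ T) (hne : ¬ P ≤ T1)
    {g : G} (hg : g ∈ P) (hg2 : ∀ x ∈ P, ∀ w ∈ P, w * com g x = com g x * w) : ∀ u ∈ T1, g * u = u * g := by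
  have hcomm : ∀ u ∈ T1, com g u ∈ P := fun u hu =>
    mul_mem (mul_mem (mul_mem hg (hP1 hu)) (inv_mem hg)) (inv_mem (hP1 hu))
  have hc1 : ∀ u ∈ T1, com g u ∈ T1 := fun u hu =>
    D.bact _ (hPT (hcomm u hu)) fun s => (hg2 u (hP1 hu) _ (hP1 (D.xb_mem s))).symm
  have hr0 : ∀ u ∈ T1, r (com g u) = 0 := fun u hu =>
    D.r_central (hc1 u hu) fun w hw => hg2 u (hP1 hu) w (hP1 hw)
  have hg1 : g ∈ T1 := by
    apply D.ract g (hPT hg)
    intro u hu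
    have e : g * u * g⁻¹ = com g u * u := by unfold com; group
    rw [e, D.r_mul _ (hc1 u hu) _ hu, hr0 u hu, zero_add]
  obtain ⟨a, c, z, hz, hz1, hgz⟩ := D.z2 g hg1 fun u hu w hw => hg2 u (hP1 hu) w (hP1 hw)
  obtain ⟨ψ, hψP, hψ⟩ := Set.not_subset.1 hne
  have hcom : ∀ u ∈ T1, com g u = xb (a * r u + c * b u) * xa (c * b u ^ 2) := by
    intro u hu
    rw [hgz]
    exact D.com_eq a c hz hu
  have ha : a = 0 := by
    by_contra ha
    apply hψ
    apply D.bact ψ (hPT hψP)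
    intro s
    obtain ⟨u, hu, hr, hb⟩ := D.onto (a⁻¹ * s) 0
    have h1 := hg2 u (hP1 hu) ψ hψP
    rw [hcom u hu, hr, hb, mul_zero, add_zero, mul_inv_cancel_left₀ ha] at h1
    have e : c * (0 : F) ^ 2 = 0 := by ring
    rw [e, D.toTU.xa0, mul_one] at h1
    exact h1
  have hc : c = 0 := by
    by_contra hc
    apply hψ
    apply D.bact ψ (hPT hψP)
    intro s
    obtain ⟨u, hu, -, hb⟩ := D.onto 0 (c⁻¹ * s)
    have h1 := hg2 u (hP1 hu) ψ hψP
    rw [hcom u hu, ha, zero_mul, zero_add, hb, mul_inv_cancel_left₀ hc] at h1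
    have hψN := D.nT1 ψ (hPT hψP)
    obtain ⟨p, hp⟩ := D.toTU.conj_B hψN s
    obtain ⟨p', hp'⟩ := D.toTU.conj_A hψN (c * (c⁻¹ * s) ^ 2)
    have h2 : xb p * xa p' = xb s * xa (c * (c⁻¹ * s) ^ 2) := by
      rw [← hp, ← hp']
      calc ψ * xb s * ψ⁻¹ * (ψ * xa (c * (c⁻¹ * s) ^ 2) * ψ⁻¹) =
            ψ * (xb s * xa (c * (c⁻¹ * s) ^ 2)) * ψ⁻¹ := by group
        _ = _ := by rw [h1]; group
    have h3 := (D.toTU.ind' h2).1
    rw [h3] at hp
    calc ψ * xb s = ψ * xb s * ψ⁻¹ * ψ := by group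
      _ = xb s * ψ := by rw [hp]
  intro u hu
  have h1 := hcom u hu
  rw [ha, hc, zero_mul, zero_mul, zero_mul, add_zero, D.toTU.xb0, D.toTU.xa0, mul_one] at h1
  unfold com at h1
  calc g * u = g * u * g⁻¹ * u⁻¹ * (u * g) := by group
    _ = u * g := by rw [h1, one_mul]

/-- `C_P(Z_2(P))` -/
def nxt (P : Subgroup G) : Subgroup G where
  carrier := {x | x ∈ P ∧ ∀ g ∈ P, (∀ y ∈ P, ∀ w ∈ P, w * com g y = com g y * w) → g * x = x * g}
  one_mem' := ⟨one_mem _, fun g _ _ => by rw [mul_one, one_mul]⟩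
  mul_mem' := by
    rintro x y ⟨hx, hx'⟩ ⟨hy, hy'⟩
    refine ⟨mul_mem hx hy, fun g hg h => ?_⟩
    rw [← mul_assoc, hx' g hg h, mul_assoc, hy' g hg h, mul_assoc]
  inv_mem' := by
    rintro x ⟨hx, hx'⟩
    refine ⟨inv_mem hx, fun g hg h => ?_⟩
    have := hx' g hg h
    rw [eq_comm, inv_mul_eq_iff_eq_mul, ← mul_assoc, ← this, mul_assoc, mul_inv_cancel, mul_one]

theorem mem_nxt {P : Subgroup G} {x : G} : x ∈ nxt P ↔ x ∈ P ∧ ∀ g ∈ P,
    (∀ y ∈ P, ∀ w ∈ P, w * com g y = com g y * w) → g * x = x * g := Iff.rfl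

theorem nxt_norm {P : Subgroup G} {n : G} (hn : n ∈ normalizer (P : Set G)) :
    n ∈ normalizer (nxt P : Set G) := by
  have key : ∀ n ∈ normalizer (P : Set G), ∀ x ∈ nxt P, n * x * n⁻¹ ∈ nxt P := by
    intro n hn x hx
    have hn' : ∀ x ∈ P, n⁻¹ * x * n ∈ P := by
      intro x hx
      have := (mem_normalizer_iff.1 (inv_mem hn) x).1 hx
      rwa [inv_inv] at this
    have hn1 : ∀ x ∈ P, n * x * n⁻¹ ∈ P := fun x hx => (mem_normalizer_iff.1 hn x).1 hx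
    obtain ⟨hx1, hx2⟩ := hx
    refine ⟨hn1 x hx1, fun g hg h => ?_⟩
    have h1 := hx2 (n⁻¹ * g * n) (hn' g hg) (fun y hy w hw => by
      have h2 := h _ (hn1 y hy) _ (hn1 w hw)
      have e : com (n⁻¹ * g * n) y = n⁻¹ * com g (n * y * n⁻¹) * n := by unfold com; group
      rw [e]
      calc w * (n⁻¹ * com g (n * y * n⁻¹) * n) = n⁻¹ * (n * w * n⁻¹ * com g (n * y * n⁻¹)) * n := by group
        _ = n⁻¹ * (com g (n * y * n⁻¹) * (n * w * n⁻¹)) * n := by rw [h2]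
        _ = _ := by group)
    calc g * (n * x * n⁻¹) = n * (n⁻¹ * g * n * x) * n⁻¹ := by group
      _ = n * (x * (n⁻¹ * g * n)) * n⁻¹ := by rw [h1]
      _ = _ := by group
  rw [mem_normalizer_iff]
  intro x
  refine ⟨key n hn x, fun hx => ?_⟩
  have := key n⁻¹ (inv_mem hn) _ hx
  have e : n⁻¹ * (n * x * n⁻¹) * n⁻¹⁻¹ = x := by group
  rwa [e] at this

/-- `C_P(Z_2(P)) < P` for a nonabelian 2-group -/
theorem nxt_lt [Finite G] {P : Subgroup G} (hP : IsPGroup 2 P) (hna : ∃ x ∈ P, ∃ y ∈ P, x * y ≠ y * x) :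
    ¬ P ≤ nxt P := by
  intro hle
  obtain ⟨x, hx, y, hy, hxy⟩ := hna
  have : Fact (Nat.Prime 2) := ⟨Nat.prime_two⟩
  have hP' : IsPGroup 2 (P ⧸ center P) := hP.to_quotient _
  have hnt : Nontrivial (P ⧸ center P) := by
    rw [← not_subsingleton_iff_nontrivial, QuotientGroup.subsingleton_iff]
    intro h
    apply hxy
    have h1 : (⟨x, hx⟩ : P) ∈ center P := by rw [h]; exact mem_top _
    exact congrArg Subtype.val (mem_center_iff.1 h1 ⟨y, hy⟩).symm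
  have := hP'.center_nontrivial
  obtain ⟨⟨q, hq⟩, hq1⟩ := exists_ne (1 : center (P ⧸ center P))
  obtain ⟨g, rfl⟩ := QuotientGroup.mk_surjective q
  have hgc : ∀ a : P, g * a * g⁻¹ * a⁻¹ ∈ center P := by
    intro a
    have h1 := mem_center_iff.1 hq (a : P ⧸ center P)
    rw [← QuotientGroup.eq_one_iff, QuotientGroup.mk_mul, QuotientGroup.mk_mul, QuotientGroup.mk_mul,
      QuotientGroup.mk_inv, QuotientGroup.mk_inv, ← h1]
    group
  have hg1 : g ∉ center P := by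
    intro h
    apply hq1
    apply Subtype.ext
    exact (QuotientGroup.eq_one_iff g).2 h
  apply hg1
  rw [mem_center_iff]
  intro a
  apply Subtype.ext
  refine ((hle a.2).2 g g.2 fun y hy w hw => ?_).symm
  have h2 := mem_center_iff.1 (hgc ⟨y, hy⟩) ⟨w, hw⟩
  exact congrArg Subtype.val h2

/-- `T₁` is `N(P)`-invariant, `T₁ ≤ P ≤ T` -/
theorem norm_aux [Finite G] (D : OT T T1 xa xb x13 x22 r b) (hT : IsPGroup 2 T) : ∀ k : ℕ, ∀ P : Subgroup G,
    Nat.card P ≤ k → T1 ≤ P → P ≤ T → ∀ n ∈ normalizer (P : Set G), n ∈ normalizer (T1 : Set G) := by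
  have hna : ∀ P : Subgroup G, T1 ≤ P → ∃ x ∈ P, ∃ y ∈ P, x * y ≠ y * x := by
    intro P hP
    obtain ⟨u, hu, hr, -⟩ := D.onto 1 0
    refine ⟨x13 1, hP (D.x13_mem 1), u, hP hu, fun h => ?_⟩
    have h1 := D.c13 1 u hu
    have h2 : com (x13 1) u = 1 := by unfold com; rw [h]; group
    rw [h2, hr, mul_one] at h1
    have : xb 0 * xa 0 = xb 1 * xa 0 := by rw [← h1, D.toTU.xb0]
    exact zero_ne_one (D.toTU.ind' this).1
  intro k
  induction k with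
  | zero =>
    intro P hk
    exact absurd (Nat.card_pos (α := P)) (by omega)
  | succ k ih =>
    intro P hk hP1 hPT n hn
    by_cases hne : P ≤ T1
    · have : P = T1 := le_antisymm hne hP1
      rwa [this] at hn
    have h1 : T1 ≤ nxt P := fun u hu =>
      ⟨hP1 hu, fun g hg h => D.z2_comm hP1 hPT hne hg h u hu⟩
    have h2 : nxt P ≤ P := fun x hx => hx.1
    have h3 : Nat.card (nxt P) < Nat.card P := by
      refine lt_of_le_of_ne (Nat.card_le_card_of_injective _ (inclusion_injective h2)) fun h => ?_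
      exact nxt_lt (hT.to_le hPT) (hna P hP1) (Subgroup.eq_of_le_of_card_ge h2 h.ge).ge
    exact ih (nxt P) (by omega) h1 (h2.trans hPT) n (nxt_norm hn)

/-- `T₁` is `N(T)`-invariant -/
theorem norm_T1 [Finite G] (D : OT T T1 xa xb x13 x22 r b) (hT : IsPGroup 2 T) {n : G}
    (hn : n ∈ normalizer (T : Set G)) : n ∈ normalizer (T1 : Set G) :=
  D.norm_aux hT _ T le_rfl D.T1T le_rfl n hn

end OT

/-- the input of the start -/
structure SInp {F : Type*} [Field F] (t v : G) (K U Z T T1 A B H : Subgroup G) (xa xb x13 x22 : F → G)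
    (r b : G → F) : Prop where
  fr : Fr t v K U Z T
  ot : OT T T1 xa xb x13 x22 r b
  hA : ∀ g, g ∈ A ↔ ∃ s, xa s = g
  hB : ∀ g, g ∈ B ↔ ∃ s, xb s = g
  hZ : ∀ z ∈ Z, ∃ s s', z = xb s * xa s'
  Ht : ∀ h ∈ H, h * t = t * h
  HT1 : ∀ h ∈ H, h ∈ normalizer (T1 : Set G)
  tr : ∀ s s' p p' : F, s ≠ 0 → s' ≠ 0 → p ≠ 0 → p' ≠ 0 →
    ∃ h ∈ H, h * xb s * h⁻¹ = xb p ∧ h * xa s' * h⁻¹ = xa p'

namespace SInp

variable {F : Type*} [Field F] {t v : G} {K U Z T T1 A B H : Subgroup G} {xa xb x13 x22 : F → G} {r b : G → F}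

theorem nA (I : SInp t v K U Z T T1 A B H xa xb x13 x22 r b) {n : G} (hn : n ∈ normalizer (T1 : Set G)) :
    n ∈ normalizer (A : Set G) := by
  have key : ∀ n ∈ normalizer (T1 : Set G), ∀ x ∈ A, n * x * n⁻¹ ∈ A := by
    intro n hn x hx
    obtain ⟨s, rfl⟩ := (I.hA x).1 hx
    obtain ⟨p, hp⟩ := I.ot.toTU.conj_A hn s
    exact (I.hA _).2 ⟨p, hp.symm⟩
  rw [mem_normalizer_iff]
  intro x
  refine ⟨key n hn x, fun hx => ?_⟩
  have := key n⁻¹ (inv_mem hn) _ hx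
  have e : n⁻¹ * (n * x * n⁻¹) * n⁻¹⁻¹ = x := by group
  rwa [e] at this

theorem nB (I : SInp t v K U Z T T1 A B H xa xb x13 x22 r b) {n : G} (hn : n ∈ normalizer (T1 : Set G)) :
    n ∈ normalizer (B : Set G) := by
  have key : ∀ n ∈ normalizer (T1 : Set G), ∀ x ∈ B, n * x * n⁻¹ ∈ B := by
    intro n hn x hx
    obtain ⟨s, rfl⟩ := (I.hB x).1 hx
    obtain ⟨p, hp⟩ := I.ot.toTU.conj_B hn s
    exact (I.hB _).2 ⟨p, hp.symm⟩
  rw [mem_normalizer_iff]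
  intro x
  refine ⟨key n hn x, fun hx => ?_⟩
  have := key n⁻¹ (inv_mem hn) _ hx
  have e : n⁻¹ * (n * x * n⁻¹) * n⁻¹⁻¹ = x := by group
  rwa [e] at this

theorem xa_ne (I : SInp t v K U Z T T1 A B H xa xb x13 x22 r b) {s : F} (h : s ≠ 0) : xa s ≠ 1 := by
  intro e
  have : xb 0 * xa s = xb 0 * xa 0 := by rw [e, I.ot.toTU.xa0]
  exact h (I.ot.toTU.ind' this).2

theorem xb_ne (I : SInp t v K U Z T T1 A B H xa xb x13 x22 r b) {s : F} (h : s ≠ 0) : xb s ≠ 1 := by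
  intro e
  have : xb s * xa 0 = xb 0 * xa 0 := by rw [e, I.ot.toTU.xb0]
  exact h (I.ot.toTU.ind' this).1

theorem AT (I : SInp t v K U Z T T1 A B H xa xb x13 x22 r b) : A ≤ T := fun x hx => by
  obtain ⟨s, rfl⟩ := (I.hA x).1 hx
  exact I.ot.T1T (I.ot.xa_mem s)

theorem BT (I : SInp t v K U Z T T1 A B H xa xb x13 x22 r b) : B ≤ T := fun x hx => by
  obtain ⟨s, rfl⟩ := (I.hB x).1 hx
  exact I.ot.T1T (I.ot.xb_mem s)

theorem nfa [Finite G] (I : SInp t v K U Z T T1 A B H xa xb x13 x22 r b) :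
    ∃ s : F, s ≠ 0 ∧ ∀ x ∈ T, x * xa s = xa s * x := by
  have h1 : A ≠ ⊥ := by
    intro h
    have : xa 1 ∈ A := (I.hA _).2 ⟨1, rfl⟩
    rw [h, mem_bot] at this
    exact I.xa_ne one_ne_zero this
  obtain ⟨a, ha, ha1, hc⟩ := Start.Inp.exists_central (X := A) I.fr.pT I.AT h1 fun x hx a ha =>
    (mem_normalizer_iff.1 (I.nA (I.ot.nT1 x hx)) a).1 ha
  obtain ⟨s, rfl⟩ := (I.hA a).1 ha
  exact ⟨s, fun h => ha1 (by rw [h, I.ot.toTU.xa0]), hc⟩

theorem nfb [Finite G] (I : SInp t v K U Z T T1 A B H xa xb x13 x22 r b) :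
    ∃ s : F, s ≠ 0 ∧ ∀ x ∈ T, x * xb s = xb s * x := by
  have h1 : B ≠ ⊥ := by
    intro h
    have : xb 1 ∈ B := (I.hB _).2 ⟨1, rfl⟩
    rw [h, mem_bot] at this
    exact I.xb_ne one_ne_zero this
  obtain ⟨a, ha, ha1, hc⟩ := Start.Inp.exists_central (X := B) I.fr.pT I.BT h1 fun x hx a ha =>
    (mem_normalizer_iff.1 (I.nB (I.ot.nT1 x hx)) a).1 ha
  obtain ⟨s, rfl⟩ := (I.hB a).1 ha
  exact ⟨s, fun h => ha1 (by rw [h, I.ot.toTU.xb0]), hc⟩

theorem comm_tz (I : SInp t v K U Z T T1 A B H xa xb x13 x22 r b) {z : G} (hzc : ∀ x ∈ T, x * z = z * x) :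
    ∀ x ∈ T, x * (t * z) = t * z * x := by
  intro x hx
  rw [← mul_assoc, I.fr.tc x hx, mul_assoc, hzc x hx, mul_assoc]

/-- conjugation of `t z` by `h ∈ H` -/
theorem conj_tz (I : SInp t v K U Z T T1 A B H xa xb x13 x22 r b) {h z z' : G} (hh : h ∈ H)
    (e : h * z * h⁻¹ = z') : h * (t * z) * h⁻¹ = t * z' := by
  calc h * (t * z) * h⁻¹ = (h * t) * z * h⁻¹ := by group
    _ = t * (h * z * h⁻¹) := by rw [I.Ht h hh]; group
    _ = t * z' := by rw [e]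

/-- the fusion for the long root elements -/
theorem fusA [Finite G] (I : SInp t v K U Z T T1 A B H xa xb x13 x22 r b) {s : F} (hs : s ≠ 0)
    (hta : IsConj t (t * xa s)) : Fus t T1 A := by
  obtain ⟨z, hz, hzc⟩ := I.nfa
  obtain ⟨h, hh, -, e⟩ := I.tr 1 s 1 z one_ne_zero hs one_ne_zero hz
  obtain ⟨g, hg⟩ := isConj_iff.1 hta
  obtain ⟨n, hn, hnt⟩ := exists_normalizer I.fr (g := h * g) (u := t * xa z) (by
    calc h * g * t * (h * g)⁻¹ = h * (g * t * g⁻¹) * h⁻¹ := by group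
      _ = t * xa z := by rw [hg]; exact I.conj_tz hh e) (I.comm_tz hzc)
  have hn1 := I.ot.norm_T1 I.fr.pT hn
  refine Start.Inp.fus_of (H := H) (z := xa z) I.Ht (fun h hh => I.nA (I.HT1 h hh)) I.HT1 ?_ hn1 (I.nA hn1) hnt
  intro x hx hx1
  obtain ⟨p, rfl⟩ := (I.hA x).1 hx
  have hp : p ≠ 0 := by
    rintro rfl
    exact hx1 I.ot.toTU.xa0
  obtain ⟨h, hh, -, e⟩ := I.tr 1 z 1 p one_ne_zero hz one_ne_zero hp
  exact ⟨h, hh, e⟩

/-- the fusion for the short root elements -/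
theorem fusB [Finite G] (I : SInp t v K U Z T T1 A B H xa xb x13 x22 r b) {s : F} (hs : s ≠ 0)
    (htb : IsConj t (t * xb s)) : Fus t T1 B := by
  obtain ⟨z, hz, hzc⟩ := I.nfb
  obtain ⟨h, hh, e, -⟩ := I.tr s 1 z 1 hs one_ne_zero hz one_ne_zero
  obtain ⟨g, hg⟩ := isConj_iff.1 htb
  obtain ⟨n, hn, hnt⟩ := exists_normalizer I.fr (g := h * g) (u := t * xb z) (by
    calc h * g * t * (h * g)⁻¹ = h * (g * t * g⁻¹) * h⁻¹ := by group
      _ = t * xb z := by rw [hg]; exact I.conj_tz hh e) (I.comm_tz hzc)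
  have hn1 := I.ot.norm_T1 I.fr.pT hn
  refine Start.Inp.fus_of (H := H) (z := xb z) I.Ht (fun h hh => I.nB (I.HT1 h hh)) I.HT1 ?_ hn1 (I.nB hn1) hnt
  intro x hx hx1
  obtain ⟨p, rfl⟩ := (I.hB x).1 hx
  have hp : p ≠ 0 := by
    rintro rfl
    exact hx1 I.ot.toTU.xb0
  obtain ⟨h, hh, e, -⟩ := I.tr z 1 p 1 hz one_ne_zero hp one_ne_zero
  exact ⟨h, hh, e⟩

/-- the mixed elements form one class -/
theorem mixed (I : SInp t v K U Z T T1 A B H xa xb x13 x22 r b) {s s' p p' : F} (hs : s ≠ 0) (hs' : s' ≠ 0)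
    (hp : p ≠ 0) (hp' : p' ≠ 0) (h : IsConj t (t * (xb s * xa s'))) : IsConj t (t * (xb p * xa p')) := by
  obtain ⟨h', hh, e1, e2⟩ := I.tr s s' p p' hs hs' hp hp'
  refine h.trans (isConj_iff.2 ⟨h', I.conj_tz hh ?_⟩)
  calc h' * (xb s * xa s') * h'⁻¹ = (h' * xb s * h'⁻¹) * (h' * xa s' * h'⁻¹) := by group
    _ = _ := by rw [e1, e2]

/-- **The start**: if `t` is not isolated in `Z(T)` then the long or the short root elements are moved. -/
theorem start [Finite G] (I : SInp t v K U Z T T1 A B H xa xb x13 x22 r b) (hni : ¬ Iso t T) :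
    Fus t T1 A ∨ Fus t T1 B := by
  obtain ⟨⟨n, hn, z, hz, hz1, hzc, hnt⟩, -⟩ := exists_swap I.fr hni
  by_cases hA : ∃ s : F, s ≠ 0 ∧ IsConj t (t * xa s)
  · obtain ⟨s, hs, hc⟩ := hA
    exact Or.inl (I.fusA hs hc)
  by_cases hB : ∃ s : F, s ≠ 0 ∧ IsConj t (t * xb s)
  · obtain ⟨s, hs, hc⟩ := hB
    exact Or.inr (I.fusB hs hc)
  exfalso
  push Not at hA hB
  have htz : IsConj t (t * z) := isConj_iff.2 ⟨n, hnt⟩
  obtain ⟨s, s', rfl⟩ := I.hZ z hz
  have hs : s ≠ 0 := by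
    rintro rfl
    rw [I.ot.toTU.xb0, one_mul] at htz hz1
    exact hA s' (fun h => hz1 (by rw [h, I.ot.toTU.xa0])) htz
  have hs' : s' ≠ 0 := by
    rintro rfl
    rw [I.ot.toTU.xa0, mul_one] at htz hz1
    exact hB s hs htz
  have hn1 := I.ot.norm_T1 I.fr.pT hn
  have key : ∀ c : F, c ≠ 0 → n * xb c * n⁻¹ = xb s := by
    intro c hc
    obtain ⟨p, hp⟩ := I.ot.toTU.conj_B hn1 c
    by_contra hne
    have hps : s + p ≠ 0 := fun h => hne (by rw [hp, I.ot.toTU.add_self_inj h])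
    apply hB c hc
    refine (I.mixed hs hs' hps hs' htz).trans (isConj_iff.2 ⟨n⁻¹, ?_⟩)
    have e : xb (s + p) * xa s' = xb s * xa s' * xb p := by
      rw [I.ot.xb_add, mul_assoc, I.ot.xac s' _ (I.ot.xb_mem p), mul_assoc]
    rw [e, ← hp]
    calc n⁻¹ * (t * (xb s * xa s' * (n * xb c * n⁻¹))) * n⁻¹⁻¹ = n⁻¹ * (t * (xb s * xa s')) * n * xb c := by group
      _ = n⁻¹ * (n * t * n⁻¹) * n * xb c := by rw [hnt]
      _ = t * xb c := by group
  obtain ⟨c, hc0, hc1⟩ := I.ot.four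
  have h5 := (key c hc0).trans (key 1 one_ne_zero).symm
  have h6 : xb c = xb 1 := mul_left_cancel (mul_right_cancel h5)
  have h7 : xb c * xa 0 = xb 1 * xa 0 := by rw [h6]
  exact hc1 (I.ot.toTU.ind' h7).1

/-- if the long and the mixed elements are moved, so are the short ones -/
theorem short_of_mixed (I : SInp t v K U Z T T1 A B H xa xb x13 x22 r b) (hF : Fus t T1 A) {s s' : F}
    (hs : s ≠ 0) (h : IsConj t (t * (xb s * xa s'))) : ∃ p : F, p ≠ 0 ∧ IsConj t (t * xb p) := by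
  obtain ⟨g, hg1, -, hgt⟩ := hF (xa s') ((I.hA _).2 ⟨s', rfl⟩)
  obtain ⟨p, hp⟩ := I.ot.toTU.conj_B (inv_mem hg1) s
  rw [inv_inv] at hp
  refine ⟨p, ?_, h.trans (isConj_iff.2 ⟨g⁻¹, ?_⟩)⟩
  · rintro rfl
    apply I.xb_ne hs
    rw [I.ot.toTU.xb0] at hp
    calc xb s = g * (g⁻¹ * xb s * g) * g⁻¹ := by group
      _ = 1 := by rw [hp]; group
  · have e : xb s * xa s' = xa s' * xb s := I.ot.xac s' _ (I.ot.xb_mem s)
    rw [e, inv_inv]
    calc g⁻¹ * (t * (xa s' * xb s)) * g = g⁻¹ * (t * xa s') * g * (g⁻¹ * xb s * g) := by group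
      _ = g⁻¹ * (g * t * g⁻¹) * g * (g⁻¹ * xb s * g) := by rw [hgt]
      _ = t * (g⁻¹ * xb s * g) := by group
      _ = t * xb p := by rw [hp]

/-- if the short and the mixed elements are moved, so are the long ones -/
theorem long_of_mixed (I : SInp t v K U Z T T1 A B H xa xb x13 x22 r b) (hF : Fus t T1 B) {s s' : F}
    (hs' : s' ≠ 0) (h : IsConj t (t * (xb s * xa s'))) : ∃ p : F, p ≠ 0 ∧ IsConj t (t * xa p) := by
  obtain ⟨g, hg1, -, hgt⟩ := hF (xb s) ((I.hB _).2 ⟨s, rfl⟩)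
  obtain ⟨p, hp⟩ := I.ot.toTU.conj_A (inv_mem hg1) s'
  rw [inv_inv] at hp
  refine ⟨p, ?_, h.trans (isConj_iff.2 ⟨g⁻¹, ?_⟩)⟩
  · rintro rfl
    apply I.xa_ne hs'
    rw [I.ot.toTU.xa0] at hp
    calc xa s' = g * (g⁻¹ * xa s' * g) * g⁻¹ := by group
      _ = 1 := by rw [hp]; group
  · rw [inv_inv]
    calc g⁻¹ * (t * (xb s * xa s')) * g = g⁻¹ * (t * xb s) * g * (g⁻¹ * xa s' * g) := by group
      _ = g⁻¹ * (g * t * g⁻¹) * g * (g⁻¹ * xa s' * g) := by rw [hgt]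
      _ = t * (g⁻¹ * xa s' * g) := by group
      _ = t * xa p := by rw [hp]

/-- if both lengths are moved, so are the mixed elements -/
theorem mixed_of (I : SInp t v K U Z T T1 A B H xa xb x13 x22 r b) (hFA : Fus t T1 A) (hFB : Fus t T1 B)
    (s s' : F) : IsConj t (t * (xb s * xa s')) := by
  obtain ⟨g, hg1, -, hgt⟩ := hFA (xa s') ((I.hA _).2 ⟨s', rfl⟩)
  obtain ⟨p, hp⟩ := I.ot.toTU.conj_B (inv_mem hg1) s
  rw [inv_inv] at hp
  obtain ⟨g', -, -, hgt'⟩ := hFB (xb p) ((I.hB _).2 ⟨p, rfl⟩)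
  refine (isConj_iff.2 ⟨g', hgt'⟩ : IsConj t (t * xb p)).trans (isConj_iff.2 ⟨g, ?_⟩)
  calc g * (t * xb p) * g⁻¹ = g * t * g⁻¹ * (g * xb p * g⁻¹) := by group
    _ = t * xa s' * (g * (g⁻¹ * xb s * g) * g⁻¹) := by rw [hgt, hp]
    _ = t * (xa s' * xb s) := by group
    _ = t * (xb s * xa s') := by rw [I.ot.xac s' _ (I.ot.xb_mem s)]

end SInp

end Cfsg.Agent.OddHalf.SpN.StartB
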