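import Mathlib
import Cfsg.Agent.OddHalf.SpN.TU

/-!
# Centres and torus fixed points in the Sylow 2-subgroup `Uu n F` of `Sp_2n(F)`, `char F = 2`

`e_a, e_b, e_c, e_d` = `Sum.inl a, …`.

* `ent_mul_sy`, `ent_sy_mul`, `ent_mul_sx`, `ent_sx_mul`;
* `eq_sa_of_ent` : elements with few entries are `sa U M`;
* `torus_yx`, `torus_xx`, `torus_ab` : the elements of `Uu` commuting with a subtorus;
* `center_eq` : the centre; `second_center_eq` : the second centre;
* `sx_mem_comm`, `sy_mem_comm` : the centre is in the commutator subgroup.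
-/

set_option autoImplicit false
set_option linter.unusedSimpArgs false

namespace Cfsg.Agent.OddHalf.SpN.TU

open Cfsg Cfsg.Agent.ClassicalGeometry.SympBasic Cfsg.Agent.ClassicalGeometry.SympAutSemi
open Cfsg.Agent.OddHalf.SpN
open scoped commutatorElement

variable {n : ℕ} {F : Type*} [Field F] [CharP F 2]

/-! ### Products with root elements -/

theorem ent_sy_mul (i : Ix n) (a : F) (A : Sy n F) (l k : Ix n) :
    ent (sy i a * A) l k = ent A l k + if l = i then a * ent A (neg i) k else 0 := by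
  rw [ent, map_mul, Equiv.Perm.mul_apply, rho_sy, Pi.add_apply, Pi.smul_apply, smul_eq_mul, be_apply, mul_ite,
    mul_one, mul_zero]
  rfl

theorem ent_mul_sy (i : Ix n) (a : F) (A : Sy n F) (l k : Ix n) :
    ent (A * sy i a) l k = ent A l k + if k = neg i then a * ent A l i else 0 := by
  rw [ent, map_mul, Equiv.Perm.mul_apply, rho_sy, rho_add, rho_smul, Pi.add_apply, Pi.smul_apply, smul_eq_mul,
    be_apply]
  have e1 : (neg i = k) = (k = neg i) := propext eq_comm
  simp only [e1, mul_ite, ite_mul, mul_one, mul_zero, zero_mul]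
  rfl

theorem ent_sx_mul {i j : Ix n} (hd : Dj i j) (a : F) (A : Sy n F) (l k : Ix n) :
    ent (sx i j a * A) l k = ent A l k + (if l = i then a * ent A (neg j) k else 0) +
      if l = j then a * ent A (neg i) k else 0 := by
  rw [ent, map_mul, Equiv.Perm.mul_apply, rho_sx hd, Pi.add_apply, Pi.add_apply, Pi.smul_apply, Pi.smul_apply,
    smul_eq_mul, smul_eq_mul, be_apply, be_apply, mul_ite, mul_ite, mul_one, mul_zero, mul_one, mul_zero]
  rfl

theorem ent_mul_sx {i j : Ix n} (hd : Dj i j) (a : F) (A : Sy n F) (l k : Ix n) :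
    ent (A * sx i j a) l k = ent A l k + (if k = neg j then a * ent A l i else 0) +
      if k = neg i then a * ent A l j else 0 := by
  rw [ent, map_mul, Equiv.Perm.mul_apply, rho_sx hd, rho_add, rho_add, rho_smul, rho_smul, Pi.add_apply,
    Pi.add_apply, Pi.smul_apply, Pi.smul_apply, smul_eq_mul, smul_eq_mul, be_apply, be_apply]
  have e1 : (neg i = k) = (k = neg i) := propext eq_comm
  have e2 : (neg j = k) = (k = neg j) := propext eq_comm
  simp only [e1, e2, mul_ite, ite_mul, mul_one, mul_zero, zero_mul]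
  rfl

/-! ### Elements with few entries -/

theorem eq_sa_of_ent {U : Finset (Ix n)} (hU : Isot U) {A : Sy n F}
    (h : ∀ l k, ¬ (l ∈ U ∧ neg k ∈ U) → ent A l k = if l = k then 1 else 0) :
    ∃ M, Symm M ∧ A = sa U M ∧ ∀ i ∈ U, ∀ j ∈ U, M i j = ent A i (neg j) := by
  obtain ⟨M, hM, he⟩ := FU_Sy hU (A := A) fun k hk => by
    apply ext_ent
    intro l m
    rw [ent_mul_sy, ent_sy_mul, h l k fun h' => hk h'.2, h (neg k) m fun h' => hk h'.1]
    have e1 : (neg k = m) = (m = neg k) := propext eq_comm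
    simp only [e1, one_mul]
    by_cases h1 : l = k <;> by_cases h2 : m = neg k <;> simp [h1, h2]
  refine ⟨M, hM, he, fun i hi j hj => ?_⟩
  conv_rhs => rw [he]
  rw [ent_sa hU hM, neg_neg, if_neg (hU j hj i hi), if_pos ⟨hi, hj⟩, zero_add]

theorem isot_inl {U : Finset (Ix n)} (h : ∀ k ∈ U, ∃ i : Fin n, k = Sum.inl i) : Isot U := by
  intro k hk l hl e
  obtain ⟨i, rfl⟩ := h k hk
  obtain ⟨j, rfl⟩ := h l hl
  rw [neg_inl] at e
  cases e

theorem dj_inl {i j : Fin n} (h : i ≠ j) : Dj (Sum.inl i : Ix n) (Sum.inl j) :=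
  ⟨fun e => h (Sum.inl_injective e), fun e => by rw [neg_inl] at e; cases e⟩

theorem dj_inl_inr {i j : Fin n} (h : i ≠ j) : Dj (Sum.inl i : Ix n) (Sum.inr j) :=
  ⟨fun e => (by cases e), fun e => by rw [neg_inr] at e; exact h (Sum.inl_injective e)⟩

/-! ### Torus fixed points -/

omit [CharP F 2] in
theorem ent_zero_of_comm {u : Sy n F} {lam : Fin n → Fˣ} (hc : Commute u (sh lam)) {l k : Ix n}
    (hne : ev lam l ≠ ev lam k) : ent u l k = 0 := by
  have h1 := congrArg (fun A => ent A l k) hc.eq
  simp only [ent_mul_sh, ent_sh_mul] at h1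
  by_contra h0
  apply hne
  rw [mul_comm] at h1
  exact Units.ext (mul_right_cancel₀ h0 h1).symm

omit [CharP F 2] in
theorem ev_inl (lam : Fin n → Fˣ) (i : Fin n) : ev lam (Sum.inl i) = lam i := rfl

omit [CharP F 2] in
theorem ev_inr (lam : Fin n → Fˣ) (i : Fin n) : ev lam (Sum.inr i) = (lam i)⁻¹ := rfl

theorem inv_ne {z : Fˣ} (hz : z ≠ 1) : z⁻¹ ≠ z := by
  intro h
  apply hz
  have h1 : (z : F) * z = 1 := by
    have := congrArg Units.val (mul_inv_cancel z)
    rw [h] at this
    exact this
  have h2 : ((z : F) - 1) * (z - 1) = 0 := by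
    linear_combination h1 - ((z : F) - 1) * (two0 : (2 : F) = 0)
  exact Units.ext (sub_eq_zero.mp (mul_self_eq_zero.mp h2))

/-- the torus element with `m ↦ z` separates `± m` from the other indices -/
theorem sep {z : Fˣ} (hz : z ≠ 1) {m : Fin n} {l k : Ix n} (hlk : l ≠ k)
    (h : ev (Function.update (1 : Fin n → Fˣ) m z) l = ev (Function.update (1 : Fin n → Fˣ) m z) k) :
    (l ≠ Sum.inl m ∧ l ≠ Sum.inr m) ∧ (k ≠ Sum.inl m ∧ k ≠ Sum.inr m) := by
  have hz' := inv_ne hz
  have hz1 : z⁻¹ ≠ 1 := fun h => hz (inv_eq_one.mp h)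
  have key : ∀ l k : Ix n, l ≠ k →
      ev (Function.update (1 : Fin n → Fˣ) m z) l = ev (Function.update (1 : Fin n → Fˣ) m z) k →
      l ≠ Sum.inl m ∧ l ≠ Sum.inr m := by
    intro l k hlk h
    refine ⟨?_, ?_⟩
    · rintro rfl
      rw [ev_inl, Function.update_self] at h
      rcases k with i | i
      · by_cases hi : i = m
        · exact hlk (by rw [hi])
        · rw [ev_inl, Function.update_of_ne hi] at h
          exact hz h
      · by_cases hi : i = m
        · rw [ev_inr, hi, Function.update_self] at h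
          exact hz' h.symm
        · rw [ev_inr, Function.update_of_ne hi, Pi.one_apply, inv_one] at h
          exact hz h
    · rintro rfl
      rw [ev_inr, Function.update_self] at h
      rcases k with i | i
      · by_cases hi : i = m
        · rw [ev_inl, hi, Function.update_self] at h
          exact hz' h
        · rw [ev_inl, Function.update_of_ne hi, Pi.one_apply] at h
          exact hz1 h
      · by_cases hi : i = m
        · exact hlk (by rw [hi])
        · rw [ev_inr, Function.update_of_ne hi, Pi.one_apply, inv_one] at h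
          exact hz1 h
  exact ⟨key l k hlk h, key k l hlk.symm h.symm⟩

/-- **(4)(a), (b)**: `u` commutes with the torus elements with `lam a = 1`, `lam b * lam c = 1` -/
theorem torus_yx {z : Fˣ} (hz : z ≠ 1) {a b c : Fin n} (hab : a ≠ b) (hac : a ≠ c) (hbc : b ≠ c) {u : Sy n F}
    (hu : u ∈ Uu n F) (hc : ∀ lam : Fin n → Fˣ, lam a = 1 → lam b * lam c = 1 → Commute u (sh lam)) :
    ∃ x y : F, u = sy (Sum.inl a) x * sx (Sum.inl b) (Sum.inl c) y := by
  classical
  have hz' := inv_ne hz
  have hz1 : z⁻¹ ≠ 1 := fun h => hz (inv_eq_one.mp h)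
  -- the entries outside the three indices
  have h1 : ∀ l k, l ≠ k → ent u l k ≠ 0 → ∀ m : Fin n, m ≠ a → m ≠ b → m ≠ c →
      (l ≠ Sum.inl m ∧ l ≠ Sum.inr m) ∧ (k ≠ Sum.inl m ∧ k ≠ Sum.inr m) := by
    intro l k hlk h0 m ha hb hc'
    apply sep hz hlk
    by_contra hne
    exact h0 (ent_zero_of_comm (hc _ (by rw [Function.update_of_ne ha.symm]; rfl)
      (by rw [Function.update_of_ne hb.symm, Function.update_of_ne hc'.symm, Pi.one_apply, Pi.one_apply, one_mul])) hne)
  have h1l : ∀ i k, (Sum.inl i : Ix n) ≠ k → ent u (Sum.inl i) k ≠ 0 → i = a ∨ i = b ∨ i = c := by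
    intro i k hlk h0
    by_contra hno
    push Not at hno
    exact (h1 _ _ hlk h0 i hno.1 hno.2.1 hno.2.2).1.1 rfl
  have h1r : ∀ i k, (Sum.inr i : Ix n) ≠ k → ent u (Sum.inr i) k ≠ 0 → i = a ∨ i = b ∨ i = c := by
    intro i k hlk h0
    by_contra hno
    push Not at hno
    exact (h1 _ _ hlk h0 i hno.1 hno.2.1 hno.2.2).1.2 rfl
  have h1l' : ∀ i l, l ≠ (Sum.inl i : Ix n) → ent u l (Sum.inl i) ≠ 0 → i = a ∨ i = b ∨ i = c := by
    intro i k hlk h0
    by_contra hno
    push Not at hno
    exact (h1 _ _ hlk h0 i hno.1 hno.2.1 hno.2.2).2.1 rfl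
  have h1r' : ∀ i l, l ≠ (Sum.inr i : Ix n) → ent u l (Sum.inr i) ≠ 0 → i = a ∨ i = b ∨ i = c := by
    intro i k hlk h0
    by_contra hno
    push Not at hno
    exact (h1 _ _ hlk h0 i hno.1 hno.2.1 hno.2.2).2.2 rfl
  -- the second torus element
  let lam : Fin n → Fˣ := fun i => if i = b then z else if i = c then z⁻¹ else 1
  have la : lam a = 1 := by simp only [lam, if_neg hab, if_neg hac]
  have lb : lam b = z := by simp only [lam, if_true]
  have lc : lam c = z⁻¹ := by simp only [lam, if_neg hbc.symm, if_true]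
  have hlam := hc lam la (by rw [lb, lc, mul_inv_cancel])
  have h2 : ∀ l k, ent u l k ≠ 0 → ev lam l = ev lam k := fun l k h0 => by
    by_contra hne
    exact h0 (ent_zero_of_comm hlam hne)
  have hinj : ∀ i j, (i = a ∨ i = b ∨ i = c) → (j = a ∨ j = b ∨ j = c) → lam i = lam j → i = j := by
    intro i j hi hj he
    rcases hi with rfl | rfl | rfl <;> rcases hj with rfl | rfl | rfl
    · rfl
    · rw [la, lb] at he; exact absurd he.symm hz
    · rw [la, lc] at he; exact absurd he.symm hz1
    · rw [lb, la] at he; exact absurd he hz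
    · rfl
    · rw [lb, lc] at he; exact absurd he.symm hz'
    · rw [lc, la] at he; exact absurd he hz1
    · rw [lc, lb] at he; exact absurd he hz'
    · rfl
  have hU : Isot ({Sum.inl a, Sum.inl b, Sum.inl c} : Finset (Ix n)) := isot_inl (by
    intro k hk
    rw [Finset.mem_insert, Finset.mem_insert, Finset.mem_singleton] at hk
    rcases hk with rfl | rfl | rfl
    · exact ⟨a, rfl⟩
    · exact ⟨b, rfl⟩
    · exact ⟨c, rfl⟩)
  obtain ⟨M, hM, he, hMe⟩ := eq_sa_of_ent hU (A := u) (by
    intro l k hlk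
    by_cases e : l = k
    · subst e; rw [Uu_diag hu, if_pos rfl]
    rw [if_neg e]
    by_contra h0
    rcases l with i | i <;> rcases k with j | j
    · have h3 := h2 _ _ h0
      rw [ev_inl, ev_inl] at h3
      exact e (by rw [hinj i j (h1l i _ e h0) (h1l' j _ e h0) h3])
    · apply hlk
      have h4 := h1l i _ e h0
      have h5 := h1r' j _ e h0
      simp only [Finset.mem_insert, Finset.mem_singleton, neg_inr, Sum.inl.injEq]
      exact ⟨h4, h5⟩
    · exact h0 (Uu_zero hu (by rw [pos_inl, pos_inr]; omega))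
    · have h3 := h2 _ _ h0
      rw [ev_inr, ev_inr, inv_inj] at h3
      exact e (by rw [hinj i j (h1r i _ e h0) (h1r' j _ e h0) h3]))
  have ma : (Sum.inl a : Ix n) ∈ ({Sum.inl a, Sum.inl b, Sum.inl c} : Finset (Ix n)) := by simp
  have mb : (Sum.inl b : Ix n) ∈ ({Sum.inl a, Sum.inl b, Sum.inl c} : Finset (Ix n)) := by simp
  have mc : (Sum.inl c : Ix n) ∈ ({Sum.inl a, Sum.inl b, Sum.inl c} : Finset (Ix n)) := by simp
  have hz0 : ∀ i j, lam i ≠ (lam j)⁻¹ → (Sum.inl i : Ix n) ∈ ({Sum.inl a, Sum.inl b, Sum.inl c} : Finset (Ix n)) →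
      (Sum.inl j : Ix n) ∈ ({Sum.inl a, Sum.inl b, Sum.inl c} : Finset (Ix n)) →
      M (Sum.inl i) (Sum.inl j) = 0 := by
    intro i j hne hi hj
    rw [hMe _ hi _ hj]
    by_contra h0
    exact hne (h2 _ _ h0)
  refine ⟨M (Sum.inl a) (Sum.inl a), M (Sum.inl b) (Sum.inl c), ?_⟩
  rw [he, sa_three (dj_inl hab) (dj_inl hac) (dj_inl hbc) hM, sa_two (dj_inl hbc) hM,
    hz0 a b (by rw [la, lb]; exact hz1.symm) ma mb, hz0 a c (by rw [la, lc, inv_inv]; exact hz.symm) ma mc,
    hz0 b b (by rw [lb]; exact hz'.symm) mb mb, hz0 c c (by rw [lc, inv_inv]; exact hz') mc mc, sx_zero, sx_zero,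
    sy_zero, sy_zero, one_mul, one_mul, mul_one, mul_one]
  have hcomm : Commute (sy (Sum.inl a) (M (Sum.inl a) (Sum.inl a)))
      (sx (Sum.inl b) (Sum.inl c) (M (Sum.inl b) (Sum.inl c))) :=
    sy_sx_comm (by rw [neg_inl]; exact fun e => by cases e) (by rw [neg_inl]; exact fun e => by cases e) _ _
  exact hcomm.eq.symm

/-- **(4)(c)**: `u` commutes with the torus elements with `lam a * lam b = 1`, `lam c * lam d = 1` -/
theorem torus_xx {z : Fˣ} (hz : z ≠ 1) {a b c d : Fin n} (hab : a ≠ b) (hac : a ≠ c) (had : a ≠ d) (hbc : b ≠ c)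
    (hbd : b ≠ d) (hcd : c ≠ d) {u : Sy n F} (hu : u ∈ Uu n F)
    (hc : ∀ lam : Fin n → Fˣ, lam a * lam b = 1 → lam c * lam d = 1 → Commute u (sh lam)) :
    ∃ x y : F, u = sx (Sum.inl a) (Sum.inl b) x * sx (Sum.inl c) (Sum.inl d) y := by
  classical
  have hz' := inv_ne hz
  have hz1 : z⁻¹ ≠ 1 := fun h => hz (inv_eq_one.mp h)
  have h1 : ∀ l k, l ≠ k → ent u l k ≠ 0 → ∀ m : Fin n, m ≠ a → m ≠ b → m ≠ c → m ≠ d →
      (l ≠ Sum.inl m ∧ l ≠ Sum.inr m) ∧ (k ≠ Sum.inl m ∧ k ≠ Sum.inr m) := by
    intro l k hlk h0 m ha hb hc' hd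
    apply sep hz hlk
    by_contra hne
    exact h0 (ent_zero_of_comm (hc _
      (by rw [Function.update_of_ne ha.symm, Function.update_of_ne hb.symm, Pi.one_apply, Pi.one_apply, one_mul])
      (by rw [Function.update_of_ne hc'.symm, Function.update_of_ne hd.symm, Pi.one_apply, Pi.one_apply, one_mul])) hne)
  have h1l : ∀ i k, (Sum.inl i : Ix n) ≠ k → ent u (Sum.inl i) k ≠ 0 → i = a ∨ i = b ∨ i = c ∨ i = d := by
    intro i k hlk h0
    by_contra hno
    push Not at hno
    exact (h1 _ _ hlk h0 i hno.1 hno.2.1 hno.2.2.1 hno.2.2.2).1.1 rfl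
  have h1r : ∀ i k, (Sum.inr i : Ix n) ≠ k → ent u (Sum.inr i) k ≠ 0 → i = a ∨ i = b ∨ i = c ∨ i = d := by
    intro i k hlk h0
    by_contra hno
    push Not at hno
    exact (h1 _ _ hlk h0 i hno.1 hno.2.1 hno.2.2.1 hno.2.2.2).1.2 rfl
  have h1l' : ∀ i l, l ≠ (Sum.inl i : Ix n) → ent u l (Sum.inl i) ≠ 0 → i = a ∨ i = b ∨ i = c ∨ i = d := by
    intro i k hlk h0
    by_contra hno
    push Not at hno
    exact (h1 _ _ hlk h0 i hno.1 hno.2.1 hno.2.2.1 hno.2.2.2).2.1 rfl
  have h1r' : ∀ i l, l ≠ (Sum.inr i : Ix n) → ent u l (Sum.inr i) ≠ 0 → i = a ∨ i = b ∨ i = c ∨ i = d := by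
    intro i k hlk h0
    by_contra hno
    push Not at hno
    exact (h1 _ _ hlk h0 i hno.1 hno.2.1 hno.2.2.1 hno.2.2.2).2.2 rfl
  let lam : Fin n → Fˣ := fun i => if i = a then z else if i = b then z⁻¹ else 1
  have la : lam a = z := by simp only [lam, if_true]
  have lb : lam b = z⁻¹ := by simp only [lam, if_neg hab.symm, if_true]
  have lc : lam c = 1 := by simp only [lam, if_neg hac.symm, if_neg hbc.symm]
  have ld : lam d = 1 := by simp only [lam, if_neg had.symm, if_neg hbd.symm]
  have hlam := hc lam (by rw [la, lb, mul_inv_cancel]) (by rw [lc, ld, mul_one])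
  let mu : Fin n → Fˣ := fun i => if i = c then z else if i = d then z⁻¹ else 1
  have nc : mu c = z := by simp only [mu, if_true]
  have nd : mu d = z⁻¹ := by simp only [mu, if_neg hcd.symm, if_true]
  have na : mu a = 1 := by simp only [mu, if_neg hac, if_neg had]
  have nb : mu b = 1 := by simp only [mu, if_neg hbc, if_neg hbd]
  have hmu := hc mu (by rw [na, nb, mul_one]) (by rw [nc, nd, mul_inv_cancel])
  have h2 : ∀ l k, ent u l k ≠ 0 → ev lam l = ev lam k := fun l k h0 => by
    by_contra hne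
    exact h0 (ent_zero_of_comm hlam hne)
  have h2' : ∀ l k, ent u l k ≠ 0 → ev mu l = ev mu k := fun l k h0 => by
    by_contra hne
    exact h0 (ent_zero_of_comm hmu hne)
  have hinj : ∀ i j, (i = a ∨ i = b ∨ i = c ∨ i = d) → (j = a ∨ j = b ∨ j = c ∨ j = d) → lam i = lam j →
      mu i = mu j → i = j := by
    intro i j hi hj he he'
    rcases hi with rfl | rfl | rfl | rfl <;> rcases hj with rfl | rfl | rfl | rfl
    · rfl
    · rw [la, lb] at he; exact absurd he.symm hz'
    · rw [la, lc] at he; exact absurd he hz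
    · rw [la, ld] at he; exact absurd he hz
    · rw [la, lb] at he; exact absurd he hz'
    · rfl
    · rw [lb, lc] at he; exact absurd he hz1
    · rw [lb, ld] at he; exact absurd he hz1
    · rw [la, lc] at he; exact absurd he.symm hz
    · rw [lb, lc] at he; exact absurd he.symm hz1
    · rfl
    · rw [nc, nd] at he'; exact absurd he'.symm hz'
    · rw [la, ld] at he; exact absurd he.symm hz
    · rw [lb, ld] at he; exact absurd he.symm hz1
    · rw [nc, nd] at he'; exact absurd he' hz'
    · rfl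
  have hU : Isot ({Sum.inl a, Sum.inl b, Sum.inl c, Sum.inl d} : Finset (Ix n)) := isot_inl (by
    intro k hk
    simp only [Finset.mem_insert, Finset.mem_singleton] at hk
    rcases hk with rfl | rfl | rfl | rfl
    · exact ⟨a, rfl⟩
    · exact ⟨b, rfl⟩
    · exact ⟨c, rfl⟩
    · exact ⟨d, rfl⟩)
  obtain ⟨M, hM, he, hMe⟩ := eq_sa_of_ent hU (A := u) (by
    intro l k hlk
    by_cases e : l = k
    · subst e; rw [Uu_diag hu, if_pos rfl]
    rw [if_neg e]
    by_contra h0
    rcases l with i | i <;> rcases k with j | j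
    · have h3 := h2 _ _ h0
      have h3' := h2' _ _ h0
      rw [ev_inl, ev_inl] at h3 h3'
      exact e (by rw [hinj i j (h1l i _ e h0) (h1l' j _ e h0) h3 h3'])
    · apply hlk
      have h4 := h1l i _ e h0
      have h5 := h1r' j _ e h0
      simp only [Finset.mem_insert, Finset.mem_singleton, neg_inr, Sum.inl.injEq]
      exact ⟨h4, h5⟩
    · exact h0 (Uu_zero hu (by rw [pos_inl, pos_inr]; omega))
    · have h3 := h2 _ _ h0
      have h3' := h2' _ _ h0
      rw [ev_inr, ev_inr, inv_inj] at h3 h3'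
      exact e (by rw [hinj i j (h1r i _ e h0) (h1r' j _ e h0) h3 h3']))
  have ma : (Sum.inl a : Ix n) ∈ ({Sum.inl a, Sum.inl b, Sum.inl c, Sum.inl d} : Finset (Ix n)) := by simp
  have mb : (Sum.inl b : Ix n) ∈ ({Sum.inl a, Sum.inl b, Sum.inl c, Sum.inl d} : Finset (Ix n)) := by simp
  have mc : (Sum.inl c : Ix n) ∈ ({Sum.inl a, Sum.inl b, Sum.inl c, Sum.inl d} : Finset (Ix n)) := by simp
  have md : (Sum.inl d : Ix n) ∈ ({Sum.inl a, Sum.inl b, Sum.inl c, Sum.inl d} : Finset (Ix n)) := by simp
  have hz0 : ∀ i j, (lam i ≠ (lam j)⁻¹ ∨ mu i ≠ (mu j)⁻¹) →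
      (Sum.inl i : Ix n) ∈ ({Sum.inl a, Sum.inl b, Sum.inl c, Sum.inl d} : Finset (Ix n)) →
      (Sum.inl j : Ix n) ∈ ({Sum.inl a, Sum.inl b, Sum.inl c, Sum.inl d} : Finset (Ix n)) →
      M (Sum.inl i) (Sum.inl j) = 0 := by
    intro i j hne hi hj
    rw [hMe _ hi _ hj]
    by_contra h0
    rcases hne with hne | hne
    · exact hne (h2 _ _ h0)
    · exact hne (h2' _ _ h0)
  refine ⟨M (Sum.inl a) (Sum.inl b), M (Sum.inl c) (Sum.inl d), ?_⟩
  rw [he, sa_four (dj_inl hab) (dj_inl hac) (dj_inl had) (dj_inl hbc) (dj_inl hbd) (dj_inl hcd) hM,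
    sa_three (dj_inl hbc) (dj_inl hbd) (dj_inl hcd) hM, sa_two (dj_inl hcd) hM,
    hz0 a a (Or.inl (by rw [la]; exact hz'.symm)) ma ma, hz0 a c (Or.inl (by rw [la, lc, inv_one]; exact hz)) ma mc,
    hz0 a d (Or.inl (by rw [la, ld, inv_one]; exact hz)) ma md,
    hz0 b b (Or.inl (by rw [lb, inv_inv]; exact hz')) mb mb,
    hz0 b c (Or.inl (by rw [lb, lc, inv_one]; exact hz1)) mb mc,
    hz0 b d (Or.inl (by rw [lb, ld, inv_one]; exact hz1)) mb md,
    hz0 c c (Or.inr (by rw [nc]; exact hz'.symm)) mc mc, hz0 d d (Or.inr (by rw [nd, inv_inv]; exact hz')) md md,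
    sx_zero, sx_zero, sx_zero, sx_zero, sy_zero, sy_zero, sy_zero, sy_zero]
  simp only [one_mul, mul_one]
  have hcomm : Commute (sx (Sum.inl a) (Sum.inl b) (M (Sum.inl a) (Sum.inl b)))
      (sx (Sum.inl c) (Sum.inl d) (M (Sum.inl c) (Sum.inl d))) :=
    sx_comm (by rw [neg_inl]; exact fun e => by cases e) (by rw [neg_inl]; exact fun e => by cases e)
      (by rw [neg_inl]; exact fun e => by cases e) (by rw [neg_inl]; exact fun e => by cases e) _ _
  exact hcomm.eq.symm

/-- **(4)(d)**: `u` commutes with the torus elements with `lam a = lam b = 1`, `a < b` -/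
theorem torus_ab {z : Fˣ} (hz : z ≠ 1) {a b : Fin n} (hab : a < b) {u : Sy n F}
    (hu : u ∈ Uu n F) (hc : ∀ lam : Fin n → Fˣ, lam a = 1 → lam b = 1 → Commute u (sh lam)) :
    ∃ x y v w : F, u = sx (Sum.inl a) (Sum.inr b) x *
      (sy (Sum.inl b) y * (sx (Sum.inl a) (Sum.inl b) v * sy (Sum.inl a) w)) := by
  classical
  have hne : a ≠ b := hab.ne
  have h1 : ∀ l k, l ≠ k → ent u l k ≠ 0 → ∀ m : Fin n, m ≠ a → m ≠ b →
      (l ≠ Sum.inl m ∧ l ≠ Sum.inr m) ∧ (k ≠ Sum.inl m ∧ k ≠ Sum.inr m) := by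
    intro l k hlk h0 m ha hb
    apply sep hz hlk
    by_contra hne
    exact h0 (ent_zero_of_comm (hc _ (by rw [Function.update_of_ne ha.symm]; rfl)
      (by rw [Function.update_of_ne hb.symm]; rfl)) hne)
  have h1l : ∀ i k, (Sum.inl i : Ix n) ≠ k → ent u (Sum.inl i) k ≠ 0 → i = a ∨ i = b := by
    intro i k hlk h0
    by_contra hno
    push Not at hno
    exact (h1 _ _ hlk h0 i hno.1 hno.2).1.1 rfl
  have h1r : ∀ i k, (Sum.inr i : Ix n) ≠ k → ent u (Sum.inr i) k ≠ 0 → i = a ∨ i = b := by
    intro i k hlk h0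
    by_contra hno
    push Not at hno
    exact (h1 _ _ hlk h0 i hno.1 hno.2).1.2 rfl
  have h1l' : ∀ i l, l ≠ (Sum.inl i : Ix n) → ent u l (Sum.inl i) ≠ 0 → i = a ∨ i = b := by
    intro i k hlk h0
    by_contra hno
    push Not at hno
    exact (h1 _ _ hlk h0 i hno.1 hno.2).2.1 rfl
  have h1r' : ∀ i l, l ≠ (Sum.inr i : Ix n) → ent u l (Sum.inr i) ≠ 0 → i = a ∨ i = b := by
    intro i k hlk h0
    by_contra hno
    push Not at hno
    exact (h1 _ _ hlk h0 i hno.1 hno.2).2.2 rfl
  set x := ent u (Sum.inl a) (Sum.inl b) with hx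
  have hpa : pos (Sum.inl a : Ix n) < pos (Sum.inl b : Ix n) := hab
  have hpb : pos (Sum.inr b : Ix n) < pos (Sum.inr a : Ix n) := by
    have h := pos_neg_lt (k := Sum.inl b) (l := Sum.inl a)
    rw [neg_inl, neg_inl] at h
    exact h.mpr hpa
  have hpab : pos (Sum.inl b : Ix n) < pos (Sum.inr b : Ix n) := by rw [pos_inl, pos_inr]; omega
  -- the symplectic relation
  have hy : ent u (Sum.inr b) (Sum.inr a) = x := by
    have h3 := ent_form u (Sum.inl b) (Sum.inr a)
    rw [neg_inr, if_neg (fun e => hne (Sum.inl_injective e).symm)] at h3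
    rw [← Finset.sum_subset (Finset.subset_univ ({Sum.inr a, Sum.inr b} : Finset (Ix n))),
      Finset.sum_pair (fun e => hne (Sum.inr_injective e)), neg_inr, neg_inr, Uu_diag hu, Uu_diag hu, ← hx] at h3
    · linear_combination h3 - x * (two0 : (2 : F) = 0)
    · intro k _ hk
      rw [Finset.mem_insert, Finset.mem_singleton, not_or] at hk
      by_contra h0
      have h4 : ent u (neg k) (Sum.inl b) ≠ 0 := fun h => h0 (by rw [h, zero_mul])
      rcases k with i | i
      · rw [neg_inl] at h4
        exact h4 (Uu_zero hu (by rw [pos_inl, pos_inr]; omega))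
      · rw [neg_inr] at h4
        by_cases e : (Sum.inl i : Ix n) = Sum.inl b
        · exact hk.2 (by rw [Sum.inl_injective e])
        · rcases h1l i _ e h4 with rfl | rfl
          · exact hk.1 rfl
          · exact hk.2 rfl
  have hU : Isot ({Sum.inl a, Sum.inl b} : Finset (Ix n)) := isot_inl (by
    intro k hk
    simp only [Finset.mem_insert, Finset.mem_singleton] at hk
    rcases hk with rfl | rfl
    · exact ⟨a, rfl⟩
    · exact ⟨b, rfl⟩)
  have hd : Dj (Sum.inl a : Ix n) (Sum.inr b) := dj_inl_inr hne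
  obtain ⟨M, hM, he, hMe⟩ := eq_sa_of_ent hU (A := sx (Sum.inl a) (Sum.inr b) x * u) (by
    intro l k hlk
    rw [ent_sx_mul hd, neg_inr, neg_inl]
    rcases l with i | i
    · -- `l = e_i`
      have e0 : ¬ ((Sum.inl i : Ix n) = Sum.inr b) := fun e => by cases e
      rw [if_neg e0, add_zero]
      by_cases hi : i = a
      · subst hi
        rw [if_pos rfl]
        rcases k with j | j
        · by_cases hj : j = b
          · subst hj
            rw [if_neg (fun e => hne (Sum.inl_injective e)), Uu_diag hu, mul_one, ← hx, CharTwo.add_self_eq_zero]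
          · have h5 : ent u (Sum.inl b) (Sum.inl j) = 0 := by
              by_contra h0
              rcases h1l' j _ (fun e => hj (Sum.inl_injective e).symm) h0 with rfl | rfl
              · exact h0 (Uu_zero hu hpa)
              · exact hj rfl
            rw [h5, mul_zero, add_zero]
            by_cases hji : (Sum.inl i : Ix n) = Sum.inl j
            · rw [← hji, Uu_diag hu, if_pos rfl]
            · rw [if_neg hji]
              by_contra h0
              rcases h1l' j _ hji h0 with rfl | rfl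
              · exact hji rfl
              · exact hj rfl
        · -- `k = -e_j`
          rw [if_neg (fun e => by cases e)]
          have hjn : ¬ (j = i ∨ j = b) := fun h6 => hlk (by
            simp only [neg_inr, Finset.mem_insert, Finset.mem_singleton, Sum.inl.injEq]
            exact ⟨Or.inl trivial, h6⟩)
          have h5 : ent u (Sum.inl b) (Sum.inr j) = 0 := by
            by_contra h0
            exact hjn (h1r' j _ (fun e => by cases e) h0)
          have h6 : ent u (Sum.inl i) (Sum.inr j) = 0 := by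
            by_contra h0
            exact hjn (h1r' j _ (fun e => by cases e) h0)
          rw [h5, h6, mul_zero, add_zero]
      · rw [if_neg (fun e => hi (Sum.inl_injective e)), add_zero]
        by_cases e : (Sum.inl i : Ix n) = k
        · rw [← e, Uu_diag hu, if_pos rfl]
        · rw [if_neg e]
          by_contra h0
          have hib : i = b := (h1l i _ e h0).resolve_left hi
          subst hib
          rcases k with j | j
          · rcases h1l' j _ e h0 with rfl | rfl
            · exact h0 (Uu_zero hu hpa)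
            · exact e rfl
          · apply hlk
            simp only [neg_inr, Finset.mem_insert, Finset.mem_singleton, Sum.inl.injEq]
            exact ⟨Or.inr trivial, h1r' j _ e h0⟩
    · -- `l = -e_i`
      have e0 : ¬ ((Sum.inr i : Ix n) = Sum.inl a) := fun e => by cases e
      rw [if_neg e0, add_zero]
      by_cases hi : i = b
      · subst hi
        rw [if_pos rfl]
        by_cases e : (Sum.inr i : Ix n) = k
        · rw [← e, Uu_diag hu, if_pos rfl, Uu_zero hu hpb, mul_zero, add_zero]
        · rw [if_neg e]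
          by_cases e' : k = Sum.inr a
          · rw [e', hy, Uu_diag hu, mul_one, CharTwo.add_self_eq_zero]
          · have h5 : ent u (Sum.inr i) k = 0 := by
              by_contra h0
              rcases k with j | j
              · exact h0 (Uu_zero hu (by rw [pos_inl, pos_inr]; omega))
              · rcases h1r' j _ e h0 with rfl | rfl
                · exact e' rfl
                · exact e rfl
            have h6 : ent u (Sum.inr a) k = 0 := by
              by_contra h0
              rcases k with j | j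
              · exact h0 (Uu_zero hu (by rw [pos_inl, pos_inr]; omega))
              · rcases h1r' j _ (fun e => e' e.symm) h0 with rfl | rfl
                · exact e' rfl
                · exact e rfl
            rw [h5, h6, mul_zero, add_zero]
      · rw [if_neg (fun e => hi (Sum.inr_injective e)), add_zero]
        by_cases e : (Sum.inr i : Ix n) = k
        · rw [← e, Uu_diag hu, if_pos rfl]
        · rw [if_neg e]
          by_contra h0
          have hia : i = a := (h1r i _ e h0).resolve_right hi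
          subst hia
          rcases k with j | j
          · exact h0 (Uu_zero hu (by rw [pos_inl, pos_inr]; omega))
          · rcases h1r' j _ e h0 with rfl | rfl
            · exact e rfl
            · exact h0 (Uu_zero hu hpb))
  rw [sa_two (dj_inl hne) hM] at he
  refine ⟨x, M (Sum.inl b) (Sum.inl b), M (Sum.inl a) (Sum.inl b), M (Sum.inl a) (Sum.inl a), ?_⟩
  have hcomm : Commute (sy (Sum.inl a) (M (Sum.inl a) (Sum.inl a)))
      (sx (Sum.inl a) (Sum.inl b) (M (Sum.inl a) (Sum.inl b))) :=
    sy_sx_comm (by rw [neg_inl]; exact fun e => by cases e) (by rw [neg_inl]; exact fun e => by cases e) _ _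
  rw [← hcomm.eq, ← he, ← mul_assoc, sx_sq, one_mul]

/-! ### The centre -/

theorem comm_of_center {z : Sy n F} (hz : ∀ u ∈ Uu n F, Commute z u) :
    (∀ i : Fin n, CY z (Sum.inl i)) ∧ ∀ i j : Fin n, i < j → CX z (Sum.inl i) (Sum.inr j) :=
  ⟨fun i => cy_of_comm (hz _ (sy_inl_mem i 1)), fun _ _ h =>
    cx_of_comm (dj_inl_inr h.ne) (hz _ (sx_inl_inr_mem h 1))⟩

/-- **(3)** an element of `Uu` centralising `Uu` -/
theorem center_eq {a b : Fin n} (ha : a.val = 0) (hb : b.val = 1) {z : Sy n F} (hzU : z ∈ Uu n F)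
    (hz : ∀ u ∈ Uu n F, Commute z u) :
    ∃ x y : F, z = sy (Sum.inl a) x * sx (Sum.inl a) (Sum.inl b) y := by
  classical
  have hab : a < b := by rw [Fin.lt_def]; omega
  have hne : a ≠ b := hab.ne
  obtain ⟨cy, cx⟩ := comm_of_center hz
  have hlt : ∀ i : Fin n, i ≠ a → a < i := fun i hi => by
    rw [Fin.lt_def]
    have : i.val ≠ a.val := fun e => hi (Fin.ext e)
    omega
  have hlt' : ∀ i : Fin n, i ≠ a → i ≠ b → b < i := fun i hi hi' => by
    rw [Fin.lt_def]
    have : i.val ≠ a.val := fun e => hi (Fin.ext e)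
    have : i.val ≠ b.val := fun e => hi' (Fin.ext e)
    omega
  have hU : Isot ({Sum.inl a, Sum.inl b} : Finset (Ix n)) := isot_inl (by
    intro k hk
    simp only [Finset.mem_insert, Finset.mem_singleton] at hk
    rcases hk with rfl | rfl
    · exact ⟨a, rfl⟩
    · exact ⟨b, rfl⟩)
  obtain ⟨M, hM, he, hMe⟩ := eq_sa_of_ent hU (A := z) (by
    intro l k hlk
    by_cases e : l = k
    · subst e; rw [Uu_diag hzU, if_pos rfl]
    rw [if_neg e]
    rcases k with j | j
    · exact (cy j).col l e
    rcases l with i | i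
    swap
    · have := (cy i).row (Sum.inr j) (by rw [neg_inl]; exact fun e' => e e'.symm)
      rwa [neg_inl] at this
    by_cases hi : i = a ∨ i = b
    · have hj : ¬ (j = a ∨ j = b) := fun hj => hlk (by
        simp only [neg_inr, Finset.mem_insert, Finset.mem_singleton, Sum.inl.injEq]
        exact ⟨hi, hj⟩)
      push Not at hj
      rcases hi with rfl | rfl
      · exact (cx b j (hlt' j hj.1 hj.2)).colj (Sum.inl i) (fun e' => hne (Sum.inl_injective e'))
          (fun e' => by cases e')
      · exact (cx a j (hlt j hj.1)).colj (Sum.inl i) (fun e' => hne (Sum.inl_injective e').symm)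
          (fun e' => by cases e')
    · push Not at hi
      by_cases hja : j = a
      · subst hja
        have := (cx b i (hlt' i hi.1 hi.2)).rowj (Sum.inr j)
          (by rw [neg_inl]; exact fun e' => hne (Sum.inr_injective e')) (by rw [neg_inr]; exact fun e' => by cases e')
        rwa [neg_inr] at this
      · have := (cx a i (hlt i hi.1)).rowj (Sum.inr j)
          (by rw [neg_inl]; exact fun e' => hja (Sum.inr_injective e')) (by rw [neg_inr]; exact fun e' => by cases e')
        rwa [neg_inr] at this)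
  have hbb : M (Sum.inl b) (Sum.inl b) = 0 := by
    rw [hMe _ (by simp) _ (by simp), neg_inl]
    have := (cx a b hab).rowj (Sum.inr b)
      (by rw [neg_inl]; exact fun e' => hne (Sum.inr_injective e').symm) (by rw [neg_inr]; exact fun e' => by cases e')
    rwa [neg_inr] at this
  refine ⟨M (Sum.inl a) (Sum.inl a), M (Sum.inl a) (Sum.inl b), ?_⟩
  rw [he, sa_two (dj_inl hne) hM, hbb, sy_zero, one_mul]

/-! ### The second centre -/

/-- **(3)** the second centre of `Uu` -/
theorem second_center_eq {a b c : Fin n} (ha : a.val = 0) (hb : b.val = 1) (hc : c.val = 2) {z : Sy n F}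
    (hzU : z ∈ Uu n F)
    (hz : ∀ u ∈ Uu n F, ∃ x y : F, z * u * z⁻¹ * u⁻¹ = sy (Sum.inl a) x * sx (Sum.inl a) (Sum.inl b) y) :
    ∃ x y v w : F, z = sy (Sum.inl a) x * sx (Sum.inl a) (Sum.inl b) y * sx (Sum.inl a) (Sum.inl c) v *
      sy (Sum.inl b) w := by
  classical
  have hab : a < b := by rw [Fin.lt_def]; omega
  have hbc : b < c := by rw [Fin.lt_def]; omega
  have hac : a < c := hab.trans hbc
  have nab : a ≠ b := hab.ne
  have nbc : b ≠ c := hbc.ne
  have nac : a ≠ c := hac.ne
  have hpa : ∀ k : Ix n, k ≠ Sum.inr a → pos k < pos (Sum.inr a : Ix n) := by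
    intro k hk
    have h1 : pos k ≠ pos (Sum.inr a : Ix n) := fun e => hk (pos_inj e)
    have h2 := pos_lt k
    rw [pos_inr] at h1 ⊢
    omega
  have hpb : ∀ k : Ix n, k ≠ Sum.inr a → k ≠ Sum.inr b → pos k < pos (Sum.inr b : Ix n) := by
    intro k hk hk'
    have h1 : pos k ≠ pos (Sum.inr a : Ix n) := fun e => hk (pos_inj e)
    have h1' : pos k ≠ pos (Sum.inr b : Ix n) := fun e => hk' (pos_inj e)
    have h2 := pos_lt k
    rw [pos_inr] at h1 h1' ⊢
    omega
  -- the exceptional positions
  have key : ∀ u ∈ Uu n F, ∀ l k, ¬ ((l = Sum.inl a ∧ k = Sum.inr a) ∨ (l = Sum.inl a ∧ k = Sum.inr b) ∨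
      (l = Sum.inl b ∧ k = Sum.inr a)) → ent (z * u) l k = ent (u * z) l k := by
    intro u hu l k hlk
    push Not at hlk
    obtain ⟨x, y, he⟩ := hz u hu
    have h1 : z * u = sy (Sum.inl a) x * (sx (Sum.inl a) (Sum.inl b) y * (u * z)) := by
      rw [← mul_assoc, ← he]; group
    have hw : u * z ∈ Uu n F := mul_mem hu hzU
    rw [h1, ent_sy_mul, ent_sx_mul (dj_inl nab), ent_sx_mul (dj_inl nab), neg_inl, neg_inl]
    by_cases hka : k = Sum.inr a
    · subst hka
      have hla : l ≠ Sum.inl a := fun e => hlk.1 e rfl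
      have hlb : l ≠ Sum.inl b := fun e => hlk.2.2 e rfl
      simp only [if_neg hla, if_neg hlb, add_zero]
    · have hra : ent (u * z) (Sum.inr a) k = 0 := Uu_zero hw (hpa k hka)
      have e1 : (Sum.inr a : Ix n) ≠ Sum.inl a := fun e => by cases e
      have e2 : (Sum.inr a : Ix n) ≠ Sum.inl b := fun e => by cases e
      by_cases hkb : k = Sum.inr b
      · have hla : l ≠ Sum.inl a := fun e => hlk.2.1 e hkb
        simp only [if_neg hla, hra, mul_zero, ite_self, add_zero]
      · have hrb : ent (u * z) (Sum.inr b) k = 0 := Uu_zero hw (hpb k hka hkb)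
        simp only [hra, hrb, if_neg e1, if_neg e2, mul_zero, ite_self, add_zero]
  -- long root elements
  have keyY : ∀ (i : Fin n) l k, ¬ ((l = Sum.inl a ∧ k = Sum.inr a) ∨ (l = Sum.inl a ∧ k = Sum.inr b) ∨
      (l = Sum.inl b ∧ k = Sum.inr a)) →
      (if k = Sum.inr i then ent z l (Sum.inl i) else 0) = if l = Sum.inl i then ent z (Sum.inr i) k else 0 := by
    intro i l k hlk
    have h1 := key _ (sy_inl_mem i 1) l k hlk
    rw [ent_mul_sy, ent_sy_mul, neg_inl] at h1
    simpa only [one_mul] using add_left_cancel h1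
  -- short root elements
  have keyX : ∀ (i j : Fin n), i < j → ∀ l k, ¬ ((l = Sum.inl a ∧ k = Sum.inr a) ∨ (l = Sum.inl a ∧ k = Sum.inr b) ∨
      (l = Sum.inl b ∧ k = Sum.inr a)) →
      (if k = Sum.inl j then ent z l (Sum.inl i) else 0) + (if k = Sum.inr i then ent z l (Sum.inr j) else 0) =
      (if l = Sum.inl i then ent z (Sum.inl j) k else 0) + if l = Sum.inr j then ent z (Sum.inr i) k else 0 := by
    intro i j hij l k hlk
    have h1 := key _ (sx_inl_inr_mem hij 1) l k hlk
    rw [ent_mul_sx (dj_inl_inr hij.ne), ent_sx_mul (dj_inl_inr hij.ne), neg_inl, neg_inr] at h1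
    simp only [one_mul, add_assoc] at h1
    exact add_left_cancel h1
  -- columns of `e_i`
  have hab0 : ent z (Sum.inl a) (Sum.inl b) = 0 := by
    have h1 := keyX b c hbc (Sum.inl a) (Sum.inl c) (by
      rintro (h | h | h) <;> (have := h.2; cases this))
    simpa [nab] using h1
  have hba0 : ent z (Sum.inr b) (Sum.inr a) = 0 := by
    have h1 := keyX b c hbc (Sum.inr c) (Sum.inr a) (by
      rintro (h | h | h) <;> (have := h.1; cases this))
    simpa [nab] using h1.symm
  have hcol : ∀ (i : Fin n) l, l ≠ Sum.inl i → ent z l (Sum.inl i) = 0 := by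
    intro i l hl
    by_cases hex : (l = Sum.inl a ∧ i = a) ∨ (l = Sum.inl a ∧ i = b) ∨ (l = Sum.inl b ∧ i = a)
    · rcases hex with ⟨rfl, rfl⟩ | ⟨rfl, rfl⟩ | ⟨rfl, rfl⟩
      · exact absurd rfl hl
      · exact hab0
      · exact Uu_zero hzU hab
    · have h1 := keyY i l (Sum.inr i) (by simpa only [Sum.inr.injEq] using hex)
      simpa [hl] using h1
  have hrow : ∀ (i : Fin n) k, k ≠ Sum.inr i → ent z (Sum.inr i) k = 0 := by
    intro i k hk
    by_cases hex : (i = a ∧ k = Sum.inr a) ∨ (i = a ∧ k = Sum.inr b) ∨ (i = b ∧ k = Sum.inr a)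
    · rcases hex with ⟨rfl, rfl⟩ | ⟨rfl, rfl⟩ | ⟨rfl, rfl⟩
      · exact absurd rfl hk
      · exact Uu_zero hzU (hpa _ (fun e => nab (Sum.inr_injective e).symm))
      · exact hba0
    · have h1 := keyY i (Sum.inl i) k (by simpa only [Sum.inl.injEq] using hex)
      simpa [hk] using h1.symm
  have hltc : ∀ i : Fin n, i ≠ a → i ≠ b → i ≠ c → c < i := fun i hi hi' hi'' => by
    rw [Fin.lt_def]
    have : i.val ≠ a.val := fun e => hi (Fin.ext e)
    have : i.val ≠ b.val := fun e => hi' (Fin.ext e)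
    have : i.val ≠ c.val := fun e => hi'' (Fin.ext e)
    omega
  have hU : Isot ({Sum.inl a, Sum.inl b, Sum.inl c} : Finset (Ix n)) := isot_inl (by
    intro k hk
    simp only [Finset.mem_insert, Finset.mem_singleton] at hk
    rcases hk with rfl | rfl | rfl
    · exact ⟨a, rfl⟩
    · exact ⟨b, rfl⟩
    · exact ⟨c, rfl⟩)
  obtain ⟨M, hM, he, hMe⟩ := eq_sa_of_ent hU (A := z) (by
    intro l k hlk
    by_cases e : l = k
    · subst e; rw [Uu_diag hzU, if_pos rfl]
    rw [if_neg e]
    rcases k with j | j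
    · exact hcol j l e
    rcases l with i | i
    swap
    · exact hrow i _ (fun e' => e e'.symm)
    by_cases hj : j = a ∨ j = b ∨ j = c
    · have hi : ¬ (i = a ∨ i = b ∨ i = c) := fun hi => hlk (by
        simp only [neg_inr, Finset.mem_insert, Finset.mem_singleton, Sum.inl.injEq]
        exact ⟨hi, hj⟩)
      push Not at hi
      have hci := hltc i hi.1 hi.2.1 hi.2.2
      -- row `e_i`
      by_cases hjc : j = c
      · subst hjc
        have h1 := keyX a i (hac.trans hci) (Sum.inl a) (Sum.inr j) (by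
          rintro (h | h | h)
          · exact nac (Sum.inr_injective h.2).symm
          · exact nbc (Sum.inr_injective h.2).symm
          · exact nab (Sum.inl_injective h.1))
        simpa [nac, nac.symm] using h1.symm
      · have h1 := keyX c i hci (Sum.inl c) (Sum.inr j) (by
          rintro (h | h | h)
          · exact nac (Sum.inl_injective h.1).symm
          · exact nac (Sum.inl_injective h.1).symm
          · exact nbc (Sum.inl_injective h.1).symm)
        simpa [hjc] using h1.symm
    · push Not at hj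
      have hcj := hltc j hj.1 hj.2.1 hj.2.2
      by_cases hia : i = a
      · have h1 := keyX c j hcj (Sum.inl i) (Sum.inr c) (by
          rintro (h | h | h)
          · exact nac (Sum.inr_injective h.2).symm
          · exact nbc (Sum.inr_injective h.2).symm
          · exact nac (Sum.inr_injective h.2).symm)
        have hic : i ≠ c := by rw [hia]; exact nac
        simpa [hic] using h1
      · by_cases hib : i = b
        · have h1 := keyX c j hcj (Sum.inl i) (Sum.inr c) (by
            rintro (h | h | h)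
            · exact nac (Sum.inr_injective h.2).symm
            · exact nbc (Sum.inr_injective h.2).symm
            · exact nac (Sum.inr_injective h.2).symm)
          have hic : i ≠ c := by rw [hib]; exact nbc
          simpa [hic] using h1
        · have h1 := keyX a j (hac.trans hcj) (Sum.inl i) (Sum.inr a) (by
            rintro (h | h | h)
            · exact hia (Sum.inl_injective h.1)
            · exact hia (Sum.inl_injective h.1)
            · exact hib (Sum.inl_injective h.1))
          simpa [hia] using h1)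
  have hbc0 : M (Sum.inl b) (Sum.inl c) = 0 := by
    rw [hM, hMe _ (by simp) _ (by simp), neg_inl]
    have h1 := keyX a b hab (Sum.inl c) (Sum.inr a) (by
      rintro (h | h | h)
      · exact nac (Sum.inl_injective h.1).symm
      · exact nac (Sum.inl_injective h.1).symm
      · exact nbc (Sum.inl_injective h.1).symm)
    simpa [nac.symm] using h1
  have hcc0 : M (Sum.inl c) (Sum.inl c) = 0 := by
    rw [hMe _ (by simp) _ (by simp), neg_inl]
    have h1 := keyX a c hac (Sum.inl c) (Sum.inr a) (by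
      rintro (h | h | h)
      · exact nac (Sum.inl_injective h.1).symm
      · exact nac (Sum.inl_injective h.1).symm
      · exact nbc (Sum.inl_injective h.1).symm)
    simpa [nac.symm] using h1
  refine ⟨M (Sum.inl a) (Sum.inl a), M (Sum.inl a) (Sum.inl b), M (Sum.inl a) (Sum.inl c),
    M (Sum.inl b) (Sum.inl b), ?_⟩
  rw [he, sa_three (dj_inl nab) (dj_inl nac) (dj_inl nbc) hM, sa_two (dj_inl nbc) hM, hbc0, hcc0, sx_zero, sy_zero,
    one_mul, mul_one]
  have g : ∀ i j : Fin n, (Sum.inl i : Ix n) ≠ neg (Sum.inl j) := fun i j => by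
    rw [neg_inl]; exact fun e => by cases e
  have c1 : Commute (sy (Sum.inl b) (M (Sum.inl b) (Sum.inl b))) (sy (Sum.inl a) (M (Sum.inl a) (Sum.inl a))) :=
    sy_comm (g _ _) _ _
  have c2 : Commute (sy (Sum.inl b) (M (Sum.inl b) (Sum.inl b)))
      (sx (Sum.inl a) (Sum.inl b) (M (Sum.inl a) (Sum.inl b))) := sy_sx_comm (g _ _) (g _ _) _ _
  have c3 : Commute (sy (Sum.inl b) (M (Sum.inl b) (Sum.inl b)))
      (sx (Sum.inl a) (Sum.inl c) (M (Sum.inl a) (Sum.inl c))) := sy_sx_comm (g _ _) (g _ _) _ _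
  exact ((c1.mul_right c2).mul_right c3).eq

/-! ### Commutators -/

/-- **(5)** `x_{e_a + e_b} ∈ Uu'` -/
theorem sx_mem_comm {a b c : Fin n} (hab : a ≠ b) (hac : a ≠ c) (hbc : b < c) (y : F) :
    sx (Sum.inl a) (Sum.inl b) y ∈ ⁅Uu n F, Uu n F⁆ := by
  have h1 := sx_rel (n := n) (F := F) (i := Sum.inl a) (j := Sum.inl c) (k := Sum.inl b) (dj_inl hac)
    (dj_inl hbc.ne.symm) (dj_inl hab) y 1
  rw [mul_one, neg_inl, sx_symm (Sum.inr c)] at h1
  have h2 : sx (Sum.inl a) (Sum.inl b) y =
      ⁅sx (Sum.inl a : Ix n) (Sum.inl c) y, sx (Sum.inl b : Ix n) (Sum.inr c) (1 : F)⁆ := by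
    rw [commutatorElement_def, h1]; group
  rw [h2]
  exact Subgroup.commutator_mem_commutator (sx_inl_inl_mem _ _ _) (sx_inl_inr_mem hbc _)

/-- **(5)** `y_{2 e_a} ∈ Uu'` -/
theorem sy_mem_comm {a b c : Fin n} (hab : a < b) (hbc : b < c) (y : F) :
    sy (Sum.inl a) y ∈ ⁅Uu n F, Uu n F⁆ := by
  have h1 := sy_rel (n := n) (F := F) (i := Sum.inl b) (j := Sum.inl a) (dj_inl hab.ne.symm) y 1
  rw [one_pow, mul_one, neg_inl, sx_symm (Sum.inr b)] at h1
  have h2 : sy (Sum.inl a) y = (sx (Sum.inl b : Ix n) (Sum.inl a) y)⁻¹ *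
      ⁅sy (Sum.inl b : Ix n) y, sx (Sum.inl a : Ix n) (Sum.inr b) (1 : F)⁆ := by
    rw [commutatorElement_def, h1]; group
  rw [h2, sx_symm (Sum.inl b)]
  exact mul_mem (inv_mem (sx_mem_comm hab.ne (hab.trans hbc).ne hbc y))
    (Subgroup.commutator_mem_commutator (sy_inl_mem _ _) (sx_inl_inr_mem hab _))

end Cfsg.Agent.OddHalf.SpN.TU
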