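import Cfsg.Agent.OddHalf.SpN.WFrame
import Cfsg.Agent.OddHalf.SpN.WT1
import Cfsg.Agent.OddHalf.SpN.Start

/-!
# ODD D7, `K = Sp_2n(q)`, `q > 2`: the doubles of `Y_1`, `X_12` exist and normalise `T₁ = ⟨t⟩ U` (helper297)

* `R.V i`, `R.Wd i j` : the canonical doubles of `Y_i`, `X_ij`; `V_w`, `Wd_w` Weyl conjugation;
* `R.MvY i`, `R.MvX i j` : `Y_i`, `X_ij` are moved; `locY`, `locX` : then `WExist.Loc` holds;
* `R.mvY`, `R.mvX` : from the fusion `Fus R.t R.T1 (Y_1)`, `Fus R.t R.T1 (X_12)`;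
* `V_norm`, `Wd_norm` : `V 1`, `Wd 1 2` normalise `R.T1`.
-/

set_option autoImplicit false

namespace Cfsg.Agent.OddHalf.SpN

open Cfsg Cfsg.Agent.ClassicalGeometry.SympBasic Cfsg.Agent.ClassicalGeometry.SympAutSemi
open scoped Matrix commutatorElement
open WExist Subgroup TU

variable {n : ℕ} {F : Type*} [Field F]

theorem chiy_surj [Finite F] [CharP F 2] (i : Ix n) : Function.Surjective (chiy (F := F) i) := by
  intro c
  obtain ⟨d, hd⟩ : ∃ d : F, d * d = c := by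
    have hinj : Function.Injective (fun c : F => c * c) := by
      intro a b hab
      have hab' : a * a = b * b := hab
      have : (a - b) * (a - b) = 0 := by linear_combination hab' - (a * b - b * b) * (two0 : (2 : F) = 0)
      exact sub_eq_zero.mp (mul_self_eq_zero.mp this)
    exact (Finite.injective_iff_surjective.mp hinj) c
  have hd0 : d ≠ 0 := by
    rintro rfl
    exact c.ne_zero (by rw [← hd, mul_zero])
  refine ⟨one i (Units.mk0 d hd0), ?_⟩
  rw [chiy_apply, ev_one_self]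
  exact Units.ext hd

theorem chix_surj {i j : Ix n} (hij : Dj i j) : Function.Surjective (chix (F := F) i j) := by
  intro c
  refine ⟨one i c, ?_⟩
  rw [chix_apply, ev_one_self, ev_one_ne hij.symm, mul_one]

theorem ev_one_of_chiy [CharP F 2] {i : Ix n} {lam : Fin n → Fˣ} (h : chiy i lam = 1) : ev lam i = 1 := by
  rw [chiy_apply] at h
  by_contra hne
  exact inv_ne_self hne (inv_eq_of_mul_eq_one_left h)

/-- odd exponent of the torus -/
theorem exists_exp [Finite F] [CharP F 2] : ∃ N : ℕ, Odd N ∧ ∀ a : Fin n → Fˣ, a ^ N = 1 := by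
  have := Fintype.ofFinite F
  refine ⟨Nat.card Fˣ, ?_, fun a => ?_⟩
  · rw [Nat.card_units, Nat.card_eq_fintype_card]
    have heven : 2 ∣ Fintype.card F := by
      obtain ⟨k, hp, hc⟩ := FiniteField.card F 2
      rw [hc]; exact dvd_pow_self 2 k.pos.ne'
    have hpos : 0 < Fintype.card F := Fintype.card_pos
    obtain ⟨m, hm⟩ := heven
    exact ⟨m - 1, by omega⟩
  · funext i
    rw [Pi.pow_apply, Pi.one_apply]
    exact pow_card_eq_one'

theorem odd_card_torus [Finite F] [CharP F 2] : Odd (Nat.card (Fin n → Fˣ)) := by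
  have := Fintype.ofFinite F
  rw [Nat.card_fun]
  apply Odd.pow
  rw [Nat.card_units, Nat.card_eq_fintype_card]
  have heven : 2 ∣ Fintype.card F := by
    obtain ⟨k, hp, hc⟩ := FiniteField.card F 2
    rw [hc]; exact dvd_pow_self 2 k.pos.ne'
  have hpos : 0 < Fintype.card F := Fintype.card_pos
  obtain ⟨m, hm⟩ := heven
  exact ⟨m - 1, by omega⟩

namespace Frame

variable {G : Type*} [Group G] (R : Frame n F G)

/-- the double of `Y_i` -/
noncomputable def V (i : Ix n) : Subgroup G := Dbl R.t (R.y i) R.h (chiy i)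

/-- the double of `X_ij` -/
noncomputable def Wd (i j : Ix n) : Subgroup G := Dbl R.t (R.x i j) R.h (chix i j)

/-- `Y_i` is moved -/
def MvY (i : Ix n) : Prop := ∀ u, ∃ g, Mv R.t (R.y i) R.h (chiy i) g u

/-- `X_ij` is moved -/
def MvX (i j : Ix n) : Prop := ∀ u, ∃ g, Mv R.t (R.x i j) R.h (chix i j) g u

variable [CharP F 2]

theorem hy (lam : Fin n → Fˣ) (i : Ix n) (u : F) :
    R.h lam * R.y i u * (R.h lam)⁻¹ = R.y i (chiy i lam * u) := by
  rw [R.h_y, chiy_apply, Units.val_mul, pow_two]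

theorem hx (lam : Fin n → Fˣ) (i j : Ix n) (u : F) :
    R.h lam * R.x i j u * (R.h lam)⁻¹ = R.x i j (chix i j lam * u) := by
  rw [R.h_x, chix_apply, Units.val_mul]

variable [Finite F]

theorem locY (hn : 3 ≤ n) (hq : ∃ c : F, c ≠ 0 ∧ c ≠ 1) {i : Ix n} (h : R.MvY i) :
    Loc R.t (R.y i) R.h (chiy i) where
  two := CharTwo.add_self_eq_zero
  tt := R.tt
  x_add := R.y_add i
  x_one := fun _ => R.y_eq_one
  tx := fun u => (R.y_t i u).symm
  ne := fun u => R.tK _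
  ht := R.h_t
  hx := fun lam u => R.hy lam i u
  surj := chiy_surj i
  big := hq
  exp := by
    obtain ⟨N, hN, h1⟩ := exists_exp (n := n) (F := F)
    exact ⟨N, hN, fun a => by rw [← map_pow, h1, map_one]⟩
  mv := h
  F1c := by
    intro g hg hgH hgX
    obtain ⟨A, hA⟩ := R.ct_comm_y hn hg hgX
    obtain ⟨c, c0, c1⟩ := hq
    have h1 : Commute A (sy i 1) := comm_of R hA (hgX 1)
    obtain ⟨u, lam, hl, e⟩ := F1c_sy (c := Units.mk0 c c0) (fun e => c1 (congrArg Units.val e)) h1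
      (fun lam hl => comm_of R hA (hgH lam (by rw [chiy_apply, hl, one_mul])))
    refine ⟨u, lam, by rw [chiy_apply, hl, one_mul], ?_⟩
    subst e
    rw [map_mul] at hA
    exact hA

theorem locX (hn : 3 ≤ n) (hq : ∃ c : F, c ≠ 0 ∧ c ≠ 1) {i j : Ix n} (hij : Dj i j) (h : R.MvX i j) :
    Loc R.t (R.x i j) R.h (chix i j) where
  two := CharTwo.add_self_eq_zero
  tt := R.tt
  x_add := R.x_add i j
  x_one := fun _ => R.x_eq_one hij
  tx := fun u => (R.x_t i j u).symm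
  ne := fun u => R.tK _
  ht := R.h_t
  hx := fun lam u => R.hx lam i j u
  surj := chix_surj hij
  big := hq
  exp := by
    obtain ⟨N, hN, h1⟩ := exists_exp (n := n) (F := F)
    exact ⟨N, hN, fun a => by rw [← map_pow, h1, map_one]⟩
  mv := h
  F1c := by
    intro g hg hgH hgX
    obtain ⟨A, hA⟩ := R.ct_comm_x hn hg hij hgX
    obtain ⟨c, c0, c1⟩ := hq
    have h1 : Commute A (sx i j 1) := comm_of R hA (hgX 1)
    obtain ⟨u, lam, hl, e⟩ := F1c_sx hij (c := Units.mk0 c c0) (fun e => c1 (congrArg Units.val e)) h1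
      (fun lam hl => comm_of R hA (hgH lam (by rw [chix_apply, hl])))
    refine ⟨u, lam, by rw [chix_apply, hl], ?_⟩
    subst e
    rw [map_mul] at hA
    exact hA

omit [Finite F] in
theorem cjgY (s : W n) (i : Ix n) : Cjg R.t R.h (R.w s) (R.y i) (R.y (s.1 i)) (chiy i) (chiy (s.1 i)) where
  mt := R.w_t s
  mx := fun u => R.w_y s i u
  mh := fun lam => ⟨actH s lam, R.w_h s _ _ (ev_actH' s lam), by rw [chiy_apply, chiy_apply, ev_actH']⟩
  mh' := fun mu => by
    have e : ∀ k, ev mu (s.1 k) = ev (actH s⁻¹ mu) k := fun k => by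
      rw [ev_actH]
      congr 1
    refine ⟨actH s⁻¹ mu, R.w_h s _ _ e, ?_⟩
    rw [chiy_apply, chiy_apply, e]

omit [Finite F] in
theorem cjgX (s : W n) (i j : Ix n) :
    Cjg R.t R.h (R.w s) (R.x i j) (R.x (s.1 i) (s.1 j)) (chix i j) (chix (s.1 i) (s.1 j)) where
  mt := R.w_t s
  mx := fun u => R.w_x s i j u
  mh := fun lam => ⟨actH s lam, R.w_h s _ _ (ev_actH' s lam), by rw [chix_apply, chix_apply, ev_actH', ev_actH']⟩
  mh' := fun mu => by
    have e : ∀ k, ev mu (s.1 k) = ev (actH s⁻¹ mu) k := fun k => by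
      rw [ev_actH]
      congr 1
    refine ⟨actH s⁻¹ mu, R.w_h s _ _ e, ?_⟩
    rw [chix_apply, chix_apply, e, e]

omit [Finite F] in
theorem V_w (s : W n) {i : Ix n} {g : G} (hg : g ∈ R.V i) : R.w s * g * (R.w s)⁻¹ ∈ R.V (s.1 i) :=
  (R.cjgY s i).dbl hg

omit [Finite F] in
theorem Wd_w (s : W n) {i j : Ix n} {g : G} (hg : g ∈ R.Wd i j) :
    R.w s * g * (R.w s)⁻¹ ∈ R.Wd (s.1 i) (s.1 j) :=
  (R.cjgX s i j).dbl hg

omit [Finite F] in
theorem MvY_w (s : W n) {i : Ix n} (h : R.MvY i) : R.MvY (s.1 i) := fun u => by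
  obtain ⟨g, hg⟩ := h u
  exact ⟨_, (R.cjgY s i).mv hg⟩

omit [Finite F] in
theorem MvX_w (s : W n) {i j : Ix n} (h : R.MvX i j) : R.MvX (s.1 i) (s.1 j) := fun u => by
  obtain ⟨g, hg⟩ := h u
  exact ⟨_, (R.cjgX s i j).mv hg⟩

omit [Finite F] in
theorem MvY_all {i : Ix n} (h : R.MvY i) (j : Ix n) : R.MvY j := by
  obtain ⟨s, rfl⟩ := exists_W1 i j
  exact R.MvY_w s h

omit [Finite F] in
theorem MvX_all {i j : Ix n} (hij : Dj i j) (h : R.MvX i j) {k l : Ix n} (hkl : Dj k l) : R.MvX k l := by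
  obtain ⟨s, rfl, rfl⟩ := exists_W2 hij hkl
  exact R.MvX_w s h

/-! ### F1a, F1b -/

/-- an element of `N(T₁) ∩ C(t)` inducing an inner automorphism of `K` is `τ h(λ)` -/
theorem exists_T1_h {g : G} (hg : g ∈ normalizer (R.T1 : Set G)) (hgt : g * R.t = R.t * g) {A : Sy n F}
    (hA : g = R.ι A ∨ g = R.t * R.ι A) : ∃ τ ∈ R.T1, ∃ lam, g = τ * R.h lam := by
  have hnorm : ∀ B ∈ Uu n F, A * B * A⁻¹ ∈ Uu n F := by
    intro B hB
    rw [← R.ι_mem_T1_iff]
    have h1 := (mem_normalizer_iff.1 hg _).1 (R.ι_mem_T1 hB)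
    have h2 : g * R.ι B * g⁻¹ = R.ι (A * B * A⁻¹) := by
      rw [map_mul, map_mul, map_inv]
      rcases hA with rfl | rfl
      · rfl
      · have e : R.t * (R.ι A * R.ι B * (R.ι A)⁻¹) = (R.ι A * R.ι B * (R.ι A)⁻¹) * R.t := by
          have := (R.comm (A * B * A⁻¹)).eq
          rw [map_mul, map_mul, map_inv] at this
          exact this.symm
        calc R.t * R.ι A * R.ι B * (R.t * R.ι A)⁻¹ = R.t * (R.ι A * R.ι B * (R.ι A)⁻¹) * R.t⁻¹ := by group
          _ = _ := by rw [e]; group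
    rwa [h2] at h1
  obtain ⟨u, hu, lam, rfl⟩ := exists_of_norm hnorm
  rw [map_mul] at hA
  rcases hA with rfl | rfl
  · exact ⟨R.ι u, R.ι_mem_T1 hu, lam, rfl⟩
  · exact ⟨R.t * R.ι u, ⟨u, hu, Or.inr rfl⟩, lam, by rw [mul_assoc]; rfl⟩

/-- an element of `N(T₁) ∩ C(t)` centralising `h(one m c)` for all `c`, `m` positive, is in `⟨t⟩ K` -/
theorem ct_comm_h (hn : 3 ≤ n) {g : G} (hg : g ∈ normalizer (R.T1 : Set G)) (hgt : Commute g R.t) (m : Fin n)
    (hc : ∀ c : Fˣ, Commute g (R.h (one (Sum.inl m) c))) : ∃ A, g = R.ι A ∨ g = R.t * R.ι A := by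
  obtain ⟨s, hs⟩ := R.exists_semi hn hgt
  obtain ⟨φ, l, hl, hφ⟩ := s.2
  have hU : ∀ A ∈ Uu n F, ∃ B ∈ Uu n F, rho n F B = s.1 * rho n F A * s.1⁻¹ := by
    intro A hA
    refine ⟨conjHom n F s A, ?_, rho_conjHom _ _⟩
    rw [← R.ι_mem_T1_iff, ← hs]
    exact (mem_normalizer_iff.1 hg _).1 (R.ι_mem_T1 hA)
  have hflag := flag_of_semi hφ hU
  have h0 : s.1 0 = 0 := by
    have := hφ.1 0 0
    rw [add_zero] at this
    exact (add_eq_left (a := s.1 0)).mp this.symm
  set v := s.1 (be n F (Sum.inl m)) with hv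
  have hv0 : v ≠ 0 := by
    intro e
    have : be n F (Sum.inl m) = 0 := s.1.injective (by rw [← hv, e, h0])
    have h1 := congrFun this (Sum.inl m)
    rw [be_apply, if_pos rfl] at h1
    exact one_ne_zero h1
  have hvm : InV (pos (Sum.inl m : Ix n) + 1) v := hflag _ _ (inV_be (by omega))
  have key : ∀ c : Fˣ, c ≠ 1 → φ c = c := by
    intro c hc1
    have h1 : conjHom n F s (sh (one (Sum.inl m) c)) = sh (one (Sum.inl m) c) := by
      apply R.inj
      rw [← hs]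
      exact (mul_inv_eq_iff_eq_mul).mpr (hc c)
    have h2 : ∀ l, φ c * v l = ev (one (Sum.inl m) c) l * v l := by
      intro l
      have h3 := congrArg (fun B => rho n F B v l) h1
      simp only [rho_conjHom, Equiv.Perm.mul_apply] at h3
      rw [hv, perm_inv_apply_self, rho_sh_be, ev_one_self, hφ.2.1, ← hv, rho_sh] at h3
      exact h3
    obtain ⟨l, hl⟩ : ∃ l, v l ≠ 0 := by
      by_contra hcon
      push Not at hcon
      exact hv0 (funext hcon)
    have h3 : φ c = ev (one (Sum.inl m) c) l := mul_right_cancel₀ hl (h2 l)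
    have h4 : pos l ≤ pos (Sum.inl m : Ix n) := by
      by_contra h5
      exact hl (hvm l (by omega))
    by_cases h5 : l = Sum.inl m
    · rw [h3, h5, ev_one_self]
    · exfalso
      have h6 : l ≠ neg (Sum.inl m) := by
        rintro rfl
        rw [pos_neg, pos_inl] at h4
        omega
      rw [ev_one_ne ⟨h5, h6⟩] at h3
      apply hc1
      apply Units.ext
      apply φ.injective
      rw [h3, Units.val_one, map_one]
  have hrefl : φ = RingEquiv.refl F := by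
    ext c
    by_cases h1 : c = 0
    · rw [h1, map_zero, map_zero]
    by_cases h2 : c = 1
    · rw [h2, map_one, map_one]
    · exact key (Units.mk0 c h1) (fun e => h2 (congrArg Units.val e))
  subst hrefl
  exact R.mem_K_of_sim hgt hl hφ hs

omit [Finite F] in
theorem T1_y {i : Ix n} (hi : pos i = 0) : ∀ g ∈ R.T1, ∀ u, g * R.y i u = R.y i u * g := by
  rintro g ⟨A, hA, h⟩ u
  have h1 : Commute (R.ι A) (R.y i u) := by
    show R.ι A * R.ι (sy i u) = R.ι (sy i u) * R.ι A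
    rw [← map_mul, ← map_mul, (Uu_comm_sy hA hi u).eq]
  rcases h with rfl | rfl
  · exact h1
  · exact (((R.y_t i u).symm).mul_left h1).eq

omit [Finite F] in
theorem T1_x {i j : Ix n} (hi : pos i = 0) (hj : pos j = 1) (hd : Dj i j) :
    ∀ g ∈ R.T1, ∀ u, g * R.x i j u = R.x i j u * g := by
  rintro g ⟨A, hA, h⟩ u
  have h1 : Commute (R.ι A) (R.x i j u) := by
    show R.ι A * R.ι (sx i j u) = R.ι (sx i j u) * R.ι A
    rw [← map_mul, ← map_mul, (Uu_comm_sx hA hi hj hd u).eq]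
  rcases h with rfl | rfl
  · exact h1
  · exact (((R.x_t i j u).symm).mul_left h1).eq

theorem odd_range : Odd (Nat.card R.h.range) := by
  have h1 : Nat.card R.h.range ∣ Nat.card (Fin n → Fˣ) := Subgroup.card_range_dvd R.h
  exact Odd.of_dvd_nat odd_card_torus h1

/-- **Section 2 for the long root groups** -/
theorem mvY [Finite G] (hn : 3 ≤ n) (hq : ∃ c : F, c ≠ 0 ∧ c ≠ 1) {i : Ix n} (hi : pos i = 0)
    (fus : ∀ u, ∃ g ∈ normalizer (R.T1 : Set G), (∀ y, (∃ v, y = R.y i v) ↔ ∃ v, g * y * g⁻¹ = R.y i v) ∧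
      g * R.t * g⁻¹ = R.t * R.y i u) :
    ∀ u, ∃ g ∈ normalizer (R.T1 : Set G), Mv R.t (R.y i) R.h (chiy i) g u := by
  have hin : i = Sum.inl ⟨0, by omega⟩ := pos_inj (by rw [hi]; rfl)
  apply mv_of_inp CharTwo.add_self_eq_zero (R.y_add i) R.h_t (fun lam u => R.hy lam i u) (chiy_surj i) hq
    (fun _ => R.y_eq_one) R.odd_range R.T1 R.T1_pgroup
    (fun u => R.ι_mem_T1 (sy_mem (by rw [pos_neg, hi]; omega) u)) (fun g hg => R.T1_t hg) (R.T1_y hi) R.h_T1
  · intro g hg hgt hgX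
    obtain ⟨A, hA⟩ := R.ct_comm_y hn hgt hgX
    obtain ⟨τ, hτ, lam, rfl⟩ := R.exists_T1_h hg hgt hA
    refine ⟨τ, hτ, lam, ?_, rfl⟩
    -- `h lam` commutes with `Y_i`
    have e1 := R.T1_y hi τ hτ 1
    have e2 := hgX 1
    have e3 : R.h lam * R.y i 1 * (R.h lam)⁻¹ = R.y i 1 := by
      have e4 : τ * (R.h lam * R.y i 1) = τ * (R.y i 1 * R.h lam) := by
        rw [← mul_assoc, e2, ← mul_assoc, ← mul_assoc, e1]
      rw [mul_left_cancel e4]; group
    rw [R.hy] at e3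
    have e5 := R.y_inj e3
    rw [mul_one] at e5
    exact Units.ext e5
  · intro g hg hgt hgH
    obtain ⟨A, hA⟩ := R.ct_comm_h hn hg hgt ⟨1, by omega⟩ (fun c => hgH _ (by
      have hdj : Dj i (Sum.inl ⟨1, by omega⟩) := by
        rw [hin]
        exact ⟨fun e => by simp at e, fun e => by simp at e⟩
      rw [chiy_apply, ev_one_ne hdj, one_mul]))
    obtain ⟨τ, hτ, lam, rfl⟩ := R.exists_T1_h hg hgt hA
    refine ⟨lam, fun u => ?_⟩
    have e1 := R.T1_y hi τ hτ (chiy i lam * u)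
    calc τ * R.h lam * R.y i u * (τ * R.h lam)⁻¹ = τ * (R.h lam * R.y i u * (R.h lam)⁻¹) * τ⁻¹ := by group
      _ = R.y i (chiy i lam * u) := by rw [R.hy, e1]; group
  · exact fus

/-- **Section 2 for the short root groups** -/
theorem mvX [Finite G] (hn : 3 ≤ n) (hq : ∃ c : F, c ≠ 0 ∧ c ≠ 1) {i j : Ix n} (hi : pos i = 0) (hj : pos j = 1)
    (fus : ∀ u, ∃ g ∈ normalizer (R.T1 : Set G), (∀ y, (∃ v, y = R.x i j v) ↔ ∃ v, g * y * g⁻¹ = R.x i j v) ∧
      g * R.t * g⁻¹ = R.t * R.x i j u) :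
    ∀ u, ∃ g ∈ normalizer (R.T1 : Set G), Mv R.t (R.x i j) R.h (chix i j) g u := by
  have hin : i = Sum.inl ⟨0, by omega⟩ := pos_inj (by rw [hi]; rfl)
  have hjn : j = Sum.inl ⟨1, by omega⟩ := pos_inj (by rw [hj]; rfl)
  have hd : Dj i j := by
    rw [hin, hjn]
    exact ⟨fun e => by simp at e, fun e => by simp at e⟩
  apply mv_of_inp CharTwo.add_self_eq_zero (R.x_add i j) R.h_t (fun lam u => R.hx lam i j u) (chix_surj hd) hq
    (fun _ => R.x_eq_one hd) R.odd_range R.T1 R.T1_pgroup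
    (fun u => R.ι_mem_T1 (sx_mem (by rw [pos_neg, hi, hj]; omega) u)) (fun g hg => R.T1_t hg) (R.T1_x hi hj hd) R.h_T1
  · intro g hg hgt hgX
    obtain ⟨A, hA⟩ := R.ct_comm_x hn hgt hd hgX
    obtain ⟨τ, hτ, lam, rfl⟩ := R.exists_T1_h hg hgt hA
    refine ⟨τ, hτ, lam, ?_, rfl⟩
    have e1 := R.T1_x hi hj hd τ hτ 1
    have e2 := hgX 1
    have e3 : R.h lam * R.x i j 1 * (R.h lam)⁻¹ = R.x i j 1 := by
      have e4 : τ * (R.h lam * R.x i j 1) = τ * (R.x i j 1 * R.h lam) := by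
        rw [← mul_assoc, e2, ← mul_assoc, ← mul_assoc, e1]
      rw [mul_left_cancel e4]; group
    rw [R.hx] at e3
    have e5 := R.x_inj hd e3
    rw [mul_one] at e5
    exact Units.ext e5
  · intro g hg hgt hgH
    obtain ⟨A, hA⟩ := R.ct_comm_h hn hg hgt ⟨2, by omega⟩ (fun c => hgH _ (by
      have hdj : Dj i (Sum.inl ⟨2, by omega⟩) := by
        rw [hin]
        exact ⟨fun e => by simp at e, fun e => by simp at e⟩
      have hdj' : Dj j (Sum.inl ⟨2, by omega⟩) := by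
        rw [hjn]
        exact ⟨fun e => by simp at e, fun e => by simp at e⟩
      rw [chix_apply, ev_one_ne hdj, ev_one_ne hdj', one_mul]))
    obtain ⟨τ, hτ, lam, rfl⟩ := R.exists_T1_h hg hgt hA
    refine ⟨lam, fun u => ?_⟩
    have e1 := R.T1_x hi hj hd τ hτ (chix i j lam * u)
    calc τ * R.h lam * R.x i j u * (τ * R.h lam)⁻¹ = τ * (R.h lam * R.x i j u * (R.h lam)⁻¹) * τ⁻¹ := by group
      _ = R.x i j (chix i j lam * u) := by rw [R.hx, e1]; group
  · exact fus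

theorem V_norm (hn : 3 ≤ n) (hq : ∃ c : F, c ≠ 0 ∧ c ≠ 1) {i : Ix n} (hi : pos i = 0)
    (h : ∀ u, ∃ g ∈ normalizer (R.T1 : Set G), Mv R.t (R.y i) R.h (chiy i) g u) :
    R.V i ≤ normalizer (R.T1 : Set G) := by
  have L := R.locY hn hq (i := i) (fun u => by obtain ⟨g, -, hg⟩ := h u; exact ⟨g, hg⟩)
  exact L.dbl_le _ (fun u => le_normalizer (R.ι_mem_T1 (sy_mem (by rw [pos_neg, hi]; omega) u)))
    (le_normalizer R.t_mem_T1) (fun a _ => R.h_T1 a) h

theorem Wd_norm (hn : 3 ≤ n) (hq : ∃ c : F, c ≠ 0 ∧ c ≠ 1) {i j : Ix n} (hi : pos i = 0) (hj : pos j = 1)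
    (hd : Dj i j) (h : ∀ u, ∃ g ∈ normalizer (R.T1 : Set G), Mv R.t (R.x i j) R.h (chix i j) g u) :
    R.Wd i j ≤ normalizer (R.T1 : Set G) := by
  have L := R.locX hn hq hd (fun u => by obtain ⟨g, -, hg⟩ := h u; exact ⟨g, hg⟩)
  exact L.dbl_le _ (fun u => le_normalizer (R.ι_mem_T1 (sx_mem (by rw [pos_neg, hi, hj]; omega) u)))
    (le_normalizer R.t_mem_T1) (fun a _ => R.h_T1 a) h

end Frame

end Cfsg.Agent.OddHalf.SpN
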