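import Mathlib
import Cfsg.Agent.OddHalf.SpN.StartB
import Cfsg.Agent.OddHalf.SpN.WInst
import Cfsg.Agent.OddHalf.SpN.TUCent

/-!
# ODD D7, `K = Sp_2n(q)`, `q` even, `q ≥ 4`, `n ≥ 3`: the instance of `StartB.TU` (helper583)

`a, b, c : Fin n` with values `0, 1, 2`; `T₁ = R.T1` (`WT1.lean`).

* `conj_sx`, `conj_sy` : the action of `U` on `x_13`, `y_2`;
* `R.co g` : the component in `Sp` of `g ∈ ⟨t⟩ K`; `R.rr b c g`, `R.rr a b g` : the entries;
* `R.tu` : `StartB.TU R.T1 (y_1) (x_12) (x_13) (y_2) (R.rr b c) (R.rr a b)`;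
* `R.center_T1`, `R.center_T1'` : the centre of `T₁`, of `C_{T₁}(U)`.
-/

set_option autoImplicit false

namespace Cfsg.Agent.OddHalf.SpN.StartOf

open Cfsg Cfsg.Agent.ClassicalGeometry.SympBasic Cfsg.Agent.ClassicalGeometry.SympAutSemi
open scoped Matrix commutatorElement
open Subgroup TU StartB

variable {n : ℕ} {F : Type*} [Field F]

section mat

variable [CharP F 2]

theorem col_zero {A : Sy n F} (hA : A ∈ Uu n F) {i : Ix n} (hi : pos i = 0) :
    rho n F A (be n F i) = be n F i := by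
  ext l
  rw [be_apply]
  exact hA l i (by omega)

theorem col_one {A : Sy n F} (hA : A ∈ Uu n F) {i j : Ix n} (hi : pos i = 0) (hj : pos j = 1) :
    rho n F A (be n F j) = be n F j + ent A i j • be n F i := by
  have hij : i ≠ j := by rintro rfl; omega
  ext l
  rw [Pi.add_apply, Pi.smul_apply, be_apply, be_apply, smul_eq_mul]
  change ent A l j = _
  by_cases h1 : l = i
  · subst h1
    rw [if_neg hij, if_pos rfl]; ring
  · rw [if_neg h1, hA l j (by
      have : pos l ≠ 0 := fun e => h1 (pos_inj (by omega))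
      omega)]
    ring

theorem col_two {A : Sy n F} (hA : A ∈ Uu n F) {i j k : Ix n} (hi : pos i = 0) (hj : pos j = 1)
    (hk : pos k = 2) : rho n F A (be n F k) = be n F k + ent A j k • be n F j + ent A i k • be n F i := by
  have hik : i ≠ k := by rintro rfl; omega
  have hjk : j ≠ k := by rintro rfl; omega
  have hij : i ≠ j := by rintro rfl; omega
  ext l
  rw [Pi.add_apply, Pi.add_apply, Pi.smul_apply, Pi.smul_apply, be_apply, be_apply, be_apply, smul_eq_mul,
    smul_eq_mul]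
  change ent A l k = _
  by_cases h1 : l = i
  · subst h1
    rw [if_neg hik, if_pos rfl, if_neg hij]; ring
  by_cases h2 : l = j
  · subst h2
    rw [if_neg hjk, if_pos rfl, if_neg h1]; ring
  rw [if_neg h1, if_neg h2, hA l k (by
    have : pos l ≠ 0 := fun e => h1 (pos_inj (by omega))
    have : pos l ≠ 1 := fun e => h2 (pos_inj (by omega))
    omega)]
  ring

/-- `x_13` conjugated by `U` -/
theorem conj_sx {A : Sy n F} (hA : A ∈ Uu n F) {i j k : Ix n} (hi : pos i = 0) (hj : pos j = 1)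
    (hk : pos k = 2) (hij : Dj i j) (hik : Dj i k) (hjk : Dj j k) (s : F) :
    A * sx i k s * A⁻¹ = sx i k s * sx i j (s * ent A j k) := by
  have h0 := col_zero hA hi
  have h1 := col_one hA hi hj
  have h2 := col_two hA hi hj hk
  rw [mul_inv_eq_iff_eq_mul]
  apply rho_injective
  refine Equiv.ext fun v => ?_
  set w := rho n F A v with hw
  have r0 : w (neg i) = v (neg i) := by
    rw [← form_be w i, ← form_be v i, ← sympForm_rho A v (be n F i), h0]
  have r2 : w (neg k) + ent A j k * w (neg j) + ent A i k * w (neg i) = v (neg k) := by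
    rw [← form_be v k, ← sympForm_rho A v (be n F k), h2, ← hw, form_eq, ← form_be w k, ← form_be w j,
      ← form_be w i, form_eq, form_eq, form_eq, Finset.mul_sum, Finset.mul_sum, ← Finset.sum_add_distrib,
      ← Finset.sum_add_distrib]
    refine Finset.sum_congr rfl fun m _ => ?_
    simp only [Pi.add_apply, Pi.smul_apply, smul_eq_mul]
    ring
  rw [map_mul, map_mul, map_mul, Equiv.Perm.mul_apply, Equiv.Perm.mul_apply, Equiv.Perm.mul_apply, ← hw,
    rho_sx hik, rho_sx hij, rho_sx hik, rho_add, rho_add, rho_smul, rho_smul, h0, h2, ← hw]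
  have e1 : (w + (s * ent A j k * w (neg j)) • be n F i + (s * ent A j k * w (neg i)) • be n F j) (neg k) =
      w (neg k) := by
    rw [Pi.add_apply, Pi.add_apply, Pi.smul_apply, Pi.smul_apply, be_apply, be_apply, if_neg, if_neg]
    · simp
    · intro e; exact hjk.2 (by rw [← e])
    · intro e; exact hik.2 (by rw [← e])
  have e2 : (w + (s * ent A j k * w (neg j)) • be n F i + (s * ent A j k * w (neg i)) • be n F j) (neg i) =
      w (neg i) := by
    rw [Pi.add_apply, Pi.add_apply, Pi.smul_apply, Pi.smul_apply, be_apply, be_apply, if_neg, if_neg]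
    · simp
    · intro e; exact hij.2 (by rw [← e, neg_neg])
    · exact neg_ne i
  rw [e1, e2, r0, ← r2, r0]
  ext l
  simp only [Pi.add_apply, Pi.smul_apply, smul_eq_mul]
  linear_combination (s * ent A i k * v (neg i) * be n F i l) * (two0 : (2 : F) = 0)

/-- `y_2` conjugated by `U` -/
theorem conj_sy {A : Sy n F} (hA : A ∈ Uu n F) {i j : Ix n} (hi : pos i = 0) (hj : pos j = 1)
    (hij : Dj i j) (s : F) :
    A * sy j s * A⁻¹ = sy j s * (sx i j (s * ent A i j) * sy i (s * ent A i j ^ 2)) := by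
  have h0 := col_zero hA hi
  have h1 := col_one hA hi hj
  rw [mul_inv_eq_iff_eq_mul]
  apply rho_injective
  refine Equiv.ext fun v => ?_
  set w := rho n F A v with hw
  have r0 : w (neg i) = v (neg i) := by
    rw [← form_be w i, ← form_be v i, ← sympForm_rho A v (be n F i), h0]
  have r1 : w (neg j) + ent A i j * w (neg i) = v (neg j) := by
    rw [← form_be v j, ← sympForm_rho A v (be n F j), h1, ← hw, form_eq, ← form_be w j,
      ← form_be w i, form_eq, form_eq, Finset.mul_sum, ← Finset.sum_add_distrib]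
    refine Finset.sum_congr rfl fun m _ => ?_
    simp only [Pi.add_apply, Pi.smul_apply, smul_eq_mul]
    ring
  rw [map_mul, map_mul, map_mul, map_mul, Equiv.Perm.mul_apply, Equiv.Perm.mul_apply, Equiv.Perm.mul_apply,
    Equiv.Perm.mul_apply, ← hw, rho_sy i, rho_sx hij, rho_sy, rho_sy, rho_add, rho_smul, h1, ← hw]
  have g1 : (w + (s * ent A i j ^ 2 * w (neg i)) • be n F i) (neg j) = w (neg j) := by
    rw [Pi.add_apply, Pi.smul_apply, be_apply, if_neg]
    · simp
    · intro e; exact hij.2 (by rw [← e])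
  have g2 : (w + (s * ent A i j ^ 2 * w (neg i)) • be n F i) (neg i) = w (neg i) := by
    rw [Pi.add_apply, Pi.smul_apply, be_apply, if_neg (neg_ne i)]
    simp
  rw [g1, g2]
  have g3 : (w + (s * ent A i j ^ 2 * w (neg i)) • be n F i + (s * ent A i j * w (neg j)) • be n F i +
      (s * ent A i j * w (neg i)) • be n F j) (neg j) = w (neg j) := by
    rw [Pi.add_apply, Pi.add_apply, Pi.add_apply, Pi.smul_apply, Pi.smul_apply, Pi.smul_apply, be_apply, be_apply,
      if_neg, if_neg (neg_ne j)]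
    · simp
    · intro e; exact hij.2 (by rw [← e])
  rw [g3, r0, ← r1, r0]
  ext l
  simp only [Pi.add_apply, Pi.smul_apply, smul_eq_mul]
  ring

/-- the entries next to the diagonal are additive -/
theorem ent_mul_succ {A B : Sy n F} (hA : A ∈ Uu n F) (hB : B ∈ Uu n F) {i j : Ix n}
    (h : pos j = pos i + 1) : ent (A * B) i j = ent A i j + ent B i j := by
  have hij : i ≠ j := by rintro rfl; omega
  rw [ent_mul, ← Finset.sum_subset (Finset.subset_univ ({i, j} : Finset (Ix n))), Finset.sum_pair hij,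
    Uu_diag hA, Uu_diag hB]
  · ring
  · intro k _ hk
    rw [Finset.mem_insert, Finset.mem_singleton, not_or] at hk
    rcases lt_or_ge (pos k) (pos i) with h1 | h1
    · rw [Uu_zero hA h1, zero_mul]
    · have h2 : pos k ≠ pos i := fun e => hk.1 (pos_inj e)
      have h3 : pos k ≠ pos j := fun e => hk.2 (pos_inj e)
      rw [Uu_zero hB (by omega), mul_zero]

end mat

end Cfsg.Agent.OddHalf.SpN.StartOf

namespace Cfsg.Agent.OddHalf.SpN.Frame

open Cfsg Cfsg.Agent.ClassicalGeometry.SympBasic Cfsg.Agent.ClassicalGeometry.SympAutSemi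
open scoped Matrix commutatorElement
open Subgroup TU StartB StartOf

variable {n : ℕ} {F : Type*} [Field F] {G : Type*} [Group G] (R : Frame n F G)

open Classical in
/-- the component in `Sp` of an element of `⟨t⟩ K` -/
noncomputable def co (g : G) : Sy n F :=
  if h : ∃ A, g = R.ι A ∨ g = R.t * R.ι A then h.choose else 1

theorem co_ι (A : Sy n F) : R.co (R.ι A) = A := by
  have h : ∃ B, R.ι A = R.ι B ∨ R.ι A = R.t * R.ι B := ⟨A, Or.inl rfl⟩
  rw [co, dif_pos h]
  rcases h.choose_spec with e | e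
  · exact (R.inj e).symm
  · exfalso
    apply R.tK (A * h.choose⁻¹)
    rw [map_mul, map_inv]
    exact mul_inv_eq_iff_eq_mul.2 e

theorem co_tι (A : Sy n F) : R.co (R.t * R.ι A) = A := by
  have h : ∃ B, R.t * R.ι A = R.ι B ∨ R.t * R.ι A = R.t * R.ι B := ⟨A, Or.inr rfl⟩
  rw [co, dif_pos h]
  rcases h.choose_spec with e | e
  · exfalso
    apply R.tK (h.choose * A⁻¹)
    rw [map_mul, map_inv]
    exact mul_inv_eq_iff_eq_mul.2 e.symm
  · exact (R.inj (mul_left_cancel e)).symm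

/-- an entry, on `⟨t⟩ K` -/
noncomputable def rr (i j : Ix n) (g : G) : F := ent (R.co g) i j

theorem rr_ι (i j : Ix n) (A : Sy n F) : R.rr i j (R.ι A) = ent A i j := by rw [rr, co_ι]

theorem rr_tι (i j : Ix n) (A : Sy n F) : R.rr i j (R.t * R.ι A) = ent A i j := by rw [rr, co_tι]

theorem co_of {g : G} {A : Sy n F} (h : g = R.ι A ∨ g = R.t * R.ι A) : R.co g = A := by
  rcases h with rfl | rfl
  · exact R.co_ι A
  · exact R.co_tι A

/-- `t` drops out of a conjugation of elements of `K` -/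
theorem conj_of {g : G} {A : Sy n F} (h : g = R.ι A ∨ g = R.t * R.ι A) (B : Sy n F) :
    g * R.ι B * g⁻¹ = R.ι (A * B * A⁻¹) := by
  rw [map_mul, map_mul, map_inv]
  rcases h with rfl | rfl
  · rfl
  · have e := (R.comm (A * B * A⁻¹)).eq
    rw [map_mul, map_mul, map_inv] at e
    calc R.t * R.ι A * R.ι B * (R.t * R.ι A)⁻¹ = R.t * (R.ι A * R.ι B * (R.ι A)⁻¹) * R.t⁻¹ := by group
      _ = _ := by rw [← e]; group

theorem co_mul {g g' : G} {A B : Sy n F} (h : g = R.ι A ∨ g = R.t * R.ι A) (h' : g' = R.ι B ∨ g' = R.t * R.ι B) :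
    g * g' = R.ι (A * B) ∨ g * g' = R.t * R.ι (A * B) := by
  have e := (R.comm A).eq
  rw [map_mul]
  rcases h with rfl | rfl <;> rcases h' with rfl | rfl
  · left; rfl
  · right; rw [← mul_assoc, e, mul_assoc]
  · right; rw [mul_assoc]
  · left
    calc R.t * R.ι A * (R.t * R.ι B) = R.t * (R.ι A * R.t) * R.ι B := by group
      _ = (R.t * R.t) * R.ι A * R.ι B := by rw [e]; group
      _ = _ := by rw [R.tt, one_mul]

variable [CharP F 2]

/-- the centre of `T₁` commutes with `U`, hence is `⟨t⟩ X_12 Y_1` -/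
theorem center_T1 {a b : Fin n} (ha : a.val = 0) (hb : b.val = 1) {z : G} (hz : z ∈ R.T1)
    (hc : ∀ A ∈ Uu n F, z * R.ι A = R.ι A * z) :
    ∃ s s' : F, z = R.x (Sum.inl a) (Sum.inl b) s * R.y (Sum.inl a) s' ∨
      z = R.t * (R.x (Sum.inl a) (Sum.inl b) s * R.y (Sum.inl a) s') := by
  obtain ⟨A, hA, h⟩ := hz
  have hcA : ∀ B ∈ Uu n F, Commute A B := by
    intro B hB
    have h1 := hc B hB
    have h2 := R.conj_of h B
    rw [h1, mul_inv_cancel_right] at h2
    have h3 := R.inj h2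
    exact (mul_inv_eq_iff_eq_mul.1 h3.symm)
  obtain ⟨x', y', e⟩ := center_eq ha hb hA hcA
  have hcomm : Commute (sy (Sum.inl a) x') (sx (Sum.inl a) (Sum.inl b) y') :=
    sy_sx_comm (by rw [neg_inl]; exact fun e => by cases e) (by rw [neg_inl]; exact fun e => by cases e) _ _
  rw [hcomm.eq] at e
  refine ⟨y', x', ?_⟩
  rw [Frame.x, Frame.y, ← map_mul, ← e]
  exact h

/-- the commutator with `x_13` -/
theorem com_x {a b c : Fin n} (ha : a.val = 0) (hb : b.val = 1) (hc : c.val = 2) (s : F) {u : G}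
    (hu : u ∈ R.T1) : com (R.x (Sum.inl a) (Sum.inl c) s) u =
      R.x (Sum.inl a) (Sum.inl b) (s * R.rr (Sum.inl b) (Sum.inl c) u) := by
  obtain ⟨A, hA, h⟩ := hu
  have nab : a ≠ b := by rintro rfl; omega
  have nac : a ≠ c := by rintro rfl; omega
  have nbc : b ≠ c := by rintro rfl; omega
  have h1 : u * R.x (Sum.inl a) (Sum.inl c) s * u⁻¹ = _ := R.conj_of h (sx (Sum.inl a) (Sum.inl c) s)
  rw [conj_sx hA (by rw [pos_inl]; exact ha) (by rw [pos_inl]; exact hb) (by rw [pos_inl]; exact hc)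
    (dj_inl nab) (dj_inl nac) (dj_inl nbc)] at h1
  have h2 : R.rr (Sum.inl b) (Sum.inl c) u = ent A (Sum.inl b) (Sum.inl c) := by rw [rr, R.co_of h]
  have h3 := R.x_sq (Sum.inl a) (Sum.inl c) s
  have h4 : (R.x (Sum.inl a) (Sum.inl c) s)⁻¹ = R.x (Sum.inl a) (Sum.inl c) s := inv_eq_of_mul_eq_one_left h3
  unfold com
  rw [h4, h2]
  calc R.x (Sum.inl a) (Sum.inl c) s * u * R.x (Sum.inl a) (Sum.inl c) s * u⁻¹ =
        R.x (Sum.inl a) (Sum.inl c) s * (u * R.x (Sum.inl a) (Sum.inl c) s * u⁻¹) := by group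
    _ = (R.x (Sum.inl a) (Sum.inl c) s * R.x (Sum.inl a) (Sum.inl c) s) *
        R.x (Sum.inl a) (Sum.inl b) (s * ent A (Sum.inl b) (Sum.inl c)) := by
        rw [h1, map_mul]
        change _ * (R.x _ _ _ * R.x _ _ _) = _
        group
    _ = _ := by rw [h3, one_mul]

/-- the commutator with `y_2` -/
theorem com_y {a b : Fin n} (ha : a.val = 0) (hb : b.val = 1) (s : F) {u : G}
    (hu : u ∈ R.T1) : com (R.y (Sum.inl b) s) u =
      R.x (Sum.inl a) (Sum.inl b) (s * R.rr (Sum.inl a) (Sum.inl b) u) *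
        R.y (Sum.inl a) (s * R.rr (Sum.inl a) (Sum.inl b) u ^ 2) := by
  obtain ⟨A, hA, h⟩ := hu
  have nab : a ≠ b := by rintro rfl; omega
  have h1 : u * R.y (Sum.inl b) s * u⁻¹ = _ := R.conj_of h (sy (Sum.inl b) s)
  rw [conj_sy hA (by rw [pos_inl]; exact ha) (by rw [pos_inl]; exact hb) (dj_inl nab)] at h1
  have h2 : R.rr (Sum.inl a) (Sum.inl b) u = ent A (Sum.inl a) (Sum.inl b) := by rw [rr, R.co_of h]
  have h3 := R.y_sq (Sum.inl b) s
  have h4 : (R.y (Sum.inl b) s)⁻¹ = R.y (Sum.inl b) s := inv_eq_of_mul_eq_one_left h3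
  unfold com
  rw [h4, h2]
  calc R.y (Sum.inl b) s * u * R.y (Sum.inl b) s * u⁻¹ =
        R.y (Sum.inl b) s * (u * R.y (Sum.inl b) s * u⁻¹) := by group
    _ = (R.y (Sum.inl b) s * R.y (Sum.inl b) s) *
        (R.x (Sum.inl a) (Sum.inl b) (s * ent A (Sum.inl a) (Sum.inl b)) *
          R.y (Sum.inl a) (s * ent A (Sum.inl a) (Sum.inl b) ^ 2)) := by
        rw [h1, map_mul, map_mul]
        change _ * (R.y _ _ * (R.x _ _ _ * R.y _ _)) = _
        group
    _ = _ := by rw [h3, one_mul]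

/-- the second centre of `T₁` -/
theorem second_T1 {a b c : Fin n} (ha : a.val = 0) (hb : b.val = 1) (hc : c.val = 2) {v : G} (hv : v ∈ R.T1)
    (h : ∀ u ∈ R.T1, ∀ w ∈ R.T1, w * com v u = com v u * w) :
    ∃ s s' : F, ∃ z, (∀ w ∈ R.T1, w * z = z * w) ∧ z ∈ R.T1 ∧
      v = R.x (Sum.inl a) (Sum.inl c) s * R.y (Sum.inl b) s' * z := by
  have nab : a ≠ b := by rintro rfl; omega
  have nac : a ≠ c := by rintro rfl; omega
  obtain ⟨A, hA, hvA⟩ := hv
  have hcom : ∀ B, com v (R.ι B) = R.ι (A * B * A⁻¹ * B⁻¹) := by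
    intro B
    unfold com
    rw [R.conj_of hvA, ← map_inv, ← map_mul]
  have h1 : ∀ B ∈ Uu n F, ∃ x y : F, A * B * A⁻¹ * B⁻¹ = sy (Sum.inl a) x * sx (Sum.inl a) (Sum.inl b) y := by
    intro B hB
    apply center_eq ha hb (mul_mem (mul_mem (mul_mem hA hB) (inv_mem hA)) (inv_mem hB))
    intro C hC
    have h2 := h _ (R.ι_mem_T1 hB) _ (R.ι_mem_T1 hC)
    rw [hcom, ← map_mul, ← map_mul] at h2
    exact (R.inj h2).symm
  obtain ⟨x', y', v', w', e⟩ := second_center_eq ha hb hc hA h1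
  have hz0 : sy (Sum.inl a) x' * sx (Sum.inl a) (Sum.inl b) y' ∈ Uu n F :=
    mul_mem (sy_inl_mem _ _) (sx_inl_inl_mem _ _ _)
  -- the central part
  have cen : ∀ w ∈ R.T1, w * R.ι (sy (Sum.inl a) x' * sx (Sum.inl a) (Sum.inl b) y') =
      R.ι (sy (Sum.inl a) x' * sx (Sum.inl a) (Sum.inl b) y') * w := by
    intro w hw
    have e1 := R.T1_y (i := Sum.inl a) (by rw [pos_inl]; exact ha) w hw x'
    have e2 := R.T1_x (i := Sum.inl a) (j := Sum.inl b) (by rw [pos_inl]; exact ha) (by rw [pos_inl]; exact hb)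
      (dj_inl nab) w hw y'
    rw [map_mul]
    change w * (R.y (Sum.inl a) x' * R.x (Sum.inl a) (Sum.inl b) y') =
      R.y (Sum.inl a) x' * R.x (Sum.inl a) (Sum.inl b) y' * w
    rw [← mul_assoc, e1, mul_assoc, e2, mul_assoc]
  have hv0 : R.x (Sum.inl a) (Sum.inl c) v' * R.y (Sum.inl b) w' ∈ R.T1 :=
    mul_mem (R.ι_mem_T1 (sx_inl_inl_mem _ _ _)) (R.ι_mem_T1 (sy_inl_mem _ _))
  have eA : R.ι A = R.x (Sum.inl a) (Sum.inl c) v' * R.y (Sum.inl b) w' *
      R.ι (sy (Sum.inl a) x' * sx (Sum.inl a) (Sum.inl b) y') := by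
    rw [cen _ hv0, e, mul_assoc, map_mul, map_mul (R.ι) (sx (Sum.inl a) (Sum.inl c) v')]
    rfl
  rcases hvA with rfl | rfl
  · exact ⟨v', w', _, cen, R.ι_mem_T1 hz0, eA⟩
  · refine ⟨v', w', R.t * R.ι (sy (Sum.inl a) x' * sx (Sum.inl a) (Sum.inl b) y'), ?_,
      mul_mem R.t_mem_T1 (R.ι_mem_T1 hz0), ?_⟩
    · intro w hw
      rw [← mul_assoc, R.T1_t hw, mul_assoc, cen w hw, mul_assoc]
    · rw [eA, ← mul_assoc, ← R.T1_t hv0, mul_assoc]

/-- **the commutator data of `T₁`** -/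
theorem tu [Finite F] (hq : ∃ s : F, s ≠ 0 ∧ s ≠ 1) {a b c : Fin n} (ha : a.val = 0) (hb : b.val = 1)
    (hc : c.val = 2) :
    StartB.TU R.T1 (R.y (Sum.inl a)) (R.x (Sum.inl a) (Sum.inl b)) (R.x (Sum.inl a) (Sum.inl c))
      (R.y (Sum.inl b)) (R.rr (Sum.inl b) (Sum.inl c)) (R.rr (Sum.inl a) (Sum.inl b)) := by
  have nab : a ≠ b := by rintro rfl; omega
  have nac : a ≠ c := by rintro rfl; omega
  have nbc : b ≠ c := by rintro rfl; omega
  refine
    { two := CharTwo.add_self_eq_zero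
      perf := fun s => ?_
      four := hq
      xa_mem := fun s => R.ι_mem_T1 (sy_inl_mem _ _)
      xb_mem := fun s => R.ι_mem_T1 (sx_inl_inl_mem _ _ _)
      x13_mem := fun s => R.ι_mem_T1 (sx_inl_inl_mem _ _ _)
      x22_mem := fun s => R.ι_mem_T1 (sy_inl_mem _ _)
      xa_add := R.y_add _
      xb_add := R.x_add _ _
      ind := fun s s' h => ?_
      xac := fun s u hu => R.T1_y (i := Sum.inl a) (by rw [pos_inl]; exact ha) u hu s
      xbc := fun s u hu => R.T1_x (i := Sum.inl a) (j := Sum.inl b) (by rw [pos_inl]; exact ha)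
        (by rw [pos_inl]; exact hb) (dj_inl nab) u hu s
      z2 := fun v hv h => R.second_T1 ha hb hc hv h
      r_mul := fun u hu w hw => ?_
      onto := fun ρ β => ?_
      c13 := fun s u hu => R.com_x ha hb hc s hu
      c22 := fun s u hu => R.com_y ha hb s hu }
  · obtain ⟨w, hw⟩ := isSquare_of_charTwo' s
    exact ⟨w, by rw [hw, pow_two]⟩
  · rw [Frame.x, Frame.y, ← map_mul] at h
    have h1 : sx (Sum.inl a) (Sum.inl b) s * sy (Sum.inl a) s' = 1 := R.inj (by rw [h, map_one])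
    have e1 := ent_sx_mul (dj_inl nab) s (sy (Sum.inl a) s') (Sum.inl a) (Sum.inr b)
    have e2 := ent_sx_mul (dj_inl nab) s (sy (Sum.inl a) s') (Sum.inl a) (Sum.inr a)
    rw [h1, ent_one] at e1 e2
    simp only [ent_sy, neg_inl] at e1 e2
    simp [nab, nab.symm] at e1 e2
    exact ⟨e1.symm, e2.symm⟩
  · obtain ⟨A, hA, h⟩ := hu
    obtain ⟨B, hB, h'⟩ := hw
    rw [rr, rr, rr, R.co_of h, R.co_of h', R.co_of (R.co_mul h h')]
    exact ent_mul_succ hA hB (by rw [pos_inl, pos_inl, hb, hc])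
  · have hab : a < b := by rw [Fin.lt_def]; omega
    have hbc : b < c := by rw [Fin.lt_def]; omega
    have m1 := sx_inl_inr_mem (F := F) hbc ρ
    have m2 := sx_inl_inr_mem (F := F) hab β
    refine ⟨R.ι (sx (Sum.inl b) (Sum.inr c) ρ * sx (Sum.inl a) (Sum.inr b) β), R.ι_mem_T1 (mul_mem m1 m2), ?_, ?_⟩
    · rw [rr_ι, ent_mul_succ m1 m2 (by rw [pos_inl, pos_inl, hb, hc]), ent_sx (dj_inl_inr nbc),
        ent_sx (dj_inl_inr nab)]
      simp [nbc, nab.symm]
    · rw [rr_ι, ent_mul_succ m1 m2 (by rw [pos_inl, pos_inl, ha, hb]), ent_sx (dj_inl_inr nbc),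
        ent_sx (dj_inl_inr nab)]
      simp [nbc, nab]

end Cfsg.Agent.OddHalf.SpN.Frame
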