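import Mathlib
import Cfsg.Agent.OddHalf.SpN.StartOf
import Cfsg.Agent.OddHalf.SpN.SylU

/-!
# ODD D7, `K = Sp_2n(q)`, `q` even, `q ≥ 4`, `n ≥ 3`: section 1, clean case (helper583)

`a, b, c : Fin n` with values `0, 1, 2`.

* `R.tor_trans` : the torus is transitive on pairs of elements of `X_12`, `Y_1`;
* `R.A1 a`, `R.B1 a b`, `R.Z1 a b` : the subgroups `Y_1`, `X_12`, `X_12 Y_1`;
* `CFrame.max_T1` : `R.T1` is a Sylow 2-subgroup of `C(t)`; `CFrame.nconj` : `t` is not conjugate into `Z1`;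
* `CFrame.fr : Fr R.t R.t R.K R.Up (R.Z1 a b) R.T1`, `CFrame.sinp`;
* `CFrame.start` : if `t` is not isolated in `T₁` then the long or the short root elements are moved;
* `CFrame.movesY`, `CFrame.movesX` : then they are moved in `N(T₁)`, commuting with the torus part (`WExist.Mv`);
* `CFrame.short_of`, `long_of`, `mixed_of` : mixed elements are moved iff both lengths are (given one of them).
-/

set_option autoImplicit false

namespace Cfsg.Agent.OddHalf.SpN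

open Cfsg Cfsg.Agent.ClassicalGeometry.SympBasic Cfsg.Agent.ClassicalGeometry.SympAutSemi
open scoped Matrix commutatorElement
open Subgroup TU StartB WExist

variable {n : ℕ} {F : Type*} [Field F]

namespace Frame

variable {G : Type*} [Group G] (R : Frame n F G)

theorem zpowers_t {g : G} (h : g ∈ zpowers R.t) : g = 1 ∨ g = R.t := by
  obtain ⟨k, rfl⟩ := mem_zpowers_iff.1 h
  have h2 : R.t ^ (2 : ℤ) = 1 := by rw [zpow_two, R.tt]
  rcases Int.even_or_odd k with ⟨m, rfl⟩ | ⟨m, rfl⟩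
  · left
    rw [← two_mul, zpow_mul, h2, one_zpow]
  · right
    rw [zpow_add, zpow_mul, h2, one_zpow, one_mul, zpow_one]

theorem zpowers_pgroup : IsPGroup 2 (zpowers R.t) := by
  rintro ⟨g, hg⟩
  refine ⟨1, Subtype.ext ?_⟩
  rcases R.zpowers_t hg with rfl | rfl
  · simp
  · simp [pow_two, R.tt]

theorem norm_K {g : G} (h : g * R.t = R.t * g) : g ∈ normalizer (R.K : Set G) := by
  have key : ∀ g : G, g * R.t = R.t * g → ∀ x ∈ R.K, g * x * g⁻¹ ∈ R.K := by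
    rintro g hg _ ⟨k, rfl⟩
    obtain ⟨k', hk'⟩ := R.nK g hg k
    exact ⟨k', hk'.symm⟩
  rw [mem_normalizer_iff]
  intro x
  refine ⟨key g h x, fun hx => ?_⟩
  have h' : g⁻¹ * R.t = R.t * g⁻¹ := by
    rw [inv_mul_eq_iff_eq_mul, ← mul_assoc, h, mul_inv_cancel_right]
  have := key g⁻¹ h' _ hx
  have e : g⁻¹ * (g * x * g⁻¹) * g⁻¹⁻¹ = x := by group
  rwa [e] at this

/-- `⟨t⟩ K` -/
def TK : Subgroup G where
  carrier := {g | ∃ A, g = R.ι A ∨ g = R.t * R.ι A}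
  one_mem' := ⟨1, Or.inl (map_one _).symm⟩
  mul_mem' := by
    rintro a b ⟨A, hA⟩ ⟨B, hB⟩
    exact ⟨A * B, R.co_mul hA hB⟩
  inv_mem' := by
    rintro a ⟨A, hA | hA⟩
    · exact ⟨A⁻¹, Or.inl (by rw [hA, map_inv])⟩
    · refine ⟨A⁻¹, Or.inr ?_⟩
      rw [hA, mul_inv_rev, R.t_inv, map_inv, ((R.comm A).inv_left).eq]

theorem sup_le_TK : zpowers R.t ⊔ R.K ≤ R.TK := by
  rw [sup_le_iff, zpowers_le]
  exact ⟨⟨1, Or.inr (by rw [map_one, mul_one])⟩, by rintro _ ⟨A, rfl⟩; exact ⟨A, Or.inl rfl⟩⟩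

variable [CharP F 2]

/-- the torus is transitive on pairs -/
theorem tor_trans [Finite F] {i j : Ix n} (hd : Dj i j) {s s' p p' : F} (hs : s ≠ 0) (hs' : s' ≠ 0) (hp : p ≠ 0)
    (hp' : p' ≠ 0) : ∃ h ∈ R.h.range, h * R.x i j s * h⁻¹ = R.x i j p ∧ h * R.y i s' * h⁻¹ = R.y i p' := by
  obtain ⟨l1, h1⟩ := chiy_surj (n := n) (F := F) i (Units.mk0 (p' / s') (div_ne_zero hp' hs'))
  -- `ev l1 i ^ 2 = p' / s'`, then correct at `j`
  have h1' : ((ev l1 i : Fˣ) : F) * ev l1 i = p' / s' := by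
    have := congrArg Units.val h1
    rwa [chiy_apply, Units.val_mul, Units.val_mk0] at this
  set β : Fˣ := Units.mk0 (p / (s * (ev l1 i * ev l1 j))) (div_ne_zero hp
    (mul_ne_zero hs (mul_ne_zero (Units.ne_zero _) (Units.ne_zero _)))) with hβ
  set lam := l1 * one j β with hlam
  have ei : ev lam i = ev l1 i := by
    rw [hlam]
    have : ev (l1 * one j β) i = ev l1 i * ev (one j β) i := by
      rcases i with i | i <;> simp [ev, mul_comm]
    rw [this, ev_one_ne hd, mul_one]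
  have ej : ev lam j = ev l1 j * β := by
    rw [hlam]
    have : ev (l1 * one j β) j = ev l1 j * ev (one j β) j := by
      rcases j with j | j <;> simp [ev, mul_comm]
    rw [this, ev_one_self]
  refine ⟨R.h lam, ⟨lam, rfl⟩, ?_, ?_⟩
  · rw [R.h_x, ei, ej]
    congr 1
    rw [Units.val_mul, hβ, Units.val_mk0]
    have n1 : ((ev l1 i : Fˣ) : F) ≠ 0 := Units.ne_zero _
    have n2 : ((ev l1 j : Fˣ) : F) ≠ 0 := Units.ne_zero _
    field_simp
  · rw [R.h_y, ei, pow_two, h1', div_mul_cancel₀ _ hs']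

/-- the subgroup `Y_1` -/
noncomputable def A1 (a : Fin n) : Subgroup G := xs (R.y (Sum.inl a)) (R.y_add _) (R.y_sq _)

/-- the subgroup `X_12` -/
noncomputable def B1 (a b : Fin n) : Subgroup G := xs (R.x (Sum.inl a) (Sum.inl b)) (R.x_add _ _) (R.x_sq _ _)

theorem mem_A1 {a : Fin n} {g : G} : g ∈ R.A1 a ↔ ∃ s, g = R.y (Sum.inl a) s := Iff.rfl

theorem mem_B1 {a b : Fin n} {g : G} : g ∈ R.B1 a b ↔ ∃ s, g = R.x (Sum.inl a) (Sum.inl b) s := Iff.rfl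

theorem xy_comm (a b : Fin n) (s s' : F) : Commute (R.y (Sum.inl a) s) (R.x (Sum.inl a) (Sum.inl b) s') :=
  R.y_x_comm (by rw [neg_inl]; exact fun e => by cases e) (by rw [neg_inl]; exact fun e => by cases e) _ _

/-- the subgroup `X_12 Y_1 = Z(U)` -/
noncomputable def Z1 (a b : Fin n) : Subgroup G where
  carrier := {g | ∃ s s', g = R.x (Sum.inl a) (Sum.inl b) s * R.y (Sum.inl a) s'}
  one_mem' := ⟨0, 0, by rw [R.x_zero, R.y_zero, one_mul]⟩
  mul_mem' := by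
    rintro _ _ ⟨s, s', rfl⟩ ⟨p, p', rfl⟩
    refine ⟨s + p, s' + p', ?_⟩
    have e := (R.xy_comm a b s' p).eq
    rw [R.x_add, R.y_add]
    calc R.x (Sum.inl a) (Sum.inl b) s * R.y (Sum.inl a) s' * (R.x (Sum.inl a) (Sum.inl b) p * R.y (Sum.inl a) p') =
          R.x (Sum.inl a) (Sum.inl b) s * (R.y (Sum.inl a) s' * R.x (Sum.inl a) (Sum.inl b) p) *
            R.y (Sum.inl a) p' := by group
      _ = _ := by rw [e]; group
  inv_mem' := by
    rintro _ ⟨s, s', rfl⟩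
    refine ⟨s, s', ?_⟩
    have e := (R.xy_comm a b s' s).eq
    have e1 : (R.x (Sum.inl a) (Sum.inl b) s)⁻¹ = R.x (Sum.inl a) (Sum.inl b) s :=
      inv_eq_of_mul_eq_one_left (R.x_sq _ _ _)
    have e2 : (R.y (Sum.inl a) s')⁻¹ = R.y (Sum.inl a) s' := inv_eq_of_mul_eq_one_left (R.y_sq _ _)
    rw [mul_inv_rev, e1, e2, e]

theorem mem_Z1 {a b : Fin n} {g : G} :
    g ∈ R.Z1 a b ↔ ∃ s s', g = R.x (Sum.inl a) (Sum.inl b) s * R.y (Sum.inl a) s' := Iff.rfl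

theorem Z1_sq {a b : Fin n} {g : G} (h : g ∈ R.Z1 a b) : g * g = 1 := by
  obtain ⟨s, s', rfl⟩ := h
  have e := (R.xy_comm a b s' s).eq
  calc R.x (Sum.inl a) (Sum.inl b) s * R.y (Sum.inl a) s' * (R.x (Sum.inl a) (Sum.inl b) s * R.y (Sum.inl a) s') =
        R.x (Sum.inl a) (Sum.inl b) s * (R.y (Sum.inl a) s' * R.x (Sum.inl a) (Sum.inl b) s) *
          R.y (Sum.inl a) s' := by group
    _ = (R.x (Sum.inl a) (Sum.inl b) s * R.x (Sum.inl a) (Sum.inl b) s) *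
        (R.y (Sum.inl a) s' * R.y (Sum.inl a) s') := by rw [e]; group
    _ = 1 := by rw [R.x_sq, R.y_sq, one_mul]

/-- `X_12 Y_1` is central in `T₁` -/
theorem Z1_comm {a b : Fin n} (ha : a.val = 0) (hb : b.val = 1) {z : G} (hz : z ∈ R.Z1 a b) :
    ∀ u ∈ R.T1, u * z = z * u := by
  have hne : a ≠ b := by rintro rfl; omega
  intro u hu
  obtain ⟨s, s', rfl⟩ := hz
  have e1 := R.T1_y (i := Sum.inl a) (by rw [pos_inl]; exact ha) u hu s'
  have e2 := R.T1_x (i := Sum.inl a) (j := Sum.inl b) (by rw [pos_inl]; exact ha) (by rw [pos_inl]; exact hb)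
    (dj_inl hne) u hu s
  rw [← mul_assoc, e2, mul_assoc, e1, mul_assoc]

/-- `X_12 Y_1 ≤ U'` -/
theorem Z1_le {a b c : Fin n} (ha : a.val = 0) (hb : b.val = 1) (hc : c.val = 2) :
    R.Z1 a b ≤ (⁅Uu n F, Uu n F⁆).map R.ι := by
  have hab : a < b := by rw [Fin.lt_def]; omega
  have hbc : b < c := by rw [Fin.lt_def]; omega
  rintro _ ⟨s, s', rfl⟩
  exact mul_mem (mem_map_of_mem _ (sx_mem_comm hab.ne (hab.trans hbc).ne hbc s))
    (mem_map_of_mem _ (sy_mem_comm hab hbc s'))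

variable [Finite F]

/-- `R.Up = U` -/
theorem Up_le_T1 : R.Up ≤ R.T1 := by
  rw [R.Up_eq]
  rintro _ ⟨A, hA, rfl⟩
  exact R.ι_mem_T1 hA

theorem Up_eq_inf : R.Up = R.T1 ⊓ R.K := by
  apply le_antisymm (le_inf R.Up_le_T1 R.Up_le)
  rintro g ⟨hg, A, rfl⟩
  rw [R.Up_eq]
  exact ⟨A, R.ι_mem_T1_iff.1 hg, rfl⟩

theorem T1_eq_sup : R.T1 = R.Up ⊔ zpowers R.t := by
  apply le_antisymm
  · rintro g ⟨A, hA, rfl | rfl⟩
    · exact mem_sup_left (by rw [R.Up_eq]; exact ⟨A, hA, rfl⟩)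
    · exact mul_mem (mem_sup_right (mem_zpowers _)) (mem_sup_left (by rw [R.Up_eq]; exact ⟨A, hA, rfl⟩))
  · exact sup_le R.Up_le_T1 (zpowers_le.2 R.t_mem_T1)

end Frame

namespace CFrame

variable {G : Type*} [Group G] [Finite G] (R : CFrame n F G)

omit [Finite G] in
theorem tK_normal : ((zpowers R.t ⊔ R.K).subgroupOf (centralizer ({R.t} : Set G))).Normal := by
  constructor
  rintro ⟨x, hx⟩ hxm ⟨g, hg⟩
  rw [mem_subgroupOf] at hxm ⊢
  change x ∈ zpowers R.t ⊔ R.K at hxm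
  change g * x * g⁻¹ ∈ zpowers R.t ⊔ R.K
  have hgt : g * R.t = R.t * g := mem_centralizer_singleton_iff.1 hg
  have hle : zpowers R.t ⊔ R.K ≤ (zpowers R.t ⊔ R.K).comap (MulAut.conj g).toMonoidHom := by
    rw [sup_le_iff, zpowers_le]
    constructor
    · change g * R.t * g⁻¹ ∈ zpowers R.t ⊔ R.K
      rw [hgt, mul_inv_cancel_right]
      exact mem_sup_left (mem_zpowers _)
    · intro k hk
      exact mem_sup_right ((mem_normalizer_iff.1 (R.norm_K hgt) k).1 hk)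
  exact hle hxm

/-- the 2-elements of `C(t)` are in `⟨t⟩ K` -/
theorem mem_of_two {x : G} (hx : x * R.t = R.t * x) {k : ℕ} (hk : x ^ 2 ^ k = 1) :
    x ∈ zpowers R.t ⊔ R.K := by
  have hN := R.tK_normal
  set C := centralizer ({R.t} : Set G) with hC
  set N := (zpowers R.t ⊔ R.K).subgroupOf C with hNdef
  have hodd : Odd N.index := R.odd
  have h1 : ((⟨x, mem_centralizer_singleton_iff.2 hx⟩ : C) : C ⧸ N) ^ 2 ^ k = 1 := by
    rw [← QuotientGroup.mk_pow]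
    have : (⟨x, mem_centralizer_singleton_iff.2 hx⟩ : C) ^ 2 ^ k = 1 := Subtype.ext hk
    rw [this]; rfl
  have h2 : ((⟨x, mem_centralizer_singleton_iff.2 hx⟩ : C) : C ⧸ N) ^ N.index = 1 := by
    rw [index_eq_card]; exact pow_card_eq_one'
  have h3 : orderOf ((⟨x, mem_centralizer_singleton_iff.2 hx⟩ : C) : C ⧸ N) = 1 := by
    apply Nat.eq_one_of_dvd_coprimes (a := 2 ^ k) (b := N.index) _ (orderOf_dvd_of_pow_eq_one h1)
      (orderOf_dvd_of_pow_eq_one h2)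
    exact Nat.Coprime.pow_left k (Nat.coprime_two_left.mpr hodd)
  rw [orderOf_eq_one_iff, QuotientGroup.eq_one_iff, hNdef, mem_subgroupOf] at h3
  exact h3

variable [CharP F 2] [Finite F]

/-- `T₁` is a Sylow 2-subgroup of `C(t)` -/
theorem max_T1 (P : Subgroup G) (hP : IsPGroup 2 P) (h1 : R.T1 ≤ P) (h2 : ∀ x ∈ P, x * R.t = R.t * x) :
    P ≤ R.T1 := by
  have hPC : P ≤ centralizer ({R.t} : Set G) := fun x hx => mem_centralizer_singleton_iff.2 (h2 x hx)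
  have ho := R.odd_cent
  rw [← R.T1_eq_sup, ← relIndex_mul_relIndex _ _ _ h1 hPC, Nat.odd_mul] at ho
  have : Fact (Nat.Prime 2) := ⟨Nat.prime_two⟩
  obtain ⟨k, hk⟩ := IsPGroup.index hP (R.T1.subgroupOf P)
  have ho1 := ho.1
  rw [relIndex, hk] at ho1
  have hk0 : k = 0 := by
    by_contra h0
    exact (Nat.not_odd_iff_even.2 ((even_two).pow_of_ne_zero h0)) ho1
  rw [hk0, pow_zero, index_eq_one, subgroupOf_eq_top] at hk
  exact hk

omit [Finite F] in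
/-- `t` is not conjugate into `X_12 Y_1` -/
theorem nconj {a b c : Fin n} (ha : a.val = 0) (hb : b.val = 1) (hc : c.val = 2) {z : G} (hz : z ∈ R.Z1 a b)
    (g : G) : g * R.t * g⁻¹ ≠ z := by
  intro hg
  set U := (Uu n F).map R.ι with hU
  set V := U.map (MulAut.conj g⁻¹).toMonoidHom with hV
  have h1 : z ∈ ⁅U, U⁆ := by
    have := R.Z1_le ha hb hc hz
    rwa [map_commutator] at this
  have h2 : R.t ∈ ⁅V, V⁆ := by
    rw [hV, ← map_commutator]
    refine ⟨z, h1, ?_⟩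
    change g⁻¹ * z * g⁻¹⁻¹ = R.t
    rw [← hg]; group
  have h3 : V ≤ zpowers R.t ⊔ R.K := by
    rintro _ ⟨u, hu, rfl⟩
    change g⁻¹ * u * g⁻¹⁻¹ ∈ _
    have hu' : u ∈ R.T1 := by
      obtain ⟨A, hA, rfl⟩ := hu
      exact R.ι_mem_T1 hA
    have hc1 := R.Z1_comm ha hb hz u hu'
    obtain ⟨k, hk⟩ := R.T1_pgroup ⟨u, hu'⟩
    have hk' : u ^ 2 ^ k = 1 := congrArg Subtype.val hk
    apply R.mem_of_two (k := k)
    · rw [← hg] at hc1
      calc g⁻¹ * u * g⁻¹⁻¹ * R.t = g⁻¹ * (u * (g * R.t * g⁻¹)) * g := by group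
        _ = R.t * (g⁻¹ * u * g⁻¹⁻¹) := by rw [hc1]; group
    · rw [conj_pow, hk']; group
  -- `⟨t⟩ K` modulo `K`
  have h4 : ⁅V, V⁆ ≤ R.K := by
    rw [commutator_le]
    intro x hx y hy
    obtain ⟨A, hA⟩ := R.sup_le_TK (h3 hx)
    obtain ⟨B, hB⟩ := R.sup_le_TK (h3 hy)
    have e1 : x * y * x⁻¹ * y⁻¹ = R.ι (A * B * A⁻¹ * B⁻¹) := by
      rw [map_mul, ← R.conj_of hA, map_inv]
      rcases hB with rfl | rfl
      · rfl
      · have hxt : x * R.t = R.t * x := by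
          rcases hA with rfl | rfl
          · exact (R.comm A).eq
          · rw [mul_assoc, (R.comm A).eq]
        calc x * (R.t * R.ι B) * x⁻¹ * (R.t * R.ι B)⁻¹ = (x * R.t) * R.ι B * x⁻¹ * (R.ι B)⁻¹ * R.t⁻¹ := by group
          _ = R.t * (x * R.ι B * x⁻¹ * (R.ι B)⁻¹) * R.t⁻¹ := by rw [hxt]; group
          _ = x * R.ι B * x⁻¹ * (R.ι B)⁻¹ := by
            have e2 : x * R.ι B * x⁻¹ * (R.ι B)⁻¹ = R.ι (A * B * A⁻¹ * B⁻¹) := by
              rw [map_mul, ← R.conj_of hA, map_inv]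
            rw [e2, ← (R.comm _).eq]; group
    rw [commutatorElement_def, e1]
    exact ⟨_, rfl⟩
  obtain ⟨k, hk⟩ := h4 h2
  exact R.tK k hk

/-- **the frame of the front** -/
theorem fr {a b c : Fin n} (ha : a.val = 0) (hb : b.val = 1) (hc : c.val = 2) :
    D7Out.Defs.Fr R.t R.t R.K R.Up (R.Z1 a b) R.T1 where
  tt := R.tt
  t1 := R.t1
  pR := R.zpowers_pgroup
  tR := mem_zpowers _
  nK := fun g hg => R.norm_K hg
  vK := by
    rintro _ ⟨k, rfl⟩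
    exact (R.comm k).eq
  cK := fun c hct hcK => by
    rcases R.cK c hct (fun k => (hcK _ ⟨k, rfl⟩).symm) with rfl | rfl
    · exact one_mem _
    · exact mem_zpowers _
  KR := by
    rintro _ ⟨k, rfl⟩ hk
    exact (R.zpowers_t hk).resolve_right (R.tK k)
  pT := R.T1_pgroup
  vT := R.t_mem_T1
  tc := fun x hx => R.T1_t hx
  max := R.max_T1
  U_eq := R.Up_eq_inf
  ZU := by
    rw [R.Up_eq]
    exact (R.Z1_le ha hb hc).trans (map_mono (Subgroup.commutator_le_self _))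
  Zc := fun z hz u hu => R.Z1_comm ha hb hz u (R.Up_le_T1 hu)
  Zsq := fun z hz => R.Z1_sq hz
  Z1 := by
    intro h
    have h1 : R.y (Sum.inl a) 1 ∈ R.Z1 a b := ⟨0, 1, by rw [R.x_zero, one_mul]⟩
    rw [h, mem_bot] at h1
    exact one_ne_zero (R.y_eq_one h1)
  cU := fun x hx hxU => by
    obtain ⟨s, s', h⟩ := R.center_T1 ha hb hx (fun A hA => hxU _ (by rw [R.Up_eq]; exact ⟨A, hA, rfl⟩))
    rcases h with h | h
    · exact ⟨1, one_mem _, _, ⟨s, s', rfl⟩, by rw [one_mul]; exact h⟩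
    · exact ⟨R.t, mem_zpowers _, _, ⟨s, s', rfl⟩, h⟩
  nconj := fun z hz g => R.nconj ha hb hc hz g

/-- the input of section 1 -/
theorem sinp (hq : ∃ s : F, s ≠ 0 ∧ s ≠ 1) {a b c : Fin n} (ha : a.val = 0) (hb : b.val = 1) (hc : c.val = 2) :
    SInp R.t R.t R.K R.Up (R.Z1 a b) R.T1 R.T1 (R.A1 a) (R.B1 a b) R.h.range (R.y (Sum.inl a))
      (R.x (Sum.inl a) (Sum.inl b)) (R.x (Sum.inl a) (Sum.inl c)) (R.y (Sum.inl b))
      (R.rr (Sum.inl b) (Sum.inl c)) (R.rr (Sum.inl a) (Sum.inl b)) where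
  fr := R.fr ha hb hc
  ot := { R.tu hq ha hb hc with
    T1T := le_rfl
    nT1 := fun g hg => le_normalizer hg
    ract := fun g hg _ => hg
    bact := fun g hg _ => hg }
  hA := fun g => by rw [R.mem_A1]; exact ⟨fun ⟨s, e⟩ => ⟨s, e.symm⟩, fun ⟨s, e⟩ => ⟨s, e.symm⟩⟩
  hB := fun g => by rw [R.mem_B1]; exact ⟨fun ⟨s, e⟩ => ⟨s, e.symm⟩, fun ⟨s, e⟩ => ⟨s, e.symm⟩⟩
  hZ := fun z hz => hz
  Ht := by
    rintro _ ⟨lam, rfl⟩
    exact (R.h_t lam).eq
  HT1 := by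
    rintro _ ⟨lam, rfl⟩
    exact R.h_T1 lam
  tr := fun s s' p p' hs hs' hp hp' => R.tor_trans (dj_inl (by rintro rfl; omega)) hs hs' hp hp'

end CFrame

/-- the fusion in coordinates -/
theorem fus_coord {G : Type*} [Group G] {t : G} {T1 A : Subgroup G} {x : F → G} (hA : ∀ g, g ∈ A ↔ ∃ s, g = x s)
    (h : Start.Fus t T1 A) : ∀ u, ∃ g ∈ normalizer (T1 : Set G), (∀ y, (∃ v, y = x v) ↔ ∃ v, g * y * g⁻¹ = x v) ∧
      g * t * g⁻¹ = t * x u := by
  intro u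
  obtain ⟨g, h1, h2, h3⟩ := h (x u) ((hA _).2 ⟨u, rfl⟩)
  refine ⟨g, h1, fun y => ?_, h3⟩
  rw [← hA, ← hA]
  exact mem_normalizer_iff.1 h2 y

namespace CFrame

variable {G : Type*} [Group G] [Finite G] (R : CFrame n F G) [CharP F 2] [Finite F]

/-- the long root elements are moved inside `N(T₁)` if one of them is moved -/
theorem movesY (hq : ∃ s : F, s ≠ 0 ∧ s ≠ 1) {a b c : Fin n} (ha : a.val = 0) (hb : b.val = 1) (hc : c.val = 2)
    {s : F} (hs : s ≠ 0) (h : IsConj R.t (R.t * R.y (Sum.inl a) s)) :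
    ∀ u, ∃ g ∈ normalizer (R.T1 : Set G), Mv R.t (R.y (Sum.inl a)) R.h (chiy (Sum.inl a)) g u :=
  R.mvY (by omega) hq (by rw [pos_inl]; exact ha)
    (fus_coord (fun _ => Iff.rfl) ((R.sinp hq ha hb hc).fusA hs h))

/-- the short root elements are moved inside `N(T₁)` if one of them is moved -/
theorem movesX (hq : ∃ s : F, s ≠ 0 ∧ s ≠ 1) {a b c : Fin n} (ha : a.val = 0) (hb : b.val = 1) (hc : c.val = 2)
    {s : F} (hs : s ≠ 0) (h : IsConj R.t (R.t * R.x (Sum.inl a) (Sum.inl b) s)) :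
    ∀ u, ∃ g ∈ normalizer (R.T1 : Set G), Mv R.t (R.x (Sum.inl a) (Sum.inl b)) R.h
      (chix (Sum.inl a) (Sum.inl b)) g u :=
  R.mvX (by omega) hq (by rw [pos_inl]; exact ha) (by rw [pos_inl]; exact hb)
    (fus_coord (fun _ => Iff.rfl) ((R.sinp hq ha hb hc).fusB hs h))

/-- **Section 1, clean case.** -/
theorem start (hq : ∃ s : F, s ≠ 0 ∧ s ≠ 1) {a b c : Fin n} (ha : a.val = 0) (hb : b.val = 1) (hc : c.val = 2)
    (hni : ¬ D7Out.Defs.Iso R.t R.T1) :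
    (∃ s : F, s ≠ 0 ∧ IsConj R.t (R.t * R.y (Sum.inl a) s)) ∨
      ∃ s : F, s ≠ 0 ∧ IsConj R.t (R.t * R.x (Sum.inl a) (Sum.inl b) s) := by
  rcases (R.sinp hq ha hb hc).start hni with h | h
  · left
    obtain ⟨g, -, -, h1⟩ := h (R.y (Sum.inl a) 1) ⟨1, rfl⟩
    exact ⟨1, one_ne_zero, isConj_iff.2 ⟨g, h1⟩⟩
  · right
    obtain ⟨g, -, -, h1⟩ := h (R.x (Sum.inl a) (Sum.inl b) 1) ⟨1, rfl⟩
    exact ⟨1, one_ne_zero, isConj_iff.2 ⟨g, h1⟩⟩

/-- long and mixed moved: short moved -/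
theorem short_of (hq : ∃ s : F, s ≠ 0 ∧ s ≠ 1) {a b c : Fin n} (ha : a.val = 0) (hb : b.val = 1) (hc : c.val = 2)
    {s : F} (hs : s ≠ 0) (h : IsConj R.t (R.t * R.y (Sum.inl a) s)) {p p' : F} (hp : p ≠ 0)
    (h' : IsConj R.t (R.t * (R.x (Sum.inl a) (Sum.inl b) p * R.y (Sum.inl a) p'))) :
    ∃ s : F, s ≠ 0 ∧ IsConj R.t (R.t * R.x (Sum.inl a) (Sum.inl b) s) :=
  (R.sinp hq ha hb hc).short_of_mixed ((R.sinp hq ha hb hc).fusA hs h) hp h'

/-- short and mixed moved: long moved -/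
theorem long_of (hq : ∃ s : F, s ≠ 0 ∧ s ≠ 1) {a b c : Fin n} (ha : a.val = 0) (hb : b.val = 1) (hc : c.val = 2)
    {s : F} (hs : s ≠ 0) (h : IsConj R.t (R.t * R.x (Sum.inl a) (Sum.inl b) s)) {p p' : F} (hp' : p' ≠ 0)
    (h' : IsConj R.t (R.t * (R.x (Sum.inl a) (Sum.inl b) p * R.y (Sum.inl a) p'))) :
    ∃ s : F, s ≠ 0 ∧ IsConj R.t (R.t * R.y (Sum.inl a) s) :=
  (R.sinp hq ha hb hc).long_of_mixed ((R.sinp hq ha hb hc).fusB hs h) hp' h'

/-- long and short moved: mixed moved -/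
theorem mixed_of (hq : ∃ s : F, s ≠ 0 ∧ s ≠ 1) {a b c : Fin n} (ha : a.val = 0) (hb : b.val = 1) (hc : c.val = 2)
    {s s' : F} (hs : s ≠ 0) (h : IsConj R.t (R.t * R.y (Sum.inl a) s)) (hs' : s' ≠ 0)
    (h' : IsConj R.t (R.t * R.x (Sum.inl a) (Sum.inl b) s')) (p p' : F) :
    IsConj R.t (R.t * (R.x (Sum.inl a) (Sum.inl b) p * R.y (Sum.inl a) p')) :=
  (R.sinp hq ha hb hc).mixed_of ((R.sinp hq ha hb hc).fusA hs h) ((R.sinp hq ha hb hc).fusB hs' h') p p'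

end CFrame

end Cfsg.Agent.OddHalf.SpN
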