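import Mathlib
import Cfsg.Agent.OddHalf.SpN.OutDefs
import Cfsg.Agent.OddHalf.SpN.OutFr
import Cfsg.Agent.OddHalf.SpN.StartClean

/-!
# ODD D7, `K = Sp_2n(q)`, `n ≥ 3`, outer 2-part: the pure involution and (k1)-(k3) (helper678)

* `R.conjF mu` : the frame conjugated by `h(mu)`;
* `OutT.dich` : either `T` has no outer involution of `T / U` besides `t`, or for some `R' = R.conjF mu` there is a pure
  field involution `s ∈ T` (`R'.Sem s σ 1`, `s² = 1`), and the involutions of `T / U` are `t, s, ts`;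
* `OutT.k1`, `OutT.k2`, `Frame.k3` : the facts of `Out/FieldEnd.Data`.
-/

set_option autoImplicit false

namespace Cfsg.Agent.OddHalf.SpN

open Cfsg Cfsg.Agent.ClassicalGeometry.SympBasic Cfsg.Agent.ClassicalGeometry.SympAutSemi
open scoped Matrix commutatorElement
open Subgroup TU

variable {n : ℕ} {F : Type*} [Field F]

/-- commuting with one root element ≠ 1 is commuting with the root group -/
theorem comm_of_ne {e : F → Sy n F} {N : (Ix n → F) → (Ix n → F)} (he : IsRoot e N) {A : Sy n F} {a : F}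
    (ha : a ≠ 0) (h : Commute A (e a)) (b : F) : Commute A (e b) := by
  have key : ∀ v, rho n F A (N v) = N (rho n F A v) := by
    intro v
    have h1 := congrArg (fun B => rho n F B v) h.eq
    simp only [map_mul, Equiv.Perm.mul_apply, he.eq, rho_add, rho_smul] at h1
    have h2 := add_left_cancel h1
    exact smul_right_injective _ ha h2
  apply rho_injective
  ext1 v
  rw [map_mul, map_mul, Equiv.Perm.mul_apply, Equiv.Perm.mul_apply, he.eq, he.eq, rho_add, rho_smul, key]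

/-- Hilbert 90 for an involution -/
theorem hilb [CharP F 2] {σ : F ≃+* F} (l : Fˣ) (h : (l : F) * σ l = 1) : ∃ ν : Fˣ, (ν : F) = l * σ ν := by
  by_cases hl : (l : F) = 1
  · exact ⟨1, by rw [hl]; simp⟩
  · have h1 : (1 : F) + l ≠ 0 := fun e => hl (by
      have := eq_neg_of_add_eq_zero_right e
      rw [this, CharTwo.neg_eq])
    refine ⟨Units.mk0 _ h1, ?_⟩
    rw [Units.val_mk0, map_add, map_one]
    linear_combination -h

namespace Frame

variable {G : Type*} [Group G] (R : Frame n F G)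

/-- the frame conjugated by a torus element -/
noncomputable def conjF (mu : Fin n → Fˣ) : Frame n F G where
  t := R.t
  ι := R.ι.comp (MulAut.conj (sh mu)).toMonoidHom
  tt := R.tt
  t1 := R.t1
  inj := R.inj.comp (MulAut.conj (sh mu)).injective
  comm := fun k => R.comm _
  nK := fun g hg k => by
    obtain ⟨k', hk'⟩ := R.nK g hg (MulAut.conj (sh mu) k)
    refine ⟨(MulAut.conj (sh mu)).symm k', ?_⟩
    change g * R.ι (MulAut.conj (sh mu) k) * g⁻¹ = R.ι (MulAut.conj (sh mu) ((MulAut.conj (sh mu)).symm k'))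
    rw [MulEquiv.apply_symm_apply]
    exact hk'
  cK := fun g hg h => R.cK g hg fun k => by
    have h1 := h ((MulAut.conj (sh mu)).symm k)
    change g * R.ι (MulAut.conj (sh mu) ((MulAut.conj (sh mu)).symm k)) =
      R.ι (MulAut.conj (sh mu) ((MulAut.conj (sh mu)).symm k)) * g at h1
    rwa [MulEquiv.apply_symm_apply] at h1
  tK := fun k => R.tK _

theorem conjF_ι (mu : Fin n → Fˣ) (A : Sy n F) : (R.conjF mu).ι A = R.h mu * R.ι A * (R.h mu)⁻¹ := by
  change R.ι (sh mu * A * (sh mu)⁻¹) = _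
  rw [map_mul, map_mul, map_inv]; rfl

theorem conjF_h (mu lam : Fin n → Fˣ) : (R.conjF mu).h lam = R.h lam := by
  change (R.conjF mu).ι (sh lam) = _
  rw [conjF_ι]
  change R.h mu * R.h lam * (R.h mu)⁻¹ = R.h lam
  rw [← map_inv, ← map_mul, ← map_mul]
  congr 1
  rw [mul_comm mu lam, mul_inv_cancel_right]

theorem conjF_K (mu : Fin n → Fˣ) : (R.conjF mu).K = R.K := by
  ext g
  constructor
  · rintro ⟨A, rfl⟩; exact ⟨_, rfl⟩
  · rintro ⟨A, rfl⟩
    refine ⟨(MulAut.conj (sh mu)).symm A, ?_⟩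
    change R.ι (MulAut.conj (sh mu) ((MulAut.conj (sh mu)).symm A)) = _
    rw [MulEquiv.apply_symm_apply]

variable [CharP F 2]

theorem conjF_x (mu : Fin n → Fˣ) (i j : Ix n) (a : F) :
    (R.conjF mu).x i j a = R.x i j (ev mu i * ev mu j * a) := by
  rw [← R.h_x]; exact R.conjF_ι mu _

theorem conjF_y (mu : Fin n → Fˣ) (i : Ix n) (a : F) : (R.conjF mu).y i a = R.y i (ev mu i ^ 2 * a) := by
  rw [← R.h_y]; exact R.conjF_ι mu _

theorem conjF_Up [Finite F] (mu : Fin n → Fˣ) : (R.conjF mu).Up = R.Up := by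
  rw [Frame.Up_eq, Frame.Up_eq]
  ext g
  constructor
  · rintro ⟨A, hA, rfl⟩
    exact ⟨_, sh_norm mu hA, rfl⟩
  · rintro ⟨A, hA, rfl⟩
    refine ⟨sh mu⁻¹ * A * (sh mu⁻¹)⁻¹, sh_norm mu⁻¹ hA, ?_⟩
    change R.ι (sh mu * (sh mu⁻¹ * A * (sh mu⁻¹)⁻¹) * (sh mu)⁻¹) = _
    congr 1
    rw [map_inv]; group

theorem Sem.conjF {R : Frame n F G} {y : G} {σ : F ≃+* F} {lam : Fin n → Fˣ} (hs : R.Sem y σ lam) (mu : Fin n → Fˣ) :
    (R.conjF mu).Sem y σ (lam * fm σ mu * mu⁻¹) where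
  yt := hs.yt
  yx := fun i j hij a => by
    rw [conjF_x, conjF_x, hs.yx i j hij, ev_mul, ev_mul, ev_mul, ev_mul, ev_inv_fun, ev_inv_fun]
    congr 1
    have h1 := (ev mu i).ne_zero
    have h2 := (ev mu j).ne_zero
    simp only [Units.val_mul, ev_fm, map_mul, Units.val_inv_eq_inv_val]
    field_simp
  yy := fun i a => by
    rw [conjF_y, conjF_y, hs.yy i, ev_mul, ev_mul, ev_inv_fun]
    congr 1
    have h1 := (ev mu i).ne_zero
    simp only [Units.val_mul, ev_fm, map_mul, map_pow, Units.val_inv_eq_inv_val]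
    field_simp
  yh := fun nu => by rw [conjF_h, conjF_h]; exact hs.yh nu

theorem Sem.of_conjF {R : Frame n F G} {y : G} {σ : F ≃+* F} {lam mu : Fin n → Fˣ}
    (hs : (R.conjF mu).Sem y σ lam) : R.Sem y σ (lam * mu * (fm σ mu)⁻¹) where
  yt := hs.yt
  yx := fun i j hij a => by
    have h1 := (ev mu i).ne_zero
    have h2 := (ev mu j).ne_zero
    have h3 : σ (ev mu i : F) ≠ 0 := fun e => h1 (by rwa [map_eq_zero] at e)
    have h4 : σ (ev mu j : F) ≠ 0 := fun e => h2 (by rwa [map_eq_zero] at e)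
    have h := hs.yx i j hij (((ev mu i : F) * ev mu j)⁻¹ * a)
    rw [conjF_x, conjF_x, mul_inv_cancel_left₀ (mul_ne_zero h1 h2)] at h
    rw [h, ev_mul, ev_mul, ev_mul, ev_mul, ev_inv_fun, ev_inv_fun]
    congr 1
    simp only [Units.val_mul, ev_fm, map_mul, map_inv₀, Units.val_inv_eq_inv_val]
    field_simp
  yy := fun i a => by
    have h1 := (ev mu i).ne_zero
    have h3 : σ (ev mu i : F) ≠ 0 := fun e => h1 (by rwa [map_eq_zero] at e)
    have h := hs.yy i (((ev mu i : F) ^ 2)⁻¹ * a)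
    rw [conjF_y, conjF_y, mul_inv_cancel_left₀ (pow_ne_zero 2 h1)] at h
    rw [h, ev_mul, ev_mul, ev_inv_fun]
    congr 1
    simp only [Units.val_mul, ev_fm, map_mul, map_pow, map_inv₀, Units.val_inv_eq_inv_val]
    field_simp
  yh := fun nu => by
    have := hs.yh nu
    rwa [conjF_h, conjF_h] at this

theorem OutT.conjF [Finite F] {R : Frame n F G} {T : Subgroup G} (h : R.OutT T) (mu : Fin n → Fˣ) :
    (R.conjF mu).OutT T where
  T2 := h.T2
  tT := h.tT
  Tc := h.Tc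
  Tmax := h.Tmax
  UT := by rw [conjF_Up]; exact h.UT
  TK := fun A hA => by rw [conjF_Up]; exact h.TK _ hA
  ab := fun a ha b hb => by rw [conjF_Up]; exact h.ab a ha b hb
  dec := fun z hz => by
    obtain ⟨y, hy, u, hu, e, σ, lam, hs⟩ := h.dec z hz
    exact ⟨y, hy, u, by rw [conjF_Up]; exact hu, e, σ, _, hs.conjF mu⟩
  lin := fun y hy lam hs => by
    rw [conjF_Up]
    exact h.lin y hy _ hs.of_conjF

/-- an element with `Sem` and square in `U` is a pure involution up to the torus -/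
theorem Sem.sq_one [Finite F] {R : Frame n F G} (hn : 0 < n) {y : G} {σ : F ≃+* F} {lam : Fin n → Fˣ}
    (hs : R.Sem y σ lam) (h2 : y * y ∈ R.Up) : y * y = 1 ∧ ∀ k, (lam k : F) * σ (lam k) = 1 := by
  have e1 := (hs.mul hs).eq_one_of_mem hn h2
  have hm := hs.mul hs
  rw [e1] at hm
  rw [R.Up_eq] at h2
  obtain ⟨A, hA, hAy⟩ := h2
  set μ := lam * fm σ lam with hμd
  have hB : ∀ i, Commute ((sh μ)⁻¹ * A) (sy i (1 : F)) := by
    intro i
    have h3 := hm.yy i 1
    rw [← hAy] at h3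
    have h4 := R.h_y μ i 1
    have h5 : A * sy i 1 * A⁻¹ = sh μ * sy i 1 * (sh μ)⁻¹ := R.inj (by
      rw [map_mul, map_mul, map_mul, map_mul, map_inv, map_inv]
      exact h3.trans h4.symm)
    show (sh μ)⁻¹ * A * sy i 1 = sy i 1 * ((sh μ)⁻¹ * A)
    calc (sh μ)⁻¹ * A * sy i 1 = (sh μ)⁻¹ * (A * sy i 1 * A⁻¹) * A := by group
      _ = _ := by rw [h5]; group
  have hB1 : (sh μ)⁻¹ * A = 1 := ext_ent fun l k => by
    rw [TU.ent_one]
    have hc := cy_of_comm (hB k)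
    by_cases e : l = k
    · rw [if_pos e, e]; exact hc.diag
    · rw [if_neg e]; exact hc.col l e
  have hA' : A = sh μ := (inv_mul_eq_one.mp hB1).symm
  have hμ : ∀ k : Fin n, (μ k : F) = 1 := fun k => by
    have := Uu_diag hA (Sum.inl k)
    rw [hA', ent_sh, if_pos rfl] at this
    exact this
  have hμ1 : μ = 1 := funext fun k => Units.ext (hμ k)
  refine ⟨by rw [← hAy, hA', hμ1, map_one, map_one], fun k => hμ k⟩

/-- `U` is normal in `T` -/
theorem OutT.conj_Up_mem {R : Frame n F G} {T : Subgroup G} (h : R.OutT T) {a u : G} (ha : a ∈ T) (hu : u ∈ R.Up) :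
    a * u * a⁻¹ ∈ R.Up := by
  have := mul_mem (h.ab a ha u (h.UT hu)) hu
  rwa [inv_mul_cancel_right] at this

/-- **(T-3)** -/
theorem OutT.dich [Finite F] {R : Frame n F G} {T : Subgroup G} (hn : 0 < n) (h : R.OutT T) :
    (∀ d ∈ T, d * d ∈ R.Up → d ∈ R.Up ∨ R.t * d ∈ R.Up) ∨
    ∃ (R' : Frame n F G) (s : G) (σ : F ≃+* F), R'.t = R.t ∧ R'.K = R.K ∧ R'.Up = R.Up ∧ R'.OutT T ∧ s ∈ T ∧
      s * s = 1 ∧ R'.Sem s σ 1 ∧ (∀ a, σ (σ a) = a) ∧ (∃ a, σ a ≠ a) ∧ s ∉ R.Up ∧ R.t * s ∉ R.Up ∧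
      ∀ d ∈ T, d * d ∈ R.Up → d ∈ R.Up ∨ R.t * d ∈ R.Up ∨ s * d ∈ R.Up ∨ R.t * s * d ∈ R.Up := by
  by_cases hc : ∀ d ∈ T, d * d ∈ R.Up → d ∈ R.Up ∨ R.t * d ∈ R.Up
  · exact Or.inl hc
  right
  -- decomposition of the elements with square in `U`
  have key : ∀ d ∈ T, d * d ∈ R.Up → d ∉ R.Up → R.t * d ∉ R.Up → ∃ y ∈ T, ∃ u ∈ R.Up, d = y * u ∧ ∃ σ lam,
      R.Sem y σ lam ∧ y * y ∈ R.Up ∧ y ∉ R.Up ∧ R.t * y ∉ R.Up := by
    intro d hd hdd h1 h2
    obtain ⟨y, hy, u, hu, rfl, σ, lam, hs⟩ := h.dec d hd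
    refine ⟨y, hy, u, hu, rfl, σ, lam, hs, ?_, fun e => h1 (mul_mem e hu), fun e => h2 ?_⟩
    · have e : y * y = y * u * (y * u) * (u⁻¹ * (y⁻¹ * u⁻¹ * y)) := by group
      rw [e]
      refine mul_mem hdd (mul_mem (inv_mem hu) ?_)
      have := h.conj_Up_mem (inv_mem hy) (inv_mem hu)
      rwa [inv_inv] at this
    · rw [← mul_assoc]; exact mul_mem e hu
  push Not at hc
  obtain ⟨d, hd, hdd, hd1, hd2⟩ := hc
  obtain ⟨y, hy, u, hu, rfl, σ, lam, hs, hyy, hy1, hy2⟩ := key d hd hdd hd1 hd2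
  obtain ⟨hσ2, a, ha⟩ := h.field hn hy hs hyy hy1 hy2
  obtain ⟨hyy1, hl⟩ := hs.sq_one hn hyy
  choose mu hmu using fun k => hilb (lam k) (hl k)
  have hσ1 : σ ≠ 1 := fun e => ha (by rw [e]; rfl)
  have hσσ : σ * σ = 1 := by ext a; exact hσ2 a
  refine ⟨R.conjF mu, y, σ, rfl, R.conjF_K mu, R.conjF_Up mu, h.conjF mu, hy, hyy1, ?_, hσ2, ⟨a, ha⟩, hy1, hy2, ?_⟩
  · have h1 := hs.conjF mu
    have e : lam * fm σ mu * mu⁻¹ = 1 := funext fun k => Units.ext (by
      change (lam k : F) * σ (mu k : F) * ((mu k)⁻¹ : Fˣ) = 1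
      rw [← hmu k, Units.mul_inv])
    rwa [e] at h1
  · intro d hd hdd
    by_contra hcon
    push Not at hcon
    obtain ⟨c1, c2, c3, c4⟩ := hcon
    obtain ⟨z, hz, v, hv, rfl, τ, nu, hs', hzz, hz1, hz2⟩ := key d hd hdd c1 c2
    obtain ⟨hτ2, b, hb⟩ := h.field hn hz hs' hzz hz1 hz2
    have hτ : τ = σ := Out.aut_unique F (fun e => hb (by rw [e]; rfl)) (by ext a; exact hτ2 a) hσ1 hσσ
    subst hτ
    have hm := hs.mul hs'
    rw [hσσ] at hm
    rcases h.lin _ (mul_mem hy hz) _ hm with h1 | h1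
    · exact c3 (by rw [← mul_assoc]; exact mul_mem h1 hv)
    · apply c4
      have e : R.t * y * (z * v) = R.t * (y * z) * v := by group
      rw [e]; exact mul_mem h1 hv

variable {R}

/-- **(k2)** -/
theorem OutT.k2 [Finite F] {T : Subgroup G} (h : R.OutT T) {a b : Fin n} (ha : a.val = 0) (hb : b.val = 1) :
    ∀ c ∈ T, (∀ z ∈ R.Z1 a b, c * z = z * c) → c ∈ R.Up ∨ R.t * c ∈ R.Up := by
  intro c hc hcz
  obtain ⟨y, hy, u, hu, rfl, σ, lam, hs⟩ := h.dec c hc
  have hab : a ≠ b := by rintro rfl; omega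
  have hd : Dj (Sum.inl a : Ix n) (Sum.inl b) := dj_inl hab
  have huT : u ∈ R.T1 := R.Up_le_T1 hu
  have hyz : ∀ z ∈ R.Z1 a b, y * z * y⁻¹ = z := by
    intro z hz
    have h1 := hcz z hz
    have h2 := R.Z1_comm ha hb hz u huT
    calc y * z * y⁻¹ = y * (z * u) * u⁻¹ * y⁻¹ := by group
      _ = (y * u * z) * u⁻¹ * y⁻¹ := by rw [← h2]; group
      _ = z := by rw [h1]; group
  have h1 : ∀ e, (ev lam (Sum.inl a) : F) ^ 2 * σ e = e := fun e => R.y_inj (by
    rw [← hs.yy]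
    exact hyz _ ⟨0, e, by rw [R.x_zero, one_mul]⟩)
  have h2 := h1 1
  rw [map_one, mul_one] at h2
  have hσ : σ = 1 := by
    ext e
    have := h1 e
    rw [h2, one_mul] at this
    exact this
  subst hσ
  rcases h.lin y hy lam hs with h3 | h3
  · exact Or.inl (mul_mem h3 hu)
  · exact Or.inr (by rw [← mul_assoc]; exact mul_mem h3 hu)

/-- commuting with one root element of each positive root -/
theorem comm_Up_of [Finite F] {A : Sy n F} {c : G} (hc : c = R.ι A ∨ c = R.t * R.ι A) {e : F} (he : e ≠ 0)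
    (hx : ∀ i j, Dj i j → 0 < Fd i + Fd j → Commute c (R.x i j e)) (hy : ∀ i, 0 < Fd i → Commute c (R.y i e)) :
    ∀ g ∈ R.Up, c * g = g * c := by
  have hle : R.Up ≤ centralizer ({c} : Set G) := by
    have key : ∀ B : Sy n F, Commute A B → R.ι B * c = c * R.ι B := by
      intro B hB
      have h1 : Commute (R.ι A) (R.ι B) := by
        show _ * _ = _ * _
        rw [← map_mul, ← map_mul, hB.eq]
      rcases hc with rfl | rfl
      · exact h1.symm.eq
      · exact (((R.comm B).symm).mul_left h1).symm.eq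
    rw [R.Up_eq_closure, closure_le]
    rintro _ (⟨i, j, hij, h, a, rfl⟩ | ⟨i, h, a, rfl⟩)
    · exact mem_centralizer_singleton_iff.2 (key _ (comm_of_ne (isRoot_x hij) he (R.comm_of hc (hx i j hij h)) a))
    · exact mem_centralizer_singleton_iff.2 (key _ (comm_of_ne (isRoot_y i) he (R.comm_of hc (hy i h)) a))
  intro g hg
  exact (mem_centralizer_singleton_iff.1 (hle hg)).symm

theorem x_mem_Up {i j : Ix n} (hij : Dj i j) (h : 0 < Fd i + Fd j) (a : F) : R.x i j a ∈ R.Up := by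
  rw [R.Up_eq_closure]; exact subset_closure (Or.inl ⟨i, j, hij, h, a, rfl⟩)

theorem y_mem_Up {i : Ix n} (h : 0 < Fd i) (a : F) : R.y i a ∈ R.Up := by
  rw [R.Up_eq_closure]; exact subset_closure (Or.inr ⟨i, h, a, rfl⟩)

/-- **(k1)** -/
theorem OutT.k1 [Finite F] {T : Subgroup G} (h : R.OutT T) (hn : 3 ≤ n) {s : G} {σ : F ≃+* F} (hsT : s ∈ T)
    (hs : R.Sem s σ 1) (hσ : ∃ a, σ a ≠ a) {a b : Fin n} (ha : a.val = 0) (hb : b.val = 1) :
    ∀ c ∈ T, (∀ a ∈ T, ∀ b ∈ T, c * (a * b * a⁻¹ * b⁻¹) = a * b * a⁻¹ * b⁻¹ * c) →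
      c ∈ R.Z1 a b ∨ R.t * c ∈ R.Z1 a b := by
  intro c hc hcT
  obtain ⟨c0, hc0⟩ : ∃ c : Fin n, c.val = 2 := ⟨⟨2, by omega⟩, rfl⟩
  -- `c` commutes with `Z`
  have hcZ : ∀ z ∈ R.Z1 a b, c * z = z * c := by
    intro z hz
    have h1 := R.Z1_le ha hb hc0 hz
    have h2 : (⁅Uu n F, Uu n F⁆).map R.ι ≤ centralizer ({c} : Set G) := by
      rw [map_commutator, ← R.Up_eq, commutator_le]
      intro x hx y hy
      exact mem_centralizer_singleton_iff.2 (hcT x (h.UT hx) y (h.UT hy)).symm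
    exact (mem_centralizer_singleton_iff.1 (h2 h1)).symm
  have hcU := h.k2 ha hb c hc hcZ
  obtain ⟨A, hAU, hA⟩ : ∃ A ∈ Uu n F, c = R.ι A ∨ c = R.t * R.ι A := by
    rw [R.Up_eq] at hcU
    rcases hcU with ⟨A, hA, e⟩ | ⟨A, hA, e⟩
    · exact ⟨A, hA, Or.inl e.symm⟩
    · exact ⟨A, hA, Or.inr (by rw [e, ← mul_assoc, R.tt, one_mul])⟩
  obtain ⟨e, he⟩ := hσ
  have he0 : σ e + e ≠ 0 := fun h0 => he (by
    have := eq_neg_of_add_eq_zero_left h0
    rwa [CharTwo.neg_eq] at this)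
  have hcom := comm_Up_of (R := R) hA he0 (fun i j hij hp => by
      have h1 := hcT s hsT _ (h.UT (x_mem_Up (R := R) hij hp e))
      rw [hs.yx i j hij, ev_one_fun, ev_one_fun, R.x_inv, Units.val_one, one_mul, one_mul, ← R.x_add] at h1
      exact h1)
    (fun i hp => by
      have h1 := hcT s hsT _ (h.UT (y_mem_Up (R := R) hp e))
      rw [hs.yy i, ev_one_fun, R.y_inv, Units.val_one, one_pow, one_mul, ← R.y_add] at h1
      exact h1)
  obtain ⟨p, p', h1⟩ := R.center_T1 ha hb (z := c) ⟨A, hAU, hA⟩ (fun B hB => hcom _ (by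
    rw [R.Up_eq]; exact ⟨B, hB, rfl⟩))
  rcases h1 with h1 | h1
  · exact Or.inl ⟨p, p', h1⟩
  · exact Or.inr ⟨p, p', by rw [h1, ← mul_assoc, R.tt, one_mul]⟩

/-- **(k3)** -/
theorem k3 [Finite G] [Finite F] : ∀ u ∈ R.Up, (∃ c ∈ R.Up, c * u ≠ u * c) →
    Nat.card F ≤ Set.ncard {x | ∃ c ∈ R.Up, x = c * u * c⁻¹} := by
  intro u hu ⟨c, hc, hcu⟩
  have hu' := hu
  rw [R.Up_eq] at hu'
  obtain ⟨A, hA, hAu⟩ := hu'
  -- the general step
  have step : ∀ (e : F → Sy n F) (N : (Ix n → F) → (Ix n → F)), IsRoot e N → (∀ a b, e (a + b) = e a * e b) →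
      (∀ a, R.ι (e a) ∈ R.Up) → (∃ a, ¬ Commute A (e a)) →
      Nat.card F ≤ Set.ncard {x | ∃ c ∈ R.Up, x = c * u * c⁻¹} := by
    intro e N he hadd hmem ⟨a0, ha0⟩
    have hinj : Function.Injective fun a : F => R.ι (e a) * u * (R.ι (e a))⁻¹ := by
      intro a b hab
      by_contra hne
      apply ha0
      refine comm_of_ne he (a := b + a) (fun h0 => hne ?_) ?_ a0
      · have := eq_neg_of_add_eq_zero_right h0
        rw [CharTwo.neg_eq] at this
        exact this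
      · have e1 : e (b + a) = (e b)⁻¹ * e a := by
          have h2 : e b * e b = 1 := by
            rw [← hadd, CharTwo.add_self_eq_zero]
            have h3 := hadd 0 0
            rw [add_zero] at h3
            exact left_eq_mul.mp h3
          rw [hadd, inv_eq_of_mul_eq_one_left h2]
        show A * e (b + a) = e (b + a) * A
        apply R.inj
        rw [e1]
        simp only [map_mul, map_inv, hAu]
        have hab' : R.ι (e a) * u * (R.ι (e a))⁻¹ = R.ι (e b) * u * (R.ι (e b))⁻¹ := hab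
        calc u * ((R.ι (e b))⁻¹ * R.ι (e a)) =
              (R.ι (e b))⁻¹ * (R.ι (e b) * u * (R.ι (e b))⁻¹) * R.ι (e a) := by group
          _ = _ := by rw [← hab']; group
    calc Nat.card F = Set.ncard (Set.univ : Set F) := (Set.ncard_univ F).symm
      _ = Set.ncard ((fun a : F => R.ι (e a) * u * (R.ι (e a))⁻¹) '' Set.univ) :=
          (Set.ncard_image_of_injective _ hinj).symm
      _ ≤ _ := Set.ncard_le_ncard (by
          rintro _ ⟨a, -, rfl⟩
          exact ⟨_, hmem a, rfl⟩) (Set.toFinite _)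
  by_contra hlt
  apply hcu
  have hcom := comm_Up_of (R := R) (Or.inl hAu.symm) (e := (1 : F)) one_ne_zero (fun i j hij hp => by
      by_contra hno
      apply hlt
      refine step (sx i j) _ (isRoot_x hij) (fun a b => R.inj (by rw [map_mul]; exact R.x_add i j a b))
        (fun a => x_mem_Up (R := R) hij hp a) ⟨1, fun hcm => hno ?_⟩
      rw [← hAu]
      show R.ι A * R.ι (sx i j 1) = R.ι (sx i j 1) * R.ι A
      rw [← map_mul, ← map_mul, hcm.eq])
    (fun i hp => by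
      by_contra hno
      apply hlt
      refine step (sy i) _ (isRoot_y i) (fun a b => R.inj (by rw [map_mul]; exact R.y_add i a b))
        (fun a => y_mem_Up (R := R) hp a) ⟨1, fun hcm => hno ?_⟩
      rw [← hAu]
      show R.ι A * R.ι (sy i 1) = R.ι (sy i 1) * R.ι A
      rw [← map_mul, ← map_mul, hcm.eq])
  exact (hcom c hc).symm

end Frame

end Cfsg.Agent.OddHalf.SpN
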