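import Mathlib
import Cfsg.Agent.OddHalf.SpN.CCEnd
import Cfsg.Agent.OddHalf.SpN.BothInst
import Cfsg.Agent.OddHalf.SpN.OutT3
import Cfsg.Agent.OddHalf.SpN.OutEq
import Cfsg.Agent.OddHalf.SpN.OutK
import Cfsg.Agent.OddHalf.Out.LayFree

/-!
# END of the pattern (C,C) for `Sp_2n(q)` with an outer 2-part (helper625)

`C : CC R`, `T` as in `Frame.OutT`. `U* = C.Us` is generated by the doubles of the positive root groups.

* `CC.par_comm`: the doubles of partners commute;
* `CC.out_one`: no outer involution in `T / U` besides `t`; `CC.out_pure`: with a pure field involution `s ∈ T`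
  (instance of `Out/FieldEnd.Data`): `t` is not in the commutator subgroup of `G`.
-/

set_option autoImplicit false
set_option maxHeartbeats 400000

namespace Cfsg.Agent.OddHalf.SpN

open Cfsg Cfsg.Agent.ClassicalGeometry.SympBasic Cfsg.Agent.ClassicalGeometry.SympAutSemi
open Cfsg.Agent.OddHalf.F4.EndO Subgroup
open Cfsg.Agent.OddHalf.Out.ZeroDiv (Lay Pair)
open scoped commutatorElement

variable {n : ℕ} {F : Type*} [Field F] {G : Type*} [Group G] [CharP F 2] {R : Frame n F G}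

/-! ### degrees -/

theorem Fd_inl (m : Fin n) : Fd (Sum.inl m : Ix n) = 5 ^ (n - m.val) := rfl

theorem lt_of_posFd {m : Fin n} {l : Ix n} (h : 0 < Fd (neg (Sum.inl m)) + Fd l) :
    ∃ p : Fin n, p < m ∧ l = Sum.inl p := by
  rw [Fd_neg, Fd_inl] at h
  rcases l with p | p
  · refine ⟨p, ?_, rfl⟩
    rw [Fd_inl] at h
    by_contra hp
    have h1 : n - p.val ≤ n - m.val := by
      have : m.val ≤ p.val := by
        by_contra h2
        exact hp (Fin.lt_def.2 (by omega))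
      omega
    have h2 : (5 : ℤ) ^ (n - p.val) ≤ 5 ^ (n - m.val) := pow_le_pow_right₀ (by norm_num) h1
    linarith
  · exfalso
    have h1 : Fd (Sum.inr p : Ix n) = -Fd (Sum.inl p : Ix n) := by rw [← Fd_neg]; rfl
    rw [h1, Fd_inl] at h
    have h2 := pow_pos (show (0 : ℤ) < 5 by norm_num) (n - p.val)
    have h3 := pow_pos (show (0 : ℤ) < 5 by norm_num) (n - m.val)
    linarith

theorem Fd_inl_pos' (m : Fin n) : 0 < Fd (Sum.inl m : Ix n) := by
  rw [Fd_inl]; exact pow_pos (by norm_num) _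

theorem exists_inl {l : Ix n} (h : 0 < Fd l) : ∃ p : Fin n, l = Sum.inl p := by
  rcases l with p | p
  · exact ⟨p, rfl⟩
  · exfalso
    have h1 : Fd (Sum.inr p : Ix n) = -Fd (Sum.inl p : Ix n) := by rw [← Fd_neg]; rfl
    rw [h1] at h
    have := Fd_inl_pos' p
    linarith

namespace CC

variable (C : CC R)

/-- angle at most 90 -/
theorem commW {i j k l : Ix n} (hij : Dj i j) (hkl : Dj k l) (h1 : k ≠ neg i) (h2 : k ≠ neg j) (h3 : l ≠ neg i)
    (h4 : l ≠ neg j) {g g' : G} (hg : g ∈ C.D.W i j) (hg' : g' ∈ C.D.W k l) : Commute g g' := by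
  have hgs : g ∈ C.D.W j i := by rwa [C.D.symm j i]
  have hgs' : g' ∈ C.D.W l k := by rwa [C.D.symm l k]
  rcases cases5 i j k with rfl | rfl | rfl | rfl | ⟨ik, jk⟩
  · rcases cases5 k j l with rfl | rfl | rfl | rfl | ⟨il, jl⟩
    · exact absurd rfl hkl.1
    · exact C.D.comm _ _ hij g hg g' hg'
    · exact absurd rfl h3
    · exact absurd rfl h4
    · exact C.c60 k j l hij hkl jl g hg g' hg'
  · rcases cases5 i k l with rfl | rfl | rfl | rfl | ⟨il, jl⟩
    · exact C.D.comm _ _ hij g hg g' hgs'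
    · exact absurd rfl hkl.1
    · exact absurd rfl h3
    · exact absurd rfl h4
    · exact C.c60 k i l hij.symm hkl il g hgs g' hg'
  · exact absurd rfl h1
  · exact absurd rfl h2
  · rcases cases5 i j l with rfl | rfl | rfl | rfl | ⟨il, jl⟩
    · exact C.c60 l j k hij hkl.symm jk g hg g' hgs'
    · exact C.c60 l i k hij.symm hkl.symm ik g hgs g' hgs'
    · exact absurd rfl h3
    · exact absurd rfl h4
    · exact C.c90 i j k l hij ik il jk jl hkl g hg g' hg'

/-- the doubles of partners commute -/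
theorem par_comm (hn : 3 ≤ n) {i j : Ix n} (hij : Dj i j) {g g' : G} (hg : g ∈ C.D.W i j)
    (hg' : g' ∈ C.D.W i (neg j)) : Commute g g' := by
  obtain ⟨k, hik, hjk⟩ := exists_dj hn i j
  have hij' : Dj i (neg j) := dj_neg_right.mpr hij
  have hkj : Dj k (neg j) := dj_neg_right.mpr hjk.symm
  obtain ⟨u, hu⟩ := C.D.ht i (neg j) hij' g' hg'
  obtain ⟨w, hw, hwu⟩ := C.D.onto k (neg j) hkj u
  set x := R.x i (neg k) 1 with hxdef
  have hx : x ∈ C.D.W i (neg k) := C.D.x_mem _ _ _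
  set g'' := ⁅w, x⁆ with hg''
  have h1 : g'' ∈ C.D.W i (neg j) := C.c120 i k (neg j) hik hij' hkj w hw x hx
  set p := R.x k (neg j) u with hp
  set c := R.x i (neg j) u with hc
  have hcm : c ∈ C.D.W i (neg j) := C.D.x_mem _ _ _
  have hpx : ⁅p, x⁆ = c := by
    have h2 := R.x_rel' (i := neg j) (j := k) (k := i) hkj.symm hik.symm hij'.symm u 1
    rw [mul_one, R.x_symm (neg j) k, R.x_symm (neg k) i, R.x_symm (neg j) i] at h2
    exact h2
  have hwc : Commute w c := C.D.cx k (neg j) hkj w hw i (neg j) u hik.2 (by rw [neg_neg]; exact hij.1)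
    (fun e => hjk.1 (neg_inj.1 e)) (by rw [neg_neg]; exact neg_ne j)
  have htx : R.t * x * R.t = x := R.t_of_comm (R.x_t _ _ _)
  have hht : R.t * g'' * R.t = g'' * c := by
    have e1 : R.t * g'' * R.t = (w * p) * x * (w * p)⁻¹ * x⁻¹ := by
      rw [hg'', commutatorElement_def, R.t_mul, R.t_mul, R.t_mul, R.t_inv', R.t_inv', hwu, htx]
    rw [e1]
    calc w * p * x * (w * p)⁻¹ * x⁻¹ = w * ⁅p, x⁆ * x * w⁻¹ * x⁻¹ := by rw [commutatorElement_def]; group
      _ = (w * c) * x * w⁻¹ * x⁻¹ := by rw [hpx]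
      _ = c * g'' := by rw [hwc.eq, hg'', commutatorElement_def]; group
      _ = g'' * c := C.D.comm i (neg j) hij' c hcm g'' h1
  obtain ⟨e, he⟩ := C.D.ker i (neg j) hij' (g''⁻¹ * g') (mul_mem (inv_mem h1) hg') (by
    rw [R.t_mul, R.t_inv', hht, hu]
    have h3 : c * (g''⁻¹ * g') = g''⁻¹ * g' * c := C.D.comm i (neg j) hij' c hcm _ (mul_mem (inv_mem h1) hg')
    calc (g'' * c)⁻¹ * (g' * c) = c⁻¹ * (g''⁻¹ * g' * c) := by group
      _ = g''⁻¹ * g' := by rw [← h3]; group)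
  have hg'e : g' = g'' * R.x i (neg j) e := by rw [← he]; group
  rw [hg'e]
  refine Commute.mul_right ?_ (C.NN_x hij (C.W_le hij hg) e)
  -- `g` commutes with `g''`
  have cgx : Commute g x := C.D.cx i j hij g hg i (neg k) 1 (ne_neg i) hij.2 (fun e => hik.1 (neg_inj.1 e).symm)
    (fun e => hjk.1 (neg_inj.1 e).symm)
  set r := ⁅g, w⁆ with hr
  have hrm : r ∈ C.D.W i k := by
    rw [C.D.symm]
    exact C.c120 k j i hjk.symm hik.symm hij.symm g (by rw [C.D.symm]; exact hg) w hw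
  have crx : Commute r x := C.NN_x hik (C.W_le hik hrm) 1
  have crg : Commute r g'' := C.c60 i k (neg j) hik hij' hkj r hrm g'' h1
  have e2 : g * w * g⁻¹ = r * w := by rw [hr, commutatorElement_def]; group
  have e3 : g * x * g⁻¹ = x := by rw [cgx.eq]; group
  have e4 : g * g'' * g⁻¹ = g'' := by
    calc g * g'' * g⁻¹ = (g * w * g⁻¹) * (g * x * g⁻¹) * (g * w * g⁻¹)⁻¹ * (g * x * g⁻¹)⁻¹ := by
          rw [hg'', commutatorElement_def]; group
      _ = r * g'' * (x * r⁻¹) * x⁻¹ := by rw [e2, e3, hg'', commutatorElement_def]; group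
      _ = r * g'' * (r⁻¹ * x) * x⁻¹ := by rw [crx.inv_left.eq]
      _ = (r * g'') * r⁻¹ := by group
      _ = g'' := by rw [crg.eq]; group
  show g * g'' = g'' * g
  calc g * g'' = (g * g'' * g⁻¹) * g := by group
    _ = g'' * g := by rw [e4]

/-! ### `U*` -/

/-- `U*` -/
def Us : Subgroup G := N (GradeOf.Vd (dN dgC) C.VC) 1

theorem Us_le {K : Subgroup G} (h1 : ∀ i j, Dj i j → 0 < Fd i + Fd j → C.D.W i j ≤ K)
    (h2 : ∀ i, 0 < Fd i → C.L.V i ≤ K) : C.Us ≤ K := by
  rw [Us, GradeOf.N_eq _ _ le_rfl]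
  refine iSup₂_le fun r hr => ?_
  obtain ⟨i, j⟩ := r
  have hr' : 0 < dgC i j := dN_pos.1 hr
  by_cases h : i = j
  · subst h
    rw [C.VC_ii]
    exact h2 i (by unfold dgC at hr'; omega)
  · rw [C.VC_ij h]
    exact h1 i j (dj_of_dgC h hr') hr'

theorem W_le_Us {i j : Ix n} (hij : Dj i j) (h : 0 < Fd i + Fd j) : C.D.W i j ≤ C.Us := by
  have h1 : 0 < dN dgC (i, j) := dN_pos.2 h
  have h2 := GradeOf.le_N' (V := C.VC) (deg := dN dgC) (p := (i, j)) (h := 1) h1 h1
  rwa [C.VC_ij hij.1] at h2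

theorem V_le_Us {i : Ix n} (h : 0 < Fd i) : C.L.V i ≤ C.Us := by
  have h1 : 0 < dN dgC (i, i) := dN_pos.2 (by show 0 < Fd i + Fd i; omega)
  have h2 := GradeOf.le_N' (V := C.VC) (deg := dN dgC) (p := (i, i)) (h := 1) h1 h1
  rwa [C.VC_ii] at h2

theorem VC_eq {p q : PP n} (hp : 0 < dN dgC p) (hpq : dN dgC p = dN dgC q) : C.VC p = C.VC q := by
  have h1 := dN_pos.1 hp
  have h2 := dN_pos.1 (hpq ▸ hp)
  rcases uniqC (p := p) (q := q) h1 (by rw [← dN_cast h1, ← dN_cast h2, hpq]) with rfl | rfl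
  · rfl
  · exact C.VC_symm _ _

variable [Finite F] (hn : 3 ≤ n) (hF : ∃ μ : Fˣ, (μ : F) ≠ 1)
include hn hF

theorem mem_Up_iff (w : G) : w ∈ R.Up ↔ w ∈ C.Us ∧ w * R.t = R.t * w := by
  have h1 := (C.grdC hn hF).inf_centralizer
  rw [R.N_XP_C, UpP_eq] at h1
  rw [← h1]
  exact ⟨fun h => ⟨h.1, mem_centralizer_singleton_iff.1 h.2⟩, fun h => ⟨h.1, mem_centralizer_singleton_iff.2 h.2⟩⟩

theorem Up_le_Us : R.Up ≤ C.Us := fun w hw => ((C.mem_Up_iff hn hF w).1 hw).1

theorem Us_pgroup : IsPGroup 2 C.Us := (C.grdC hn hF).isPGroup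

theorem t_notMem_Us : R.t ∉ C.Us := fun h =>
  R.t_notMem_K (R.Up_le ((C.mem_Up_iff hn hF _).2 ⟨h, rfl⟩))

/-- `Sem` elements normalise `U*` -/
theorem sem_Us {y : G} {σ : F ≃+* F} {lam : Fin n → Fˣ} (A : R.Sem y σ lam) {w : G} (hw : w ∈ C.Us) :
    y * w * y⁻¹ ∈ C.Us := by
  have h1 : C.Us ≤ C.Us.comap (MulAut.conj y).toMonoidHom := by
    refine C.Us_le ?_ ?_
    · intro i j hij hp v hv
      exact C.W_le_Us hij hp (C.D.sem_mem hn hF A hij hv)
    · intro i hp v hv
      exact C.V_le_Us hp (C.L.sem_mem hn hF A (map_zero σ) hv)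
  exact h1 hw

/-- the frame -/
theorem fr {T : Subgroup G} (h : R.OutT T) : Out.Exclude.Fr R.t T R.Up C.Us :=
  h.fr (C.Us_pgroup hn hF) (h.norm_of (C.Up_le_Us hn hF) fun _ _ _ _ hs _ hw => C.sem_Us hn hF hs hw)
    (C.mem_Up_iff hn hF)

theorem ct {u : G} (hu : u ∈ C.Us) (hi : (R.t * u) * (R.t * u) = 1) : ∃ k ∈ C.Us, R.t * u = k * R.t * k⁻¹ := by
  obtain ⟨w, hw, l, hl, he⟩ := (C.grdC hn hF).exists_conj hu hi
  have hl1 : l = 1 := by
    have : Lg (GradeOf.Vd (dN dgC) R.XP) (GradeOf.lgd (dN dgC) fun _ : PP n => False) 1 ≤ ⊥ :=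
      Lg_le fun i _ hi => by obtain ⟨_, _, _, h⟩ := hi; exact h.elim
    exact Subgroup.mem_bot.1 (this hl)
  refine ⟨w, hw, ?_⟩
  rw [hl1, mul_one] at he
  calc R.t * u = w * (w⁻¹ * (R.t * u) * w) * w⁻¹ := by group
    _ = w * R.t * w⁻¹ := by rw [he]

/-! ### the pieces -/

/-- the doubled root group as a `Lay` -/
theorem layW {s : G} {σ : F ≃+* F} (hs : R.Sem s σ 1) {i j : Ix n} (hij : Dj i j) :
    Lay R.t s (σ : F →+* F) (R.x i j) (C.D.W i j) where
  add := R.x_add i j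
  inj := fun _ h => R.x_eq_one hij h
  mem := C.D.x_mem i j
  sq := C.Wsq i j hij
  conj_t := fun w hw => by
    obtain ⟨u, hu⟩ := C.D.ht i j hij w hw
    rw [hu]; exact mul_mem hw (C.D.x_mem i j u)
  cent := fun w hw h => C.D.ker i j hij w hw (R.t_of_comm h.symm)
  tx := fun u => (R.x_t i j u).symm.eq
  brk := fun w hw => by
    obtain ⟨u, hu⟩ := C.D.ht i j hij w hw
    exact ⟨u, by rw [hu, inv_mul_cancel_left]⟩
  surj := fun u => by
    obtain ⟨w, hw, hu⟩ := C.D.onto i j hij u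
    exact ⟨w, hw, by rw [hu, inv_mul_cancel_left]⟩
  sx := fun u => by
    have := hs.yx i j hij u
    rw [ev_one_fun, ev_one_fun, Units.val_one, one_mul, one_mul] at this
    exact this
  sW := fun w hw => C.D.sem_mem hn hF hs hij hw

theorem layV {s : G} {σ : F ≃+* F} (hs : R.Sem s σ 1) (i : Ix n) :
    Lay R.t s (σ : F →+* F) (R.y i) (C.L.V i) where
  add := R.y_add i
  inj := fun _ h => R.y_eq_one h
  mem := C.L.y_mem i
  sq := C.Vsq i
  conj_t := fun w hw => by
    obtain ⟨u, hu⟩ := C.L.ht i w hw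
    rw [hu]; exact mul_mem hw (C.L.y_mem i u)
  cent := fun w hw h => C.L.ker i w hw (R.t_of_comm h.symm)
  tx := fun u => (R.y_t i u).symm.eq
  brk := fun w hw => by
    obtain ⟨u, hu⟩ := C.L.ht i w hw
    exact ⟨u, by rw [hu, inv_mul_cancel_left]⟩
  surj := fun u => by
    obtain ⟨w, hw, hu⟩ := C.L.onto i u
    exact ⟨w, hw, by rw [hu, inv_mul_cancel_left]⟩
  sx := fun u => by
    have := hs.yy i u
    rw [ev_one_fun, Units.val_one, one_pow, one_mul] at this
    exact this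
  sW := fun w hw => C.L.sem_mem hn hF hs (map_zero σ) hw

/-- conjugacy of the involutions of `s U*`, `t s U*` -/
theorem cv [Finite G] {s : G} {σ : F ≃+* F} (hs : R.Sem s σ 1) (ss : s * s = 1) (σ2 : ∀ a, σ (σ a) = a)
    (σ1 : ∃ a, σ a ≠ a) {v : G} (hv : v = s ∨ v = R.t * s) {u : G} (hu : u ∈ C.Us)
    (hi : (v * u) * (v * u) = 1) : ∃ k ∈ C.Us, v * u = k * v * k⁻¹ := by
  obtain ⟨w0, hw0⟩ := Out.ZeroDiv.exists_w0 (σ : F →+* F) σ2 σ1
  have st : s * R.t = R.t * s := hs.yt.eq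
  have vv : v * v = 1 := by
    rcases hv with rfl | rfl
    · exact ss
    · calc R.t * s * (R.t * s) = R.t * (s * R.t) * s := by group
        _ = (R.t * R.t) * (s * s) := by rw [st]; group
        _ = 1 := by rw [R.tt, ss, one_mul]
  have vi : v⁻¹ = v := inv_eq_of_mul_eq_one_left vv
  have hsv : ∃ lam, R.Sem v σ lam := by
    rcases hv with rfl | rfl
    · exact ⟨_, hs⟩
    · exact ⟨_, Frame.Sem.t.mul hs⟩
  obtain ⟨lam, hsem⟩ := hsv
  have hW : ∀ p : PP n, 0 < dN dgC p → ∀ w ∈ C.VC p, v * w * v ∈ C.VC p := by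
    rintro ⟨i, j⟩ hp w hw
    have hp' := dN_pos.1 hp
    by_cases hij : i = j
    · subst hij
      rw [C.VC_ii] at hw ⊢
      have := C.L.sem_mem hn hF hsem (map_zero σ) hw
      rwa [vi] at this
    · rw [C.VC_ij hij] at hw ⊢
      have := C.D.sem_mem hn hF hsem (dj_of_dgC hij hp') hw
      rwa [vi] at this
  have hfree : ∀ p : PP n, 0 < dN dgC p → ∀ x ∈ C.VC p, v * x * v = x → ∃ w ∈ C.VC p, w⁻¹ * (v * w * v) = x := by
    rintro ⟨i, j⟩ hp x hx hxv
    have hp' := dN_pos.1 hp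
    by_cases hij : i = j
    · subst hij
      rw [C.VC_ii] at hx ⊢
      exact (C.layV hn hF hs i).free' R.tt ss st σ2 hw0 hv hx hxv
    · rw [C.VC_ij hij] at hx ⊢
      exact (C.layW hn hF hs (dj_of_dgC hij hp')).free' R.tt ss st σ2 hw0 hv hx hxv
  have cases : ∀ d : ℕ, (∃ p : PP n, 0 < dN dgC p ∧ dN dgC p = d) ∨ (∀ p : PP n, 0 < dN dgC p → dN dgC p ≠ d) := by
    intro d
    by_cases h : ∃ p : PP n, 0 < dN dgC p ∧ dN dgC p = d
    · exact Or.inl h
    · right
      intro p hp he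
      exact h ⟨p, hp, he⟩
  refine (C.grdC hn hF).conj_of_change vv ?_ ?_ hu hi
  · intro d w hw
    rcases cases d with ⟨p, hp, rfl⟩ | h
    · rw [GradeOf.Vd_eq (deg := dN dgC) (V := C.VC) (fun p q => C.VC_eq) hp] at hw ⊢
      exact hW p hp w hw
    · rw [GradeOf.Vd_bot h, Subgroup.mem_bot] at hw ⊢
      rw [hw, mul_one, vv]
  · intro d x hx hxv
    rcases cases d with ⟨p, hp, rfl⟩ | h
    · rw [GradeOf.Vd_eq (deg := dN dgC) (V := C.VC) (fun p q => C.VC_eq) hp] at hx ⊢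
      exact hfree p hp x hx hxv
    · rw [GradeOf.Vd_bot h, Subgroup.mem_bot] at hx
      exact ⟨1, one_mem _, by rw [hx, mul_one, vv, inv_one, one_mul]⟩

omit [Finite F] hF in
/-- `W_1m` and the other positive doubles -/
theorem comm_am {a m : Fin n} (ha : a.val = 0) (ham : a ≠ m) {g : G} (hg : g ∈ C.D.W (Sum.inl a) (Sum.inl m))
    {k l : Ix n} (hkl : Dj k l) (hp : 0 < Fd k + Fd l) (hex : k = neg (Sum.inl m) → l = Sum.inl a)
    (hex' : l = neg (Sum.inl m) → k = Sum.inl a) {v : G} (hv : v ∈ C.D.W k l) : Commute g v := by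
  have hd : Dj (Sum.inl a : Ix n) (Sum.inl m) := TU.dj_inl ham
  have h1 : k ≠ neg (Sum.inl a) := by
    rintro rfl
    obtain ⟨p, hp', -⟩ := lt_of_posFd hp
    rw [Fin.lt_def] at hp'
    omega
  have h2 : l ≠ neg (Sum.inl a) := by
    rintro rfl
    rw [add_comm] at hp
    obtain ⟨p, hp', -⟩ := lt_of_posFd hp
    rw [Fin.lt_def] at hp'
    omega
  by_cases e1 : k = neg (Sum.inl m)
  · have e2 := hex e1
    subst e1
    subst e2
    rw [C.D.symm] at hv
    exact C.par_comm hn hd hg hv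
  by_cases e2 : l = neg (Sum.inl m)
  · have e3 := hex' e2
    subst e2
    subst e3
    exact C.par_comm hn hd hg hv
  exact C.commW hd hkl h1 e1 h2 e2 hg hv

omit [Finite F] hn hF in
theorem comm_am_V {a m : Fin n} (ham : a ≠ m) {g : G} (hg : g ∈ C.D.W (Sum.inl a) (Sum.inl m))
    {k : Ix n} (hp : 0 < Fd k) {v : G} (hv : v ∈ C.L.V k) : Commute g v := by
  obtain ⟨p, rfl⟩ := exists_inl hp
  exact C.cWV _ _ _ (TU.dj_inl ham) (by simp) (by simp) g hg v hv

omit [Finite F] hF in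
/-- `W_12` is central in `U*` -/
theorem W12_central {a b : Fin n} (ha : a.val = 0) (hb : b.val = 1) {g : G}
    (hg : g ∈ C.D.W (Sum.inl a) (Sum.inl b)) {w : G} (hw : w ∈ C.Us) : g * w = w * g := by
  have hab : a ≠ b := by rintro rfl; omega
  have hb' : ∀ {l : Ix n}, 0 < Fd (neg (Sum.inl b)) + Fd l → l = Sum.inl a := by
    intro l h
    obtain ⟨p, hp, rfl⟩ := lt_of_posFd h
    rw [Fin.lt_def] at hp
    congr 1
    exact Fin.ext (by omega)
  have h1 : C.Us ≤ centralizer ({g} : Set G) := by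
    refine C.Us_le ?_ ?_
    · intro i j hij hp v hv
      refine mem_centralizer_singleton_iff.2 (Commute.symm ?_).eq
      refine C.comm_am hn ha hab hg hij hp ?_ ?_ hv
      · rintro rfl; exact hb' hp
      · rintro rfl; exact hb' (by rwa [add_comm] at hp)
    · intro i hp v hv
      exact mem_centralizer_singleton_iff.2 (C.comm_am_V hab hg hp hv).symm.eq
  exact (mem_centralizer_singleton_iff.1 (h1 hw)).symm

omit [Finite F] hn hF in
/-- `V_1` is central in `U*` -/
theorem V1_central {a : Fin n} (ha : a.val = 0) {g : G} (hg : g ∈ C.L.V (Sum.inl a)) {w : G} (hw : w ∈ C.Us) :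
    g * w = w * g := by
  have h1 : C.Us ≤ centralizer ({g} : Set G) := by
    refine C.Us_le ?_ ?_
    · intro i j hij hp v hv
      refine mem_centralizer_singleton_iff.2 (C.cWV i j (Sum.inl a) hij ?_ ?_ v hv g hg).eq
      · rintro e
        have e' : i = neg (Sum.inl a) := by rw [e, neg_neg]
        subst e'
        obtain ⟨p, hp', -⟩ := lt_of_posFd hp
        rw [Fin.lt_def] at hp'
        omega
      · rintro e
        have e' : j = neg (Sum.inl a) := by rw [e, neg_neg]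
        subst e'
        rw [add_comm] at hp
        obtain ⟨p, hp', -⟩ := lt_of_posFd hp
        rw [Fin.lt_def] at hp'
        omega
    · intro i hp v hv
      obtain ⟨p, rfl⟩ := exists_inl hp
      by_cases e : p = a
      · subst e
        exact mem_centralizer_singleton_iff.2 (C.L.comm _ v hv g hg)
      · exact mem_centralizer_singleton_iff.2 (C.cVV _ _ (TU.dj_inl e) v hv g hg).eq
  exact (mem_centralizer_singleton_iff.1 (h1 hw)).symm

/-! ### the complement `M` of `W_{2,-3}` -/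

/-- the product of the positive doubles except `W_{b,-c}` -/
def Mg (b c : Fin n) : Subgroup G :=
  ⨆ p : PP n, ⨆ _ : 0 < dgC p.1 p.2 ∧ p ≠ (Sum.inl b, Sum.inr c) ∧ p ≠ (Sum.inr c, Sum.inl b), C.VC p

omit [Finite F] hn hF in
theorem Mg_le {b c : Fin n} {K : Subgroup G}
    (h1 : ∀ i j, Dj i j → 0 < Fd i + Fd j → ¬ (i = Sum.inl b ∧ j = Sum.inr c) → ¬ (i = Sum.inr c ∧ j = Sum.inl b) →
      C.D.W i j ≤ K) (h2 : ∀ i, 0 < Fd i → C.L.V i ≤ K) : C.Mg b c ≤ K := by
  refine iSup₂_le fun r hr => ?_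
  obtain ⟨i, j⟩ := r
  obtain ⟨hr', hr1, hr2⟩ := hr
  by_cases h : i = j
  · subst h
    rw [C.VC_ii]
    exact h2 i (by unfold dgC at hr'; simp only at hr'; omega)
  · rw [C.VC_ij h]
    refine h1 i j (dj_of_dgC h hr') hr' ?_ ?_
    · rintro ⟨rfl, rfl⟩; exact hr1 rfl
    · rintro ⟨rfl, rfl⟩; exact hr2 rfl

omit [Finite F] hn hF in
theorem W_le_Mg {b c : Fin n} {i j : Ix n} (hij : Dj i j) (h : 0 < Fd i + Fd j)
    (h1 : ¬ (i = Sum.inl b ∧ j = Sum.inr c)) (h2 : ¬ (i = Sum.inr c ∧ j = Sum.inl b)) : C.D.W i j ≤ C.Mg b c := by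
  rw [← C.VC_ij hij.1]
  unfold Mg
  exact le_iSupP (V := C.VC) (r := (i, j)) (S := fun p : PP n => 0 < dgC p.1 p.2 ∧ p ≠ (Sum.inl b, Sum.inr c) ∧
    p ≠ (Sum.inr c, Sum.inl b)) ⟨h, fun e => h1 ⟨congrArg Prod.fst e, congrArg Prod.snd e⟩,
      fun e => h2 ⟨congrArg Prod.fst e, congrArg Prod.snd e⟩⟩

omit [Finite F] hn hF in
theorem V_le_Mg {b c : Fin n} {i : Ix n} (h : 0 < Fd i) : C.L.V i ≤ C.Mg b c := by
  rw [← C.VC_ii]
  unfold Mg
  have h0 : 0 < dgC i i := by unfold dgC; omega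
  refine le_iSupP (V := C.VC) (r := (i, i)) (S := fun p : PP n => 0 < dgC p.1 p.2 ∧
    p ≠ (Sum.inl b, Sum.inr c) ∧ p ≠ (Sum.inr c, Sum.inl b)) ⟨h0, fun e => ?_, fun e => ?_⟩
  · have e1 : i = Sum.inl b := congrArg Prod.fst e
    have e2 : i = Sum.inr c := congrArg Prod.snd e
    rw [e1] at e2
    simp at e2
  · have e1 : i = Sum.inr c := congrArg Prod.fst e
    have e2 : i = Sum.inl b := congrArg Prod.snd e
    rw [e1] at e2
    simp at e2

omit [Finite F] hn hF in
theorem Mg_le_Us {b c : Fin n} : C.Mg b c ≤ C.Us :=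
  C.Mg_le (fun _ _ hij hp _ _ => C.W_le_Us hij hp) (fun _ hp => C.V_le_Us hp)

/-- `Sem` elements normalise `M` -/
theorem sem_Mg {b c : Fin n} {y : G} {σ : F ≃+* F} {lam : Fin n → Fˣ} (A : R.Sem y σ lam) {w : G}
    (hw : w ∈ C.Mg b c) : y * w * y⁻¹ ∈ C.Mg b c := by
  have h1 : C.Mg b c ≤ (C.Mg b c).comap (MulAut.conj y).toMonoidHom := by
    refine C.Mg_le ?_ ?_
    · intro i j hij hp h1 h2 v hv
      exact C.W_le_Mg hij hp h1 h2 (C.D.sem_mem hn hF A hij hv)
    · intro i hp v hv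
      exact C.V_le_Mg hp (C.L.sem_mem hn hF A (map_zero σ) hv)
  exact h1 hw

omit [Finite F] hF in
/-- `M` centralises `W_13` -/
theorem Mg_comm {a b c : Fin n} (ha : a.val = 0) (hb : b.val = 1) (hc : c.val = 2) {g : G}
    (hg : g ∈ C.D.W (Sum.inl a) (Sum.inl c)) {w : G} (hw : w ∈ C.Mg b c) : w * g = g * w := by
  have hac : a ≠ c := by rintro rfl; omega
  have hc' : ∀ {l : Ix n}, 0 < Fd (neg (Sum.inl c)) + Fd l → l ≠ Sum.inl b → l = Sum.inl a := by
    intro l h hl
    obtain ⟨p, hp, rfl⟩ := lt_of_posFd h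
    rw [Fin.lt_def] at hp
    congr 1
    refine Fin.ext ?_
    have : p.val ≠ b.val := fun e => hl (by rw [Fin.ext e])
    omega
  have h1 : C.Mg b c ≤ centralizer ({g} : Set G) := by
    refine C.Mg_le ?_ ?_
    · intro i j hij hp h1 h2 v hv
      refine mem_centralizer_singleton_iff.2 (Commute.symm ?_).eq
      refine C.comm_am hn ha hac hg hij hp ?_ ?_ hv
      · rintro rfl; exact hc' hp fun e => h2 ⟨rfl, e⟩
      · rintro rfl; exact hc' (by rwa [add_comm] at hp) fun e => h1 ⟨e, rfl⟩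
    · intro i hp v hv
      exact mem_centralizer_singleton_iff.2 (C.comm_am_V hac hg hp hv).symm.eq
  exact mem_centralizer_singleton_iff.1 (h1 hw)

/-- `W_{2,-3}` normalises `M` -/
theorem W2_norm {a b c : Fin n} (ha : a.val = 0) (hb : b.val = 1) (hc : c.val = 2) {w : G}
    (hw : w ∈ C.D.W (Sum.inl b) (Sum.inr c)) {m : G} (hm : m ∈ C.Mg b c) : w * m * w⁻¹ ∈ C.Mg b c := by
  have hab : a ≠ b := by rintro rfl; omega
  have hbc : b ≠ c := by rintro rfl; omega
  have hac : a ≠ c := by rintro rfl; omega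
  have dbc : Dj (Sum.inl b : Ix n) (Sum.inl c) := TU.dj_inl hbc
  have dbc' : Dj (Sum.inl b : Ix n) (Sum.inr c) := TU.dj_inl_inr hbc
  have Fac : Fd (Sum.inl c : Ix n) < Fd (Sum.inl a) := Fd_inl_lt (Fin.lt_def.2 (by omega))
  have Fbc : Fd (Sum.inl c : Ix n) < Fd (Sum.inl b) := Fd_inl_lt (Fin.lt_def.2 (by omega))
  have key : ∀ v, ⁅w, v⁆ ∈ C.Mg b c → v ∈ C.Mg b c → w * v * w⁻¹ ∈ C.Mg b c := by
    intro v h1 h2
    have e : w * v * w⁻¹ = ⁅w, v⁆ * v := by rw [commutatorElement_def]; group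
    rw [e]; exact mul_mem h1 h2
  have keyc : ∀ v, Commute w v → v ∈ C.Mg b c → w * v * w⁻¹ ∈ C.Mg b c := by
    intro v h1 h2
    rw [h1.eq, mul_inv_cancel_right]; exact h2
  -- the cases (1), (3) for short doubles
  have aux1 : ∀ j, 0 < Fd (neg (Sum.inl b : Ix n)) + Fd j → ∀ v ∈ C.D.W (neg (Sum.inl b)) j,
      ⁅w, v⁆ ∈ C.Mg b c := by
    intro j hp v hv
    obtain ⟨p, hp', rfl⟩ := lt_of_posFd hp
    have hpa : p = a := by
      rw [Fin.lt_def] at hp'
      exact Fin.ext (by omega)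
    subst hpa
    rw [C.D.symm] at hv
    have h1 := C.c120 (Sum.inl p) (Sum.inl b) (Sum.inr c) (TU.dj_inl hab) (TU.dj_inl_inr hac) dbc' w hw v hv
    refine C.W_le_Mg (TU.dj_inl_inr hac) ?_ ?_ ?_ h1
    · have e : Fd (Sum.inr c : Ix n) = -Fd (Sum.inl c : Ix n) := by rw [← Fd_neg]; rfl
      rw [e]; omega
    · rintro ⟨e, -⟩; exact hab (Sum.inl_injective e)
    · rintro ⟨e, -⟩; simp at e
  have aux2 : ∀ j, Dj (Sum.inl c : Ix n) j → j ≠ neg (Sum.inl b) → 0 < Fd (Sum.inl c : Ix n) + Fd j →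
      ∀ v ∈ C.D.W (Sum.inl c) j, ⁅w, v⁆ ∈ C.Mg b c := by
    intro j hcj hjb hp v hv
    by_cases e : j = Sum.inl b
    · subst e
      rw [C.D.symm] at hv
      have h1 := C.par_comm hn dbc hv (g' := w) hw
      rw [commutatorElement_eq_one_iff_commute.2 h1.symm]
      exact one_mem _
    · have dbj : Dj (Sum.inl b : Ix n) j := ⟨fun e' => e e'.symm, fun e' => hjb (by rw [e', neg_neg])⟩
      have h1 := C.c120 (Sum.inl b) (Sum.inl c) j dbc dbj hcj v hv w hw
      have h2 := inv_mem h1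
      rw [commutatorElement_inv] at h2
      refine C.W_le_Mg dbj (by omega) ?_ ?_ h2
      · rintro ⟨-, rfl⟩
        exact hcj.2 rfl
      · rintro ⟨e', -⟩; simp at e'
  have h1 : C.Mg b c ≤ (C.Mg b c).comap (MulAut.conj w).toMonoidHom := by
    refine C.Mg_le ?_ ?_
    · intro i j hij hp hx1 hx2 v hv
      have hvM := C.W_le_Mg hij hp hx1 hx2 hv
      show w * v * w⁻¹ ∈ C.Mg b c
      by_cases e1 : i = neg (Sum.inl b)
      · subst e1; exact key v (aux1 j hp v hv) hvM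
      by_cases e2 : j = neg (Sum.inl b)
      · subst e2
        rw [C.D.symm] at hv
        exact key v (aux1 i (by omega) v hv) hvM
      by_cases e3 : i = Sum.inl c
      · subst e3; exact key v (aux2 j hij e2 hp v hv) hvM
      by_cases e4 : j = Sum.inl c
      · subst e4
        rw [C.D.symm] at hv
        exact key v (aux2 i hij.symm e1 (by omega) v hv) hvM
      refine keyc v ?_ hvM
      refine C.commW dbc' hij e1 ?_ e2 ?_ hw hv
      · rw [neg_inr]; exact e3
      · rw [neg_inr]; exact e4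
    · intro i hp v hv
      have hvM := C.V_le_Mg (b := b) (c := c) hp hv
      show w * v * w⁻¹ ∈ C.Mg b c
      obtain ⟨p, rfl⟩ := exists_inl hp
      by_cases e : p = c
      · subst e
        obtain ⟨a', ha', v', hv', h2⟩ := C.mem135 dbc hn hF (g := w) hw hv
        refine key v ?_ hvM
        rw [h2]
        refine mul_mem (C.W_le_Mg dbc ?_ ?_ ?_ ha') (C.V_le_Mg ?_ hv')
        · have := Fd_inl_pos' b
          have := Fd_inl_pos' p
          omega
        · rintro ⟨-, e'⟩; simp at e'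
        · rintro ⟨e', -⟩; simp at e'
        · exact Fd_inl_pos' b
      · refine keyc v ?_ hvM
        refine C.cWV _ _ _ dbc' (by simp) ?_ w hw v hv
        rw [neg_inr]
        intro e'
        exact e (Sum.inl_injective e')
  exact h1 hm

/-- `U* = W_{2,-3} M` -/
theorem dec {a b c : Fin n} (ha : a.val = 0) (hb : b.val = 1) (hc : c.val = 2) {u : G} (hu : u ∈ C.Us) :
    ∃ w ∈ C.D.W (Sum.inl b) (Sum.inr c), ∃ m ∈ C.Mg b c, u = w * m := by
  refine exists_mul (fun w hw m hm => C.W2_norm hn hF ha hb hc hw hm) ?_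
  have h1 : C.Us ≤ C.D.W (Sum.inl b) (Sum.inr c) ⊔ C.Mg b c := by
    refine C.Us_le ?_ ?_
    · intro i j hij hp
      by_cases h1 : i = Sum.inl b ∧ j = Sum.inr c
      · obtain ⟨rfl, rfl⟩ := h1
        exact le_sup_left
      · by_cases h2 : i = Sum.inr c ∧ j = Sum.inl b
        · obtain ⟨rfl, rfl⟩ := h2
          rw [C.D.symm]
          exact le_sup_left
        · exact (C.W_le_Mg hij hp h1 h2).trans le_sup_right
    · intro i hp
      exact (C.V_le_Mg hp).trans le_sup_right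
  exact h1 hu

omit [Finite F] hF in
/-- `W_{2,-3} ∩ M = 1` -/
theorem ind {a b c : Fin n} (ha : a.val = 0) (hb : b.val = 1) (hc : c.val = 2) {w : G}
    (hw : w ∈ C.D.W (Sum.inl b) (Sum.inr c)) (hm : w ∈ C.Mg b c) : w = 1 := by
  have hab : a ≠ b := by rintro rfl; omega
  have hbc : b ≠ c := by rintro rfl; omega
  have hac : a ≠ c := by rintro rfl; omega
  have dbc' : Dj (Sum.inl b : Ix n) (Sum.inr c) := TU.dj_inl_inr hbc
  have hx : ∀ d, ⁅R.x (Sum.inl a) (Sum.inl c) 1, R.x (Sum.inl b) (Sum.inr c) d⁆ = R.x (Sum.inl a) (Sum.inl b) d := by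
    intro d
    have := R.x_rel' (i := Sum.inl a) (j := Sum.inl c) (k := Sum.inl b) (TU.dj_inl hac) (TU.dj_inl hbc.symm)
      (TU.dj_inl hab) 1 d
    rw [one_mul, neg_inl, R.x_symm (Sum.inr c)] at this
    exact this
  have c1 : Commute (R.x (Sum.inl a) (Sum.inl c) 1) w :=
    (C.Mg_comm hn ha hb hc (C.D.x_mem (Sum.inl a) (Sum.inl c) 1) hm).symm
  obtain ⟨u, hu⟩ := C.D.ht _ _ dbc' w hw
  -- conjugate by `t`
  have c2 : Commute (R.x (Sum.inl a) (Sum.inl c) 1) (w * R.x (Sum.inl b) (Sum.inr c) u) := by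
    rw [← hu]
    show R.x (Sum.inl a) (Sum.inl c) 1 * (R.t * w * R.t) = R.t * w * R.t * R.x (Sum.inl a) (Sum.inl c) 1
    have h1 := (R.x_t (Sum.inl a) (Sum.inl c) 1).eq
    calc R.x (Sum.inl a) (Sum.inl c) 1 * (R.t * w * R.t) = (R.x (Sum.inl a) (Sum.inl c) 1 * R.t) * w * R.t := by
          group
      _ = R.t * (R.x (Sum.inl a) (Sum.inl c) 1 * w) * R.t := by rw [h1]; group
      _ = R.t * w * (R.x (Sum.inl a) (Sum.inl c) 1 * R.t) := by rw [c1.eq]; group
      _ = _ := by rw [h1]; group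
  have c3 : Commute (R.x (Sum.inl a) (Sum.inl c) 1) (R.x (Sum.inl b) (Sum.inr c) u) := by
    have := c1.inv_right.mul_right c2
    rwa [inv_mul_cancel_left] at this
  have h3 := hx u
  rw [commutatorElement_eq_one_iff_commute.2 c3] at h3
  have hu0 : u = 0 := R.x_eq_one (TU.dj_inl hab) h3.symm
  rw [hu0, R.x_zero, mul_one] at hu
  obtain ⟨d, rfl⟩ := C.D.ker _ _ dbc' w hw hu
  have h4 := hx d
  rw [commutatorElement_eq_one_iff_commute.2 c1] at h4
  have hd0 : d = 0 := R.x_eq_one (TU.dj_inl hab) h4.symm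
  rw [hd0, R.x_zero]

/-! ### counting -/

/-- `y_1(x) x_12(y) x_13(z)` -/
noncomputable def el3 (a b c : Fin n) (p : F × F × F) : Sy n F :=
  sy (Sum.inl a) p.1 * sx (Sum.inl a) (Sum.inl b) p.2.1 * sx (Sum.inl a) (Sum.inl c) p.2.2

omit [Finite F] hn hF C in
theorem el3_inj {a b c : Fin n} (hab : a ≠ b) (hac : a ≠ c) (hbc : b ≠ c) {p q : F × F × F}
    (h : el3 a b c p = el3 a b c q) : p = q := by
  have key : ∀ (p : F × F × F) (k : Ix n), rho n F (el3 a b c p) (be n F (Sum.inr a)) k =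
      be n F (Sum.inr a) k + p.1 * be n F (Sum.inl a) k + p.2.1 * be n F (Sum.inl b) k +
        p.2.2 * be n F (Sum.inl c) k := by
    intro p k
    rw [el3, map_mul, map_mul, Equiv.Perm.mul_apply, Equiv.Perm.mul_apply, rho_sy, rho_sx (TU.dj_inl hab),
      rho_sx (TU.dj_inl hac)]
    simp only [Pi.add_apply, Pi.smul_apply, smul_eq_mul, be_apply, neg_inl]
    simp [hab, hac, hbc, hab.symm, hac.symm, hbc.symm]
    ring
  have e : ∀ k : Ix n, be n F (Sum.inr a) k + p.1 * be n F (Sum.inl a) k + p.2.1 * be n F (Sum.inl b) k +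
        p.2.2 * be n F (Sum.inl c) k = be n F (Sum.inr a) k + q.1 * be n F (Sum.inl a) k +
        q.2.1 * be n F (Sum.inl b) k + q.2.2 * be n F (Sum.inl c) k := by
    intro k
    rw [← key, ← key, h]
  have e1 := e (Sum.inl a)
  have e2 := e (Sum.inl b)
  have e3 := e (Sum.inl c)
  simp [be_apply, hab, hac, hbc, hab.symm, hac.symm, hbc.symm] at e1 e2 e3
  exact Prod.ext e1 (Prod.ext e2 e3)

theorem card_Us [Finite G] {a b c : Fin n} (hab : a ≠ b) (hac : a ≠ c) (hbc : b ≠ c) :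
    Nat.card R.Up * Nat.card F ^ 3 ≤ Nat.card C.Us := by
  classical
  have hmem : ∀ p : F × F × F, R.ι (el3 a b c p) ∈ R.Up := by
    intro p
    rw [R.Up_eq]
    exact ⟨_, mul_mem (mul_mem (TU.sy_inl_mem _ _) (TU.sx_inl_inl_mem _ _ _)) (TU.sx_inl_inl_mem _ _ _), rfl⟩
  have hk : ∀ p : F × F × F, ∃ k ∈ C.Us, R.t * R.ι (el3 a b c p) = k * R.t * k⁻¹ := by
    intro p
    refine C.ct hn hF (C.Up_le_Us hn hF (hmem p)) ?_
    have h1 := (R.comm (el3 a b c p)).eq
    have e : R.ι (el3 a b c p) = R.y (Sum.inl a) p.1 * R.x (Sum.inl a) (Sum.inl b) p.2.1 *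
        R.x (Sum.inl a) (Sum.inl c) p.2.2 := by
      rw [el3, map_mul, map_mul]; rfl
    have c1 : Commute (R.y (Sum.inl a) p.1) (R.x (Sum.inl a) (Sum.inl b) p.2.1) :=
      C.L.cx _ _ (C.L.y_mem _ _) _ _ _ (by simp) (by simp)
    have c2 : Commute (R.y (Sum.inl a) p.1) (R.x (Sum.inl a) (Sum.inl c) p.2.2) :=
      C.L.cx _ _ (C.L.y_mem _ _) _ _ _ (by simp) (by simp)
    have c3 : Commute (R.x (Sum.inl a) (Sum.inl b) p.2.1) (R.x (Sum.inl a) (Sum.inl c) p.2.2) :=
      R.x_comm (by simp) (by simp) (by simp) (by simp) _ _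
    have e2 : R.ι (el3 a b c p) * R.ι (el3 a b c p) = 1 := by
      rw [e]
      have c4 := c2.mul_left c3
      calc _ = (R.y (Sum.inl a) p.1 * R.x (Sum.inl a) (Sum.inl b) p.2.1) * (R.x (Sum.inl a) (Sum.inl c) p.2.2 *
          (R.y (Sum.inl a) p.1 * R.x (Sum.inl a) (Sum.inl b) p.2.1)) * R.x (Sum.inl a) (Sum.inl c) p.2.2 := by group
        _ = (R.y (Sum.inl a) p.1 * R.x (Sum.inl a) (Sum.inl b) p.2.1) *
          (R.y (Sum.inl a) p.1 * R.x (Sum.inl a) (Sum.inl b) p.2.1) *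
          (R.x (Sum.inl a) (Sum.inl c) p.2.2 * R.x (Sum.inl a) (Sum.inl c) p.2.2) := by rw [← c4.eq]; group
        _ = R.y (Sum.inl a) p.1 * (R.x (Sum.inl a) (Sum.inl b) p.2.1 * R.y (Sum.inl a) p.1) *
          R.x (Sum.inl a) (Sum.inl b) p.2.1 := by rw [R.x_sq, mul_one]; group
        _ = (R.y (Sum.inl a) p.1 * R.y (Sum.inl a) p.1) *
          (R.x (Sum.inl a) (Sum.inl b) p.2.1 * R.x (Sum.inl a) (Sum.inl b) p.2.1) := by rw [← c1.eq]; group
        _ = 1 := by rw [R.y_sq, R.x_sq, one_mul]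
    calc R.t * R.ι (el3 a b c p) * (R.t * R.ι (el3 a b c p)) =
          R.t * (R.ι (el3 a b c p) * R.t) * R.ι (el3 a b c p) := by group
      _ = (R.t * R.t) * (R.ι (el3 a b c p) * R.ι (el3 a b c p)) := by rw [h1]; group
      _ = 1 := by rw [R.tt, e2, one_mul]
  choose k hk hkt using hk
  have hcard : Nat.card (R.Up × (F × F × F)) = Nat.card R.Up * Nat.card F ^ 3 := by
    rw [Nat.card_prod, Nat.card_prod, Nat.card_prod]; ring
  rw [← hcard]
  refine Nat.card_le_card_of_injective (fun q : R.Up × (F × F × F) =>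
    (⟨k q.2 * q.1, mul_mem (hk _) (C.Up_le_Us hn hF q.1.2)⟩ : C.Us)) ?_
  rintro ⟨⟨u, hu⟩, p⟩ ⟨⟨u', hu'⟩, p'⟩ hq
  have h1 : k p * u = k p' * u' := Subtype.mk.inj hq
  have hut : u * R.t = R.t * u := ((C.mem_Up_iff hn hF u).1 hu).2
  have hut' : u' * R.t = R.t * u' := ((C.mem_Up_iff hn hF u').1 hu').2
  have h2 : R.t * R.ι (el3 a b c p) = R.t * R.ι (el3 a b c p') := by
    rw [hkt, hkt]
    calc k p * R.t * (k p)⁻¹ = k p * (R.t * u) * u⁻¹ * (k p)⁻¹ := by group
      _ = (k p * u) * R.t * (k p * u)⁻¹ := by rw [← hut]; group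
      _ = (k p' * u') * R.t * (k p' * u')⁻¹ := by rw [h1]
      _ = k p' * (u' * R.t) * u'⁻¹ * (k p')⁻¹ := by group
      _ = k p' * R.t * (k p')⁻¹ := by rw [hut']; group
  have h3 : p = p' := el3_inj hab hac hbc (R.inj (mul_left_cancel h2))
  subst h3
  have h4 : u = u' := mul_left_cancel h1
  subst h4
  rfl

end CC

omit [CharP F 2] in
/-- a 2-subgroup of `C(t)` is conjugate in `C(t)` into `T` -/
theorem Frame.OutT.exists_conj_le₁ [Finite G] {T : Subgroup G} (h : R.OutT T) {V : Subgroup G} (hV : IsPGroup 2 V)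
    (hVt : ∀ x ∈ V, x * R.t = R.t * x) : ∃ c : G, c * R.t = R.t * c ∧ ∀ x ∈ V, c * x * c⁻¹ ∈ T := by
  set C := centralizer ({R.t} : Set G) with hC
  have hTC : T ≤ C := fun x hx => mem_centralizer_singleton_iff.2 (h.Tc x hx)
  have hVC : V ≤ C := fun x hx => mem_centralizer_singleton_iff.2 (hVt x hx)
  let S1 : Sylow 2 C := ⟨T.subgroupOf C, h.T2.comap_of_injective C.subtype C.subtype_injective, by
    intro Q hQ hle
    apply le_antisymm _ hle
    have h1 : Q.map C.subtype ≤ T := by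
      apply h.Tmax _ (hQ.map C.subtype)
      · intro y hy
        exact ⟨⟨y, hTC hy⟩, hle (by exact hy), rfl⟩
      · rintro _ ⟨y, -, rfl⟩
        exact mem_centralizer_singleton_iff.1 y.2
    intro y hy
    exact h1 ⟨y, hy, rfl⟩⟩
  obtain ⟨S2, hS2⟩ := (hV.comap_of_injective C.subtype C.subtype_injective).exists_le_sylow
  obtain ⟨c, hc⟩ := MulAction.exists_smul_eq C S2 S1
  refine ⟨c, mem_centralizer_singleton_iff.1 c.2, fun x hx => ?_⟩
  have h1 : (⟨x, hVC hx⟩ : C) ∈ (S2 : Subgroup C) := hS2 (by exact hx)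
  have h2 : c * ⟨x, hVC hx⟩ * c⁻¹ ∈ (S1 : Subgroup C) := by
    rw [← hc]
    exact ⟨_, h1, rfl⟩
  exact h2

omit [CharP F 2] in
/-- an element with a large 2-group in its centraliser is not conjugate to `t` -/
theorem Frame.OutT.not_conj_of_card [Finite G] {T : Subgroup G} (h : R.OutT T) {Us : Subgroup G}
    (Us2 : IsPGroup 2 Us) {z : G} (hz : ∀ w ∈ Us, z * w = w * z) (hlt : Nat.card T < Nat.card Us) (g : G) :
    g⁻¹ * R.t * g ≠ z := by
  intro e
  have et : R.t = g * z * g⁻¹ := by rw [← e]; group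
  obtain ⟨c, -, hc⟩ := h.exists_conj_le₁ (Us2.map (MulAut.conj g).toMonoidHom) (by
    rintro _ ⟨w, hw, rfl⟩
    show g * w * g⁻¹ * R.t = R.t * (g * w * g⁻¹)
    rw [et]
    calc g * w * g⁻¹ * (g * z * g⁻¹) = g * (w * z) * g⁻¹ := by group
      _ = g * (z * w) * g⁻¹ := by rw [hz w hw]
      _ = _ := by group)
  have h1 := Nat.card_le_card_of_injective (fun w : Us => (⟨c * (g * w * g⁻¹) * c⁻¹, hc _ ⟨w, w.2, rfl⟩⟩ : T)) (by
    intro w w' hw
    have h2 : c * (g * (w : G) * g⁻¹) * c⁻¹ = c * (g * w' * g⁻¹) * c⁻¹ := Subtype.mk.inj hw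
    exact Subtype.ext (mul_left_cancel (mul_right_cancel (mul_left_cancel (mul_right_cancel h2)))))
  omega

namespace CC

omit [CharP F 2] in
theorem two_lt_card [Finite F] (hF : ∃ μ : Fˣ, (μ : F) ≠ 1) : 2 < Nat.card F := by
  obtain ⟨μ, hμ⟩ := hF
  have := Fintype.ofFinite F
  classical
  rw [Nat.card_eq_fintype_card]
  exact Fintype.two_lt_card_iff.2 ⟨0, 1, μ, zero_ne_one, μ.ne_zero.symm, fun e => hμ e.symm⟩

variable (C : CC R) [Finite F] (hn : 3 ≤ n) (hF : ∃ μ : Fˣ, (μ : F) ≠ 1)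
include C hn hF

/-- (k0) -/
theorem k0 [Finite G] {T : Subgroup G} (h : R.OutT T) {a b : Fin n} (ha : a.val = 0) (hb : b.val = 1)
    (hab : Dj (Sum.inl a : Ix n) (Sum.inl b)) {z : G} (hz : z ∈ C.NN hab) (g : G) : g⁻¹ * R.t * g ≠ z := by
  have hne : a ≠ b := by rintro rfl; omega
  refine h.not_conj_of_card (C.Us_pgroup hn hF) ?_ ?_ g
  · intro w hw
    obtain ⟨p, hp, v, hv, rfl⟩ := hz
    have e1 := C.W12_central hn ha hb hp hw
    have e2 := C.V1_central ha hv hw
    calc p * v * w = p * (v * w) := by group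
      _ = (p * w) * v := by rw [e2]; group
      _ = w * (p * v) := by rw [e1]; group
  · have h1 := C.card_Us hn hF (a := a) (b := b) (c := ⟨2, by omega⟩) hne
      (fun e => by rw [e] at ha; simp at ha) (fun e => by rw [e] at hb; simp at hb)
    have h2 := h.card_T hn
    have h3 := two_lt_card hF
    have h4 : 0 < Nat.card R.Up := Nat.card_pos
    have h5 : Nat.card F ^ 2 * (2 * Nat.card R.Up) < Nat.card R.Up * Nat.card F ^ 3 := by
      have : 0 < Nat.card F ^ 2 * Nat.card R.Up := by positivity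
      nlinarith
    omega

/-- **(C,C), one involution in `T / U`** -/
theorem out_one [Finite G] {T : Subgroup G} (h : R.OutT T)
    (hinv : ∀ d ∈ T, d * d ∈ R.Up → d ∈ R.Up ∨ R.t * d ∈ R.Up) : R.t ∉ _root_.commutator G := by
  have fr := C.fr hn hF h
  have hsq : ∀ g : G, g⁻¹ * R.t * g * (g⁻¹ * R.t * g) = 1 := by
    intro g
    calc g⁻¹ * R.t * g * (g⁻¹ * R.t * g) = g⁻¹ * (R.t * R.t) * g := by group
      _ = 1 := by rw [R.tt]; group
  have htypes : ∀ g : G, (∀ d ∈ T, g⁻¹ * d * g ∈ fr.S) →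
      (g⁻¹ * R.t * g ∈ C.Us ∨ R.t * (g⁻¹ * R.t * g) ∈ C.Us) := by
    intro g hg
    obtain ⟨d, hd, w', hw', e⟩ := fr.mem_S.1 (hg R.t fr.tT)
    have h1 := hsq g
    rw [e] at h1
    have h2 : d * d ∈ R.Up := by
      apply (fr.hU _).2
      refine ⟨?_, ?_⟩
      · have h5 : d * d = w'⁻¹ * (d⁻¹ * w'⁻¹ * d) := by
          have : d * d = d * w' * (d * w') * ((w'⁻¹ * (d⁻¹ * w'⁻¹ * d))) := by group
          rw [h1, one_mul] at this
          exact this
        rw [h5]
        have h6 := fr.norm _ (inv_mem hd) _ (inv_mem hw')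
        rw [inv_inv] at h6
        exact mul_mem (inv_mem hw') h6
      · exact fr.Tc _ (mul_mem hd hd)
    rcases hinv d hd h2 with h | h
    · left; rw [e]; exact mul_mem (fr.le h) hw'
    · right; rw [e, ← mul_assoc]; exact mul_mem (fr.le h) hw'
  refine F4.EndOut.not_mem_commutator fr (C.t_notMem_Us hn hF) (fun g _ hm => ?_) 1 (one_mem _) ?_ fun g hg => ?_
  · obtain ⟨k, hk, e⟩ := C.ct hn hF hm (by
      have e1 : R.t * (R.t * (g⁻¹ * R.t * g)) = g⁻¹ * R.t * g := by rw [← mul_assoc, R.tt, one_mul]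
      rw [e1]; exact hsq g)
    rw [← mul_assoc, R.tt, one_mul] at e
    exact ⟨k, fr.Us_le hk, e⟩
  · rw [mul_one]; exact C.t_notMem_Us hn hF
  · rcases htypes g hg with h | h
    · exact Or.inr (Or.inl h)
    · exact Or.inl h

/-- **(C,C), a pure field involution** -/
theorem out_pure [Finite G] {T : Subgroup G} (h : R.OutT T) {s : G} {σ : F ≃+* F} (hsT : s ∈ T) (ss : s * s = 1)
    (hs : R.Sem s σ 1) (σ2 : ∀ a, σ (σ a) = a) (σ1 : ∃ a, σ a ≠ a) (hsU : s ∉ R.Up) (htsU : R.t * s ∉ R.Up)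
    (hinv : ∀ d ∈ T, d * d ∈ R.Up → d ∈ R.Up ∨ R.t * d ∈ R.Up ∨ s * d ∈ R.Up ∨ R.t * s * d ∈ R.Up) :
    R.t ∉ _root_.commutator G := by
  let a : Fin n := ⟨0, by omega⟩
  let b : Fin n := ⟨1, by omega⟩
  let c : Fin n := ⟨2, by omega⟩
  have ha : a.val = 0 := rfl
  have hb : b.val = 1 := rfl
  have hc : c.val = 2 := rfl
  have hab : a ≠ b := fun e => by have := congrArg Fin.val e; omega
  have hbc : b ≠ c := fun e => by have := congrArg Fin.val e; omega
  have hac : a ≠ c := fun e => by have := congrArg Fin.val e; omega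
  have dab : Dj (Sum.inl a : Ix n) (Sum.inl b) := TU.dj_inl hab
  have dac : Dj (Sum.inl a : Ix n) (Sum.inl c) := TU.dj_inl hac
  have dbc : Dj (Sum.inl b : Ix n) (Sum.inl c) := TU.dj_inl hbc
  have dbc' : Dj (Sum.inl b : Ix n) (Sum.inr c) := TU.dj_inl_inr hbc
  have Fbc : Fd (Sum.inl c : Ix n) < Fd (Sum.inl b) := Fd_inl_lt (Fin.lt_def.2 (by omega))
  have st : s * R.t = R.t * s := hs.yt.eq
  have ti : R.t⁻¹ = R.t := R.t_inv
  have hs0 := hs
  have hts : R.Sem (R.t * s) (1 * σ) (1 * fm 1 1) := Frame.Sem.t.mul hs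
  have tsts : (R.t * s) * (R.t * s) = 1 := by
    calc R.t * s * (R.t * s) = R.t * (s * R.t) * s := by group
      _ = (R.t * R.t) * (s * s) := by rw [st]; group
      _ = 1 := by rw [R.tt, ss, one_mul]
  have pos2 : ∀ p q : Fin n, 0 < Fd (Sum.inl p : Ix n) + Fd (Sum.inl q : Ix n) := fun p q => by
    have := Fd_inl_pos' p
    have := Fd_inl_pos' q
    omega
  have posbc : 0 < Fd (Sum.inl b : Ix n) + Fd (Sum.inr c : Ix n) := by
    have e : Fd (Sum.inr c : Ix n) = -Fd (Sum.inl c : Ix n) := by rw [← Fd_neg]; rfl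
    rw [e]; omega
  -- `Zs`
  have Zcomm : ∀ x ∈ C.NN dab, ∀ y ∈ C.NN dab, x * y = y * x := fun x hx y hy => (C.NN_comm dab hx hy).eq
  have Znorm : ∀ v : G, v * v = 1 → (∃ τ lam, R.Sem v τ lam) → ∀ w ∈ C.NN dab, v * w * v ∈ C.NN dab := by
    rintro v vv ⟨τ, lam, hv⟩ _ ⟨p, hp, q, hq, rfl⟩
    have vi : v⁻¹ = v := inv_eq_of_mul_eq_one_left vv
    have e1 := C.D.sem_mem hn hF hv dab hp
    have e2 := C.L.sem_mem hn hF hv (map_zero τ) hq
    refine ⟨_, e1, _, e2, ?_⟩
    rw [vi]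
    calc v * (p * q) * v = v * p * (v * v) * q * v := by rw [vv]; group
      _ = _ := by group
  have Z1NN : R.Z1 a b ≤ C.NN dab := by
    rintro _ ⟨p, q, rfl⟩
    exact mul_mem (C.x_le dab p) (C.y_le dab q)
  have Z1t : ∀ z ∈ R.Z1 a b, z * R.t = R.t * z := by
    rintro _ ⟨p, q, rfl⟩
    exact ((R.x_t _ _ p).mul_left (R.y_t _ q)).eq
  have NNUs : C.NN dab ≤ C.Us := by
    rintro _ ⟨p, hp, q, hq, rfl⟩
    exact mul_mem (C.W_le_Us dab (pos2 a b) hp) (C.V_le_Us (Fd_inl_pos' a) hq)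
  have hcardZ : ∀ v : G, v * v = 1 → (∃ τ lam, R.Sem v τ lam) →
      Nat.card (R.Z1 a b) ≤ Nat.card (C.NN dab ⊓ centralizer ({v} : Set G) : Subgroup G) := by
    intro v vv hv
    have e1 : Nat.card (R.Z1 a b) ≤ Nat.card (C.NN dab ⊓ centralizer ({R.t} : Set G) : Subgroup G) := by
      refine Nat.card_le_card_of_injective (Subgroup.inclusion (le_inf Z1NN fun z hz =>
        mem_centralizer_singleton_iff.2 (Z1t z hz))) (Subgroup.inclusion_injective _)
    have e2 := Out.ZeroDiv.sq_card_le_of_free (C.NN dab) Zcomm R.tt (Znorm R.t R.tt ⟨_, _, Frame.Sem.t⟩)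
      (fun x hx hxt => by
        obtain ⟨m, hm, e⟩ := C.NN_fix dab hx hxt.symm
        exact ⟨m, hm, by rw [e, inv_mul_cancel_left]⟩)
    have e3 := Out.ZeroDiv.card_le_sq (C.NN dab) Zcomm (fun w hw => C.NN_sq dab hw) vv (Znorm v vv hv)
    exact e1.trans ((Nat.pow_le_pow_iff_left (by norm_num)).1 (e2.trans e3))
  have D : Out.FieldEnd.Data R.t s T R.Up C.Us (σ : F →+* F) (R.x (Sum.inl a) (Sum.inl c))
      (R.x (Sum.inl b) (Sum.inr c)) (R.x (Sum.inl a) (Sum.inl b)) (C.D.W (Sum.inl a) (Sum.inl c))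
      (C.D.W (Sum.inl b) (Sum.inr c)) (C.D.W (Sum.inl a) (Sum.inl b)) (C.Mg b c) (R.Z1 a b) (C.NN dab) :=
    { fr := C.fr hn hF h
      pair :=
        { tt := R.tt
          ss := ss
          st := st
          l1 := C.layW hn hF hs dac
          l2 := C.layW hn hF hs dbc'
          l3 := C.layW hn hF hs dab
          comm := fun x hx y hy => by
            have h1 := C.c120 (Sum.inl b) (Sum.inl c) (Sum.inl a) dbc dab.symm dac.symm x
              (by rw [C.D.symm]; exact hx) y hy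
            rw [C.D.symm] at h1
            exact h1
          c13 := fun x hx y hy => (C.c60 _ _ _ dac dab dbc.symm x hx y hy).eq
          c23 := fun x hx y hy => (C.c60 _ _ _ dbc' dab.symm (TU.dj_inl_inr hac).symm x hx y
            (by rw [C.D.symm]; exact hy)).eq
          rel := fun x y => by
            have := R.x_rel' (i := Sum.inl a) (j := Sum.inl c) (k := Sum.inl b) dac dbc.symm dab x y
            rw [neg_inl, R.x_symm (Sum.inr c)] at this
            exact this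
          torus := fun l hl => by
            classical
            let L : Fˣ := Units.mk0 l hl
            refine ⟨R.h (Function.update 1 b L), R.h (Function.update 1 a L), ?_, ?_, ?_, ?_, ?_⟩
            · intro w hw
              have := C.D.torus_one _ _ dac w hw (Function.update 1 b L) (by
                simp [ev, hab, hbc.symm])
              rw [this]; group
            · intro x
              rw [R.h_x]
              congr 1
              simp [ev, hbc.symm, L]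
            · intro w hw
              have := C.D.torus_one _ _ dbc' w hw (Function.update 1 a L) (by
                simp [ev, hab.symm, hac.symm])
              rw [this]; group
            · intro x
              rw [R.h_x]
              congr 1
              simp [ev, hac.symm, L]
            · intro w hw
              have e1 := C.D.torus_one _ _ dab w hw ((Function.update (1 : Fin n → Fˣ) a L)⁻¹ * Function.update (1 : Fin n → Fˣ) b L) (by
                simp [ev, hab, hab.symm, Pi.mul_apply, Pi.inv_apply])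
              rw [map_mul, map_inv] at e1
              calc R.h (Function.update 1 b L) * w * (R.h (Function.update 1 b L))⁻¹ =
                    R.h (Function.update 1 a L) * ((R.h (Function.update 1 a L))⁻¹ *
                      R.h (Function.update 1 b L) * w) * (R.h (Function.update 1 b L))⁻¹ := by group
                _ = _ := by rw [e1]; group }
      htU := C.t_notMem_Us hn hF
      sT := hsT
      sU := fun h1 => hsU ((C.mem_Up_iff hn hF s).2 ⟨h1, st⟩)
      tsU := fun h1 => htsU ((C.mem_Up_iff hn hF _).2 ⟨h1, by rw [mul_assoc, st]⟩)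
      σ2 := σ2
      σ1 := σ1
      W1U := C.W_le_Us dac (pos2 a c)
      W2U := C.W_le_Us dbc' posbc
      W3U := C.W_le_Us dab (pos2 a b)
      MU := C.Mg_le_Us
      c3 := fun w hw u hu => C.W12_central hn ha hb hw hu
      dec := fun u hu => C.dec hn hF ha hb hc hu
      ind := fun w hw hm => C.ind hn ha hb hc hw hm
      tM := fun m hm => by
        have := C.sem_Mg hn hF Frame.Sem.t hm
        rwa [ti] at this
      sM := fun m hm => C.sem_Mg hn hF hs hm
      cM := fun m hm w hw => C.Mg_comm hn ha hb hc hw hm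
      inv := hinv
      ct := fun u hu hi => C.ct hn hF hu hi
      cs := fun u hu hi => C.cv hn hF hs ss σ2 σ1 (Or.inl rfl) hu hi
      cts := fun u hu hi => C.cv hn hF hs ss σ2 σ1 (Or.inr rfl) hu hi
      ZsU := NNUs
      Zc := fun z hz w hw => by
        obtain ⟨p, hp, v, hv, rfl⟩ := hz
        have e1 := C.W12_central hn ha hb hp hw
        have e2 := C.V1_central ha hv hw
        calc p * v * w = p * (v * w) := by group
          _ = (p * w) * v := by rw [e2]; group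
          _ = w * (p * v) := by rw [e1]; group
      k0 := fun z hz g => C.k0 hn hF h ha hb dab hz g
      k0' := fun z hz => by
        obtain ⟨k, -, e⟩ := C.ct hn hF (NNUs (Z1NN hz)) (by
          have e1 := Z1t z hz
          have e2 := C.NN_sq dab (Z1NN hz)
          calc R.t * z * (R.t * z) = R.t * (z * R.t) * z := by group
            _ = (R.t * R.t) * (z * z) := by rw [e1]; group
            _ = 1 := by rw [R.tt, e2, one_mul])
        exact ⟨k⁻¹, by rw [e, inv_inv]⟩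
      hcard := hcardZ s ss ⟨_, _, hs⟩
      hcard' := hcardZ _ tsts ⟨_, _, hts⟩
      k1 := h.k1 hn hsT hs σ1 ha hb
      k2 := h.k2 ha hb
      k3 := R.k3 }
  exact D.not_mem_commutator

end CC

end Cfsg.Agent.OddHalf.SpN
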