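import Mathlib
import Cfsg.Agent.GTwoFour.TransferTL

/-!
# Free series and field automorphisms

`FreeSer s Q`: `Q` has a series of `s`-invariant subgroups with factors on which `s` acts freely
(`H¹ = Ĥ⁰ = 0`).  Then all the involutions of `Q s` are `Q`-conjugate to `s` and `|C_Q(s)|² = |Q|`.

`false_of_partial`: if `S = Q C_S(t)`, `S / Q` is abelian, `Q` is free for all the involutions of `S` outside
`Q` and `t Q`, all the extremal conjugates of `t` in `t Q` are `S`-conjugate to `t`, and `|C_Q(t)|² ≠ |Q|`, then `G`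
is not perfect.
-/

set_option autoImplicit false

namespace Cfsg.Agent.OddHalf.SpN

open Subgroup

variable {G : Type*} [Group G]

/-- `Q` has a series with factors on which `s` acts freely. -/
inductive FreeSer (s : G) : Subgroup G → Prop
  | bot : FreeSer s ⊥
  | step {A B : Subgroup G} (hB : FreeSer s B) (hBA : B ≤ A)
      (hn : ∀ a ∈ A, ∀ b ∈ B, a * b * a⁻¹ ∈ B)
      (hsA : ∀ a ∈ A, s * a * s⁻¹ ∈ A) (hsB : ∀ b ∈ B, s * b * s⁻¹ ∈ B)
      (h1 : ∀ a ∈ A, a * (s * a * s⁻¹) ∈ B → ∃ r ∈ A, (r * (s * r⁻¹ * s⁻¹))⁻¹ * a ∈ B)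
      (hcard : Nat.card {x : G // x ∈ A ∧ x⁻¹ * (s * x * s⁻¹) ∈ B} ^ 2 =
        Nat.card A * Nat.card B) : FreeSer s A

theorem FreeSer.inv {s : G} {Q : Subgroup G} (h : FreeSer s Q) : ∀ a ∈ Q, s * a * s⁻¹ ∈ Q := by
  cases h with
  | bot => intro a ha; rw [mem_bot] at ha ⊢; rw [ha]; group
  | step hB hBA hn hsA hsB h1 hcard => exact hsA

/-- cocycles are coboundaries -/
theorem FreeSer.exists_eq {s : G} (hs : s * s = 1) {Q : Subgroup G} (h : FreeSer s Q) :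
    ∀ a ∈ Q, a * (s * a * s⁻¹) = 1 → ∃ r ∈ Q, a = r * (s * r⁻¹ * s⁻¹) := by
  induction h with
  | bot =>
    intro a ha _
    refine ⟨1, one_mem _, ?_⟩
    rw [mem_bot] at ha
    rw [ha]; group
  | @step A B hB hBA hn hsA hsB h1 hcard ih =>
    intro a ha hc
    obtain ⟨r, hr, hrB⟩ := h1 a ha (by rw [hc]; exact one_mem _)
    -- `a = r s(r)⁻¹ b`
    obtain ⟨b, hb, hab⟩ : ∃ b ∈ B, a = r * (s * r⁻¹ * s⁻¹) * b := ⟨_, hrB, by group⟩
    have hsinv : s⁻¹ = s := inv_eq_of_mul_eq_one_left hs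
    -- `b' = s(r)⁻¹ b s(r)`
    set b' := (s * r * s⁻¹)⁻¹ * b * (s * r * s⁻¹) with hb'
    have hb'B : b' ∈ B := by
      have := hn (s * r * s⁻¹)⁻¹ (inv_mem (hsA r hr)) b hb
      rwa [inv_inv] at this
    have hab' : a = r * b' * (s * r⁻¹ * s⁻¹) := by rw [hab, hb']; group
    have hc' : b' * (s * b' * s⁻¹) = 1 := by
      have e : a * (s * a * s⁻¹) = r * (b' * (s * b' * s⁻¹)) * r⁻¹ := by
        rw [hab']
        have e1 : s * (r * b' * (s * r⁻¹ * s⁻¹)) * s⁻¹ = s * r * b' * (s * r⁻¹ * (s⁻¹ * s⁻¹)) := by group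
        rw [e1]
        have e2 : s⁻¹ * s⁻¹ = 1 := by rw [← mul_inv_rev, hs, inv_one]
        have e3 : s * r * b' * (s * r⁻¹ * 1) = s * r * b' * s⁻¹ * r⁻¹ := by rw [hsinv]; group
        rw [e2, e3]
        group
      rw [e] at hc
      have : b' * (s * b' * s⁻¹) = r⁻¹ * (r * (b' * (s * b' * s⁻¹)) * r⁻¹) * r := by group
      rw [this, hc]; group
    obtain ⟨c, hcB, hce⟩ := ih b' hb'B hc'
    refine ⟨r * c, mul_mem hr (hBA hcB), ?_⟩
    rw [hab', hce]
    group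

/-- all the involutions of `Q s` are `Q`-conjugate to `s` -/
theorem FreeSer.exists_conj {s : G} (hs : s * s = 1) {Q : Subgroup G} (h : FreeSer s Q) {u : G}
    (hu : u * u = 1) (huQ : u * s⁻¹ ∈ Q) : ∃ r ∈ Q, u = r * s * r⁻¹ := by
  have hsinv : s⁻¹ = s := inv_eq_of_mul_eq_one_left hs
  obtain ⟨r, hr, he⟩ := h.exists_eq hs (u * s⁻¹) huQ (by
    have : u * s⁻¹ * (s * (u * s⁻¹) * s⁻¹) = u * u * (s⁻¹ * s⁻¹) := by group
    rw [this, hu, ← mul_inv_rev, hs]; group)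
  refine ⟨r, hr, ?_⟩
  have : u = u * s⁻¹ * s := by group
  rw [this, he]
  rw [hsinv]
  have e : r * (s * r⁻¹ * s) * s = r * s * r⁻¹ * (s * s) := by group
  rw [e, hs, mul_one]

/-- the centralizer covers -/
theorem FreeSer.exists_comm {s : G} (hs : s * s = 1) {Q : Subgroup G} (h : FreeSer s Q) {g : G}
    (hg : g⁻¹ * (s * g * s⁻¹) ∈ Q) : ∃ r ∈ Q, (g * r) * s = s * (g * r) := by
  obtain ⟨r, hr, he⟩ := h.exists_eq hs (g⁻¹ * (s * g * s⁻¹)) hg (by
    have e2 : s⁻¹ * s⁻¹ = 1 := by rw [← mul_inv_rev, hs, inv_one]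
    have : g⁻¹ * (s * g * s⁻¹) * (s * (g⁻¹ * (s * g * s⁻¹)) * s⁻¹) =
      g⁻¹ * s * s * g * (s⁻¹ * s⁻¹) := by group
    rw [this, e2, mul_assoc g⁻¹ s s, hs]; group)
  refine ⟨r, hr, ?_⟩
  -- g⁻¹ s g s⁻¹ = r s r⁻¹ s⁻¹
  have h1 : g⁻¹ * s * g = r * s * r⁻¹ := by
    have := congrArg (fun x => x * s) he
    change g⁻¹ * (s * g * s⁻¹) * s = r * (s * r⁻¹ * s⁻¹) * s at this
    have e1 : g⁻¹ * (s * g * s⁻¹) * s = g⁻¹ * s * g := by group
    have e2 : r * (s * r⁻¹ * s⁻¹) * s = r * s * r⁻¹ := by group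
    rw [e1, e2] at this
    exact this
  have h2 : s * g = g * r * s * r⁻¹ := by
    have : s * g = g * (g⁻¹ * s * g) := by group
    rw [this, h1]; group
  calc g * r * s = g * r * s * r⁻¹ * r := by group
    _ = s * g * r := by rw [h2]
    _ = s * (g * r) := by group

/-- the product formula -/
theorem card_mul_card [Finite G] {B C D : Subgroup G} (hBC : B ≤ C) (hDC : D ≤ C)
    (hn : C ≤ normalizer (B : Set G)) (h : C = B ⊔ D) :
    Nat.card C * Nat.card (B ⊓ D : Subgroup G) = Nat.card B * Nat.card D := by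
  have hBn : (B.subgroupOf C).Normal := normal_subgroupOf_of_le_normalizer hn
  have e0 : D.subgroupOf C ⊔ B.subgroupOf C = ⊤ := by
    apply map_injective C.subtype_injective
    rw [Subgroup.map_sup, subgroupOf_map_subtype, subgroupOf_map_subtype, inf_eq_left.2 hBC,
      inf_eq_left.2 hDC, ← MonoidHom.range_eq_map, C.range_subtype, sup_comm, ← h]
  have e1 : (B.subgroupOf C).relIndex (D.subgroupOf C) = (B.subgroupOf C).index := by
    rw [← relIndex_sup_right, e0, relIndex_top_right]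
  have e2 : B.relIndex D = B.relIndex C := by
    rw [← relIndex_subgroupOf hDC]
    exact e1
  have e3 : Nat.card B * B.relIndex C = Nat.card C := by
    rw [← relIndex_bot_left, relIndex_mul_relIndex _ _ _ bot_le hBC, relIndex_bot_left]
  have e4 : Nat.card (B ⊓ D : Subgroup G) * B.relIndex D = Nat.card D := by
    rw [← inf_relIndex_right B D, ← relIndex_bot_left (B ⊓ D), relIndex_mul_relIndex _ _ _ bot_le inf_le_right,
      relIndex_bot_left]
  rw [← e3, ← e4, e2]; ring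

/-- `|C_Q(s)|² = |Q|` -/
theorem FreeSer.card_sq [Finite G] {s : G} (hs : s * s = 1) {Q : Subgroup G} (h : FreeSer s Q) :
    Nat.card (Q ⊓ centralizer ({s} : Set G) : Subgroup G) ^ 2 = Nat.card Q := by
  induction h with
  | bot => simp
  | @step A B hB hBA hn hsA hsB h1 hcard ih =>
    -- the group `C = {x ∈ A | [x,s] ∈ B}` is `B C_A(s)`
    have hsinv : s⁻¹ = s := inv_eq_of_mul_eq_one_left hs
    let C : Subgroup G :=
      { carrier := {x | x ∈ A ∧ x⁻¹ * (s * x * s⁻¹) ∈ B}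
        one_mem' := ⟨one_mem _, by simp⟩
        mul_mem' := by
          rintro x y ⟨hx, hx'⟩ ⟨hy, hy'⟩
          refine ⟨mul_mem hx hy, ?_⟩
          have e : (x * y)⁻¹ * (s * (x * y) * s⁻¹) =
              (y⁻¹ * (x⁻¹ * (s * x * s⁻¹)) * y⁻¹⁻¹) * (y⁻¹ * (s * y * s⁻¹)) := by group
          rw [e]
          exact mul_mem (hn y⁻¹ (inv_mem hy) _ hx') hy'
        inv_mem' := by
          rintro x ⟨hx, hx'⟩
          refine ⟨inv_mem hx, ?_⟩
          have e : x⁻¹⁻¹ * (s * x⁻¹ * s⁻¹) = x * (x⁻¹ * (s * x * s⁻¹))⁻¹ * x⁻¹ := by group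
          rw [e]
          exact hn x hx _ (inv_mem hx') }
    have hC : Nat.card C ^ 2 = Nat.card A * Nat.card B := hcard
    set D := A ⊓ centralizer ({s} : Set G) with hD
    have hDC : D ≤ C := by
      rintro x ⟨hx, hx'⟩
      refine ⟨hx, ?_⟩
      have hx'' : x * s = s * x := mem_centralizer_singleton_iff.1 hx'
      have : x⁻¹ * (s * x * s⁻¹) = 1 := by rw [← hx'']; group
      rw [this]; exact one_mem _
    have hBC : B ≤ C := by
      intro x hx
      exact ⟨hBA hx, mul_mem (inv_mem hx) (hsB x hx)⟩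
    have hBn : B ≤ C ∧ C ≤ normalizer (B : Set G) := by
      refine ⟨hBC, ?_⟩
      intro x hx
      rw [mem_normalizer_iff]
      intro y
      constructor
      · exact fun hy => hn x hx.1 y hy
      · intro hy
        have := hn x⁻¹ (inv_mem hx.1) _ hy
        have e : x⁻¹ * (x * y * x⁻¹) * x⁻¹⁻¹ = y := by group
        rwa [e] at this
    have hcov : C = B ⊔ D := by
      apply le_antisymm
      · intro x hx
        obtain ⟨r, hr, he⟩ := hB.exists_comm hs (g := x) hx.2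
        have h2 : x * r ∈ D := ⟨mul_mem hx.1 (hBA hr), mem_centralizer_singleton_iff.2 he⟩
        have : x = (x * r) * r⁻¹ := by group
        rw [this]
        exact mul_mem (mem_sup_right h2) (mem_sup_left (inv_mem hr))
      · exact sup_le hBC hDC
    have hBD : B ⊓ D = B ⊓ centralizer ({s} : Set G) := by
      rw [hD, ← inf_assoc, inf_eq_left.2 hBA]
    -- |C| * |B ∩ D| = |B| * |D|
    have hmul : Nat.card C * Nat.card (B ⊓ D : Subgroup G) = Nat.card B * Nat.card D :=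
      card_mul_card hBC hDC hBn.2 hcov
    rw [hBD] at hmul
    have hB0 : 0 < Nat.card B := Nat.card_pos
    have h3 : (Nat.card C * Nat.card (B ⊓ centralizer ({s} : Set G) : Subgroup G)) ^ 2 =
        (Nat.card B * Nat.card D) ^ 2 := by rw [hmul]
    rw [mul_pow, mul_pow, hC, ih] at h3
    have h4 : Nat.card B ^ 2 * Nat.card A = Nat.card B ^ 2 * Nat.card D ^ 2 := by
      rw [← h3]; ring
    exact (Nat.eq_of_mul_eq_mul_left (pow_pos hB0 2) h4).symm

/-- `|C_S(s)| = |C_Q(s)| |S / Q|` if `s` centralises `S / Q` -/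
theorem FreeSer.card_cover [Finite G] {s : G} (hs : s * s = 1) {Q S : Subgroup G} (h : FreeSer s Q) (hQS : Q ≤ S)
    (hn : S ≤ normalizer (Q : Set G)) (hc : ∀ g ∈ S, g⁻¹ * (s * g * s⁻¹) ∈ Q) :
    Nat.card (S ⊓ centralizer ({s} : Set G) : Subgroup G) * Nat.card Q =
      Nat.card S * Nat.card (Q ⊓ centralizer ({s} : Set G) : Subgroup G) := by
  have h1 : S = Q ⊔ (S ⊓ centralizer ({s} : Set G)) := by
    apply le_antisymm
    · intro x hx
      obtain ⟨r, hr, he⟩ := h.exists_comm hs (g := x) (hc x hx)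
      have h2 : x * r ∈ S ⊓ centralizer ({s} : Set G) :=
        ⟨mul_mem hx (hQS hr), mem_centralizer_singleton_iff.2 he⟩
      have : x = (x * r) * r⁻¹ := by group
      rw [this]
      exact mul_mem (mem_sup_right h2) (mem_sup_left (inv_mem hr))
    · exact sup_le hQS inf_le_left
  have h2 := card_mul_card hQS (inf_le_left : S ⊓ centralizer ({s} : Set G) ≤ S) hn h1
  have h3 : Q ⊓ (S ⊓ centralizer ({s} : Set G)) = Q ⊓ centralizer ({s} : Set G) := by
    rw [← inf_assoc, inf_eq_left.2 hQS]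
  rw [h3] at h2
  rw [h2, mul_comm]

/-- an elementary abelian factor `V` with `C_V(s) = [V, s]` -/
theorem level_of_module [Finite G] {V : Type*} [AddCommGroup V] [Finite V] (h2V : ∀ x : V, x + x = 0) {σ : V →+ V}
    (hσ : ∀ x, σ (σ x) = x) (htr : ∀ x, σ x = x → ∃ y, x = y + σ y) {s : G} {A B : Subgroup G}
    (hBA : B ≤ A) (hsA : ∀ a ∈ A, s * a * s⁻¹ ∈ A)
    (π : A →* Multiplicative V) (hπ : Function.Surjective π) (hker : ∀ a : A, π a = 1 ↔ (a : G) ∈ B)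
    (hπs : ∀ a : A, (π ⟨s * a * s⁻¹, hsA a a.2⟩).toAdd = σ (π a).toAdd) :
    (∀ b ∈ B, s * b * s⁻¹ ∈ B) ∧
    (∀ a ∈ A, a * (s * a * s⁻¹) ∈ B → ∃ r ∈ A, (r * (s * r⁻¹ * s⁻¹))⁻¹ * a ∈ B) ∧
    Nat.card {x : G // x ∈ A ∧ x⁻¹ * (s * x * s⁻¹) ∈ B} ^ 2 = Nat.card A * Nat.card B := by
  classical
  have hneg : ∀ x : V, -x = x := fun x => neg_eq_of_add_eq_zero_left (h2V x)
  have htr' : ∀ x : V, x + σ x = 0 → ∃ y : V, x = y + σ y := by
    intro x hx
    apply htr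
    rw [add_eq_zero_iff_eq_neg, hneg] at hx
    exact hx.symm
  have hsB : ∀ b ∈ B, s * b * s⁻¹ ∈ B := by
    intro b hb
    have h1 := hπs ⟨b, hBA hb⟩
    rw [(hker ⟨b, hBA hb⟩).2 hb] at h1
    have h2 : (π ⟨s * b * s⁻¹, hsA b (hBA hb)⟩) = 1 := by
      apply Multiplicative.toAdd.injective
      rw [h1]
      exact map_zero σ
    exact (hker _).1 h2
  refine ⟨hsB, ?_, ?_⟩
  · intro a ha h
    have h1 : (π ⟨a * (s * a * s⁻¹), mul_mem ha (hsA a ha)⟩) = 1 := (hker _).2 h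
    have h2 : (⟨a * (s * a * s⁻¹), mul_mem ha (hsA a ha)⟩ : A) = ⟨a, ha⟩ * ⟨s * a * s⁻¹, hsA a ha⟩ := rfl
    rw [h2, map_mul] at h1
    have h3 : (π ⟨a, ha⟩).toAdd + σ (π ⟨a, ha⟩).toAdd = 0 := by
      rw [← hπs ⟨a, ha⟩, ← toAdd_mul, h1]
      rfl
    obtain ⟨y, hy⟩ := htr' _ h3
    obtain ⟨r, hr⟩ := hπ (Multiplicative.ofAdd y)
    refine ⟨r, r.2, ?_⟩
    have hm : ((r : G) * (s * (r : G)⁻¹ * s⁻¹))⁻¹ * a ∈ A := by
      refine mul_mem (inv_mem (mul_mem r.2 ?_)) ha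
      exact hsA _ (inv_mem r.2)
    rw [← hker ⟨_, hm⟩]
    have e : (⟨((r : G) * (s * (r : G)⁻¹ * s⁻¹))⁻¹ * a, hm⟩ : A) =
        (r * ⟨s * (r : G) * s⁻¹, hsA r r.2⟩⁻¹)⁻¹ * ⟨a, ha⟩ := by
      apply Subtype.ext
      change ((r : G) * (s * (r : G)⁻¹ * s⁻¹))⁻¹ * a = ((r : G) * (s * (r : G) * s⁻¹)⁻¹)⁻¹ * a
      group
    rw [e, map_mul, map_inv, map_mul, map_inv]
    apply Multiplicative.toAdd.injective
    rw [toAdd_mul, toAdd_inv, toAdd_mul, toAdd_inv, hπs r, hy, hr]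
    change -(y + -σ y) + (y + σ y) = 0
    rw [hneg, hneg]
    exact h2V _
  · -- cardinality
    let θ : V →+ V := AddMonoidHom.id V + σ
    have hθ : ∀ x, θ x = x + σ x := fun x => rfl
    have hker' : θ.ker = θ.range := by
      ext x
      rw [AddMonoidHom.mem_ker, AddMonoidHom.mem_range, hθ]
      constructor
      · intro hx
        obtain ⟨y, hy⟩ := htr' x hx
        exact ⟨y, hy.symm⟩
      · rintro ⟨y, rfl⟩
        rw [hθ, map_add, hσ, add_comm (σ y) y]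
        exact h2V _
    have e3 : Nat.card θ.ker ^ 2 = Nat.card V := by
      have h1 := AddSubgroup.card_eq_card_quotient_mul_card_addSubgroup θ.ker
      have h2 : Nat.card (V ⧸ θ.ker) = Nat.card θ.range :=
        Nat.card_congr (QuotientAddGroup.quotientKerEquivRange θ).toEquiv
      rw [h1, h2, ← hker', pow_two]
    have hkerB : Nat.card π.ker = Nat.card B := by
      have h1 : π.ker = B.subgroupOf A := by
        ext a
        rw [MonoidHom.mem_ker, hker a, mem_subgroupOf]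
      rw [h1]
      exact Nat.card_congr (subgroupOfEquivOfLe hBA).toEquiv
    have e2 : Nat.card A = Nat.card V * Nat.card B := by
      have h1 := π.ker.card_eq_card_quotient_mul_card_subgroup
      have h2 : Nat.card (A ⧸ π.ker) = Nat.card V := by
        rw [Nat.card_congr (QuotientGroup.quotientKerEquivOfSurjective π hπ).toEquiv]
        exact Nat.card_congr Multiplicative.toAdd
      rw [h1, h2, hkerB]
    have e1 : Nat.card {x : G // x ∈ A ∧ x⁻¹ * (s * x * s⁻¹) ∈ B} = Nat.card θ.ker * Nat.card B := by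
      let M : Subgroup (Multiplicative V) := AddSubgroup.toSubgroup θ.ker
      have hM : ∀ x, x ∈ M ↔ x.toAdd ∈ θ.ker := fun x => Iff.rfl
      have h1 : Nat.card {x : G // x ∈ A ∧ x⁻¹ * (s * x * s⁻¹) ∈ B} = Nat.card (M.comap π) := by
        apply Nat.card_congr
        refine
          { toFun := fun x => ⟨⟨x.1, x.2.1⟩, ?_⟩
            invFun := fun x => ⟨x.1.1, x.1.2, ?_⟩
            left_inv := fun x => rfl
            right_inv := fun x => rfl }
        · rw [mem_comap, hM, AddMonoidHom.mem_ker, hθ, ← hπs ⟨x.1, x.2.1⟩]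
          have h2 : (⟨x.1⁻¹ * (s * x.1 * s⁻¹), mul_mem (inv_mem x.2.1) (hsA _ x.2.1)⟩ : A) =
            (⟨x.1, x.2.1⟩ : A)⁻¹ * ⟨s * x.1 * s⁻¹, hsA _ x.2.1⟩ := rfl
          have h3 := (hker (⟨x.1⁻¹ * (s * x.1 * s⁻¹), mul_mem (inv_mem x.2.1) (hsA _ x.2.1)⟩ : A)).2 x.2.2
          rw [h2, map_mul, map_inv] at h3
          have h4 : -(π ⟨x.1, x.2.1⟩).toAdd + (π ⟨s * x.1 * s⁻¹, hsA _ x.2.1⟩).toAdd = 0 :=
            congrArg Multiplicative.toAdd h3
          rwa [hneg] at h4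
        · have h5 := x.2
          rw [mem_comap, hM, AddMonoidHom.mem_ker, hθ, ← hπs x.1] at h5
          rw [← hneg (π x.1).toAdd] at h5
          have h2 : (⟨x.1.1⁻¹ * (s * x.1.1 * s⁻¹), mul_mem (inv_mem x.1.2) (hsA _ x.1.2)⟩ : A) =
            (x.1 : A)⁻¹ * ⟨s * x.1.1 * s⁻¹, hsA _ x.1.2⟩ := rfl
          refine (hker (⟨x.1.1⁻¹ * (s * x.1.1 * s⁻¹), mul_mem (inv_mem x.1.2) (hsA _ x.1.2)⟩ : A)).1 ?_
          rw [h2, map_mul, map_inv]
          exact Multiplicative.toAdd.injective h5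
      rw [h1]
      have h6 := (M.comap π).card_mul_index
      rw [index_comap_of_surjective M hπ, e2] at h6
      have h7 := M.card_mul_index
      have h8 : Nat.card (Multiplicative V) = Nat.card V := Nat.card_congr Multiplicative.toAdd
      have h9 : Nat.card M = Nat.card θ.ker := rfl
      have h10 : 0 < M.index := Nat.pos_of_ne_zero M.index_ne_zero_of_finite
      rw [h8, h9] at h7
      rw [← h7] at h6
      have h11 : Nat.card (M.comap π) * M.index = (Nat.card θ.ker * Nat.card B) * M.index := by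
        rw [h6]; ring
      exact Nat.eq_of_mul_eq_mul_right h10 h11
    rw [e1, e2, mul_pow, e3]; ring

/-- an elementary abelian factor `V` with `C_V(s) = [V, s]` -/
theorem FreeSer.module [Finite G] {V : Type*} [AddCommGroup V] [Finite V] (h2V : ∀ x : V, x + x = 0) {σ : V →+ V}
    (hσ : ∀ x, σ (σ x) = x) (htr : ∀ x, σ x = x → ∃ y, x = y + σ y) {s : G} {A B : Subgroup G} (hB : FreeSer s B)
    (hBA : B ≤ A) (hn : ∀ a ∈ A, ∀ b ∈ B, a * b * a⁻¹ ∈ B) (hsA : ∀ a ∈ A, s * a * s⁻¹ ∈ A)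
    (π : A →* Multiplicative V) (hπ : Function.Surjective π) (hker : ∀ a : A, π a = 1 ↔ (a : G) ∈ B)
    (hπs : ∀ a : A, (π ⟨s * a * s⁻¹, hsA a a.2⟩).toAdd = σ (π a).toAdd) : FreeSer s A := by
  obtain ⟨hsB, h1, h2⟩ := level_of_module h2V hσ htr hBA hsA π hπ hker hπs
  exact FreeSer.step hB hBA hn hsA hsB h1 h2

/-- the trace of a field involution in characteristic two -/
theorem exists_trace {F : Type*} [Field F] [CharP F 2] {σ : F ≃+* F} (hσ : ∀ x, σ (σ x) = x)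
    (hσ1 : ∃ x, σ x ≠ x) (x : F) (hx : σ x = x) : ∃ y : F, x = y + σ y := by
  obtain ⟨y, hy⟩ := hσ1
  have hy0 : y + σ y ≠ 0 := by
    intro h
    apply hy
    rw [add_eq_zero_iff_eq_neg, CharTwo.neg_eq] at h
    exact h.symm
  refine ⟨x * (y + σ y)⁻¹ * y, ?_⟩
  have h1 : σ (y + σ y) = y + σ y := by rw [map_add, hσ, add_comm]
  rw [map_mul, map_mul, map_inv₀, h1, hx]
  field_simp

/-- a factor which is the additive group of a field with the action of a field involution -/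
theorem FreeSer.line [Finite G] {F : Type*} [Field F] [CharP F 2] [Finite F] {σ : F ≃+* F} (hσ : ∀ x, σ (σ x) = x)
    (hσ1 : ∃ x, σ x ≠ x) {s : G} {A B : Subgroup G} (hB : FreeSer s B) (hBA : B ≤ A)
    (hn : ∀ a ∈ A, ∀ b ∈ B, a * b * a⁻¹ ∈ B) (hsA : ∀ a ∈ A, s * a * s⁻¹ ∈ A)
    (π : A →* Multiplicative F) (hπ : Function.Surjective π) (hker : ∀ a : A, π a = 1 ↔ (a : G) ∈ B)
    (hπs : ∀ a : A, (π ⟨s * a * s⁻¹, hsA a a.2⟩).toAdd = σ (π a).toAdd) : FreeSer s A :=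
  hB.module (σ := (σ : F →+ F)) CharTwo.add_self_eq_zero hσ (exists_trace hσ hσ1) hBA hn hsA π hπ hker hπs

/-- a factor which is a vector space with a semilinear involution -/
theorem FreeSer.semi [Finite G] {F V : Type*} [Field F] [CharP F 2] [AddCommGroup V] [Module F V] [Finite V]
    {σ : F ≃+* F} (hσ : ∀ x, σ (σ x) = x) (hσ1 : ∃ x, σ x ≠ x) {τ : V →+ V} (hτ : ∀ x, τ (τ x) = x)
    (hτσ : ∀ (c : F) (x : V), τ (c • x) = σ c • τ x) {s : G} {A B : Subgroup G} (hB : FreeSer s B)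
    (hBA : B ≤ A) (hn : ∀ a ∈ A, ∀ b ∈ B, a * b * a⁻¹ ∈ B) (hsA : ∀ a ∈ A, s * a * s⁻¹ ∈ A)
    (π : A →* Multiplicative V) (hπ : Function.Surjective π) (hker : ∀ a : A, π a = 1 ↔ (a : G) ∈ B)
    (hπs : ∀ a : A, (π ⟨s * a * s⁻¹, hsA a a.2⟩).toAdd = τ (π a).toAdd) : FreeSer s A := by
  obtain ⟨c, hc⟩ := exists_trace hσ hσ1 1 (map_one σ)
  have h2V : ∀ x : V, x + x = 0 := by
    intro x
    rw [← two_smul F x, show (2 : F) = 0 from CharTwo.two_eq_zero, zero_smul]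
  refine hB.module (σ := τ) h2V hτ ?_ hBA hn hsA π hπ hker hπs
  intro x hx
  refine ⟨c • x, ?_⟩
  rw [hτσ, hx, ← add_smul, ← hc, one_smul]

/-- `A` has a series of `s`-invariant subgroups with factors centralised by `Q` on which `s` acts freely -/
inductive FreeC (s : G) (Q : Subgroup G) : Subgroup G → Prop
  | bot : FreeC s Q ⊥
  | step {A B : Subgroup G} (hB : FreeC s Q B) (hBA : B ≤ A) (hAQ : A ≤ Q)
      (hc : ∀ g ∈ Q, ∀ a ∈ A, a⁻¹ * (g * a * g⁻¹) ∈ B)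
      (hsA : ∀ a ∈ A, s * a * s⁻¹ ∈ A) (hsB : ∀ b ∈ B, s * b * s⁻¹ ∈ B)
      (h1 : ∀ a ∈ A, a * (s * a * s⁻¹) ∈ B → ∃ r ∈ A, (r * (s * r⁻¹ * s⁻¹))⁻¹ * a ∈ B)
      (hcard : Nat.card {x : G // x ∈ A ∧ x⁻¹ * (s * x * s⁻¹) ∈ B} ^ 2 =
        Nat.card A * Nat.card B) : FreeC s Q A

theorem FreeC.free {s : G} {Q A : Subgroup G} (h : FreeC s Q A) {w : G} (hw : w ∈ Q) : FreeSer (s * w) A := by
  induction h with
  | bot => exact FreeSer.bot
  | @step A B hB hBA hAQ hc hsA hsB h1 hcard ih =>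
    have hcB : ∀ a ∈ A, a⁻¹ * (w * a * w⁻¹) ∈ B := fun a ha => hc w hw a ha
    have hn : ∀ a ∈ A, ∀ b ∈ B, a * b * a⁻¹ ∈ B := by
      intro a ha b hb
      have e : a * b * a⁻¹ = b * (b⁻¹ * (a * b * a⁻¹)) := by group
      rw [e]
      exact mul_mem hb (hc a (hAQ ha) b (hBA hb))
    -- the action of `s w` is the action of `s` modulo `B`
    have key : ∀ a ∈ A, ∃ b ∈ B, s * w * a * (s * w)⁻¹ = s * a * s⁻¹ * b := by
      intro a ha
      refine ⟨s * (a⁻¹ * (w * a * w⁻¹)) * s⁻¹, hsB _ (hcB a ha), ?_⟩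
      group
    have hwA : ∀ a ∈ A, s * w * a * (s * w)⁻¹ ∈ A := by
      intro a ha
      obtain ⟨b, hb, e⟩ := key a ha
      rw [e]
      exact mul_mem (hsA a ha) (hBA hb)
    have hwB : ∀ a ∈ B, s * w * a * (s * w)⁻¹ ∈ B := by
      intro a ha
      obtain ⟨b, hb, e⟩ := key a (hBA ha)
      rw [e]
      exact mul_mem (hsB a ha) hb
    refine FreeSer.step ih hBA hn hwA hwB ?_ ?_
    · intro a ha h
      obtain ⟨b, hb, e⟩ := key a ha
      have h2 : a * (s * a * s⁻¹) ∈ B := by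
        rw [e] at h
        have e2 : a * (s * a * s⁻¹) = a * (s * a * s⁻¹ * b) * b⁻¹ := by group
        rw [e2]
        exact mul_mem h (inv_mem hb)
      obtain ⟨r, hr, hr2⟩ := h1 a ha h2
      refine ⟨r, hr, ?_⟩
      obtain ⟨c, hcB', ec⟩ := key r⁻¹ (inv_mem hr)
      rw [ec]
      have e3 : (r * (s * r⁻¹ * s⁻¹ * c))⁻¹ * a = c⁻¹ * ((r * (s * r⁻¹ * s⁻¹))⁻¹ * a) := by group
      rw [e3]
      exact mul_mem (inv_mem hcB') hr2
    · have e : ∀ x : G, (x ∈ A ∧ x⁻¹ * (s * w * x * (s * w)⁻¹) ∈ B) ↔ (x ∈ A ∧ x⁻¹ * (s * x * s⁻¹) ∈ B) := by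
        intro x
        refine and_congr_right fun hx => ?_
        obtain ⟨b, hb, e⟩ := key x hx
        rw [e]
        constructor
        · intro h
          have e2 : x⁻¹ * (s * x * s⁻¹) = x⁻¹ * (s * x * s⁻¹ * b) * b⁻¹ := by group
          rw [e2]
          exact mul_mem h (inv_mem hb)
        · intro h
          have e2 : x⁻¹ * (s * x * s⁻¹ * b) = x⁻¹ * (s * x * s⁻¹) * b := by group
          rw [e2]
          exact mul_mem h hb
      rw [← hcard]
      congr 1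
      exact Nat.card_congr (Equiv.subtypeEquivRight e)

/-- a factor centralised by `Q` which is an elementary abelian group `V` with `C_V(s) = [V, s]` -/
theorem FreeC.module [Finite G] {V : Type*} [AddCommGroup V] [Finite V] (h2V : ∀ x : V, x + x = 0) {σ : V →+ V}
    (hσ : ∀ x, σ (σ x) = x) (htr : ∀ x, σ x = x → ∃ y, x = y + σ y) {s : G} {Q A B : Subgroup G} (hB : FreeC s Q B)
    (hBA : B ≤ A) (hAQ : A ≤ Q) (hc : ∀ g ∈ Q, ∀ a ∈ A, a⁻¹ * (g * a * g⁻¹) ∈ B) (hsA : ∀ a ∈ A, s * a * s⁻¹ ∈ A)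
    (π : A →* Multiplicative V) (hπ : Function.Surjective π) (hker : ∀ a : A, π a = 1 ↔ (a : G) ∈ B)
    (hπs : ∀ a : A, (π ⟨s * a * s⁻¹, hsA a a.2⟩).toAdd = σ (π a).toAdd) : FreeC s Q A := by
  obtain ⟨hsB, h1, h2⟩ := level_of_module h2V hσ htr hBA hsA π hπ hker hπs
  exact FreeC.step hB hBA hAQ hc hsA hsB h1 h2

/-- a factor centralised by `Q` which is the additive group of a field with the action of a field involution -/
theorem FreeC.line [Finite G] {F : Type*} [Field F] [CharP F 2] [Finite F] {σ : F ≃+* F} (hσ : ∀ x, σ (σ x) = x)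
    (hσ1 : ∃ x, σ x ≠ x) {s : G} {Q A B : Subgroup G} (hB : FreeC s Q B) (hBA : B ≤ A) (hAQ : A ≤ Q)
    (hc : ∀ g ∈ Q, ∀ a ∈ A, a⁻¹ * (g * a * g⁻¹) ∈ B) (hsA : ∀ a ∈ A, s * a * s⁻¹ ∈ A)
    (π : A →* Multiplicative F) (hπ : Function.Surjective π) (hker : ∀ a : A, π a = 1 ↔ (a : G) ∈ B)
    (hπs : ∀ a : A, (π ⟨s * a * s⁻¹, hsA a a.2⟩).toAdd = σ (π a).toAdd) : FreeC s Q A :=
  hB.module (σ := (σ : F →+ F)) CharTwo.add_self_eq_zero hσ (exists_trace hσ hσ1) hBA hAQ hc hsA π hπ hker hπs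

/-- a factor centralised by `Q` which is a vector space with a semilinear involution -/
theorem FreeC.semi [Finite G] {F V : Type*} [Field F] [CharP F 2] [AddCommGroup V] [Module F V] [Finite V]
    {σ : F ≃+* F} (hσ : ∀ x, σ (σ x) = x) (hσ1 : ∃ x, σ x ≠ x) {τ : V →+ V} (hτ : ∀ x, τ (τ x) = x)
    (hτσ : ∀ (c : F) (x : V), τ (c • x) = σ c • τ x) {s : G} {Q A B : Subgroup G} (hB : FreeC s Q B)
    (hBA : B ≤ A) (hAQ : A ≤ Q) (hc : ∀ g ∈ Q, ∀ a ∈ A, a⁻¹ * (g * a * g⁻¹) ∈ B) (hsA : ∀ a ∈ A, s * a * s⁻¹ ∈ A)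
    (π : A →* Multiplicative V) (hπ : Function.Surjective π) (hker : ∀ a : A, π a = 1 ↔ (a : G) ∈ B)
    (hπs : ∀ a : A, (π ⟨s * a * s⁻¹, hsA a a.2⟩).toAdd = τ (π a).toAdd) : FreeC s Q A := by
  obtain ⟨c, hc'⟩ := exists_trace hσ hσ1 1 (map_one σ)
  have h2V : ∀ x : V, x + x = 0 := by
    intro x
    rw [← two_smul F x, show (2 : F) = 0 from CharTwo.two_eq_zero, zero_smul]
  refine hB.module (σ := τ) h2V hτ ?_ hBA hAQ hc hsA π hπ hker hπs
  intro x hx
  refine ⟨c • x, ?_⟩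
  rw [hτσ, hx, ← add_smul, ← hc', one_smul]

/-- extremal conjugates have centralizers of the same order in the `2`-group `S` -/
theorem card_eq_of_odd [Finite G] {S : Subgroup G} (hS : IsPGroup 2 S) {t g : G}
    (h1 : Odd (S.relIndex (centralizer ({t} : Set G))))
    (h2 : Odd (S.relIndex (centralizer ({g⁻¹ * t * g} : Set G)))) :
    Nat.card (S ⊓ centralizer ({t} : Set G) : Subgroup G) =
      Nat.card (S ⊓ centralizer ({g⁻¹ * t * g} : Set G) : Subgroup G) := by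
  have key : ∀ C : Subgroup G, Nat.card (S ⊓ C : Subgroup G) * S.relIndex C = Nat.card C := by
    intro C
    rw [← inf_relIndex_right S C, ← relIndex_bot_left (S ⊓ C), relIndex_mul_relIndex _ _ _ bot_le inf_le_right,
      relIndex_bot_left]
  have hcard : Nat.card (centralizer ({g⁻¹ * t * g} : Set G)) = Nat.card (centralizer ({t} : Set G)) := by
    have e : (centralizer ({g⁻¹ * t * g} : Set G)).map (MulAut.conj g).toMonoidHom = centralizer ({t} : Set G) := by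
      ext x
      rw [mem_map_equiv, mem_centralizer_singleton_iff, mem_centralizer_singleton_iff, MulAut.conj_symm_apply]
      constructor
      · intro h
        calc x * t = g * (g⁻¹ * x * g * (g⁻¹ * t * g)) * g⁻¹ := by group
          _ = g * ((g⁻¹ * t * g) * (g⁻¹ * x * g)) * g⁻¹ := by rw [h]
          _ = t * x := by group
      · intro h
        calc g⁻¹ * x * g * (g⁻¹ * t * g) = g⁻¹ * (x * t) * g := by group
          _ = g⁻¹ * (t * x) * g := by rw [h]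
          _ = (g⁻¹ * t * g) * (g⁻¹ * x * g) := by group
    rw [← e]
    exact Nat.card_congr (Subgroup.equivMapOfInjective _ _ (MulAut.conj g).injective).toEquiv
  have k1 := key (centralizer ({t} : Set G))
  have k2 := key (centralizer ({g⁻¹ * t * g} : Set G))
  rw [hcard, ← k1] at k2
  obtain ⟨a, ha⟩ := IsPGroup.iff_card.1 (hS.to_le (inf_le_left : S ⊓ centralizer ({t} : Set G) ≤ S))
  obtain ⟨b, hb⟩ := IsPGroup.iff_card.1 (hS.to_le (inf_le_left : S ⊓ centralizer ({g⁻¹ * t * g} : Set G) ≤ S))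
  rw [ha, hb] at k2 ⊢
  have c1 : Nat.Coprime (2 ^ b) (S.relIndex (centralizer ({t} : Set G))) :=
    Nat.Coprime.pow_left b (Nat.coprime_two_left.2 h1)
  have c2 : Nat.Coprime (2 ^ a) (S.relIndex (centralizer ({g⁻¹ * t * g} : Set G))) :=
    Nat.Coprime.pow_left a (Nat.coprime_two_left.2 h2)
  apply Nat.dvd_antisymm
  · exact c2.dvd_of_dvd_mul_right (Dvd.intro _ k2.symm)
  · exact c1.dvd_of_dvd_mul_right (Dvd.intro _ k2)

/-- **The end**: if `S = Q C_S(t)`, `S / Q` is abelian, the extremal conjugates of `t` in `t Q` are `S`-conjugate to `t`,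
and either there are no involutions of `S` outside `Q` and `t Q` (clean case, or `S / Q` cyclic) or `Q` is free for
them and `|C_Q(t)|² ≠ |Q|`, then `t` is not killed by all the homomorphisms to `A ≥ S / Q`. -/
theorem false_of_partial [Finite G] {A : Type*} [CommGroup A] {S Q : Subgroup G} {t : G} (hS : IsPGroup 2 S)
    (hQS : Q ≤ S) (φ : S →* A) (hφ : ∀ x : S, φ x = 1 ↔ (x : G) ∈ Q) (ht : t * t = 1) (htS : t ∈ S) (htQ : t ∉ Q)
    (hcov : ∀ x ∈ S, ∃ r ∈ Q, x * r * t = t * (x * r))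
    (hodd : Odd (S.relIndex (centralizer ({t} : Set G))))
    (hcl : ∀ g : G, g⁻¹ * t * g ∈ S → t⁻¹ * (g⁻¹ * t * g) ∈ Q →
      Odd (S.relIndex (centralizer ({g⁻¹ * t * g} : Set G))) → ∃ x ∈ S, g⁻¹ * t * g = x⁻¹ * t * x)
    (hfree : ∀ u ∈ S, u * u = 1 → u ∉ Q → t⁻¹ * u ∉ Q →
      FreeSer u Q ∧ Nat.card (Q ⊓ centralizer ({t} : Set G) : Subgroup G) ^ 2 ≠ Nat.card Q)
    (hG : ∀ f : G →* A, f t = 1) : False := by
  obtain ⟨g, hg, hg1, hg2, hg3⟩ := GTwoFour.TransferTL.exists_extremal S φ t hG ht htS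
    (fun h => htQ ((hφ ⟨t, htS⟩).1 h)) hodd
  by_cases hgt : t⁻¹ * (g⁻¹ * t * g) ∈ Q
  · obtain ⟨x, hx, e⟩ := hcl g hg hgt hg2
    exact hg3 x hx e
  have hgQ : g⁻¹ * t * g ∉ Q := fun h => hg1 ((hφ _).2 h)
  have hgg : g⁻¹ * t * g * (g⁻¹ * t * g) = 1 := by
    calc g⁻¹ * t * g * (g⁻¹ * t * g) = g⁻¹ * (t * t) * g := by group
      _ = 1 := by rw [ht]; group
  obtain ⟨hF, hne⟩ := hfree _ hg hgg hgQ hgt
  have hn : S ≤ normalizer (Q : Set G) := by
    intro x hx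
    rw [mem_normalizer_iff]
    intro y
    constructor
    · intro hy
      have h1 : x * y * x⁻¹ ∈ S := mul_mem (mul_mem hx (hQS hy)) (inv_mem hx)
      apply (hφ ⟨_, h1⟩).1
      have e : (⟨x * y * x⁻¹, h1⟩ : S) = ⟨x, hx⟩ * ⟨y, hQS hy⟩ * ⟨x, hx⟩⁻¹ := rfl
      rw [e, map_mul, map_mul, map_inv, (hφ ⟨y, hQS hy⟩).2 hy, mul_one, mul_inv_cancel]
    · intro hy
      have h1 : y ∈ S := by
        have h2 := mul_mem (mul_mem (inv_mem hx) (hQS hy)) hx
        have e : x⁻¹ * (x * y * x⁻¹) * x = y := by group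
        rwa [e] at h2
      apply (hφ ⟨y, h1⟩).1
      have e : (⟨y, h1⟩ : S) = ⟨x, hx⟩⁻¹ * ⟨x * y * x⁻¹, hQS hy⟩ * ⟨x, hx⟩ := by
        apply Subtype.ext
        change y = x⁻¹ * (x * y * x⁻¹) * x
        group
      rw [e, map_mul, map_mul, map_inv, (hφ ⟨_, hQS hy⟩).2 hy, mul_one, inv_mul_cancel]
  have hc : ∀ x ∈ S, x⁻¹ * (g⁻¹ * t * g * x * (g⁻¹ * t * g)⁻¹) ∈ Q := by
    intro x hx
    have h1 : x⁻¹ * (g⁻¹ * t * g * x * (g⁻¹ * t * g)⁻¹) ∈ S :=
      mul_mem (inv_mem hx) (mul_mem (mul_mem hg hx) (inv_mem hg))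
    apply (hφ ⟨_, h1⟩).1
    have e : (⟨x⁻¹ * (g⁻¹ * t * g * x * (g⁻¹ * t * g)⁻¹), h1⟩ : S) =
        ⟨x, hx⟩⁻¹ * (⟨g⁻¹ * t * g, hg⟩ * ⟨x, hx⟩ * ⟨g⁻¹ * t * g, hg⟩⁻¹) := rfl
    rw [e, map_mul, map_mul, map_mul, map_inv, map_inv, mul_comm (φ ⟨g⁻¹ * t * g, hg⟩), mul_inv_cancel_right,
      inv_mul_cancel]
  have c1 := hF.card_cover hgg hQS hn hc
  have c2 := hF.card_sq hgg
  have c3 := card_eq_of_odd hS hodd hg2
  -- the product formula for `t`
  have hcov' : S = Q ⊔ (S ⊓ centralizer ({t} : Set G)) := by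
    apply le_antisymm
    · intro x hx
      obtain ⟨r, hr, he⟩ := hcov x hx
      have h2 : x * r ∈ S ⊓ centralizer ({t} : Set G) :=
        ⟨mul_mem hx (hQS hr), mem_centralizer_singleton_iff.2 he⟩
      have : x = (x * r) * r⁻¹ := by group
      rw [this]
      exact mul_mem (mem_sup_right h2) (mem_sup_left (inv_mem hr))
    · exact sup_le hQS inf_le_left
  have h2 := card_mul_card hQS (inf_le_left : S ⊓ centralizer ({t} : Set G) ≤ S) hn hcov'
  have h3 : Q ⊓ (S ⊓ centralizer ({t} : Set G)) = Q ⊓ centralizer ({t} : Set G) := by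
    rw [← inf_assoc, inf_eq_left.2 hQS]
  rw [h3, c3] at h2
  apply hne
  rw [← c2]
  congr 1
  have h0 : 0 < Nat.card S := Nat.card_pos
  apply Nat.eq_of_mul_eq_mul_left h0
  rw [h2, ← c1, mul_comm]

/-- `S = Q C_S(t)`, `u ∈ S` extremal: `|C_Q(u)| ≥ |C_Q(t)|` if `S / Q` has at most `|S / Q|` elements centralising `u` -/
theorem card_inf_le [Finite G] {S Q : Subgroup G} {t g : G} (hS : IsPGroup 2 S) (hQS : Q ≤ S)
    (hn : S ≤ normalizer (Q : Set G)) (hcov : ∀ x ∈ S, ∃ r ∈ Q, x * r * t = t * (x * r))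
    (h1 : Odd (S.relIndex (centralizer ({t} : Set G))))
    (h2 : Odd (S.relIndex (centralizer ({g⁻¹ * t * g} : Set G)))) :
    Nat.card (Q ⊓ centralizer ({t} : Set G) : Subgroup G) ≤
      Nat.card (Q ⊓ centralizer ({g⁻¹ * t * g} : Set G) : Subgroup G) := by
  have c3 := card_eq_of_odd hS h1 h2
  have hcov' : S = Q ⊔ (S ⊓ centralizer ({t} : Set G)) := by
    apply le_antisymm
    · intro x hx
      obtain ⟨r, hr, he⟩ := hcov x hx
      have h2 : x * r ∈ S ⊓ centralizer ({t} : Set G) :=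
        ⟨mul_mem hx (hQS hr), mem_centralizer_singleton_iff.2 he⟩
      have : x = (x * r) * r⁻¹ := by group
      rw [this]
      exact mul_mem (mem_sup_right h2) (mem_sup_left (inv_mem hr))
    · exact sup_le hQS inf_le_left
  have e1 := card_mul_card hQS (inf_le_left : S ⊓ centralizer ({t} : Set G) ≤ S) hn hcov'
  have e2 : Q ⊓ (S ⊓ centralizer ({t} : Set G)) = Q ⊓ centralizer ({t} : Set G) := by
    rw [← inf_assoc, inf_eq_left.2 hQS]
  rw [e2] at e1
  -- the group `Q C_S(u)`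
  set D := S ⊓ centralizer ({g⁻¹ * t * g} : Set G) with hD
  have hDn : (Q ⊔ D : Subgroup G) ≤ normalizer (Q : Set G) :=
    sup_le le_normalizer (inf_le_left.trans hn)
  have e3 := card_mul_card (B := Q) (C := Q ⊔ D) (D := D) le_sup_left le_sup_right hDn rfl
  have e4 : Q ⊓ D = Q ⊓ centralizer ({g⁻¹ * t * g} : Set G) := by
    rw [hD, ← inf_assoc, inf_eq_left.2 hQS]
  rw [e4, ← c3, ← e1] at e3
  have h5 : Nat.card (Q ⊔ D : Subgroup G) ≤ Nat.card S :=
    Nat.card_le_card_of_injective (Subgroup.inclusion (sup_le hQS inf_le_left))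
      (Subgroup.inclusion_injective _)
  by_contra hlt
  push Not at hlt
  have h6 : 0 < Nat.card S := Nat.card_pos
  have h7 : Nat.card (Q ⊔ D : Subgroup G) * Nat.card (Q ⊓ centralizer ({g⁻¹ * t * g} : Set G) : Subgroup G) <
      Nat.card S * Nat.card (Q ⊓ centralizer ({t} : Set G) : Subgroup G) :=
    calc _ ≤ Nat.card S * Nat.card (Q ⊓ centralizer ({g⁻¹ * t * g} : Set G) : Subgroup G) :=
          Nat.mul_le_mul_right _ h5
      _ < _ := Nat.mul_lt_mul_of_pos_left hlt h6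
  omega

/-- `S` normalises the kernel -/
theorem le_normalizer_of_ker {A : Type*} [CommGroup A] {S Q : Subgroup G} (hQS : Q ≤ S) (φ : S →* A)
    (hφ : ∀ x : S, φ x = 1 ↔ (x : G) ∈ Q) : S ≤ normalizer (Q : Set G) := by
  intro x hx
  rw [mem_normalizer_iff]
  intro y
  constructor
  · intro hy
    have h1 : x * y * x⁻¹ ∈ S := mul_mem (mul_mem hx (hQS hy)) (inv_mem hx)
    apply (hφ ⟨_, h1⟩).1
    have e : (⟨x * y * x⁻¹, h1⟩ : S) = ⟨x, hx⟩ * ⟨y, hQS hy⟩ * ⟨x, hx⟩⁻¹ := rfl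
    rw [e, map_mul, map_mul, map_inv, (hφ ⟨y, hQS hy⟩).2 hy, mul_one, mul_inv_cancel]
  · intro hy
    have h1 : y ∈ S := by
      have h2 := mul_mem (mul_mem (inv_mem hx) (hQS hy)) hx
      have e : x⁻¹ * (x * y * x⁻¹) * x = y := by group
      rwa [e] at h2
    apply (hφ ⟨y, h1⟩).1
    have e : (⟨y, h1⟩ : S) = ⟨x, hx⟩⁻¹ * ⟨x * y * x⁻¹, hQS hy⟩ * ⟨x, hx⟩ := by
      apply Subtype.ext
      change y = x⁻¹ * (x * y * x⁻¹) * x
      group
    rw [e, map_mul, map_mul, map_inv, (hφ ⟨_, hQS hy⟩).2 hy, mul_one, inv_mul_cancel]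

/-- **The end**, with the hypothesis on `t Q` inside `Q ⟨t⟩`: the conjugates `u` of `t` in `t Q` with
`|C_Q(u)| ≥ |C_Q(t)|` are `Q`-conjugate to `t`. -/
theorem false_of_inner [Finite G] {A : Type*} [CommGroup A] {S Q : Subgroup G} {t : G} (hS : IsPGroup 2 S)
    (hQS : Q ≤ S) (φ : S →* A) (hφ : ∀ x : S, φ x = 1 ↔ (x : G) ∈ Q) (ht : t * t = 1) (htS : t ∈ S) (htQ : t ∉ Q)
    (hcov : ∀ x ∈ S, ∃ r ∈ Q, x * r * t = t * (x * r))
    (hodd : Odd (S.relIndex (centralizer ({t} : Set G))))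
    (hcl : ∀ g : G, t⁻¹ * (g⁻¹ * t * g) ∈ Q → Nat.card (Q ⊓ centralizer ({t} : Set G) : Subgroup G) ≤
      Nat.card (Q ⊓ centralizer ({g⁻¹ * t * g} : Set G) : Subgroup G) → ∃ x ∈ Q, g⁻¹ * t * g = x⁻¹ * t * x)
    (hfree : ∀ u ∈ S, u * u = 1 → u ∉ Q → t⁻¹ * u ∉ Q →
      FreeSer u Q ∧ Nat.card (Q ⊓ centralizer ({t} : Set G) : Subgroup G) ^ 2 ≠ Nat.card Q)
    (hG : ∀ f : G →* A, f t = 1) : False := by
  refine false_of_partial hS hQS φ hφ ht htS htQ hcov hodd (fun g hg hgt h2 => ?_) hfree hG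
  obtain ⟨x, hx, e⟩ := hcl g hgt
    (card_inf_le hS hQS (le_normalizer_of_ker hQS φ hφ) hcov hodd h2)
  exact ⟨x, hQS hx, e⟩

end Cfsg.Agent.OddHalf.SpN
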