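import Mathlib
import Cfsg.Agent.OddHalf.SpN.Cent2

/-!
# ODD D7, `K = Sp_2n(q)`, pattern (C,O) (shadows `L_{2n+1}(q)`, `U_{2n+1}(q)`): the input (helper63)

Section 10 of `blueprints/ODD-D7-Sp-helper297.md` (case III.1: `γ = 0`, `δ = ε = c_l = 1`).
`wx i j u = w_{e_i+e_j}(u)` (`Dj i j`), `wy i u = w_{2e_i}(u)`.  Conventions as in `Defs`:
`h w_r(u) h⁻¹ = w_r(λ^r u)`, all conjugations on the left.  "∃ c" = the `X`-part is irrelevant.
-/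

set_option autoImplicit false

namespace Cfsg.Agent.OddHalf.SpN

variable {n : ℕ} {F : Type*} [Field F] {G : Type*} [Group G]

/-- The input of pattern (C,O): the groups `W_r` with all their relations for `γ = 0`, `δ = ε = c_l = 1`. -/
structure COne [CharP F 2] (R : Frame n F G) where
  wx : Ix n → Ix n → F → G
  wy : Ix n → F → G
  wx_symm : ∀ i j u, wx i j u = wx j i u
  /-- `[t, w_r(u)] = x_r(u)` -/
  wx_t : ∀ {i j}, Dj i j → ∀ u, R.t * wx i j u * R.t = wx i j u * R.x i j u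
  wy_t : ∀ i u, R.t * wy i u * R.t = wy i u * R.y i u
  h_wx : ∀ lam {i j}, Dj i j → ∀ u, R.h lam * wx i j u * (R.h lam)⁻¹ = wx i j (ev lam i * ev lam j * u)
  h_wy : ∀ lam i u, R.h lam * wy i u * (R.h lam)⁻¹ = wy i (ev lam i ^ 2 * u)
  /-- (6.1): `κ_s = 0` -/
  wx_add : ∀ {i j}, Dj i j → ∀ u v, wx i j (u + v) = wx i j u * wx i j v
  wy_zero : ∀ i, wy i 0 = 1
  wy_add : ∀ i u v, ∃ c, wy i u * wy i v = wy i (u + v) * R.y i c
  /-- (8.2): `c_l = 1` -/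
  wy_sq : ∀ i u, wy i u * wy i u = R.y i u
  /-- (3.s): `[W_s, X_a] = 1` for `(s, a) ≥ 0`, short-short, not partners -/
  a1 : ∀ {i j k l}, Dj i j → Dj k l → k ≠ neg i → k ≠ neg j → l ≠ neg i → l ≠ neg j →
    ∀ u v, Commute (wx i j u) (R.x k l v)
  /-- (3.s), (8): partners, `δ = 1` -/
  a2 : ∀ {i j}, Dj i j → ∀ u v, wx i j u * R.x i (neg j) v = R.y i (u * v) * (R.x i (neg j) v * wx i j u)
  /-- (6.1): 120 degrees -/
  a3 : ∀ {i j k}, Dj i j → Dj j k → Dj i k → ∀ u v, ∃ c,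
    R.x (neg j) k v * wx i j u * (R.x (neg j) k v)⁻¹ = wx i j u * wx i k (u * v) * R.x i k c
  /-- (3.s): short-long, `(s, a) ≥ 0` -/
  a4 : ∀ {i j k}, Dj i j → k ≠ neg i → k ≠ neg j → ∀ u v, Commute (wx i j u) (R.y k v)
  /-- (8.3) with `δ = 1` -/
  a5 : ∀ {i j}, Dj i j → ∀ u v, ∃ c d, R.y (neg j) v * wx i j u * (R.y (neg j) v)⁻¹ =
    wx i j u * wx i (neg j) (u * v) * R.x i (neg j) c * R.y i d
  /-- (3.l), `γ = 0` -/
  b1 : ∀ {i j}, j ≠ neg i → ∀ u v, Commute (wy i u) (R.y j v)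
  b2 : ∀ {i j k}, Dj j k → j ≠ neg i → k ≠ neg i → ∀ u v, Commute (wy i u) (R.x j k v)
  /-- (8.2) with `γ = 0` -/
  b3 : ∀ {i j}, Dj i j → ∀ u v, ∃ c d, R.x (neg i) j v * wy i u * (R.x (neg i) j v)⁻¹ =
    wy i u * wy j (u * v ^ 2) * wx i j (u * v) * R.x i j c * R.y j d
  /-- (6.2): 60 degrees, 90 degrees (disjoint), same root -/
  c1 : ∀ {i j k l}, Dj i j → Dj k l → k ≠ neg i → k ≠ neg j → l ≠ neg i → l ≠ neg j →
    ∀ u v, Commute (wx i j u) (wx k l v)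
  /-- (6.2): partners -/
  c2 : ∀ {i j}, Dj i j → ∀ u v, ∃ c, wx i j u * wx i (neg j) v = R.y i c * (wx i (neg j) v * wx i j u)
  /-- (6.2): 120 degrees, `[W_r, W_a] ≤ W_{r+a}` -/
  c3 : ∀ {i j k}, Dj i j → Dj j k → Dj i k → ∀ u v, ∃ c d,
    wx (neg j) k v * wx i j u * (wx (neg j) k v)⁻¹ = wx i j u * wx i k c * R.x i k d
  /-- section 4: long-long -/
  c4 : ∀ {i j}, Dj i j → ∀ u v, ∃ c, wy i u * wy j v = R.x i j c * (wy j v * wy i u)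
  /-- (8.1): long-short, 45 and 90 degrees -/
  c5 : ∀ {i j k}, Dj j k → j ≠ neg i → k ≠ neg i → ∀ u v, Commute (wy i u) (wx j k v)
  /-- F3 -/
  f3 : ∀ i g, Commute g R.t → (∀ a, Commute g (R.y i a)) →
    (∀ j, Dj i j → ∀ a, ∃ c, g * R.x i j a = R.y i c * (R.x i j a * g)) → g ∈ R.Q i ∨ R.t * g ∈ R.Q i

end Cfsg.Agent.OddHalf.SpN
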