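import Mathlib
import Cfsg.Agent.OddHalf.SpN.COneDefs

/-!
# ODD D7, `K = Sp_2n(q)`, pattern (C,O): the elements `p_j(u,v) = [w_{i,-j}(u), w_j(v)]` and the groups `F_i` (helper63)

`F_i = ⟨W_{2e_i}, W_{e_i±e_j}, p_j(u,v)⟩`; `F_i / Y_i` is elementary abelian, `Y_i = X_{2e_i}`.
-/

set_option autoImplicit false

namespace Cfsg.Agent.OddHalf.SpN

section abs

variable {G : Type*} [Group G]

/-- `w` normalises `a` modulo something commuting with `b` -/
theorem comm_aux {a b w m : G} (h1 : w * a * w⁻¹ = a * m) (h2 : Commute w b) (h3 : Commute m b) :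
    Commute (a * b * a⁻¹ * b⁻¹) w := by
  have e : w * (a * b * a⁻¹ * b⁻¹) * w⁻¹ = a * b * a⁻¹ * b⁻¹ := by
    calc w * (a * b * a⁻¹ * b⁻¹) * w⁻¹ = (w * a * w⁻¹) * (w * b * w⁻¹) * (w * a * w⁻¹)⁻¹ * (w * b * w⁻¹)⁻¹ := by
          group
      _ = a * (m * b * m⁻¹) * a⁻¹ * b⁻¹ := by
          rw [h1, h2.mul_inv_cancel]; group
      _ = _ := by rw [h3.mul_inv_cancel]
  show a * b * a⁻¹ * b⁻¹ * w = w * (a * b * a⁻¹ * b⁻¹)
  calc a * b * a⁻¹ * b⁻¹ * w = (w * (a * b * a⁻¹ * b⁻¹) * w⁻¹) * w := by rw [e]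
    _ = _ := by group

theorem conj_of_y {w a z : G} (e : w * a = z * (a * w)) (hz : Commute a z) : w * a * w⁻¹ = a * z := by
  rw [e, hz.eq]; group

theorem conj_of_comm {w a : G} (e : Commute w a) : w * a * w⁻¹ = a * 1 := by
  rw [e.mul_inv_cancel, mul_one]

theorem comm_aux3 {a b w m z : G} (h1 : Commute w a) (h2 : w * b * w⁻¹ = b * m) (h3 : m * a⁻¹ = z * (a⁻¹ * m))
    (za : Commute z a) (zb : Commute z b) :
    w * (a * b * a⁻¹ * b⁻¹) = z * (a * b * a⁻¹ * b⁻¹ * w) := by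
  have e : w * (a * b * a⁻¹ * b⁻¹) * w⁻¹ = z * (a * b * a⁻¹ * b⁻¹) := by
    calc w * (a * b * a⁻¹ * b⁻¹) * w⁻¹ = (w * a * w⁻¹) * (w * b * w⁻¹) * (w * a * w⁻¹)⁻¹ * (w * b * w⁻¹)⁻¹ := by
          group
      _ = a * b * (m * a⁻¹) * m⁻¹ * b⁻¹ := by
          rw [h2, h1.mul_inv_cancel]; group
      _ = (a * b * z) * a⁻¹ * b⁻¹ := by rw [h3]; group
      _ = _ := by rw [mul_assoc a, ← zb.eq, ← mul_assoc a, ← za.eq]; simp only [mul_assoc]
  calc w * (a * b * a⁻¹ * b⁻¹) = (w * (a * b * a⁻¹ * b⁻¹) * w⁻¹) * w := by group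
    _ = _ := by rw [e, mul_assoc]

theorem t_aux {t a b x y m k n x1 z1 z2 : G} (tt : t * t = 1) (ta : t * a * t = a * x) (tb : t * b * t = b * y)
    (hxb : x * b * x⁻¹ = b * m) (hxy : x * y * x⁻¹ = y * k) (ym : Commute y m) (yk : Commute y k)
    (yz : Commute y z1) (hya : y * a * y⁻¹ = a * n) (hamk : a * (m * k) * a⁻¹ = (m * k) * z1)
    (han : a * n⁻¹ * a⁻¹ = n⁻¹ * z2) (bn : Commute b n) (hbmk : b * (m * k) * b⁻¹ = (m * k) * x1)
    (bz : Commute b z1) (np : Commute n (a * b * a⁻¹ * b⁻¹)) (zp : Commute z2 (a * b * a⁻¹ * b⁻¹)) :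
    t * (a * b * a⁻¹ * b⁻¹) * t = (a * b * a⁻¹ * b⁻¹) * (n⁻¹ * z2 * (m * k) * x1 * z1) := by
  have ti : t⁻¹ = t := inv_eq_of_mul_eq_one_left tt
  have hya' : y * a⁻¹ * y⁻¹ = n⁻¹ * a⁻¹ := by
    have := congrArg (fun g => g⁻¹) hya
    simp only [mul_inv_rev, inv_inv] at this
    rw [← this]; group
  have ymk : Commute y (m * k * z1) := (ym.mul_right yk).mul_right yz
  calc t * (a * b * a⁻¹ * b⁻¹) * t = t * (a * b * a⁻¹ * b⁻¹) * t⁻¹ := by rw [ti]
    _ = (t * a * t⁻¹) * (t * b * t⁻¹) * (t * a * t⁻¹)⁻¹ * (t * b * t⁻¹)⁻¹ := by group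
    _ = (a * x) * (b * y) * (a * x)⁻¹ * (b * y)⁻¹ := by rw [ti, ta, tb]
    _ = a * (x * b * x⁻¹) * (x * y * x⁻¹) * a⁻¹ * y⁻¹ * b⁻¹ := by group
    _ = a * b * (m * y) * k * a⁻¹ * y⁻¹ * b⁻¹ := by rw [hxb, hxy]; group
    _ = a * b * (y * a⁻¹ * y⁻¹) * (y * (a * (m * k) * a⁻¹) * y⁻¹) * b⁻¹ := by rw [← ym.eq]; group
    _ = a * b * (n⁻¹ * a⁻¹) * (m * k * z1) * b⁻¹ := by rw [hya', hamk, ymk.mul_inv_cancel]
    _ = a * (b * n⁻¹) * a⁻¹ * (m * k) * z1 * b⁻¹ := by group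
    _ = (a * n⁻¹ * a⁻¹) * (a * b * a⁻¹ * b⁻¹) * (b * (m * k) * b⁻¹) * (b * z1 * b⁻¹) := by
        rw [bn.inv_right.eq]; group
    _ = (n⁻¹ * z2) * (a * b * a⁻¹ * b⁻¹) * (m * k * x1) * z1 := by rw [han, hbmk, bz.mul_inv_cancel]
    _ = _ := by rw [(np.inv_left.mul_left zp).eq]; simp only [mul_assoc]

end abs

namespace COne

variable {n : ℕ} {F : Type*} [Field F] [CharP F 2] {G : Type*} [Group G] {R : Frame n F G}

/-- `g` centralises `Y_i` -/
def Cy (R : Frame n F G) (i : Ix n) (g : G) : Prop := ∀ a, Commute g (R.y i a)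

/-- `g`, `h` commute modulo `Y_i` -/
def Cm (R : Frame n F G) (i : Ix n) (g h : G) : Prop := ∃ c, g * h = R.y i c * (h * g)

theorem Cm.symm {i : Ix n} {g h : G} (e : Cm R i g h) : Cm R i h g := by
  obtain ⟨c, e⟩ := e
  exact ⟨c, by rw [e, ← mul_assoc, R.y_sq, one_mul]⟩

theorem Cm.of_commute {i : Ix n} {g h : G} (e : Commute g h) : Cm R i g h :=
  ⟨0, by rw [R.y_zero, one_mul]; exact e⟩

theorem Cy.one {i : Ix n} : Cy R i 1 := fun _ => Commute.one_left _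

theorem Cy.mul {i : Ix n} {g h : G} (a : Cy R i g) (b : Cy R i h) : Cy R i (g * h) := fun c => (a c).mul_left (b c)

theorem Cy.inv {i : Ix n} {g : G} (a : Cy R i g) : Cy R i g⁻¹ := fun c => (a c).inv_left

theorem Cm.mul {i : Ix n} {g g' h : G} (hg : Cy R i g) (a : Cm R i g h) (b : Cm R i g' h) : Cm R i (g * g') h := by
  obtain ⟨c, e⟩ := a
  obtain ⟨d, e'⟩ := b
  refine ⟨d + c, ?_⟩
  rw [mul_assoc, e', ← mul_assoc, (hg d).eq, mul_assoc, ← mul_assoc g, e, R.y_add]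
  simp only [mul_assoc]

theorem Cm.inv {i : Ix n} {g h : G} (hg : Cy R i g) (a : Cm R i g h) : Cm R i g⁻¹ h := by
  obtain ⟨c, e⟩ := a
  refine ⟨c, ?_⟩
  have e2 : h * g = R.y i c * (g * h) := by rw [e, ← mul_assoc, R.y_sq, one_mul]
  have e3 : g⁻¹ * R.y i c = R.y i c * g⁻¹ := (hg.inv c).eq
  calc g⁻¹ * h = g⁻¹ * (h * g) * g⁻¹ := by group
    _ = g⁻¹ * R.y i c * (g * h) * g⁻¹ := by rw [e2]; group
    _ = R.y i c * (h * g⁻¹) := by rw [e3]; group

/-- the elements centralising `Y_i` and commuting with `h` modulo `Y_i` -/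
def cen (R : Frame n F G) (i : Ix n) (h : G) : Subgroup G where
  carrier := {g | Cy R i g ∧ Cm R i g h}
  one_mem' := ⟨Cy.one, Cm.of_commute (Commute.one_left h)⟩
  mul_mem' := fun a b => ⟨a.1.mul b.1, Cm.mul a.1 a.2 b.2⟩
  inv_mem' := fun a => ⟨a.1.inv, Cm.inv a.1 a.2⟩

theorem mem_cen {i : Ix n} {g h : G} : g ∈ cen R i h ↔ Cy R i g ∧ Cm R i g h := Iff.rfl

/-- `Y_i` -/
def Yg (R : Frame n F G) (i : Ix n) : Subgroup G where
  carrier := {g | ∃ a, g = R.y i a}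
  one_mem' := ⟨0, (R.y_zero i).symm⟩
  mul_mem' := by
    rintro _ _ ⟨a, rfl⟩ ⟨b, rfl⟩
    exact ⟨a + b, (R.y_add i a b).symm⟩
  inv_mem' := by
    rintro _ ⟨a, rfl⟩
    exact ⟨a, R.y_inv i a⟩

theorem mem_Yg {i : Ix n} {g : G} : g ∈ Yg R i ↔ ∃ a, g = R.y i a := Iff.rfl

theorem y_mem_Yg (i : Ix n) (a : F) : R.y i a ∈ Yg R i := ⟨a, rfl⟩

variable (D : COne R)

include D

theorem wx_zero {i j : Ix n} (h : Dj i j) : D.wx i j 0 = 1 := by
  have := D.wx_add h 0 0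
  rw [add_zero] at this
  exact (mul_eq_left.mp this.symm)

theorem wx_sq {i j : Ix n} (h : Dj i j) (u : F) : D.wx i j u * D.wx i j u = 1 := by
  rw [← D.wx_add h, CharTwo.add_self_eq_zero, D.wx_zero h]

theorem wx_inv {i j : Ix n} (h : Dj i j) (u : F) : (D.wx i j u)⁻¹ = D.wx i j u :=
  inv_eq_of_mul_eq_one_left (D.wx_sq h u)

theorem a2' {i j : Ix n} (h : Dj i j) (u v : F) :
    D.wx i (neg j) u * R.x i j v = R.y i (u * v) * (R.x i j v * D.wx i (neg j) u) := by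
  have := D.a2 (i := i) (j := neg j) (dj_neg_right.mpr h) u v
  rwa [neg_neg] at this

theorem cy_wx {i j : Ix n} (h : Dj i j) (u : F) : Cy R i (D.wx i j u) := fun a =>
  D.a4 h (ne_neg i) h.2 u a

theorem cy_wy (i : Ix n) (u : F) : Cy R i (D.wy i u) := fun a => D.b1 (ne_neg i) u a

omit D in
theorem cy_x {i j : Ix n} (h : Dj i j) (u : F) : Cy R i (R.x i j u) := fun a =>
  (R.y_x_comm (ne_neg i) h.symm.2 a u).symm

omit D in
theorem cy_y (i : Ix n) (u : F) : Cy R i (R.y i u) := fun a => R.y_comm (ne_neg i) u a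

theorem cy_wy' {i j : Ix n} (h : Dj i j) (u : F) : Cy R i (D.wy j u) := fun a => D.b1 h.2 u a

/-- `p_j(u,v) = [w_{i,-j}(u), w_j(v)]` -/
def p (i j : Ix n) (u v : F) : G := D.wx i (neg j) u * D.wy j v * (D.wx i (neg j) u)⁻¹ * (D.wy j v)⁻¹

theorem p_zero_left {i j : Ix n} (h : Dj i j) (v : F) : D.p i j 0 v = 1 := by
  rw [p, D.wx_zero (dj_neg_right.mpr h)]; group

theorem p_zero_right {i j : Ix n} (u : F) : D.p i j u 0 = 1 := by
  rw [p, D.wy_zero]; group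

section one

variable {i j : Ix n} (hij : Dj i j) (u v : F)

include hij

theorem p_y : Cy R i (D.p i j u v) := fun a =>
  comm_aux (m := 1) (conj_of_comm ((D.cy_wx (dj_neg_right.mpr hij) u) a).symm) ((D.cy_wy' hij v) a).symm
    (Commute.one_left _)

theorem p_wx {k : Ix n} (hik : Dj i k) (hk : k ≠ neg j) (c : F) : Commute (D.p i j u v) (D.wx i k c) := by
  have h5 : Commute (D.wx i k c) (D.wy j v) := (D.c5 hik hij.2 hk v c).symm
  by_cases hkj : k = j
  · subst hkj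
    obtain ⟨e, he⟩ := D.c2 hij c u
    exact comm_aux (m := R.y i e) (conj_of_y he (D.cy_wx (dj_neg_right.mpr hij) u e)) h5 ((D.cy_wy' hij v) e).symm
  · refine comm_aux (m := 1) (conj_of_comm
      (D.c1 hik (dj_neg_right.mpr hij) (ne_neg i) hik.2 ?_ ?_ c u)) h5 (Commute.one_left _)
    · rw [Ne, neg_inj]; exact hij.1.symm
    · rw [Ne, neg_inj]; exact fun e => hkj e.symm

theorem p_x {k : Ix n} (hik : Dj i k) (hk : k ≠ neg j) (c : F) : Commute (D.p i j u v) (R.x i k c) := by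
  have h5 : Commute (R.x i k c) (D.wy j v) := (D.b2 hik hij.2 hk v c).symm
  by_cases hkj : k = j
  · subst hkj
    refine comm_aux (m := R.y i (u * c)) (conj_of_y ?_ (D.cy_wx (dj_neg_right.mpr hij) u _)) h5
      ((D.cy_wy' hij v) _).symm
    rw [D.a2' hij, ← mul_assoc (R.y i _), R.y_sq, one_mul]
  · refine comm_aux (m := 1) (conj_of_comm
      (D.a1 (dj_neg_right.mpr hij) hik (ne_neg i) ?_ hik.symm.2 ?_ u c).symm) h5 (Commute.one_left _)
    · rw [neg_neg]; exact hij.1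
    · rw [neg_neg]; exact hkj

/-- `x_{jl}`, `|l| ≠ |i|` -/
theorem p_xj {l : Ix n} (hil : Dj i l) (hjl : Dj j l) (c : F) : Commute (D.p i j u v) (R.x j l c) := by
  have hnj : Dj (neg j) l := dj_neg_left.mpr hjl
  obtain ⟨d, he⟩ := D.a3 (dj_neg_right.mpr hij) hnj hil u c
  rw [neg_neg, mul_assoc (D.wx i (neg j) u)] at he
  exact comm_aux he (D.b2 hjl (ne_neg j) hjl.symm.2 v c).symm
    ((D.c5 hil hij.2 hjl.symm.2 v _).symm.mul_left (D.b2 hil hij.2 hjl.symm.2 v _).symm)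

theorem p_xkl {k l : Ix n} (hkl : Dj k l) (hik : Dj i k) (hil : Dj i l) (hjk : Dj j k) (hjl : Dj j l) (c : F) :
    Commute (D.p i j u v) (R.x k l c) :=
  comm_aux (m := 1) (conj_of_comm (D.a1 (dj_neg_right.mpr hij) hkl hik.symm.2
      (by rw [neg_neg]; exact hjk.1.symm) hil.symm.2 (by rw [neg_neg]; exact hjl.1.symm) u c).symm)
    (D.b2 hkl hjk.symm.2 hjl.symm.2 v c).symm (Commute.one_left _)

theorem p_yj (c : F) : Commute (D.p i j u v) (R.y j c) := by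
  obtain ⟨d, e, he⟩ := D.a5 (dj_neg_right.mpr hij) u c
  rw [neg_neg, mul_assoc (D.wx i (neg j) u), mul_assoc (D.wx i (neg j) u)] at he
  exact comm_aux he (D.b1 (ne_neg j) v c).symm
    (((D.c5 hij hij.2 (ne_neg j) v _).symm.mul_left (D.b2 hij hij.2 (ne_neg j) v _).symm).mul_left
      (D.b1 hij.2 v _).symm)

theorem p_yk {k : Ix n} (hik : Dj i k) (hjk : Dj j k) (c : F) : Commute (D.p i j u v) (R.y k c) :=
  comm_aux (m := 1) (conj_of_comm (D.a4 (dj_neg_right.mpr hij) hik.symm.2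
      (by rw [neg_neg]; exact hjk.1.symm) u c).symm)
    (D.b1 hjk.symm.2 v c).symm (Commute.one_left _)

theorem p_wxj {l : Ix n} (hil : Dj i l) (hjl : Dj j l) (c : F) : Commute (D.p i j u v) (D.wx j l c) := by
  have hnj : Dj (neg j) l := dj_neg_left.mpr hjl
  obtain ⟨d, e, he⟩ := D.c3 (dj_neg_right.mpr hij) hnj hil u c
  rw [neg_neg, mul_assoc (D.wx i (neg j) u)] at he
  exact comm_aux he (D.c5 hjl (ne_neg j) hjl.symm.2 v c).symm
    ((D.c5 hil hij.2 hjl.symm.2 v _).symm.mul_left (D.b2 hil hij.2 hjl.symm.2 v _).symm)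

theorem p_wxkl {k l : Ix n} (hkl : Dj k l) (hik : Dj i k) (hil : Dj i l) (hjk : Dj j k) (hjl : Dj j l) (c : F) :
    Commute (D.p i j u v) (D.wx k l c) :=
  comm_aux (m := 1) (conj_of_comm (D.c1 (dj_neg_right.mpr hij) hkl hik.symm.2
      (by rw [neg_neg]; exact hjk.1.symm) hil.symm.2 (by rw [neg_neg]; exact hjl.1.symm) u c).symm)
    (D.c5 hkl hjk.symm.2 hjl.symm.2 v c).symm (Commute.one_left _)

theorem h_p (lam : Fin n → Fˣ) : R.h lam * D.p i j u v * (R.h lam)⁻¹ =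
    D.p i j (ev lam i * (ev lam j)⁻¹ * u) (ev lam j ^ 2 * v) := by
  have h1 := D.h_wx lam (dj_neg_right.mpr hij) u
  have h2 := D.h_wy lam j v
  rw [ev_neg] at h1
  rw [p, p]
  push_cast at h1 h2 ⊢
  rw [← h1, ← h2]
  group

/-- `x_{i,-j}` -/
theorem p_xn (c : F) : Cm R i (D.p i j u v) (R.x i (neg j) c) := by
  obtain ⟨e, d, he⟩ := D.b3 hij.symm v c
  have hn := dj_neg_right.mpr hij
  have hm : D.wy i (v * c ^ 2) * D.wx j i (v * c) * R.x j i e * R.y i d ∈ cen R i (D.wx i (neg j) u)⁻¹ := by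
    have key : ∀ g, Cy R i g → Cm R i g (D.wx i (neg j) u) → g ∈ cen R i (D.wx i (neg j) u)⁻¹ := fun g h1 h2 =>
      ⟨h1, (Cm.inv (D.cy_wx hn u) h2.symm).symm⟩
    refine mul_mem (mul_mem (mul_mem (key _ (D.cy_wy i _) ?_) (key _ ?_ ?_)) (key _ ?_ ?_)) (key _ (cy_y i d) ?_)
    · exact Cm.of_commute (D.c5 hn (ne_neg i) hn.symm.2 _ u)
    · rw [D.wx_symm]; exact D.cy_wx hij _
    · rw [D.wx_symm]; exact D.c2 hij _ u
    · rw [R.x_symm]; exact cy_x hij _
    · rw [R.x_symm]; exact Cm.symm ⟨_, D.a2' hij _ _⟩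
    · exact Cm.of_commute (D.cy_wx hn u d).symm
  obtain ⟨f, hf⟩ := hm.2
  have he' : R.x i (neg j) c * D.wy j v * (R.x i (neg j) c)⁻¹ =
      D.wy j v * (D.wy i (v * c ^ 2) * D.wx j i (v * c) * R.x j i e * R.y i d) := by
    rw [R.x_symm i (neg j), he]; simp only [mul_assoc]
  exact Cm.symm ⟨f, comm_aux3 (D.a1 hn hn (ne_neg i) hn.2 hn.symm.2 (ne_neg _) u c).symm he' hf
    (D.cy_wx hn u f).symm (D.cy_wy' hij v f).symm⟩

theorem p_wy (c : F) : Cm R i (D.p i j u v) (D.wy i c) := by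
  have hn := dj_neg_right.mpr hij
  obtain ⟨s, hs⟩ := D.c4 hij c v
  have e1 : D.wy i c * D.wy j v * (D.wy i c)⁻¹ = D.wy j v * R.x i j s :=
    conj_of_y hs (D.b2 hij hij.2 (ne_neg j) v s)
  have hm : R.x i j s ∈ cen R i (D.wx i (neg j) u)⁻¹ := by
    refine ⟨cy_x hij s, (Cm.inv (D.cy_wx hn u) ?_).symm⟩
    exact ⟨_, D.a2' hij _ _⟩
  obtain ⟨f, hf⟩ := hm.2
  exact Cm.symm ⟨f, comm_aux3 (D.c5 hn (ne_neg i) hn.symm.2 c u) e1 hf
    (D.cy_wx hn u f).symm (D.cy_wy' hij v f).symm⟩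

theorem t_p : ∃ c d, R.t * D.p i j u v * R.t = D.p i j u v * D.wy i (u ^ 2 * v) * R.x i j c * R.y i d := by
  have hn := dj_neg_right.mpr hij
  obtain ⟨e, f, hxb⟩ := D.b3 hij.symm v u
  obtain ⟨c, d, hya⟩ := D.a5 hn u v
  rw [neg_neg] at hya
  have hxy : R.x i (neg j) u * R.y j v * (R.x i (neg j) u)⁻¹ =
      R.y j v * (R.x i j (v * u) * R.y i (v * u ^ 2)) := by
    have h0 := R.y_rel hij.symm v u
    rw [R.x_symm (neg j) i, R.x_symm j i] at h0
    have h1 : R.x i (neg j) u * R.y j v = R.y j v * (R.x i j (v * u) * R.y i (v * u ^ 2)) * R.x i (neg j) u := by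
      have hc : Commute (R.y j v) (R.x i j (v * u) * R.y i (v * u ^ 2)) :=
        (R.y_x_comm hij.2 (ne_neg j) _ _).mul_right (R.y_comm hij.2 _ _)
      have h2 := congrArg (fun g => (R.x i j (v * u) * R.y i (v * u ^ 2))⁻¹ * g) h0
      simp only [inv_mul_cancel_left] at h2
      rw [← h2, mul_inv_rev, R.x_inv, R.y_inv]
      have hz : R.y i (v * u ^ 2) * R.x i j (v * u) = R.x i j (v * u) * R.y i (v * u ^ 2) :=
        (R.y_x_comm (ne_neg i) hij.symm.2 _ _)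
      rw [hz, ← mul_assoc, hc.eq]
    rw [h1]; group
  have hxb' : R.x i (neg j) u * D.wy j v * (R.x i (neg j) u)⁻¹ =
      D.wy j v * (D.wy i (v * u ^ 2) * D.wx i j (v * u) * R.x i j e * R.y i f) := by
    rw [R.x_symm i (neg j), hxb, D.wx_symm j i, R.x_symm j i]; simp only [mul_assoc]
  have hya' : R.y j v * D.wx i (neg j) u * (R.y j v)⁻¹ =
      D.wx i (neg j) u * (D.wx i j (u * v) * R.x i j c * R.y i d) := by
    rw [hya]; simp only [mul_assoc]
  -- commutation rules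
  have cyW : ∀ w, Commute (D.wy i w) (R.y j v) := fun w => D.b1 hij.symm.2 w v
  have cyV : ∀ w, Commute (D.wx i j w) (R.y j v) := fun w => D.a4 hij hij.symm.2 (ne_neg j) w v
  have cyX : ∀ w, Commute (R.x i j w) (R.y j v) := fun w => (R.y_x_comm hij.2 (ne_neg j) v w).symm
  have cyZ : ∀ w, Commute (R.y i w) (R.y j v) := fun w => R.y_comm hij.symm.2 w v
  have cbV : ∀ w, Commute (D.wx i j w) (D.wy j v) := fun w => (D.c5 hij hij.2 (ne_neg j) v w).symm
  have cbX : ∀ w, Commute (R.x i j w) (D.wy j v) := fun w => (D.b2 hij hij.2 (ne_neg j) v w).symm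
  have cbZ : ∀ w, Commute (R.y i w) (D.wy j v) := fun w => (D.b1 hij.2 v w).symm
  have cWV : ∀ w w', Commute (D.wy i w) (D.wx i j w') := fun w w' => D.c5 hij (ne_neg i) hij.symm.2 w w'
  have cWX : ∀ w w', Commute (D.wy i w) (R.x i j w') := fun w w' => D.b2 hij (ne_neg i) hij.symm.2 w w'
  have cWZ : ∀ w w', Commute (D.wy i w) (R.y i w') := fun w w' => D.b1 (ne_neg i) w w'
  have cVX : ∀ w w', Commute (D.wx i j w) (R.x i j w') := fun w w' =>
    D.a1 hij hij (ne_neg i) hij.2 hij.symm.2 (ne_neg j) w w'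
  have cVZ : ∀ w w', Commute (D.wx i j w) (R.y i w') := fun w w' => D.a4 hij (ne_neg i) hij.2 w w'
  have cXZ : ∀ w w', Commute (R.x i j w) (R.y i w') := fun w w' => (R.y_x_comm (ne_neg i) hij.symm.2 w' w).symm
  -- commute with `a` modulo `Y_i`
  have cenW : ∀ w, D.wy i w ∈ cen R i (D.wx i (neg j) u) := fun w =>
    ⟨D.cy_wy i w, Cm.of_commute (D.c5 hn (ne_neg i) hn.symm.2 _ u)⟩
  have cenV : ∀ w, D.wx i j w ∈ cen R i (D.wx i (neg j) u) := fun w => ⟨D.cy_wx hij _, D.c2 hij _ u⟩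
  have cenX : ∀ w, R.x i j w ∈ cen R i (D.wx i (neg j) u) := fun w =>
    ⟨cy_x hij _, Cm.symm ⟨_, D.a2' hij _ _⟩⟩
  have cenZ : ∀ w, R.y i w ∈ cen R i (D.wx i (neg j) u) := fun w =>
    ⟨cy_y i w, Cm.of_commute (D.cy_wx hn u w).symm⟩
  have turn : ∀ g ∈ cen R i (D.wx i (neg j) u), ∃ c, D.wx i (neg j) u * g * (D.wx i (neg j) u)⁻¹ = g * R.y i c := by
    rintro g ⟨g1, g2⟩
    obtain ⟨c, hc⟩ := g2.symm
    exact ⟨c, by rw [hc, (g1 c).eq]; group⟩
  obtain ⟨z1, hz1⟩ := turn ((D.wy i (v * u ^ 2) * D.wx i j (v * u) * R.x i j e * R.y i f) *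
      (R.x i j (v * u) * R.y i (v * u ^ 2)))
    (mul_mem (mul_mem (mul_mem (mul_mem (cenW _) (cenV _)) (cenX _)) (cenZ _)) (mul_mem (cenX _) (cenZ _)))
  obtain ⟨z2, hz2⟩ := turn (D.wx i j (u * v) * R.x i j c * R.y i d)⁻¹
    (inv_mem (mul_mem (mul_mem (cenV _) (cenX _)) (cenZ _)))
  obtain ⟨s, hs⟩ := D.c4 hij (v * u ^ 2) v
  have hb : D.wy j v * D.wy i (v * u ^ 2) = R.x i j s * (D.wy i (v * u ^ 2) * D.wy j v) := by
    rw [hs, ← mul_assoc, R.x_sq, one_mul]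
  have hbmk : D.wy j v * ((D.wy i (v * u ^ 2) * D.wx i j (v * u) * R.x i j e * R.y i f) *
      (R.x i j (v * u) * R.y i (v * u ^ 2))) * (D.wy j v)⁻¹ =
      ((D.wy i (v * u ^ 2) * D.wx i j (v * u) * R.x i j e * R.y i f) *
      (R.x i j (v * u) * R.y i (v * u ^ 2))) * R.x i j s := by
    have c1 : Commute (D.wy j v) (D.wx i j (v * u) * R.x i j e * R.y i f * (R.x i j (v * u) * R.y i (v * u ^ 2))) :=
      (((cbV _).symm.mul_right (cbX _).symm).mul_right (cbZ _).symm).mul_right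
        ((cbX _).symm.mul_right (cbZ _).symm)
    have c2 : Commute (R.x i j s) (D.wy i (v * u ^ 2) * (D.wx i j (v * u) * R.x i j e * R.y i f *
        (R.x i j (v * u) * R.y i (v * u ^ 2)))) := by
      have cXX : ∀ w w', Commute (R.x i j w) (R.x i j w') := fun w w' =>
        R.x_comm (ne_neg i) hij.2 hij.symm.2 (ne_neg j) w w'
      exact (cWX _ _).symm.mul_right ((((cVX _ _).symm.mul_right (cXX _ _)).mul_right (cXZ _ _)).mul_right
        ((cXX _ _).mul_right (cXZ _ _)))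
    calc _ = (D.wy j v * D.wy i (v * u ^ 2)) * (D.wx i j (v * u) * R.x i j e * R.y i f *
          (R.x i j (v * u) * R.y i (v * u ^ 2))) * (D.wy j v)⁻¹ := by simp only [mul_assoc]
      _ = R.x i j s * D.wy i (v * u ^ 2) * (D.wy j v * (D.wx i j (v * u) * R.x i j e * R.y i f *
          (R.x i j (v * u) * R.y i (v * u ^ 2))) * (D.wy j v)⁻¹) := by rw [hb]; simp only [mul_assoc]
      _ = R.x i j s * (D.wy i (v * u ^ 2) * (D.wx i j (v * u) * R.x i j e * R.y i f *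
          (R.x i j (v * u) * R.y i (v * u ^ 2)))) := by rw [c1.mul_inv_cancel]; simp only [mul_assoc]
      _ = _ := by rw [c2.eq]; simp only [mul_assoc]
  have key := t_aux (t := R.t) (a := D.wx i (neg j) u) (b := D.wy j v) (x := R.x i (neg j) u) (y := R.y j v)
    R.tt (D.wx_t hn u) (D.wy_t j v) hxb' hxy
    ((((cyW _).symm.mul_right (cyV _).symm).mul_right (cyX _).symm).mul_right (cyZ _).symm)
    ((cyX _).symm.mul_right (cyZ _).symm) (cyZ z1).symm hya' hz1 hz2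
    (((cbV _).symm.mul_right (cbX _).symm).mul_right (cbZ _).symm) hbmk (cbZ z1).symm
    ((((D.p_wx hij u v hij (ne_neg j) (u * v)).symm).mul_left (D.p_x hij u v hij (ne_neg j) c).symm).mul_left
      (D.p_y hij u v d).symm)
    ((D.p_y hij u v z2).symm)
  refine ⟨c + e + v * u + s, d + z2 + f + v * u ^ 2 + z1, ?_⟩
  have hXZ : ∀ w w', R.y i w * R.x i j w' = R.x i j w' * R.y i w := fun w w' => ((cXZ w' w).symm).eq
  have hXZ' : ∀ w w' g, R.y i w * (R.x i j w' * g) = R.x i j w' * (R.y i w * g) := fun w w' g => by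
    rw [← mul_assoc, hXZ, mul_assoc]
  have hWZ : ∀ w w', R.y i w' * D.wy i w = D.wy i w * R.y i w' := fun w w' => (cWZ w w').symm.eq
  have hWZ' : ∀ w w' g, R.y i w' * (D.wy i w * g) = D.wy i w * (R.y i w' * g) := fun w w' g => by
    rw [← mul_assoc, hWZ, mul_assoc]
  have hWX : ∀ w w', R.x i j w' * D.wy i w = D.wy i w * R.x i j w' := fun w w' => (cWX w w').symm.eq
  have hWX' : ∀ w w' g, R.x i j w' * (D.wy i w * g) = D.wy i w * (R.x i j w' * g) := fun w w' g => by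
    rw [← mul_assoc, hWX, mul_assoc]
  have hVW : ∀ w w' g, D.wx i j w' * (D.wy i w * g) = D.wy i w * (D.wx i j w' * g) := fun w w' g => by
    rw [← mul_assoc, (cWV w w').symm.eq, mul_assoc]
  have hVV : ∀ w g, D.wx i j w * (D.wx i j w * g) = g := fun w g => by
    rw [← mul_assoc, D.wx_sq hij, one_mul]
  rw [show R.t * D.p i j u v * R.t = R.t * (D.wx i (neg j) u * D.wy j v * (D.wx i (neg j) u)⁻¹ * (D.wy j v)⁻¹) * R.t
    from rfl, key]
  have huv : u * v = v * u := mul_comm u v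
  have huv2 : u ^ 2 * v = v * u ^ 2 := mul_comm _ _
  show D.p i j u v * _ = _
  simp only [mul_assoc]
  congr 1
  rw [mul_inv_rev, mul_inv_rev, R.y_inv, R.x_inv, D.wx_inv hij, huv, huv2]
  simp only [mul_assoc]
  have hVZ : ∀ w w' g, D.wx i j w * (R.y i w' * g) = R.y i w' * (D.wx i j w * g) := fun w w' g => by
    rw [← mul_assoc, (cVZ w w').eq, mul_assoc]
  rw [hWZ', hVW, hVZ, hVV]
  simp only [hXZ', hWX', hWZ', R.x_add, R.y_add, mul_assoc]

end one

/-! ### the groups `N_i`, `F_i(J)` -/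

/-- generators of `N_i` -/
def NS (i : Ix n) : Set G :=
  {g | (∃ u, g = D.wy i u) ∨ (∃ a, g = R.y i a) ∨ ∃ j, Dj i j ∧ ((∃ u, g = D.wx i j u) ∨ ∃ a, g = R.x i j a)}

/-- `N_i = W_{2e_i} ∏ W_{e_i±e_j}` -/
def N (i : Ix n) : Subgroup G := Subgroup.closure (D.NS i)

theorem NS_cy {i : Ix n} {g : G} (h : g ∈ D.NS i) : Cy R i g := by
  rcases h with ⟨u, rfl⟩ | ⟨a, rfl⟩ | ⟨j, hij, ⟨u, rfl⟩ | ⟨a, rfl⟩⟩
  exacts [D.cy_wy i u, cy_y i a, D.cy_wx hij u, cy_x hij a]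

omit D in
/-- a subgroup generated by elements which centralise `Y_i` and commute modulo `Y_i` -/
theorem closure_cm {i : Ix n} {S : Set G} (h1 : ∀ s ∈ S, Cy R i s) (h2 : ∀ s ∈ S, ∀ s' ∈ S, Cm R i s s') :
    ∀ g ∈ Subgroup.closure S, Cy R i g ∧ ∀ h ∈ Subgroup.closure S, Cm R i g h := by
  have e1 : ∀ s' ∈ S, Subgroup.closure S ≤ cen R i s' := fun s' hs' =>
    (Subgroup.closure_le _).mpr fun s hs => ⟨h1 s hs, h2 s hs s' hs'⟩
  intro g hg
  have hS : ∀ x ∈ Subgroup.closure S, Cy R i x := by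
    intro x hx
    refine Subgroup.closure_induction (p := fun g _ => Cy R i g) (fun s hs => h1 s hs) Cy.one
      (fun a b _ _ ha hb => ha.mul hb) (fun a _ ha => ha.inv) hx
  refine ⟨hS g hg, fun h hh => ?_⟩
  have : Subgroup.closure S ≤ cen R i g := (Subgroup.closure_le _).mpr fun s hs =>
    ⟨h1 s hs, (e1 s hs hg).2.symm⟩
  exact (this hh).2.symm

theorem NS_cm {i : Ix n} {g h : G} (hg : g ∈ D.NS i) (hh : h ∈ D.NS i) : Cm R i g h := by
  have hwx : ∀ {j k}, Dj i j → Dj i k → ∀ u v, Cm R i (D.wx i j u) (D.wx i k v) := by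
    intro j k hij hik u v
    by_cases hk : k = neg j
    · subst hk; exact D.c2 hij u v
    · refine Cm.of_commute (D.c1 hij hik (ne_neg i) hij.2 hik.symm.2 hk u v)
  have hwxx : ∀ {j k}, Dj i j → Dj i k → ∀ u v, Cm R i (D.wx i j u) (R.x i k v) := by
    intro j k hij hik u v
    by_cases hk : k = neg j
    · subst hk; exact ⟨_, D.a2 hij u v⟩
    · refine Cm.of_commute (D.a1 hij hik (ne_neg i) hij.2 hik.symm.2 hk u v)
  have hxx : ∀ {j k}, Dj i j → Dj i k → ∀ u v, Cm R i (R.x i j u) (R.x i k v) := by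
    intro j k hij hik u v
    by_cases hk : k = neg j
    · subst hk
      refine Cm.of_commute ?_
      rw [R.x_symm i j, R.x_symm i (neg j)]
      have := R.x_comm' (i := j) (j := i) u v
      exact this
    · refine Cm.of_commute (R.x_comm (ne_neg i) hij.2 hik.symm.2 hk u v)
  rcases hg with ⟨u, rfl⟩ | ⟨a, rfl⟩ | ⟨j, hij, ⟨u, rfl⟩ | ⟨a, rfl⟩⟩ <;>
    rcases hh with ⟨u', rfl⟩ | ⟨a', rfl⟩ | ⟨k, hik, ⟨u', rfl⟩ | ⟨a', rfl⟩⟩
  · obtain ⟨c, hc⟩ := D.wy_add i u u'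
    obtain ⟨c', hc'⟩ := D.wy_add i u' u
    refine ⟨c' + c, ?_⟩
    have e : D.wy i (u + u') = D.wy i u' * D.wy i u * R.y i c' := by
      rw [hc', mul_assoc, R.y_sq, mul_one, add_comm]
    rw [hc, e, mul_assoc _ (R.y i c'), ← R.y_add]
    exact ((D.cy_wy i u').mul (D.cy_wy i u) _).eq
  · exact Cm.of_commute (D.cy_wy i u a')
  · exact Cm.of_commute (D.c5 hik (ne_neg i) hik.symm.2 _ _)
  · exact Cm.of_commute (D.b2 hik (ne_neg i) hik.symm.2 _ _)
  · exact Cm.of_commute (D.cy_wy i u' a).symm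
  · exact Cm.of_commute (cy_y i a a')
  · exact Cm.of_commute (D.cy_wx hik u' a).symm
  · exact Cm.of_commute (cy_x hik a' a).symm
  · exact Cm.of_commute (D.c5 hij (ne_neg i) hij.symm.2 _ _).symm
  · exact Cm.of_commute (D.cy_wx hij u a')
  · exact hwx hij hik u u'
  · exact hwxx hij hik u a'
  · exact Cm.of_commute (D.b2 hij (ne_neg i) hij.symm.2 _ _).symm
  · exact Cm.of_commute (cy_x hij a a')
  · exact (hwxx hik hij u' a).symm
  · exact hxx hij hik a a'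

theorem N_cy {i : Ix n} {g : G} (h : g ∈ D.N i) : Cy R i g :=
  (closure_cm (fun _ h => D.NS_cy h) (fun _ h _ h' => D.NS_cm h h') g h).1

theorem N_cm {i : Ix n} {g h : G} (hg : g ∈ D.N i) (hh : h ∈ D.N i) : Cm R i g h :=
  (closure_cm (fun _ h => D.NS_cy h) (fun _ h _ h' => D.NS_cm h h') g hg).2 h hh

theorem wy_mem_N (i : Ix n) (u : F) : D.wy i u ∈ D.N i := Subgroup.subset_closure (Or.inl ⟨u, rfl⟩)

theorem y_mem_N (i : Ix n) (u : F) : R.y i u ∈ D.N i := Subgroup.subset_closure (Or.inr (Or.inl ⟨u, rfl⟩))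

theorem wx_mem_N {i j : Ix n} (h : Dj i j) (u : F) : D.wx i j u ∈ D.N i :=
  Subgroup.subset_closure (Or.inr (Or.inr ⟨j, h, Or.inl ⟨u, rfl⟩⟩))

theorem x_mem_N {i j : Ix n} (h : Dj i j) (u : F) : R.x i j u ∈ D.N i :=
  Subgroup.subset_closure (Or.inr (Or.inr ⟨j, h, Or.inr ⟨u, rfl⟩⟩))

theorem Q_le_N (i : Ix n) : R.Q i ≤ D.N i := by
  refine (Subgroup.closure_le _).mpr ?_
  rintro g (⟨a, rfl⟩ | ⟨j, a, rfl⟩)
  · exact D.y_mem_N i a
  · by_cases h : Dj i j
    · exact D.x_mem_N h a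
    · rw [R.x_of_not h]; exact one_mem _

theorem p_cmx {i j k : Ix n} (hij : Dj i j) (hik : Dj i k) (u v c : F) : Cm R i (D.p i j u v) (R.x i k c) := by
  by_cases hk : k = neg j
  · subst hk; exact D.p_xn hij u v c
  · exact Cm.of_commute (D.p_x hij u v hik hk c)

/-- `a P a⁻¹ = P⁻¹` -/
theorem p_inv {i j : Ix n} (hij : Dj i j) (u v : F) :
    D.wx i (neg j) u * D.p i j u v * (D.wx i (neg j) u)⁻¹ = (D.p i j u v)⁻¹ := by
  have h1 := D.wx_inv (dj_neg_right.mpr hij) u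
  have h2 := D.wx_sq (dj_neg_right.mpr hij) u
  rw [p, mul_inv_rev, mul_inv_rev, mul_inv_rev, inv_inv, inv_inv]
  calc _ = (D.wx i (neg j) u * D.wx i (neg j) u) * D.wy j v * (D.wx i (neg j) u)⁻¹ * (D.wy j v)⁻¹ *
        (D.wx i (neg j) u)⁻¹ := by simp only [mul_assoc]
    _ = D.wy j v * (D.wx i (neg j) u)⁻¹ * (D.wy j v)⁻¹ * (D.wx i (neg j) u)⁻¹ := by rw [h2, one_mul]
    _ = _ := by rw [h1]; simp only [mul_assoc]

theorem eq_zero_of_commute {i j : Ix n} (hij : Dj i j) {u : F} {e : F}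
    (h : Commute (D.wx i j 1) (R.x i (neg j) u * R.y i e)) : u = 0 := by
  have h1 : Commute (D.wx i j 1) (R.x i (neg j) u) := by
    have h2 := D.cy_wx hij 1 e
    have h3 := h.mul_right h2
    rwa [mul_assoc, R.y_sq, mul_one] at h3
  have h4 := D.a2 hij 1 u
  rw [h1.eq, one_mul] at h4
  exact R.y_eq_one (mul_eq_right.mp h4.symm)

/-- (10.2) and the vanishing of the `t`-component -/
theorem p_div {i j k : Ix n} (hij : Dj i j) (hik : Dj i k) (hjk : Dj j k) {u v u' v' : F}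
    (hs : u ^ 2 * v = u' ^ 2 * v') : D.p i j u v * (D.p i k u' v')⁻¹ ∈ D.N i := by
  by_cases h0 : u ^ 2 * v = 0
  · have e1 : D.p i j u v = 1 := by
      rcases mul_eq_zero.mp h0 with h | h
      · rw [pow_eq_zero_iff two_ne_zero] at h; rw [h, D.p_zero_left hij]
      · rw [h, D.p_zero_right]
    have e2 : D.p i k u' v' = 1 := by
      rw [hs] at h0
      rcases mul_eq_zero.mp h0 with h | h
      · rw [pow_eq_zero_iff two_ne_zero] at h; rw [h, D.p_zero_left hik]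
      · rw [h, D.p_zero_right]
    rw [e1, e2, inv_one, mul_one]; exact one_mem _
  have hu : u ≠ 0 := fun h => h0 (by rw [h]; ring)
  obtain ⟨c, d, h1⟩ := D.t_p hij u v
  obtain ⟨c', d', h2⟩ := D.t_p hik u' v'
  have hkj : k ≠ neg j := hjk.symm.2
  have hjk' : j ≠ neg k := hjk.2
  set P := D.p i j u v with hP
  set P' := D.p i k u' v' with hP'
  have ti : R.t⁻¹ = R.t := R.t_inv
  have hWX : ∀ {l}, Dj i l → ∀ w w', Commute (D.wy i w) (R.x i l w') := fun h w w' =>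
    D.b2 h (ne_neg i) h.symm.2 w w'
  have cP'j : Commute P' (R.x i j c) := D.p_x hik u' v' hij hjk' c
  have cP'k : Commute P' (R.x i k c') := D.p_x hik u' v' hik (ne_neg k) c'
  have g1 : R.t * (P * P'⁻¹) * R.t = (P * P'⁻¹) * (R.x i j c * R.x i k c' * R.y i (d + d')) := by
    have e1 : R.t * (P * P'⁻¹) * R.t = (R.t * P * R.t) * (R.t * P' * R.t)⁻¹ := by
      rw [mul_inv_rev, mul_inv_rev, ti]
      calc _ = R.t * P * (R.t * R.t) * P'⁻¹ * R.t := by rw [R.tt]; group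
        _ = _ := by simp only [mul_assoc]
    rw [e1, h1, h2, ← hs]
    have e2 : Commute (R.x i j c * R.x i k c' * R.y i (d + d')) P' :=
      ((cP'j.mul_right cP'k).mul_right (D.p_y hik u' v' _)).symm
    have e3 : Commute (D.wy i (u ^ 2 * v)) (R.x i j c * R.y i d * (R.y i d' * R.x i k c')) :=
      ((hWX hij _ _).mul_right (D.cy_wy i _ _)).mul_right ((D.cy_wy i _ _).mul_right (hWX hik _ _))
    calc _ = P * (D.wy i (u ^ 2 * v) * (R.x i j c * R.y i d * (R.y i d' * R.x i k c'))) *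
          (D.wy i (u ^ 2 * v))⁻¹ * P'⁻¹ := by
          simp only [mul_inv_rev, R.x_inv, R.y_inv, mul_assoc]
      _ = P * (R.x i j c * R.y i d * (R.y i d' * R.x i k c')) * P'⁻¹ := by rw [e3.eq]; group
      _ = P * (R.x i j c * (R.y i (d + d') * R.x i k c')) * P'⁻¹ := by
          rw [R.y_add]; simp only [mul_assoc]
      _ = P * (R.x i j c * R.x i k c' * R.y i (d + d')) * P'⁻¹ := by
          rw [← (cy_x hik c' _).eq, mul_assoc (R.x i j c)]
      _ = _ := by rw [mul_assoc P, (e2.inv_right).eq, mul_assoc P]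
  set e := d + d' with he
  set m := D.wx i j c * D.wx i k c' * D.wy i e with hm
  have cXX : Commute (R.x i j c) (R.x i k c') := R.x_comm (ne_neg i) hij.2 hik.symm.2 hkj _ _
  have cxm : Commute (R.x i j c * R.x i k c' * R.y i e) m := by
    have cj : Commute (R.x i j c) m :=
      ((D.a1 hij hij (ne_neg i) hij.2 hij.symm.2 (ne_neg j) c c).symm.mul_right
        (D.a1 hik hij (ne_neg i) hik.2 hij.symm.2 hjk' c' c).symm).mul_right (hWX hij e c).symm
    have ck : Commute (R.x i k c') m :=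
      ((D.a1 hij hik (ne_neg i) hij.2 hik.symm.2 hkj c c').symm.mul_right
        (D.a1 hik hik (ne_neg i) hik.2 hik.symm.2 (ne_neg k) c' c').symm).mul_right (hWX hik e c').symm
    have cy : Commute (R.y i e) m := (((D.cy_wx hij c).mul (D.cy_wx hik c')).mul (D.cy_wy i e) e).symm
    exact (cj.mul_left ck).mul_left cy
  have mN : m ∈ D.N i := mul_mem (mul_mem (D.wx_mem_N hij _) (D.wx_mem_N hik _)) (D.wy_mem_N i _)
  have tm : R.t * m * R.t = m * (R.x i j c * R.x i k c' * R.y i e) := by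
    have e1 : R.t * m * R.t = (R.t * D.wx i j c * R.t) * (R.t * D.wx i k c' * R.t) * (R.t * D.wy i e * R.t) := by
      rw [hm]
      calc _ = R.t * D.wx i j c * (R.t * R.t) * D.wx i k c' * (R.t * R.t) * D.wy i e * R.t := by
            rw [R.tt]; simp only [mul_one, mul_assoc]
        _ = _ := by simp only [mul_assoc]
    rw [e1, D.wx_t hij, D.wx_t hik, D.wy_t]
    have c1 : Commute (R.x i j c) (D.wx i k c') := (D.a1 hik hij (ne_neg i) hik.2 hij.symm.2 hjk' c' c).symm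
    have c2 : Commute (R.x i j c * R.x i k c') (D.wy i e) :=
      (hWX hij e c).symm.mul_left (hWX hik e c').symm
    calc _ = D.wx i j c * (R.x i j c * D.wx i k c') * R.x i k c' * (D.wy i e * R.y i e) := by
          simp only [mul_assoc]
      _ = D.wx i j c * D.wx i k c' * ((R.x i j c * R.x i k c') * D.wy i e) * R.y i e := by
          rw [c1.eq]; simp only [mul_assoc]
      _ = _ := by rw [c2.eq, hm]; simp only [mul_assoc]
  have sq1 : (R.x i j c * R.x i k c' * R.y i e) * (R.x i j c * R.x i k c' * R.y i e) = 1 := by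
    have h3 : Commute (R.x i j c * R.x i k c') (R.y i e) := ((cy_x hij c).mul (cy_x hik c')) e
    calc _ = (R.x i j c * R.x i k c') * (R.y i e * (R.x i j c * R.x i k c')) * R.y i e := by
          simp only [mul_assoc]
      _ = (R.x i j c * R.x i k c') * (R.x i j c * R.x i k c') * (R.y i e * R.y i e) := by
          rw [← h3.eq]; simp only [mul_assoc]
      _ = R.x i j c * (R.x i k c' * R.x i j c) * R.x i k c' := by rw [R.y_sq]; simp only [mul_one, mul_assoc]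
      _ = (R.x i j c * R.x i j c) * (R.x i k c' * R.x i k c') := by rw [← cXX.eq]; simp only [mul_assoc]
      _ = 1 := by rw [R.x_sq, R.x_sq, one_mul]
  set g := P * P'⁻¹ with hg
  have tgm : g * m * R.t = R.t * (g * m) := by
    have e1 : R.t * (g * m) * R.t = g * m := by
      calc R.t * (g * m) * R.t = (R.t * g * R.t) * (R.t * m * R.t) := by
            calc _ = R.t * g * (R.t * R.t) * m * R.t := by rw [R.tt]; simp only [mul_one, mul_assoc]
              _ = _ := by simp only [mul_assoc]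
        _ = g * ((R.x i j c * R.x i k c' * R.y i e) * m) * (R.x i j c * R.x i k c' * R.y i e) := by
            rw [g1, tm]; simp only [mul_assoc]
        _ = g * m * ((R.x i j c * R.x i k c' * R.y i e) * (R.x i j c * R.x i k c' * R.y i e)) := by
            rw [cxm.eq]; simp only [mul_assoc]
        _ = g * m := by rw [sq1, mul_one]
    calc g * m * R.t = (R.t * R.t) * (g * m) * R.t := by rw [R.tt, one_mul]
      _ = R.t * (R.t * (g * m) * R.t) := by simp only [mul_assoc]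
      _ = _ := by rw [e1]
  have cyg : Cy R i g := (D.p_y hij u v).mul (Cy.inv (D.p_y hik u' v'))
  have cmg : ∀ l, Dj i l → ∀ a, Cm R i (g * m) (R.x i l a) := fun l hil a =>
    Cm.mul cyg (Cm.mul (D.p_y hij u v) (D.p_cmx hij hil u v a)
      (Cm.inv (D.p_y hik u' v') (D.p_cmx hik hil u' v' a))) (D.N_cm mN (D.x_mem_N hil a))
  rcases D.f3 i (g * m) tgm (cyg.mul (D.N_cy mN)) cmg with h | h
  · have : g = (g * m) * m⁻¹ := by group
    rw [this]
    exact mul_mem (D.Q_le_N i h) (inv_mem mN)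
  · exfalso
    have hn := dj_neg_right.mpr hij
    have hPz : P = R.t * (R.t * (g * m) * m⁻¹ * P') := by
      calc P = g * P' := by rw [hg]; group
        _ = (R.t * R.t) * g * P' := by rw [R.tt, one_mul]
        _ = _ := by group
    set z := R.t * (g * m) * m⁻¹ * P' with hz
    have cyq : Cy R i (R.t * (g * m) * m⁻¹) := (D.N_cy (D.Q_le_N i h)).mul (D.N_cy mN).inv
    have cza : Cm R i z (D.wx i (neg j) u) :=
      Cm.mul cyq (D.N_cm (mul_mem (D.Q_le_N i h) (inv_mem mN)) (D.wx_mem_N hn u))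
        (Cm.of_commute (D.p_wx hik u' v' hn (by rw [Ne, neg_inj]; exact hjk.1) u))
    obtain ⟨c1, hc1⟩ := cza.symm
    have hx : Commute (D.wx i (neg j) u) (R.x i (neg j) u) := D.a1 hn hn (ne_neg i) hn.2 hn.symm.2 (ne_neg _) u u
    have ht := D.wx_t hn u
    have hat : D.wx i (neg j) u * R.t * (D.wx i (neg j) u)⁻¹ = R.t * R.x i (neg j) u := by
      have e1 : R.t * D.wx i (neg j) u * R.t * (D.wx i (neg j) u)⁻¹ = R.x i (neg j) u := by
        rw [ht, hx.eq]; group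
      calc _ = R.t * (R.t * D.wx i (neg j) u * R.t * (D.wx i (neg j) u)⁻¹) := by
            rw [← mul_assoc, ← mul_assoc, ← mul_assoc, R.tt, one_mul]
        _ = _ := by rw [e1]
    have hPi : P⁻¹ = R.x i (neg j) u * (R.y i c1 * P) := by
      rw [← D.p_inv hij u v, ← hP]
      calc _ = (D.wx i (neg j) u * R.t * (D.wx i (neg j) u)⁻¹) * (D.wx i (neg j) u * z) * (D.wx i (neg j) u)⁻¹ := by
            rw [hPz]; group
        _ = (R.t * R.x i (neg j) u) * R.y i c1 * z := by rw [hat, hc1]; group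
        _ = R.x i (neg j) u * (R.t * R.y i c1) * z := by rw [← (R.x_t i (neg j) u).eq]; simp only [mul_assoc]
        _ = _ := by rw [← (R.y_t i c1).eq, hPz]; simp only [mul_assoc]
    obtain ⟨c2, hc2⟩ := D.p_xn hij u v u
    have cyP : Cy R i P := D.p_y hij u v
    have hPP : P * P = R.x i (neg j) u * R.y i (c1 + c2) := by
      have e1 : P * (R.x i (neg j) u * (R.y i c1 * P)) = 1 := by rw [← hPi]; group
      have e2 : R.y i c2 * (R.x i (neg j) u * (R.y i c1 * (P * P))) = 1 := by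
        rw [← e1, ← mul_assoc P, hc2, ← mul_assoc (R.y i c1), ← (cyP c1).eq]
        simp only [mul_assoc]
        rw [(cyP c1).eq]
      have e3 : P * P = (R.y i c2 * (R.x i (neg j) u * R.y i c1))⁻¹ :=
        eq_inv_of_mul_eq_one_right (by rw [← e2]; simp only [mul_assoc])
      rw [e3, mul_inv_rev, mul_inv_rev, R.y_inv, R.y_inv, R.x_inv, R.y_add, ← (cy_x hn u c1).eq]
      simp only [mul_assoc]
    refine hu (D.eq_zero_of_commute hij (e := c1 + c2) (u := u) ?_)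
    rw [← hPP]
    have := D.p_wx hij u v hij (ne_neg j) 1
    exact this.symm.mul_right this.symm

theorem p_mem {i j k : Ix n} (hij : Dj i j) (hik : Dj i k) (hjk : Dj j k) {u v u' v' : F}
    (hs : u ^ 2 * v = u' ^ 2 * v') : ∃ m ∈ D.N i, D.p i j u v = m * D.p i k u' v' :=
  ⟨_, D.p_div hij hik hjk hs, by group⟩


/-- `N_i` is generated by elements commuting with `P` modulo `Y_i` -/
theorem N_le_cen {i : Ix n} {g : G} (hg : Cy R i g) (h1 : ∀ j, Dj i j → ∀ u, Cm R i g (D.wx i j u))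
    (h2 : ∀ j, Dj i j → ∀ a, Cm R i g (R.x i j a)) (h3 : ∀ u, Cm R i g (D.wy i u)) :
    ∀ m ∈ D.N i, Cm R i g m := by
  have : D.N i ≤ cen R i g := by
    refine (Subgroup.closure_le _).mpr ?_
    rintro m (⟨u, rfl⟩ | ⟨a, rfl⟩ | ⟨j, hij, ⟨u, rfl⟩ | ⟨a, rfl⟩⟩)
    · exact ⟨D.cy_wy i u, (h3 u).symm⟩
    · exact ⟨cy_y i a, Cm.of_commute (hg a).symm⟩
    · exact ⟨D.cy_wx hij u, (h1 j hij u).symm⟩
    · exact ⟨cy_x hij a, (h2 j hij a).symm⟩
  exact fun m hm => (this hm).2.symm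

section big

variable (h3 : ∀ i j : Ix n, ∃ k, Dj i k ∧ Dj j k)

include h3

theorem p_cm_wxn {i j : Ix n} (hij : Dj i j) (u v c : F) : Cm R i (D.p i j u v) (D.wx i (neg j) c) := by
  obtain ⟨k, hik, hjk⟩ := h3 i j
  obtain ⟨m, hm, e⟩ := D.p_mem hij hik hjk (u := u) (v := v) (u' := u) (v' := v) rfl
  rw [e]
  exact Cm.mul (D.N_cy hm) (D.N_cm hm (D.wx_mem_N (dj_neg_right.mpr hij) c))
    (Cm.of_commute (D.p_wx hik u v (dj_neg_right.mpr hij) (by rw [Ne, neg_inj]; exact hjk.1) c))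

theorem p_cm_N {i j : Ix n} (hij : Dj i j) (u v : F) : ∀ m ∈ D.N i, Cm R i (D.p i j u v) m :=
  D.N_le_cen (D.p_y hij u v) (fun k hik c => by
    by_cases hk : k = neg j
    · subst hk; exact D.p_cm_wxn h3 hij u v c
    · exact Cm.of_commute (D.p_wx hij u v hik hk c)) (fun k hik c => D.p_cmx hij hik u v c)
    (fun c => D.p_wy hij u v c)

theorem p_sq {i j : Ix n} (hij : Dj i j) (u v : F) : D.p i j u v * D.p i j u v ∈ Yg R i := by
  obtain ⟨c, hc⟩ := (D.p_cm_wxn h3 hij u v u).symm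
  have h1 := D.p_inv hij u v
  rw [hc] at h1
  refine ⟨c, ?_⟩
  have h2 : R.y i c * D.p i j u v = (D.p i j u v)⁻¹ := by rw [← h1]; group
  have h4 : R.y i c * (D.p i j u v * D.p i j u v) = 1 := by rw [← mul_assoc, h2, inv_mul_cancel]
  calc D.p i j u v * D.p i j u v = R.y i c * (R.y i c * (D.p i j u v * D.p i j u v)) := by
        rw [← mul_assoc, R.y_sq, one_mul]
    _ = _ := by rw [h4, mul_one]

theorem p_add {i j : Ix n} (hij : Dj i j) (u u' v : F) :
    ∃ c, D.p i j (u + u') v = R.y i c * (D.p i j u' v * D.p i j u v) := by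
  obtain ⟨c, hc⟩ := (D.p_cm_wxn h3 hij u' v u).symm
  refine ⟨c, ?_⟩
  have e : D.p i j (u + u') v = D.wx i (neg j) u * D.p i j u' v * (D.wx i (neg j) u)⁻¹ * D.p i j u v := by
    simp only [p]
    rw [D.wx_add (dj_neg_right.mpr hij)]
    group
  rw [e, hc]; group

theorem p_cm_same {i j : Ix n} (hij : Dj i j) (u u' v : F) : Cm R i (D.p i j u v) (D.p i j u' v) := by
  obtain ⟨c, hc⟩ := D.p_add h3 hij u u' v
  obtain ⟨d, hd⟩ := D.p_add h3 hij u' u v
  rw [add_comm u' u, hc] at hd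
  refine ⟨d + c, ?_⟩
  have e := congrArg (fun g => R.y i d * g) hd
  rw [← mul_assoc, ← mul_assoc (R.y i d) (R.y i d), R.y_sq, one_mul, ← R.y_add] at e
  exact e.symm

theorem p_mem' [Finite F] {i j k : Ix n} (hij : Dj i j) (hik : Dj i k) {u' v' v : F} (hv : v ≠ 0) :
    ∃ a, ∃ m ∈ D.N i, D.p i k u' v' = m * D.p i j a v := by
  obtain ⟨a, ha⟩ : ∃ a : F, a ^ 2 = u' ^ 2 * v' / v := by
    have h2 : ringChar F = 2 := ringChar.eq F 2
    obtain ⟨a, ha⟩ := FiniteField.isSquare_of_char_two h2 (u' ^ 2 * v' / v)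
    exact ⟨a, by rw [ha, sq]⟩
  have ha' : u' ^ 2 * v' = a ^ 2 * v := by rw [ha, div_mul_cancel₀ _ hv]
  refine ⟨a, ?_⟩
  by_cases hjk : Dj j k
  · exact D.p_mem hik hij hjk.symm ha'
  · obtain ⟨l, hil, hjl⟩ := h3 i j
    have hkl : Dj k l := by
      by_contra hkl
      simp only [Dj, not_and_or, not_not] at hjk hkl hjl
      rcases hjk with h | h <;> rcases hkl with h' | h'
      · exact hjl.1 (h.trans h')
      · exact hjl.2 (h.trans h')
      · exact hjl.2 (by rw [h, h'])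
      · exact hjl.1 (by rw [h, h', neg_neg])
    obtain ⟨m1, hm1, e1⟩ := D.p_mem hik hil hkl (u := u') (v := v') (u' := u') (v' := v') rfl
    obtain ⟨m2, hm2, e2⟩ := D.p_mem hil hij hjl.symm ha'
    exact ⟨m1 * m2, mul_mem hm1 hm2, by rw [e1, e2, mul_assoc]⟩

theorem p_cm [Finite F] {i j k : Ix n} (hij : Dj i j) (hik : Dj i k) (u v u' v' : F) :
    Cm R i (D.p i j u v) (D.p i k u' v') := by
  by_cases hv : v = 0
  · rw [hv, D.p_zero_right]; exact Cm.of_commute (Commute.one_left _)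
  obtain ⟨a, m, hm, e⟩ := D.p_mem' h3 hij hik hv (u' := u') (v' := v')
  rw [e]
  exact (Cm.mul (D.N_cy hm) (D.p_cm_N h3 hij u v m hm).symm (D.p_cm_same h3 hij a u v)).symm

end big

/-- generators of `F_i(J)` -/
def FS (i : Ix n) (J : Set (Ix n)) : Set G :=
  {g | (∃ u, g = D.wy i u) ∨ (∃ a, g = R.y i a) ∨ ∃ j ∈ J, Dj i j ∧
    ((∃ u, g = D.wx i j u) ∨ (∃ a, g = R.x i j a) ∨ ∃ u v, g = D.p i j u v)}

/-- `F_i(J) = ⟨W_{2e_i}, W_{e_i+e_j}, p_j(u,v) : j ∈ J⟩` -/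
def Fg (i : Ix n) (J : Set (Ix n)) : Subgroup G := Subgroup.closure (D.FS i J)

section Fmem

variable {i j : Ix n} {J : Set (Ix n)}

theorem wy_mem_F (u : F) : D.wy i u ∈ D.Fg i J := Subgroup.subset_closure (Or.inl ⟨u, rfl⟩)

theorem y_mem_F (u : F) : R.y i u ∈ D.Fg i J := Subgroup.subset_closure (Or.inr (Or.inl ⟨u, rfl⟩))

theorem wx_mem_F (hJ : j ∈ J) (h : Dj i j) (u : F) : D.wx i j u ∈ D.Fg i J :=
  Subgroup.subset_closure (Or.inr (Or.inr ⟨j, hJ, h, Or.inl ⟨u, rfl⟩⟩))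

theorem x_mem_F (hJ : j ∈ J) (h : Dj i j) (u : F) : R.x i j u ∈ D.Fg i J :=
  Subgroup.subset_closure (Or.inr (Or.inr ⟨j, hJ, h, Or.inr (Or.inl ⟨u, rfl⟩)⟩))

theorem p_mem_F (hJ : j ∈ J) (h : Dj i j) (u v : F) : D.p i j u v ∈ D.Fg i J :=
  Subgroup.subset_closure (Or.inr (Or.inr ⟨j, hJ, h, Or.inr (Or.inr ⟨u, v, rfl⟩)⟩))

theorem F_mono {J' : Set (Ix n)} (h : J ⊆ J') : D.Fg i J ≤ D.Fg i J' := by
  refine Subgroup.closure_mono ?_
  rintro g (h1 | h1 | ⟨j, hj, hij, h1⟩)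
  exacts [Or.inl h1, Or.inr (Or.inl h1), Or.inr (Or.inr ⟨j, h hj, hij, h1⟩)]

theorem N_le_F : D.N i ≤ D.Fg i Set.univ := by
  refine Subgroup.closure_mono ?_
  rintro g (h1 | h1 | ⟨j, hij, h1 | h1⟩)
  exacts [Or.inl h1, Or.inr (Or.inl h1), Or.inr (Or.inr ⟨j, trivial, hij, Or.inl h1⟩),
    Or.inr (Or.inr ⟨j, trivial, hij, Or.inr (Or.inl h1)⟩)]

variable [Finite F] (h3 : ∀ i j : Ix n, ∃ k, Dj i k ∧ Dj j k)

include h3

theorem FS_cm {g h : G} (hg : g ∈ D.FS i Set.univ) (hh : h ∈ D.FS i Set.univ) : Cm R i g h := by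
  have key : ∀ g, g ∈ D.FS i Set.univ → g ∈ D.N i ∨ ∃ j, Dj i j ∧ ∃ u v, g = D.p i j u v := by
    rintro g (⟨u, rfl⟩ | ⟨a, rfl⟩ | ⟨j, -, hij, ⟨u, rfl⟩ | ⟨a, rfl⟩ | ⟨u, v, rfl⟩⟩)
    exacts [Or.inl (D.wy_mem_N i u), Or.inl (D.y_mem_N i a), Or.inl (D.wx_mem_N hij u), Or.inl (D.x_mem_N hij a),
      Or.inr ⟨j, hij, u, v, rfl⟩]
  rcases key g hg with h1 | ⟨j, hij, u, v, rfl⟩ <;> rcases key h hh with h2 | ⟨k, hik, u', v', rfl⟩
  · exact D.N_cm h1 h2
  · exact (D.p_cm_N h3 hik u' v' g h1).symm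
  · exact D.p_cm_N h3 hij u v h h2
  · exact D.p_cm h3 hij hik u v u' v'

omit h3 [Finite F] in
theorem FS_cy {g : G} (hg : g ∈ D.FS i J) : Cy R i g := by
  rcases hg with ⟨u, rfl⟩ | ⟨a, rfl⟩ | ⟨j, -, hij, ⟨u, rfl⟩ | ⟨a, rfl⟩ | ⟨u, v, rfl⟩⟩
  exacts [D.cy_wy i u, cy_y i a, D.cy_wx hij u, cy_x hij a, D.p_y hij u v]

omit h3 [Finite F] in
theorem F_cy {g : G} (hg : g ∈ D.Fg i J) : Cy R i g :=
  Subgroup.closure_induction (p := fun g _ => Cy R i g) (fun _ hs => D.FS_cy hs) Cy.one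
    (fun _ _ _ _ ha hb => ha.mul hb) (fun _ _ ha => ha.inv) hg

theorem F_cm {g h : G} (hg : g ∈ D.Fg i J) (hh : h ∈ D.Fg i J) : Cm R i g h :=
  (closure_cm (fun _ h => D.FS_cy h) (fun _ h _ h' => D.FS_cm h3 h h') g (D.F_mono (Set.subset_univ J) hg)).2 h
    (D.F_mono (Set.subset_univ J) hh)

theorem F_sq {g : G} (hg : g ∈ D.Fg i J) : g * g ∈ Yg R i := by
  refine Subgroup.closure_induction (p := fun g _ => g * g ∈ Yg R i) ?_ ?_ ?_ ?_ hg
  · rintro g (⟨u, rfl⟩ | ⟨a, rfl⟩ | ⟨j, -, hij, ⟨u, rfl⟩ | ⟨a, rfl⟩ | ⟨u, v, rfl⟩⟩)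
    · rw [D.wy_sq]; exact y_mem_Yg i u
    · rw [R.y_sq]; exact one_mem _
    · rw [D.wx_sq hij]; exact one_mem _
    · rw [R.x_sq]; exact one_mem _
    · exact D.p_sq h3 hij u v
  · rw [one_mul]; exact one_mem _
  · intro a b ha hb h1 h2
    obtain ⟨c, hc⟩ := D.F_cm h3 hb ha
    have e : a * b * (a * b) = R.y i c * ((a * a) * (b * b)) := by
      calc a * b * (a * b) = a * (b * a) * b := by group
        _ = (a * R.y i c) * (a * b * b) := by rw [hc]; group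
        _ = _ := by rw [(D.F_cy ha c).eq]; group
    rw [e]
    exact mul_mem (y_mem_Yg i c) (mul_mem h1 h2)
  · intro a _ h1
    have : a⁻¹ * a⁻¹ = (a * a)⁻¹ := by group
    rw [this]; exact inv_mem h1

end Fmem

/-! ### normalisers -/

omit D in
theorem mem_normalizer_of_gen {H : Type*} [Group H] [Finite H] {S : Set H} {g : H}
    (h : ∀ s ∈ S, g * s * g⁻¹ ∈ Subgroup.closure S) :
    g ∈ Subgroup.normalizer (Subgroup.closure S : Set H) := by
  have h1 : (Subgroup.closure S).map (MulAut.conj g).toMonoidHom ≤ Subgroup.closure S := by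
    rw [Subgroup.map_le_iff_le_comap, Subgroup.closure_le]
    intro s hs
    exact h s hs
  have h2 : (Subgroup.closure S).map (MulAut.conj g).toMonoidHom = Subgroup.closure S :=
    Subgroup.eq_of_le_of_card_ge h1
      (Nat.card_congr ((Subgroup.closure S).equivMapOfInjective _ (MulAut.conj g).injective).toEquiv).le
  rw [Subgroup.mem_normalizer_iff]
  intro x
  constructor
  · intro hx
    exact h1 ⟨x, hx, rfl⟩
  · intro hx
    have hx' : g * x * g⁻¹ ∈ (Subgroup.closure S).map (MulAut.conj g).toMonoidHom := by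
      rw [h2]; exact hx
    obtain ⟨z, hz, e⟩ := hx'
    have e2 : g * z * g⁻¹ = g * x * g⁻¹ := e
    have e3 : z = x := mul_left_cancel (mul_right_cancel e2)
    rwa [← e3]

section nor

variable [Finite G] [Finite F] (h3 : ∀ i j : Ix n, ∃ k, Dj i k ∧ Dj j k) {i : Ix n}

/-- to normalise `F_i` -/
theorem mem_nor {g : G} (h0 : ∀ u, g * D.wy i u * g⁻¹ ∈ D.Fg i Set.univ) (h1 : Cy R i g)
    (h2 : ∀ j, Dj i j → ∀ u, g * D.wx i j u * g⁻¹ ∈ D.Fg i Set.univ)
    (h4 : ∀ j, Dj i j → ∀ u, g * R.x i j u * g⁻¹ ∈ D.Fg i Set.univ)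
    (h5 : ∀ j, Dj i j → ∀ u v, g * D.p i j u v * g⁻¹ ∈ D.Fg i Set.univ) :
    g ∈ Subgroup.normalizer (D.Fg i Set.univ : Set G) := by
  refine mem_normalizer_of_gen ?_
  rintro s (⟨u, rfl⟩ | ⟨a, rfl⟩ | ⟨j, -, hij, ⟨u, rfl⟩ | ⟨a, rfl⟩ | ⟨u, v, rfl⟩⟩)
  · exact h0 u
  · rw [(h1 a).mul_inv_cancel]; exact D.y_mem_F a
  · exact h2 j hij u
  · exact h4 j hij a
  · exact h5 j hij u v

omit [Finite G] [Finite F] in
theorem conj_mem_of_comm {g s : G} {H : Subgroup G} (h : Commute g s) (hs : s ∈ H) : g * s * g⁻¹ ∈ H := by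
  rw [h.mul_inv_cancel]; exact hs

omit [Finite G] in
theorem x_conj {k l : Ix n} (hik : Dj i k) (hil : Dj i l) (hkl : Dj k l) (c : F) :
    (∀ j, Dj i j → ∀ u, R.x k l c * D.wx i j u * (R.x k l c)⁻¹ ∈ D.N i) ∧
    (∀ j, Dj i j → ∀ u, R.x k l c * R.x i j u * (R.x k l c)⁻¹ ∈ D.N i) ∧
    (∀ j, Dj i j → ∀ u v, R.x k l c * D.p i j u v * (R.x k l c)⁻¹ ∈ D.Fg i Set.univ) := by
  have hwx : ∀ {k l : Ix n}, Dj i k → Dj i l → Dj k l → ∀ (j : Ix n), Dj i j → ∀ u, l ≠ neg j →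
      R.x k l c * D.wx i j u * (R.x k l c)⁻¹ ∈ D.N i := by
    intro k l hik hil hkl j hij u hjl
    by_cases hk : k = neg j
    · subst hk
      obtain ⟨d, hd⟩ := D.a3 hij (dj_neg_left.mp hkl) hil u c
      rw [hd]
      exact mul_mem (mul_mem (D.wx_mem_N hij _) (D.wx_mem_N hil _)) (D.x_mem_N hil _)
    · exact D.conj_mem_of_comm (D.a1 hij hkl hik.symm.2 hk hil.symm.2 hjl u c).symm (D.wx_mem_N hij u)
  have hx : ∀ {k l : Ix n}, Dj i k → Dj i l → Dj k l → ∀ (j : Ix n), Dj i j → ∀ u, l ≠ neg j →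
      R.x k l c * R.x i j u * (R.x k l c)⁻¹ ∈ D.N i := by
    intro k l hik hil hkl j hij u hjl
    by_cases hk : k = neg j
    · subst hk
      have hd := R.x_rel hij (dj_neg_left.mp hkl) hil u c
      have e : R.x (neg j) l c * R.x i j u * (R.x (neg j) l c)⁻¹ = (R.x i l (u * c))⁻¹ * R.x i j u := by
        have h4 : R.x (neg j) l c * R.x i j u = (R.x i l (u * c))⁻¹ * (R.x i j u * R.x (neg j) l c) := by
          rw [hd]; group
        rw [h4]; group
      rw [e]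
      exact mul_mem (inv_mem (D.x_mem_N hil _)) (D.x_mem_N hij _)
    · exact D.conj_mem_of_comm (R.x_comm hik.symm.2 hk hil.symm.2 hjl u c).symm (D.x_mem_N hij u)
  -- commuting with `p`
  have hp0 : ∀ {k l : Ix n}, Dj i k → Dj i l → Dj k l → ∀ (j : Ix n), Dj i j → ∀ u v, k ≠ neg j → l ≠ neg j →
      Commute (R.x k l c) (D.p i j u v) := by
    intro k l hik hil hkl j hij u v hk hl
    by_cases hkj : k = j
    · subst hkj; exact (D.p_xj hij u v hil hkl c).symm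
    by_cases hlj : l = j
    · subst hlj; rw [R.x_symm]; exact (D.p_xj hij u v hik hkl.symm c).symm
    · exact (D.p_xkl hij u v hkl hik hil ⟨fun e => hkj e.symm, fun e => hk (by rw [e, neg_neg])⟩
        ⟨fun e => hlj e.symm, fun e => hl (by rw [e, neg_neg])⟩ c).symm
  have hN : ∀ m ∈ D.N i, R.x k l c * m * (R.x k l c)⁻¹ ∈ D.N i := by
    intro m hm
    refine Subgroup.closure_induction (p := fun m _ => R.x k l c * m * (R.x k l c)⁻¹ ∈ D.N i) ?_ ?_ ?_ ?_ hm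
    · rintro s (⟨u, rfl⟩ | ⟨a, rfl⟩ | ⟨j, hij, h⟩)
      · exact D.conj_mem_of_comm (D.b2 hkl hik.symm.2 hil.symm.2 u c).symm (D.wy_mem_N i u)
      · exact D.conj_mem_of_comm (R.y_x_comm hik.symm.2 hil.symm.2 a c).symm (D.y_mem_N i a)
      · by_cases hl : l = neg j
        · have hk : k ≠ neg j := fun e => hkl.1 (e.trans hl.symm)
          rw [R.x_symm k l]
          rcases h with ⟨u, rfl⟩ | ⟨u, rfl⟩
          exacts [hwx hil hik hkl.symm j hij u hk, hx hil hik hkl.symm j hij u hk]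
        · rcases h with ⟨u, rfl⟩ | ⟨u, rfl⟩
          exacts [hwx hik hil hkl j hij u hl, hx hik hil hkl j hij u hl]
    · rw [mul_one, mul_inv_cancel]; exact one_mem _
    · intro a b _ _ ha hb
      have e : R.x k l c * (a * b) * (R.x k l c)⁻¹ =
          (R.x k l c * a * (R.x k l c)⁻¹) * (R.x k l c * b * (R.x k l c)⁻¹) := by group
      rw [e]; exact mul_mem ha hb
    · intro a _ ha
      have e : R.x k l c * a⁻¹ * (R.x k l c)⁻¹ = (R.x k l c * a * (R.x k l c)⁻¹)⁻¹ := by group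
      rw [e]; exact inv_mem ha
  refine ⟨fun j hij u => hN _ (D.wx_mem_N hij u), fun j hij u => hN _ (D.x_mem_N hij u), fun j hij u v => ?_⟩
  by_cases h : k ≠ neg j ∧ l ≠ neg j
  · exact D.conj_mem_of_comm (hp0 hik hil hkl j hij u v h.1 h.2) (D.p_mem_F (Set.mem_univ _) hij u v)
  · -- `p_j = m p_k'` with `k'` the other index
    obtain ⟨k', hik', hjk', hc⟩ : ∃ k', Dj i k' ∧ Dj j k' ∧ Commute (R.x k l c) (D.p i k' u v) := by
      by_cases hk : k = neg j
      · refine ⟨l, hil, ?_, hp0 hik hil hkl l hil u v ?_ (ne_neg l)⟩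
        · rw [hk] at hkl; exact dj_neg_left.mp hkl
        · exact hkl.2
      · have hl : l = neg j := by
          by_contra hl; exact h ⟨hk, hl⟩
        refine ⟨k, hik, ?_, hp0 hik hil hkl k hik u v (ne_neg k) ?_⟩
        · rw [hl] at hkl; exact (dj_neg_right.mp hkl).symm
        · exact hkl.symm.2
    obtain ⟨m, hm, e⟩ := D.p_mem hij hik' hjk' (u := u) (v := v) (u' := u) (v' := v) rfl
    have e2 : R.x k l c * D.p i j u v * (R.x k l c)⁻¹ =
        (R.x k l c * m * (R.x k l c)⁻¹) * (R.x k l c * D.p i k' u v * (R.x k l c)⁻¹) := by rw [e]; group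
    rw [e2, hc.mul_inv_cancel]
    exact mul_mem (D.N_le_F (hN m hm)) (D.p_mem_F (Set.mem_univ _) hik' u v)

theorem x_nor {k l : Ix n} (hik : Dj i k) (hil : Dj i l) (hkl : Dj k l) (c : F) :
    R.x k l c ∈ Subgroup.normalizer (D.Fg i Set.univ : Set G) := by
  obtain ⟨h1, h2, h4⟩ := D.x_conj hik hil hkl c
  refine D.mem_nor (fun u => D.conj_mem_of_comm (D.b2 hkl hik.symm.2 hil.symm.2 u c).symm (D.wy_mem_F u))
    (fun a => (R.y_x_comm hik.symm.2 hil.symm.2 a c).symm) (fun j hij u => D.N_le_F (h1 j hij u))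
    (fun j hij u => D.N_le_F (h2 j hij u)) h4

omit D [Finite G] [Finite F] in
theorem closure_conj {S : Set G} {g : G} {H : Subgroup G} (h : ∀ s ∈ S, g * s * g⁻¹ ∈ H) :
    ∀ m ∈ Subgroup.closure S, g * m * g⁻¹ ∈ H := by
  intro m hm
  refine Subgroup.closure_induction (p := fun m _ => g * m * g⁻¹ ∈ H) h ?_ ?_ ?_ hm
  · rw [mul_one, mul_inv_cancel]; exact one_mem _
  · intro a b _ _ ha hb
    have e : g * (a * b) * g⁻¹ = (g * a * g⁻¹) * (g * b * g⁻¹) := by group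
    rw [e]; exact mul_mem ha hb
  · intro a _ ha
    have e : g * a⁻¹ * g⁻¹ = (g * a * g⁻¹)⁻¹ := by group
    rw [e]; exact inv_mem ha

omit [Finite G] in
theorem wx_conj {k l : Ix n} (hik : Dj i k) (hil : Dj i l) (hkl : Dj k l) (c : F) :
    (∀ j, Dj i j → ∀ u, D.wx k l c * D.wx i j u * (D.wx k l c)⁻¹ ∈ D.N i) ∧
    (∀ j, Dj i j → ∀ u, D.wx k l c * R.x i j u * (D.wx k l c)⁻¹ ∈ D.N i) ∧
    (∀ j, Dj i j → ∀ u v, D.wx k l c * D.p i j u v * (D.wx k l c)⁻¹ ∈ D.Fg i Set.univ) := by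
  have hwx : ∀ {k l : Ix n}, Dj i k → Dj i l → Dj k l → ∀ (j : Ix n), Dj i j → ∀ u, l ≠ neg j →
      D.wx k l c * D.wx i j u * (D.wx k l c)⁻¹ ∈ D.N i := by
    intro k l hik hil hkl j hij u hjl
    by_cases hk : k = neg j
    · subst hk
      obtain ⟨d, e, hd⟩ := D.c3 hij (dj_neg_left.mp hkl) hil u c
      rw [hd]
      exact mul_mem (mul_mem (D.wx_mem_N hij _) (D.wx_mem_N hil _)) (D.x_mem_N hil _)
    · exact D.conj_mem_of_comm (D.c1 hij hkl hik.symm.2 hk hil.symm.2 hjl u c).symm (D.wx_mem_N hij u)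
  have hx : ∀ {k l : Ix n}, Dj i k → Dj i l → Dj k l → ∀ (j : Ix n), Dj i j → ∀ u, l ≠ neg j →
      D.wx k l c * R.x i j u * (D.wx k l c)⁻¹ ∈ D.N i := by
    intro k l hik hil hkl j hij u hjl
    by_cases hk : k = neg j
    · subst hk
      obtain ⟨d, hd⟩ := D.a3 (i := l) (j := neg j) (k := i) hkl.symm (dj_neg_left.mpr hij.symm) hil.symm c u
      rw [neg_neg, R.x_symm j i, D.wx_symm l (neg j)] at hd
      have hw := D.wx_inv hkl c
      have e : D.wx (neg j) l c * R.x i j u * (D.wx (neg j) l c)⁻¹ =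
          (D.wx l i (c * u) * R.x l i d) * R.x i j u := by
        have h4 : R.x i j u * D.wx (neg j) l c = D.wx (neg j) l c * (D.wx l i (c * u) * R.x l i d) * R.x i j u := by
          rw [← mul_assoc, ← hd]; group
        have h5 : (D.wx (neg j) l c)⁻¹ * (R.x i j u * D.wx (neg j) l c) =
            (D.wx l i (c * u) * R.x l i d) * R.x i j u := by rw [h4]; group
        rw [← h5]
        rw [hw]; simp only [mul_assoc]
      rw [e, D.wx_symm, R.x_symm l i]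
      exact mul_mem (mul_mem (D.wx_mem_N hil _) (D.x_mem_N hil _)) (D.x_mem_N hij _)
    · refine D.conj_mem_of_comm (D.a1 hkl hij ?_ ?_ ?_ ?_ c u) (D.x_mem_N hij u)
      · exact hik.2
      · exact hil.2
      · intro e; exact hk (by rw [e, neg_neg])
      · intro e; exact hjl (by rw [e, neg_neg])
  -- commuting with `p`
  have hp0 : ∀ {k l : Ix n}, Dj i k → Dj i l → Dj k l → ∀ (j : Ix n), Dj i j → ∀ u v, k ≠ neg j → l ≠ neg j →
      Commute (D.wx k l c) (D.p i j u v) := by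
    intro k l hik hil hkl j hij u v hk hl
    by_cases hkj : k = j
    · subst hkj; exact (D.p_wxj hij u v hil hkl c).symm
    by_cases hlj : l = j
    · subst hlj; rw [D.wx_symm]; exact (D.p_wxj hij u v hik hkl.symm c).symm
    · exact (D.p_wxkl hij u v hkl hik hil ⟨fun e => hkj e.symm, fun e => hk (by rw [e, neg_neg])⟩
        ⟨fun e => hlj e.symm, fun e => hl (by rw [e, neg_neg])⟩ c).symm
  have hN : ∀ m ∈ D.N i, D.wx k l c * m * (D.wx k l c)⁻¹ ∈ D.N i := by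
    refine closure_conj (S := D.NS i) ?_
    rintro s (⟨u, rfl⟩ | ⟨a, rfl⟩ | ⟨j, hij, h⟩)
    · exact D.conj_mem_of_comm (D.c5 hkl hik.symm.2 hil.symm.2 u c).symm (D.wy_mem_N i u)
    · exact D.conj_mem_of_comm (D.a4 hkl hik.2 hil.2 c a) (D.y_mem_N i a)
    · by_cases hl : l = neg j
      · have hk : k ≠ neg j := fun e => hkl.1 (e.trans hl.symm)
        rw [D.wx_symm k l]
        rcases h with ⟨u, rfl⟩ | ⟨u, rfl⟩
        exacts [hwx hil hik hkl.symm j hij u hk, hx hil hik hkl.symm j hij u hk]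
      · rcases h with ⟨u, rfl⟩ | ⟨u, rfl⟩
        exacts [hwx hik hil hkl j hij u hl, hx hik hil hkl j hij u hl]
  refine ⟨fun j hij u => hN _ (D.wx_mem_N hij u), fun j hij u => hN _ (D.x_mem_N hij u), fun j hij u v => ?_⟩
  by_cases h : k ≠ neg j ∧ l ≠ neg j
  · exact D.conj_mem_of_comm (hp0 hik hil hkl j hij u v h.1 h.2) (D.p_mem_F (Set.mem_univ _) hij u v)
  · obtain ⟨k', hik', hjk', hc⟩ : ∃ k', Dj i k' ∧ Dj j k' ∧ Commute (D.wx k l c) (D.p i k' u v) := by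
      by_cases hk : k = neg j
      · refine ⟨l, hil, ?_, hp0 hik hil hkl l hil u v ?_ (ne_neg l)⟩
        · rw [hk] at hkl; exact dj_neg_left.mp hkl
        · exact hkl.2
      · have hl : l = neg j := by
          by_contra hl; exact h ⟨hk, hl⟩
        refine ⟨k, hik, ?_, hp0 hik hil hkl k hik u v (ne_neg k) ?_⟩
        · rw [hl] at hkl; exact (dj_neg_right.mp hkl).symm
        · exact hkl.symm.2
    obtain ⟨m, hm, e⟩ := D.p_mem hij hik' hjk' (u := u) (v := v) (u' := u) (v' := v) rfl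
    have e2 : D.wx k l c * D.p i j u v * (D.wx k l c)⁻¹ =
        (D.wx k l c * m * (D.wx k l c)⁻¹) * (D.wx k l c * D.p i k' u v * (D.wx k l c)⁻¹) := by rw [e]; group
    rw [e2, hc.mul_inv_cancel]
    exact mul_mem (D.N_le_F (hN m hm)) (D.p_mem_F (Set.mem_univ _) hik' u v)

theorem wx_nor {k l : Ix n} (hik : Dj i k) (hil : Dj i l) (hkl : Dj k l) (c : F) :
    D.wx k l c ∈ Subgroup.normalizer (D.Fg i Set.univ : Set G) := by
  obtain ⟨h1, h2, h4⟩ := D.wx_conj hik hil hkl c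
  exact D.mem_nor (fun u => D.conj_mem_of_comm (D.c5 hkl hik.symm.2 hil.symm.2 u c).symm (D.wy_mem_F u))
    (fun a => D.a4 hkl hik.2 hil.2 c a) (fun j hij u => D.N_le_F (h1 j hij u))
    (fun j hij u => D.N_le_F (h2 j hij u)) h4

include h3

omit [Finite G] in
theorem y_conj {k : Ix n} (hik : Dj i k) (c : F) :
    (∀ m ∈ D.N i, R.y k c * m * (R.y k c)⁻¹ ∈ D.N i) ∧
    (∀ j, Dj i j → ∀ u v, R.y k c * D.p i j u v * (R.y k c)⁻¹ ∈ D.Fg i Set.univ) := by
  have hN : ∀ m ∈ D.N i, R.y k c * m * (R.y k c)⁻¹ ∈ D.N i := by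
    refine closure_conj (S := D.NS i) ?_
    rintro s (⟨u, rfl⟩ | ⟨a, rfl⟩ | ⟨j, hij, ⟨u, rfl⟩ | ⟨u, rfl⟩⟩)
    · exact D.conj_mem_of_comm (D.b1 hik.symm.2 u c).symm (D.wy_mem_N i u)
    · exact D.conj_mem_of_comm (R.y_comm hik.2 c a) (D.y_mem_N i a)
    · by_cases hk : k = neg j
      · subst hk
        obtain ⟨d, e, hd⟩ := D.a5 hij u c
        rw [hd]
        exact mul_mem (mul_mem (mul_mem (D.wx_mem_N hij _) (D.wx_mem_N hik _)) (D.x_mem_N hik _)) (D.y_mem_N i _)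
      · exact D.conj_mem_of_comm (D.a4 hij hik.symm.2 hk u c).symm (D.wx_mem_N hij u)
    · by_cases hk : k = neg j
      · subst hk
        have h4 := R.y_rel (i := neg j) (j := i) hik.symm c u
        rw [neg_neg, R.x_symm j i] at h4
        have e : R.y (neg j) c * R.x i j u * (R.y (neg j) c)⁻¹ =
            R.x (neg j) i (c * u) * R.y i (c * u ^ 2) * R.x i j u := by rw [h4]; group
        rw [e, R.x_symm (neg j) i]
        exact mul_mem (mul_mem (D.x_mem_N hik _) (D.y_mem_N i _)) (D.x_mem_N hij _)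
      · refine D.conj_mem_of_comm (R.y_x_comm hik.2 ?_ c u) (D.x_mem_N hij u)
        intro e; exact hk (by rw [e, neg_neg])
  refine ⟨hN, fun j hij u v => ?_⟩
  have hp0 : ∀ {j : Ix n}, Dj i j → k ≠ neg j → Commute (R.y k c) (D.p i j u v) := by
    intro j hij hk
    by_cases hkj : k = j
    · subst hkj; exact (D.p_yj hij u v c).symm
    · exact (D.p_yk hij u v hik ⟨fun e => hkj e.symm, fun e => hk (by rw [e, neg_neg])⟩ c).symm
  by_cases hk : k = neg j
  · obtain ⟨l, hil, hjl⟩ := h3 i j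
    obtain ⟨m, hm, e⟩ := D.p_mem hij hil hjl (u := u) (v := v) (u' := u) (v' := v) rfl
    have hc := hp0 hil (by rw [hk, Ne, neg_inj]; exact hjl.1)
    have e2 : R.y k c * D.p i j u v * (R.y k c)⁻¹ =
        (R.y k c * m * (R.y k c)⁻¹) * (R.y k c * D.p i l u v * (R.y k c)⁻¹) := by rw [e]; group
    rw [e2, hc.mul_inv_cancel]
    exact mul_mem (D.N_le_F (hN m hm)) (D.p_mem_F (Set.mem_univ _) hil u v)
  · exact D.conj_mem_of_comm (hp0 hij hk) (D.p_mem_F (Set.mem_univ _) hij u v)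

theorem y_nor {k : Ix n} (hik : Dj i k) (c : F) :
    R.y k c ∈ Subgroup.normalizer (D.Fg i Set.univ : Set G) := by
  obtain ⟨h1, h2⟩ := D.y_conj h3 hik c
  exact D.mem_nor (fun u => D.N_le_F (h1 _ (D.wy_mem_N i u)))
    (fun a => R.y_comm hik.2 c a) (fun j hij u => D.N_le_F (h1 _ (D.wx_mem_N hij u)))
    (fun j hij u => D.N_le_F (h1 _ (D.x_mem_N hij u))) h2

theorem wy_nor {k : Ix n} (hik : Dj i k) (c : F) :
    D.wy k c ∈ Subgroup.normalizer (D.Fg i Set.univ : Set G) := by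
  have hN : ∀ m ∈ D.N i, D.wy k c * m * (D.wy k c)⁻¹ ∈ D.Fg i Set.univ := by
    refine closure_conj (S := D.NS i) ?_
    rintro s (⟨u, rfl⟩ | ⟨a, rfl⟩ | ⟨j, hij, ⟨u, rfl⟩ | ⟨u, rfl⟩⟩)
    · obtain ⟨d, hd⟩ := D.c4 hik u c
      have e : D.wy k c * D.wy i u * (D.wy k c)⁻¹ = (R.x i k d)⁻¹ * D.wy i u := by
        have : D.wy k c * D.wy i u = (R.x i k d)⁻¹ * (D.wy i u * D.wy k c) := by rw [hd]; group
        rw [this]; group
      rw [e]
      exact mul_mem (inv_mem (D.x_mem_F (Set.mem_univ _) hik _)) (D.wy_mem_F u)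
    · exact D.conj_mem_of_comm (D.b1 hik.2 c a) (D.y_mem_F a)
    · by_cases hk : j = neg k
      · subst hk
        have e : D.wy k c * D.wx i (neg k) u * (D.wy k c)⁻¹ = (D.p i k u c)⁻¹ * D.wx i (neg k) u := by
          rw [p]; group
        rw [e]
        exact mul_mem (inv_mem (D.p_mem_F (Set.mem_univ _) hik _ _)) (D.wx_mem_F (Set.mem_univ _) hij _)
      · exact D.conj_mem_of_comm (D.c5 hij hik.2 hk c u) (D.wx_mem_F (Set.mem_univ _) hij u)
    · by_cases hk : j = neg k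
      · subst hk
        obtain ⟨d, e, hd⟩ := D.b3 hik.symm c u
        rw [R.x_symm (neg k) i] at hd
        have hy : D.wy k c = R.y k c * (D.wy k c)⁻¹ := by rw [← D.wy_sq]; group
        have e : D.wy k c * R.x i (neg k) u * (D.wy k c)⁻¹ =
            R.y k c * ((D.wy i (c * u ^ 2) * D.wx k i (c * u) * R.x k i d * R.y i e) * R.x i (neg k) u) *
              (R.y k c)⁻¹ := by
          have h4 : (D.wy k c)⁻¹ * R.x i (neg k) u * D.wy k c =
              (D.wy i (c * u ^ 2) * D.wx k i (c * u) * R.x k i d * R.y i e) * R.x i (neg k) u := by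
            have h5 : R.x i (neg k) u * D.wy k c = D.wy k c *
                (D.wy i (c * u ^ 2) * D.wx k i (c * u) * R.x k i d * R.y i e) * R.x i (neg k) u := by
              have h6 : D.wy k c * (D.wy i (c * u ^ 2) * D.wx k i (c * u) * R.x k i d * R.y i e) =
                  R.x i (neg k) u * D.wy k c * (R.x i (neg k) u)⁻¹ := by rw [hd]; simp only [mul_assoc]
              rw [h6]; group
            rw [mul_assoc, h5]; group
          rw [← h4]
          conv_lhs => rw [hy]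
          group
        rw [e]
        refine (Subgroup.mem_normalizer_iff.mp (D.y_nor h3 hik c) _).mp ?_
        rw [D.wx_symm k i, R.x_symm k i]
        exact mul_mem (mul_mem (mul_mem (mul_mem (D.wy_mem_F _) (D.wx_mem_F (Set.mem_univ _) hik _))
          (D.x_mem_F (Set.mem_univ _) hik _)) (D.y_mem_F _)) (D.x_mem_F (Set.mem_univ _) hij _)
      · exact D.conj_mem_of_comm (D.b2 hij hik.2 hk c u) (D.x_mem_F (Set.mem_univ _) hij u)
  refine D.mem_nor (fun u => hN _ (D.wy_mem_N i u)) (fun a => D.b1 hik.2 c a)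
    (fun j hij u => hN _ (D.wx_mem_N hij u)) (fun j hij u => hN _ (D.x_mem_N hij u)) ?_
  intro j hij u v
  have hp0 : ∀ {j : Ix n}, Dj i j → Dj j k → D.wy k c * D.p i j u v * (D.wy k c)⁻¹ ∈ D.Fg i Set.univ := by
    intro j hij hjk
    have hn := dj_neg_right.mpr hij
    obtain ⟨s, hs⟩ := D.c4 hjk.symm c v
    obtain ⟨g1, -, g2⟩ := D.x_conj hik hij hjk.symm s
    have ca : Commute (D.wy k c) (D.wx i (neg j) u) := D.c5 hn hik.2 (by rw [Ne, neg_inj]; exact hjk.1) c u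
    have cb : D.wy k c * D.wy j v * (D.wy k c)⁻¹ = R.x k j s * D.wy j v := by rw [hs]; group
    have e : D.wy k c * D.p i j u v * (D.wy k c)⁻¹ =
        (D.wx i (neg j) u * (R.x k j s * D.wx i (neg j) u * (R.x k j s)⁻¹)⁻¹) *
          (R.x k j s * D.p i j u v * (R.x k j s)⁻¹) := by
      calc _ = (D.wy k c * D.wx i (neg j) u * (D.wy k c)⁻¹) * (D.wy k c * D.wy j v * (D.wy k c)⁻¹) *
            (D.wy k c * D.wx i (neg j) u * (D.wy k c)⁻¹)⁻¹ * (D.wy k c * D.wy j v * (D.wy k c)⁻¹)⁻¹ := by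
            rw [p]; group
        _ = _ := by rw [ca.mul_inv_cancel, cb, p]; group
    rw [e]
    exact mul_mem (D.N_le_F (mul_mem (D.wx_mem_N hn u) (inv_mem (g1 _ hn u)))) (g2 j hij u v)
  by_cases hjk : Dj j k
  · exact hp0 hij hjk
  · obtain ⟨l, hil, hjl⟩ := h3 i j
    have hlk : Dj l k := by
      by_contra hkl
      simp only [Dj, not_and_or, not_not] at hjk hkl hjl
      rcases hjk with h | h <;> rcases hkl with h' | h'
      · exact hjl.1 (by rw [h, h'])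
      · exact hjl.2 (by rw [h, h', neg_neg])
      · exact hjl.2 (by rw [h, h'])
      · exact hjl.1 (by rw [h, h'])
    obtain ⟨m, hm, e⟩ := D.p_mem hij hil hjl (u := u) (v := v) (u' := u) (v' := v) rfl
    have e2 : D.wy k c * D.p i j u v * (D.wy k c)⁻¹ =
        (D.wy k c * m * (D.wy k c)⁻¹) * (D.wy k c * D.p i l u v * (D.wy k c)⁻¹) := by rw [e]; group
    rw [e2]
    exact mul_mem (hN m hm) (hp0 hil hlk)

end nor

end COne

end Cfsg.Agent.OddHalf.SpN
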