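import Mathlib
import Cfsg.Agent.OddHalf.SpN.COneF

/-!
# ODD D7, `K = Sp_2n(q)`, pattern (C,O): involutions of `tF_i`, fixed points of the torus on `F_i` (helper63)

* `inv_F` : every involution of `tF_i` is `F_i`-conjugate to `t`.
* `eq_one_of_fix` : `C_{F_i}(h) = 1` for `h = h(λ)`, `λ_i ≠ 1`, `λ_j = 1`.
* `mem_of_fix` : `C_{F_i}(h) ≤ F_i(J)`.
-/

set_option autoImplicit false

namespace Cfsg.Agent.OddHalf.SpN

/-- fixed point free action on generators of an abelian group -/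
theorem eq_one_of_fpf {G : Type*} [Group G] {S : Set G} [Finite G] {A : Subgroup G} (hA : A = Subgroup.closure S)
    (comm : ∀ a ∈ A, ∀ b ∈ A, a * b = b * a) {h : G} (hh : ∀ a ∈ A, h * a * h⁻¹ ∈ A)
    (hs : ∀ s ∈ S, ∃ s' ∈ A, h * s' * h⁻¹ * s'⁻¹ = s) {a : G} (ha : a ∈ A) (e : h * a * h⁻¹ = a) : a = 1 := by
  let ψ : A →* A :=
    { toFun := fun a => ⟨h * a.1 * h⁻¹ * a.1⁻¹, mul_mem (hh _ a.2) (inv_mem a.2)⟩
      map_one' := Subtype.ext (by simp)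
      map_mul' := fun a b => Subtype.ext (by
        show h * (a.1 * b.1) * h⁻¹ * (a.1 * b.1)⁻¹ = (h * a.1 * h⁻¹ * a.1⁻¹) * (h * b.1 * h⁻¹ * b.1⁻¹)
        have e1 : (h * b.1 * h⁻¹ * b.1⁻¹) * a.1⁻¹ = a.1⁻¹ * (h * b.1 * h⁻¹ * b.1⁻¹) :=
          comm _ (mul_mem (hh _ b.2) (inv_mem b.2)) _ (inv_mem a.2)
        calc _ = h * a.1 * h⁻¹ * ((h * b.1 * h⁻¹ * b.1⁻¹) * a.1⁻¹) := by group
          _ = _ := by rw [e1]; group) }
  have hsurj : Function.Surjective ψ := by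
    rw [← MonoidHom.range_eq_top]
    have h1 : A ≤ ψ.range.map A.subtype := by
      conv_lhs => rw [hA]
      rw [Subgroup.closure_le]
      intro s hs'
      obtain ⟨s', h1, h2⟩ := hs s hs'
      exact ⟨ψ ⟨s', h1⟩, ⟨_, rfl⟩, h2⟩
    rw [eq_top_iff]
    intro x _
    obtain ⟨y, hy, hyx⟩ := h1 x.2
    have : y = x := Subtype.ext hyx
    rwa [← this]
  have hinj : Function.Injective ψ := Finite.injective_iff_surjective.mpr hsurj
  have h1 : ψ ⟨a, ha⟩ = ψ 1 := by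
    rw [map_one]
    exact Subtype.ext (by show h * a * h⁻¹ * a⁻¹ = 1; rw [e, mul_inv_cancel])
  exact congrArg Subtype.val (hinj h1)

namespace COne

variable {n : ℕ} {F : Type*} [Field F] [CharP F 2] {G : Type*} [Group G] {R : Frame n F G} (D : COne R)

include D

theorem not_x_eq_y {i j : Ix n} (hij : Dj i j) {c : F} (h : R.x i j 1 = R.y i c) : False := by
  have h1 := D.a2' hij 1 1
  rw [h, one_mul, ((D.cy_wx (dj_neg_right.mpr hij) 1) c).eq] at h1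
  exact one_ne_zero (R.y_eq_one (mul_eq_right.mp h1.symm))

theorem wy_conj_t (i : Ix n) (u : F) : D.wy i u * R.t * (D.wy i u)⁻¹ = R.t * R.y i u := by
  have h1 := D.wy_t i u
  have h2 : R.t * (D.wy i u * R.t * (D.wy i u)⁻¹) = R.y i u := by
    rw [← mul_assoc, ← mul_assoc, h1, (D.cy_wy i u u).eq]; group
  rw [← h2, ← mul_assoc R.t R.t, R.tt, one_mul]

theorem wx_conj_t {i j : Ix n} (hij : Dj i j) (u : F) :
    D.wx i j u * R.t * (D.wx i j u)⁻¹ = R.t * R.x i j u := by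
  have h1 := D.wx_t hij u
  have h2 : R.t * (D.wx i j u * R.t * (D.wx i j u)⁻¹) = R.x i j u := by
    rw [← mul_assoc, ← mul_assoc, h1, (D.a1 hij hij (ne_neg i) hij.2 hij.symm.2 (ne_neg j) u u).eq]; group
  rw [← h2, ← mul_assoc R.t R.t, R.tt, one_mul]

theorem wy_inv (i : Ix n) (u : F) : (D.wy i u)⁻¹ = D.wy i u * R.y i u := by
  apply inv_eq_of_mul_eq_one_right
  rw [← mul_assoc, D.wy_sq, R.y_sq]

theorem wy_comm_Q {i : Ix n} {q : G} (hq : q ∈ R.Q i) (u : F) : Commute (D.wy i u) q := by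
  refine Subgroup.closure_induction (p := fun q _ => Commute (D.wy i u) q) ?_ (Commute.one_right _)
    (fun _ _ _ _ h1 h2 => h1.mul_right h2) (fun _ _ h1 => h1.inv_right) hq
  rintro g (⟨a, rfl⟩ | ⟨j, a, rfl⟩)
  · exact D.cy_wy i u a
  · by_cases h : Dj i j
    · exact D.b2 h (ne_neg i) h.symm.2 u a
    · rw [R.x_of_not h]; exact Commute.one_right _

section fin

variable [Finite F] (h3 : ∀ i j : Ix n, ∃ k, Dj i k ∧ Dj j k) {i : Ix n} {J : Set (Ix n)}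

omit [Finite F] in
theorem Q_le_F : R.Q i ≤ D.Fg i Set.univ := (D.Q_le_N i).trans D.N_le_F

omit [Finite F] in
/-- `t b` is `F_i(J)`-conjugate to `t` -/
theorem rch_y {b : G} (h : ∃ c ∈ D.Fg i J, c * R.t * c⁻¹ = R.t * b) (e : F) :
    ∃ c ∈ D.Fg i J, c * R.t * c⁻¹ = R.t * (b * R.y i e) := by
  obtain ⟨c, hc, h1⟩ := h
  refine ⟨c * D.wy i e, mul_mem hc (D.wy_mem_F e), ?_⟩
  have h2 := D.wy_conj_t i e
  calc c * D.wy i e * R.t * (c * D.wy i e)⁻¹ = c * (D.wy i e * R.t * (D.wy i e)⁻¹) * c⁻¹ := by group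
    _ = (c * R.t * c⁻¹) * (c * R.y i e * c⁻¹) := by rw [h2]; group
    _ = _ := by rw [h1, (D.F_cy hc e).mul_inv_cancel, mul_assoc]

include h3

theorem rch_mul {b b' : G} (hb' : b' ∈ D.Fg i J) (h : ∃ c ∈ D.Fg i J, c * R.t * c⁻¹ = R.t * b)
    (h' : ∃ c ∈ D.Fg i J, c * R.t * c⁻¹ = R.t * b') : ∃ c ∈ D.Fg i J, c * R.t * c⁻¹ = R.t * (b * b') := by
  obtain ⟨c, hc, h1⟩ := h
  obtain ⟨c', hc', h2⟩ := h'
  obtain ⟨e, he⟩ := D.F_cm h3 hc hb'
  have h4 : ∃ c ∈ D.Fg i J, c * R.t * c⁻¹ = R.t * (b * b' * R.y i e) := by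
    refine ⟨c * c', mul_mem hc hc', ?_⟩
    calc c * c' * R.t * (c * c')⁻¹ = c * (c' * R.t * c'⁻¹) * c⁻¹ := by group
      _ = (c * R.t * c⁻¹) * (c * b') * c⁻¹ := by rw [h2]; group
      _ = R.t * b * (R.y i e * b') := by rw [h1, he]; group
      _ = _ := by rw [← (D.F_cy hb' e).eq]; simp only [mul_assoc]
  have h5 := D.rch_y h4 e
  rwa [mul_assoc (b * b'), R.y_sq, mul_one] at h5

theorem rch_wy {j : Ix n} (hJ : j ∈ J) (hij : Dj i j) (a : F) :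
    ∃ c ∈ D.Fg i J, c * R.t * c⁻¹ = R.t * D.wy i a := by
  obtain ⟨u, hu⟩ : ∃ u : F, u ^ 2 = a := by
    obtain ⟨u, hu⟩ := FiniteField.isSquare_of_char_two (ringChar.eq F 2) a
    exact ⟨u, by rw [hu, sq]⟩
  obtain ⟨c, d, h1⟩ := D.t_p hij u 1
  rw [mul_one, hu] at h1
  have hP := D.p_mem_F hJ hij u 1
  have hb : D.wy i a * R.x i j c * R.y i d ∈ D.Fg i J :=
    mul_mem (mul_mem (D.wy_mem_F a) (D.x_mem_F hJ hij c)) (D.y_mem_F d)
  obtain ⟨e, he⟩ := D.F_cm h3 hP hb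
  have h2 : ∃ c' ∈ D.Fg i J, c' * R.t * c'⁻¹ = R.t * (D.wy i a * R.x i j c * R.y i d * R.y i e) := by
    refine ⟨D.p i j u 1, hP, ?_⟩
    have h4 : R.t * (D.p i j u 1 * R.t * (D.p i j u 1)⁻¹) = D.wy i a * R.x i j c * R.y i d * R.y i e := by
      calc _ = (R.t * D.p i j u 1 * R.t) * (D.p i j u 1)⁻¹ := by group
        _ = D.p i j u 1 * (D.wy i a * R.x i j c * R.y i d) * (D.p i j u 1)⁻¹ := by rw [h1]; group
        _ = _ := by rw [he, (D.F_cy hb e).eq]; group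
    rw [← h4, ← mul_assoc R.t R.t, R.tt, one_mul]
  have h4 := D.rch_mul h3 (D.x_mem_F hJ hij c) h2 ⟨_, D.wx_mem_F hJ hij c, D.wx_conj_t hij c⟩
  have h5 := D.rch_y h4 (d + e)
  have e1 : D.wy i a * R.x i j c * R.y i d * R.y i e * R.x i j c * R.y i (d + e) = D.wy i a := by
    have e2 := (cy_x (R := R) hij c (d + e)).eq
    calc _ = D.wy i a * R.x i j c * (R.y i d * R.y i e) * R.x i j c * R.y i (d + e) := by
          simp only [mul_assoc]
      _ = D.wy i a * (R.x i j c * (R.y i (d + e) * R.x i j c)) * R.y i (d + e) := by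
          rw [← R.y_add]; simp only [mul_assoc]
      _ = D.wy i a * ((R.x i j c * R.x i j c) * R.y i (d + e)) * R.y i (d + e) := by
          rw [← e2]; simp only [mul_assoc]
      _ = _ := by rw [R.x_sq, one_mul, mul_assoc, R.y_sq, mul_one]
  rwa [e1] at h5

/-- `t b ~ t` for `b ∈ W_i Q_i(J)` -/
theorem rch_B {j : Ix n} (hJ : j ∈ J) (hij : Dj i j) {b : G}
    (hb : b ∈ Subgroup.closure {g | (∃ u, g = D.wy i u) ∨ (∃ a, g = R.y i a) ∨ ∃ k ∈ J, Dj i k ∧ ∃ a, g = R.x i k a}) :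
    b ∈ D.Fg i J ∧ ∃ c ∈ D.Fg i J, c * R.t * c⁻¹ = R.t * b := by
  have one : ∃ c ∈ D.Fg i J, c * R.t * c⁻¹ = R.t * 1 := ⟨1, one_mem _, by group⟩
  refine Subgroup.closure_induction (p := fun b _ => b ∈ D.Fg i J ∧ ∃ c ∈ D.Fg i J, c * R.t * c⁻¹ = R.t * b)
    ?_ ?_ ?_ ?_ hb
  · rintro g (⟨u, rfl⟩ | ⟨a, rfl⟩ | ⟨k, hk, hik, a, rfl⟩)
    · exact ⟨D.wy_mem_F u, D.rch_wy h3 hJ hij u⟩
    · have := D.rch_y one a
      rw [one_mul] at this
      exact ⟨D.y_mem_F a, this⟩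
    · exact ⟨D.x_mem_F hk hik a, _, D.wx_mem_F hk hik a, D.wx_conj_t hik a⟩
  · exact ⟨one_mem _, one⟩
  · rintro a b - - ⟨ha, ha'⟩ ⟨hb, hb'⟩
    exact ⟨mul_mem ha hb, D.rch_mul h3 hb ha' hb'⟩
  · rintro a - ⟨ha, ha'⟩
    obtain ⟨e, he⟩ := D.F_sq h3 ha
    have e1 : a⁻¹ = a * R.y i e := by
      apply inv_eq_of_mul_eq_one_right
      rw [← mul_assoc, he, R.y_sq]
    exact ⟨inv_mem ha, by rw [e1]; exact D.rch_y ha' e⟩

theorem t_notMem_F : R.t ∉ D.Fg i J := by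
  intro ht
  obtain ⟨j, hij, -⟩ := h3 i i
  have ht' := D.F_mono (Set.subset_univ J) ht
  obtain ⟨c, hc⟩ := D.F_cm h3 ht' (D.wx_mem_F (Set.mem_univ j) hij 1)
  have h1 := D.wx_t hij 1
  rw [hc] at h1
  refine D.not_x_eq_y hij (c := c) ?_
  have h2 : R.y i c * (D.wx i j 1 * R.t) * R.t = R.y i c * D.wx i j 1 := by
    rw [mul_assoc, mul_assoc (D.wx i j 1), R.tt, mul_one]
  rw [h2, ← ((D.cy_wx hij 1) c).eq] at h1
  exact (mul_left_cancel h1).symm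

theorem mem_Q_of_comm {g : G} (hg : g ∈ D.Fg i J) (hc : Commute g R.t) : g ∈ R.Q i := by
  have hg' := D.F_mono (Set.subset_univ J) hg
  rcases D.f3 i g hc (D.F_cy hg) (fun j hij a => D.F_cm h3 hg' (D.x_mem_F (Set.mem_univ j) hij a)) with h | h
  · exact h
  · exfalso
    apply D.t_notMem_F h3 (i := i) (J := Set.univ)
    have : R.t = (R.t * g) * g⁻¹ := by group
    rw [this]
    exact mul_mem (D.Q_le_F h) (inv_mem hg')

/-- **every involution of `tF_i` is `F_i`-conjugate to `t`** -/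
theorem inv_F {f : G} (hf : f ∈ D.Fg i Set.univ) (h : R.t * f * (R.t * f) = 1) :
    ∃ c ∈ D.Fg i Set.univ, c * R.t * c⁻¹ = R.t * f := by
  obtain ⟨e, he⟩ := D.F_sq h3 hf
  have h1 : R.t * f * R.t = f * R.y i e := by
    have h2 : R.t * f * R.t = f⁻¹ := eq_inv_of_mul_eq_one_left (by rw [← h]; simp only [mul_assoc])
    rw [h2]
    apply inv_eq_of_mul_eq_one_right
    rw [← mul_assoc, he, R.y_sq]
  have h2 : Commute (f * D.wy i e) R.t := by
    have e1 : R.t * (f * D.wy i e) * R.t = f * D.wy i e := by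
      calc _ = (R.t * f * R.t) * (R.t * D.wy i e * R.t) := by
            calc _ = R.t * f * (R.t * R.t) * D.wy i e * R.t := by rw [R.tt]; simp only [mul_one, mul_assoc]
              _ = _ := by simp only [mul_assoc]
        _ = f * (R.y i e * D.wy i e) * R.y i e := by rw [h1, D.wy_t]; simp only [mul_assoc]
        _ = _ := by rw [← (D.cy_wy i e e).eq, mul_assoc, mul_assoc, R.y_sq, mul_one]
    show f * D.wy i e * R.t = R.t * (f * D.wy i e)
    calc _ = (R.t * R.t) * (f * D.wy i e) * R.t := by rw [R.tt, one_mul]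
      _ = R.t * (R.t * (f * D.wy i e) * R.t) := by simp only [mul_assoc]
      _ = _ := by rw [e1]
  have h4 := D.mem_Q_of_comm h3 (mul_mem hf (D.wy_mem_F e)) h2
  obtain ⟨j, hij, -⟩ := h3 i i
  refine (D.rch_B h3 (Set.mem_univ j) hij ?_).2
  have e1 : f = (f * D.wy i e) * (D.wy i e)⁻¹ := by group
  rw [e1]
  refine mul_mem ?_ (inv_mem (Subgroup.subset_closure (Or.inl ⟨e, rfl⟩)))
  have hle : R.Q i ≤ Subgroup.closure {g | (∃ u, g = D.wy i u) ∨ (∃ a, g = R.y i a) ∨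
      ∃ k ∈ Set.univ, Dj i k ∧ ∃ a, g = R.x i k a} := by
    refine (Subgroup.closure_le _).mpr ?_
    rintro g (⟨a, rfl⟩ | ⟨k, a, rfl⟩)
    · exact Subgroup.subset_closure (Or.inr (Or.inl ⟨a, rfl⟩))
    · by_cases hik : Dj i k
      · exact Subgroup.subset_closure (Or.inr (Or.inr ⟨k, Set.mem_univ k, hik, a, rfl⟩))
      · rw [R.x_of_not hik]; exact one_mem _
  exact hle h4

/-- `f t f⁻¹ = t w_i(a) q` -/
theorem conj_t {f : G} (hf : f ∈ D.Fg i Set.univ) : ∃ a, ∃ q ∈ R.Q i, f * R.t * f⁻¹ = R.t * (D.wy i a * q) := by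
  refine Subgroup.closure_induction
    (p := fun f _ => ∃ a, ∃ q ∈ R.Q i, f * R.t * f⁻¹ = R.t * (D.wy i a * q)) ?_ ?_ ?_ ?_ hf
  · rintro g (⟨u, rfl⟩ | ⟨a, rfl⟩ | ⟨j, -, hij, ⟨u, rfl⟩ | ⟨a, rfl⟩ | ⟨u, v, rfl⟩⟩)
    · exact ⟨0, _, R.y_mem_Q i u, by rw [D.wy_conj_t, D.wy_zero, one_mul]⟩
    · exact ⟨0, 1, one_mem _, by rw [D.wy_zero, (R.y_t i a).mul_inv_cancel, mul_one, mul_one]⟩
    · exact ⟨0, _, R.x_mem_Q i j u, by rw [D.wx_conj_t hij, D.wy_zero, one_mul]⟩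
    · exact ⟨0, 1, one_mem _, by rw [D.wy_zero, (R.x_t i j a).mul_inv_cancel, mul_one, mul_one]⟩
    · obtain ⟨c, d, h1⟩ := D.t_p hij u v
      have hb : D.wy i (u ^ 2 * v) * R.x i j c * R.y i d ∈ D.Fg i Set.univ :=
        mul_mem (mul_mem (D.wy_mem_F _) (D.x_mem_F (Set.mem_univ _) hij c)) (D.y_mem_F d)
      obtain ⟨e, he⟩ := D.F_cm h3 (D.p_mem_F (Set.mem_univ _) hij u v) hb
      refine ⟨u ^ 2 * v, R.x i j c * R.y i d * R.y i e,
        mul_mem (mul_mem (R.x_mem_Q i j c) (R.y_mem_Q i d)) (R.y_mem_Q i e), ?_⟩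
      have h4 : R.t * (D.p i j u v * R.t * (D.p i j u v)⁻¹) = D.wy i (u ^ 2 * v) * R.x i j c * R.y i d * R.y i e := by
        calc _ = (R.t * D.p i j u v * R.t) * (D.p i j u v)⁻¹ := by group
          _ = D.p i j u v * (D.wy i (u ^ 2 * v) * R.x i j c * R.y i d) * (D.p i j u v)⁻¹ := by rw [h1]; group
          _ = _ := by rw [he, (D.F_cy hb e).eq]; group
      have h5 : D.wy i (u ^ 2 * v) * (R.x i j c * R.y i d * R.y i e) =
          R.t * (D.p i j u v * R.t * (D.p i j u v)⁻¹) := by rw [h4]; simp only [mul_assoc]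
      rw [h5, ← mul_assoc R.t R.t, R.tt, one_mul]
  · exact ⟨0, 1, one_mem _, by rw [D.wy_zero]; group⟩
  · rintro f f' hf hf' ⟨a, q, hq, h1⟩ ⟨a', q', hq', h2⟩
    have hb' : D.wy i a' * q' ∈ D.Fg i Set.univ := mul_mem (D.wy_mem_F _) (D.Q_le_F hq')
    obtain ⟨e, he⟩ := D.F_cm h3 hf hb'
    obtain ⟨c, hc⟩ := D.wy_add i a a'
    refine ⟨a + a', R.y i c * q * q' * R.y i e,
      mul_mem (mul_mem (mul_mem (R.y_mem_Q i c) hq) hq') (R.y_mem_Q i e), ?_⟩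
    calc f * f' * R.t * (f * f')⁻¹ = f * (f' * R.t * f'⁻¹) * f⁻¹ := by group
      _ = (f * R.t * f⁻¹) * (f * (D.wy i a' * q')) * f⁻¹ := by rw [h2]; group
      _ = R.t * (D.wy i a * q) * (R.y i e * (D.wy i a' * q')) := by rw [h1, he]; group
      _ = R.t * (D.wy i a * (q * D.wy i a') * q' * R.y i e) := by
          rw [← (D.F_cy hb' e).eq]; simp only [mul_assoc]
      _ = R.t * ((D.wy i a * D.wy i a') * (q * q' * R.y i e)) := by
          rw [← (D.wy_comm_Q hq a').eq]; simp only [mul_assoc]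
      _ = _ := by rw [hc]; simp only [mul_assoc]
  · rintro f hf ⟨a, q, hq, h1⟩
    have hb : D.wy i a * q ∈ D.Fg i Set.univ := mul_mem (D.wy_mem_F _) (D.Q_le_F hq)
    obtain ⟨e, he⟩ := D.F_cm h3 (inv_mem hf) (inv_mem hb)
    refine ⟨a, q⁻¹ * R.y i a * R.y i e, mul_mem (mul_mem (inv_mem hq) (R.y_mem_Q i a)) (R.y_mem_Q i e), ?_⟩
    have h2 : f⁻¹ * R.t * f = R.t * (f⁻¹ * (D.wy i a * q)⁻¹ * f) := by
      have h4 : R.t = f⁻¹ * (R.t * (D.wy i a * q)) * f := by rw [← h1]; group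
      have h5 : (f⁻¹ * R.t * f) * (f⁻¹ * (D.wy i a * q) * f) = R.t := by
        calc _ = f⁻¹ * (R.t * (D.wy i a * q)) * f := by group
          _ = _ := h4.symm
      have h6 : f⁻¹ * (D.wy i a * q)⁻¹ * f = (f⁻¹ * (D.wy i a * q) * f)⁻¹ := by group
      rw [h6, eq_mul_inv_iff_mul_eq, h5]
    rw [inv_inv, h2, he]
    have h7 : R.y i e * ((D.wy i a * q)⁻¹ * f⁻¹) * f = (D.wy i a * q)⁻¹ * R.y i e := by
      rw [((D.F_cy (inv_mem hb)) e).eq]; group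
    rw [h7, mul_inv_rev, D.wy_inv]
    have h8 : Commute q⁻¹ (D.wy i a) := (D.wy_comm_Q hq a).symm.inv_left
    rw [← mul_assoc q⁻¹, h8.eq]; simp only [mul_assoc]

end fin

/-! ### fixed points of the torus -/

omit D in
theorem sq_ne_one {x : Fˣ} (h : x ≠ 1) : x ^ 2 ≠ 1 := by
  intro h1
  apply h
  have h2 : (x : F) ^ 2 = 1 := by rw [← Units.val_pow_eq_pow_val, h1, Units.val_one]
  have h4 : ((x : F) + 1) ^ 2 = 0 := by
    rw [CharTwo.add_sq, h2, one_pow, CharTwo.add_self_eq_zero]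
  exact Units.ext (by rw [Units.val_one]; exact CharTwo.add_eq_zero.mp (eq_zero_of_pow_eq_zero (n := 2) h4))

omit D in
theorem exists_mul_add {x : Fˣ} (h : x ≠ 1) (a : F) : ∃ b : F, (x : F) * b + b = a := by
  have h1 : (x : F) + 1 ≠ 0 := fun e => h (Units.ext (by rw [Units.val_one]; exact CharTwo.add_eq_zero.mp e))
  exact ⟨a / (x + 1), by field_simp⟩

omit D in
theorem Q_comm {i : Ix n} : ∀ a ∈ R.Q i, ∀ b ∈ R.Q i, a * b = b * a := by
  have hxx : ∀ {j k}, Dj i j → Dj i k → ∀ u v, Commute (R.x i j u) (R.x i k v) := by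
    intro j k hij hik u v
    by_cases hk : k = neg j
    · subst hk
      rw [R.x_symm i j, R.x_symm i (neg j)]
      exact R.x_comm' (i := j) (j := i) u v
    · exact R.x_comm (ne_neg i) hij.2 hik.symm.2 hk u v
  have hx : ∀ j u, ∀ b ∈ R.Q i, Commute (R.x i j u) b := by
    intro j u b hb
    by_cases hij : Dj i j
    · refine Subgroup.closure_induction (p := fun b _ => Commute (R.x i j u) b) ?_ (Commute.one_right _)
        (fun _ _ _ _ h1 h2 => h1.mul_right h2) (fun _ _ h1 => h1.inv_right) hb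
      rintro g (⟨a, rfl⟩ | ⟨k, a, rfl⟩)
      · exact cy_x hij u a
      · by_cases hik : Dj i k
        · exact hxx hij hik u a
        · rw [R.x_of_not hik]; exact Commute.one_right _
    · rw [R.x_of_not hij]; exact Commute.one_left _
  have hy : ∀ u, ∀ b ∈ R.Q i, Commute (R.y i u) b := by
    intro u b hb
    refine Subgroup.closure_induction (p := fun b _ => Commute (R.y i u) b) ?_ (Commute.one_right _)
      (fun _ _ _ _ h1 h2 => h1.mul_right h2) (fun _ _ h1 => h1.inv_right) hb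
    rintro g (⟨a, rfl⟩ | ⟨k, a, rfl⟩)
    · exact cy_y i u a
    · by_cases hik : Dj i k
      · exact (cy_x hik a u).symm
      · rw [R.x_of_not hik]; exact Commute.one_right _
  intro a ha b hb
  refine Subgroup.closure_induction (p := fun a _ => Commute a b) ?_ (Commute.one_left _)
    (fun _ _ _ _ h1 h2 => h1.mul_left h2) (fun _ _ h1 => h1.inv_left) ha
  rintro g (⟨a, rfl⟩ | ⟨k, a, rfl⟩)
  exacts [hy a b hb, hx k a b hb]

omit D in
theorem h_Q {i : Ix n} (lam : Fin n → Fˣ) : ∀ a ∈ R.Q i, R.h lam * a * (R.h lam)⁻¹ ∈ R.Q i := by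
  refine closure_conj (S := ({g | ∃ a, g = R.y i a} ∪ {g | ∃ k a, g = R.x i k a})) ?_
  rintro s (⟨a, rfl⟩ | ⟨k, a, rfl⟩)
  · rw [R.h_y]; exact R.y_mem_Q i _
  · rw [R.h_x]; exact R.x_mem_Q i k _

omit D in
/-- `C_{Q_i}(h) = 1` -/
theorem Q_fpf [Finite G] {i : Ix n} {lam : Fin n → Fˣ} (hi : ev lam i ≠ 1) (hj : ∀ j, Dj i j → ev lam i * ev lam j ≠ 1)
    {q : G} (hq : q ∈ R.Q i) (e : R.h lam * q * (R.h lam)⁻¹ = q) : q = 1 := by
  refine eq_one_of_fpf (h := R.h lam) rfl Q_comm (h_Q lam) ?_ hq e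
  rintro s (⟨a, rfl⟩ | ⟨k, a, rfl⟩)
  · obtain ⟨b, hb⟩ := exists_mul_add (sq_ne_one hi) a
    refine ⟨R.y i b, R.y_mem_Q i b, ?_⟩
    rw [R.h_y, R.y_inv, ← R.y_add, ← hb]
    push_cast; rfl
  · by_cases hik : Dj i k
    · obtain ⟨b, hb⟩ := exists_mul_add (hj k hik) a
      refine ⟨R.x i k b, R.x_mem_Q i k b, ?_⟩
      rw [R.h_x, R.x_inv, ← R.x_add, ← hb]
      push_cast; rfl
    · exact ⟨1, one_mem _, by rw [R.x_of_not hik]; group⟩

/-- `C_{F_i}(h) = 1` -/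
theorem eq_one_of_fix [Finite F] [Finite G] (h3 : ∀ i j : Ix n, ∃ k, Dj i k ∧ Dj j k) {i : Ix n} {lam : Fin n → Fˣ}
    (hi : ev lam i ≠ 1) (hj : ∀ j, Dj i j → ev lam i * ev lam j ≠ 1) {f : G} (hf : f ∈ D.Fg i Set.univ)
    (e : R.h lam * f * (R.h lam)⁻¹ = f) : f = 1 := by
  obtain ⟨a, q, hq, h1⟩ := D.conj_t h3 hf
  have ht : R.h lam * R.t * (R.h lam)⁻¹ = R.t := (R.h_t lam).mul_inv_cancel
  have hb : R.h lam * (D.wy i a * q) * (R.h lam)⁻¹ = D.wy i a * q := by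
    have h2 : R.h lam * (f * R.t * f⁻¹) * (R.h lam)⁻¹ = f * R.t * f⁻¹ := by
      calc _ = (R.h lam * f * (R.h lam)⁻¹) * (R.h lam * R.t * (R.h lam)⁻¹) * (R.h lam * f * (R.h lam)⁻¹)⁻¹ := by
            group
        _ = _ := by rw [e, ht]
    rw [h1] at h2
    have h4 : R.h lam * (R.t * (D.wy i a * q)) * (R.h lam)⁻¹ =
        (R.h lam * R.t * (R.h lam)⁻¹) * (R.h lam * (D.wy i a * q) * (R.h lam)⁻¹) := by group
    rw [h4, ht] at h2
    exact mul_left_cancel h2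
  -- `[t, b] = y_i(a)`
  have hq1 : R.t * q * R.t = q := by
    have : Commute R.t q := by
      refine Subgroup.closure_induction (p := fun b _ => Commute R.t b) ?_ (Commute.one_right _)
        (fun _ _ _ _ h1 h2 => h1.mul_right h2) (fun _ _ h1 => h1.inv_right) hq
      rintro g (⟨a, rfl⟩ | ⟨k, a, rfl⟩)
      exacts [(R.y_t i a).symm, (R.x_t i k a).symm]
    rw [this.eq, mul_assoc, R.tt, mul_one]
  have ha : R.h lam * R.y i a * (R.h lam)⁻¹ = R.y i a := by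
    have h5 : R.t * (D.wy i a * q) * R.t = R.y i a * (D.wy i a * q) := by
      calc _ = (R.t * D.wy i a * R.t) * (R.t * q * R.t) := by
            calc _ = R.t * D.wy i a * (R.t * R.t) * q * R.t := by rw [R.tt]; simp only [mul_one, mul_assoc]
              _ = _ := by simp only [mul_assoc]
        _ = _ := by rw [hq1, D.wy_t, (D.cy_wy i a a).eq]; simp only [mul_assoc]
    have h6 : R.y i a = R.t * (D.wy i a * q) * R.t * (D.wy i a * q)⁻¹ := by rw [h5]; group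
    rw [h6]
    calc _ = (R.h lam * R.t * (R.h lam)⁻¹) * (R.h lam * (D.wy i a * q) * (R.h lam)⁻¹) *
          (R.h lam * R.t * (R.h lam)⁻¹) * (R.h lam * (D.wy i a * q) * (R.h lam)⁻¹)⁻¹ := by group
      _ = _ := by rw [ht, hb]
  rw [R.h_y] at ha
  have ha0 : a = 0 := by
    by_contra h0
    have h7 := R.y_inj ha
    apply sq_ne_one hi
    apply Units.ext
    push_cast
    exact mul_right_cancel₀ h0 (by rw [h7, one_mul])
  rw [ha0, D.wy_zero, one_mul] at hb h1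
  have hq0 := Q_fpf hi hj hq hb
  rw [hq0, mul_one] at h1
  have hc : Commute f R.t := by
    show f * R.t = R.t * f
    calc f * R.t = (f * R.t * f⁻¹) * f := by group
      _ = _ := by rw [h1]
  exact Q_fpf hi hj (D.mem_Q_of_comm h3 hf hc) e

omit D in
theorem Q_fix_mem [Finite G] {i : Ix n} {J : Set (Ix n)}
    {lam : Fin n → Fˣ} (hi : ev lam i = 1) (hJ : ∀ j ∈ J, ev lam j = 1)
    (hj : ∀ j, Dj i j → j ∉ J → ev lam j ≠ 1) {q : G} (hq : q ∈ R.Q i) (e : R.h lam * q * (R.h lam)⁻¹ = q) :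
    q ∈ Subgroup.closure {g | (∃ a, g = R.y i a) ∨ ∃ j ∈ J, Dj i j ∧ ∃ a, g = R.x i j a} := by
  have hleQ : Subgroup.closure {g | (∃ a, g = R.y i a) ∨ ∃ j ∈ J, Dj i j ∧ ∃ a, g = R.x i j a} ≤ R.Q i := by
    refine (Subgroup.closure_le _).mpr ?_
    rintro g (⟨b, rfl⟩ | ⟨j, hjJ, hij, b, rfl⟩)
    exacts [R.y_mem_Q i b, R.x_mem_Q i j b]
  have hleQ' : Subgroup.closure {g | ∃ j, Dj i j ∧ j ∉ J ∧ ∃ a, g = R.x i j a} ≤ R.Q i := by
    refine (Subgroup.closure_le _).mpr ?_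
    rintro g ⟨j, hij, hjJ, b, rfl⟩
    exact R.x_mem_Q i j b
  have dec : ∀ q ∈ R.Q i, ∃ q1 ∈ Subgroup.closure {g | (∃ a, g = R.y i a) ∨ ∃ j ∈ J, Dj i j ∧ ∃ a, g = R.x i j a},
      ∃ q2 ∈ Subgroup.closure {g | ∃ j, Dj i j ∧ j ∉ J ∧ ∃ a, g = R.x i j a}, q = q1 * q2 := by
    intro q hq
    refine Subgroup.closure_induction (p := fun q _ =>
      ∃ q1 ∈ Subgroup.closure {g | (∃ a, g = R.y i a) ∨ ∃ j ∈ J, Dj i j ∧ ∃ a, g = R.x i j a},
      ∃ q2 ∈ Subgroup.closure {g | ∃ j, Dj i j ∧ j ∉ J ∧ ∃ a, g = R.x i j a}, q = q1 * q2) ?_ ?_ ?_ ?_ hq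
    · rintro g (⟨a, rfl⟩ | ⟨k, a, rfl⟩)
      · exact ⟨_, Subgroup.subset_closure (Or.inl ⟨a, rfl⟩), 1, one_mem _, (mul_one _).symm⟩
      · by_cases hik : Dj i k
        · by_cases hk : k ∈ J
          · exact ⟨_, Subgroup.subset_closure (Or.inr ⟨k, hk, hik, a, rfl⟩), 1, one_mem _, (mul_one _).symm⟩
          · exact ⟨1, one_mem _, _, Subgroup.subset_closure ⟨k, hik, hk, a, rfl⟩, (one_mul _).symm⟩
        · exact ⟨1, one_mem _, 1, one_mem _, by rw [R.x_of_not hik, one_mul]⟩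
    · exact ⟨1, one_mem _, 1, one_mem _, (one_mul _).symm⟩
    · rintro _ _ - - ⟨q1, h1, q2, h2, rfl⟩ ⟨q1', h1', q2', h2', rfl⟩
      refine ⟨q1 * q1', mul_mem h1 h1', q2 * q2', mul_mem h2 h2', ?_⟩
      have := Q_comm q2 (hleQ' h2) q1' (hleQ h1')
      calc q1 * q2 * (q1' * q2') = q1 * (q2 * q1') * q2' := by group
        _ = _ := by rw [this]; group
    · rintro _ - ⟨q1, h1, q2, h2, rfl⟩
      refine ⟨q1⁻¹, inv_mem h1, q2⁻¹, inv_mem h2, ?_⟩
      rw [mul_inv_rev]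
      exact Q_comm _ (inv_mem (hleQ' h2)) _ (inv_mem (hleQ h1))
  obtain ⟨q1, h1, q2, h2, rfl⟩ := dec q hq
  have turn : ∀ {g : G}, R.h lam * g * (R.h lam)⁻¹ = g → Commute (R.h lam) g := by
    intro g hg
    show R.h lam * g = g * R.h lam
    calc R.h lam * g = (R.h lam * g * (R.h lam)⁻¹) * R.h lam := by group
      _ = _ := by rw [hg]
  have c1 : Commute (R.h lam) q1 := by
    refine Subgroup.closure_induction (p := fun c _ => Commute (R.h lam) c) ?_ (Commute.one_right _)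
      (fun _ _ _ _ h1 h2 => h1.mul_right h2) (fun _ _ h1 => h1.inv_right) h1
    rintro g (⟨b, rfl⟩ | ⟨j, hjJ, hij, b, rfl⟩) <;> apply turn
    · rw [R.h_y, hi, Units.val_one, one_pow, one_mul]
    · rw [R.h_x, hi, hJ j hjJ, Units.val_one, one_mul, one_mul]
  have e2 : R.h lam * q2 * (R.h lam)⁻¹ = q2 := by
    have h4 : R.h lam * (q1 * q2) * (R.h lam)⁻¹ =
        (R.h lam * q1 * (R.h lam)⁻¹) * (R.h lam * q2 * (R.h lam)⁻¹) := by group
    rw [h4, c1.mul_inv_cancel] at e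
    exact mul_left_cancel e
  have h5 : q2 = 1 := by
    refine eq_one_of_fpf (h := R.h lam) (S := {g | ∃ j, Dj i j ∧ j ∉ J ∧ ∃ a, g = R.x i j a}) rfl
      (fun a ha b hb => Q_comm a (hleQ' ha) b (hleQ' hb)) ?_ ?_ h2 e2
    · refine closure_conj ?_
      rintro s ⟨k, hik, hk, a, rfl⟩
      rw [R.h_x]
      exact Subgroup.subset_closure ⟨k, hik, hk, _, rfl⟩
    · rintro s ⟨k, hik, hk, a, rfl⟩
      have hne : ev lam i * ev lam k ≠ 1 := by rw [hi, one_mul]; exact hj k hik hk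
      obtain ⟨b, hb⟩ := exists_mul_add hne a
      refine ⟨R.x i k b, Subgroup.subset_closure ⟨k, hik, hk, _, rfl⟩, ?_⟩
      rw [R.h_x, R.x_inv, ← R.x_add, ← hb]
      push_cast; rfl
  rw [h5, mul_one]
  exact h1

/-- `C_{F_i}(h) ≤ F_i(J)` -/
theorem mem_of_fix [Finite F] [Finite G] (h3 : ∀ i j : Ix n, ∃ k, Dj i k ∧ Dj j k) {i : Ix n} {J : Set (Ix n)}
    {lam : Fin n → Fˣ} (hi : ev lam i = 1) (hJ : ∀ j ∈ J, ev lam j = 1)
    (hj : ∀ j, Dj i j → j ∉ J → ev lam j ≠ 1) {j₀ : Ix n} (hj₀ : j₀ ∈ J) (hij₀ : Dj i j₀)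
    {f : G} (hf : f ∈ D.Fg i Set.univ) (e : R.h lam * f * (R.h lam)⁻¹ = f) : f ∈ D.Fg i J := by
  obtain ⟨a, q, hq, h1⟩ := D.conj_t h3 hf
  have ht : R.h lam * R.t * (R.h lam)⁻¹ = R.t := (R.h_t lam).mul_inv_cancel
  have hb : R.h lam * (D.wy i a * q) * (R.h lam)⁻¹ = D.wy i a * q := by
    have h2 : R.h lam * (f * R.t * f⁻¹) * (R.h lam)⁻¹ = f * R.t * f⁻¹ := by
      calc _ = (R.h lam * f * (R.h lam)⁻¹) * (R.h lam * R.t * (R.h lam)⁻¹) * (R.h lam * f * (R.h lam)⁻¹)⁻¹ := by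
            group
        _ = _ := by rw [e, ht]
    rw [h1] at h2
    have h4 : R.h lam * (R.t * (D.wy i a * q)) * (R.h lam)⁻¹ =
        (R.h lam * R.t * (R.h lam)⁻¹) * (R.h lam * (D.wy i a * q) * (R.h lam)⁻¹) := by group
    rw [h4, ht] at h2
    exact mul_left_cancel h2
  have hq' : R.h lam * q * (R.h lam)⁻¹ = q := by
    have h2 : R.h lam * (D.wy i a * q) * (R.h lam)⁻¹ =
        (R.h lam * D.wy i a * (R.h lam)⁻¹) * (R.h lam * q * (R.h lam)⁻¹) := by group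
    rw [h2, D.h_wy, hi, Units.val_one, one_pow, one_mul] at hb
    exact mul_left_cancel hb
  have hqJ := Q_fix_mem hi hJ hj hq hq'
  have hle : Subgroup.closure {g | (∃ a, g = R.y i a) ∨ ∃ j ∈ J, Dj i j ∧ ∃ a, g = R.x i j a} ≤
      Subgroup.closure {g | (∃ u, g = D.wy i u) ∨ (∃ a, g = R.y i a) ∨ ∃ k ∈ J, Dj i k ∧ ∃ a, g = R.x i k a} :=
    Subgroup.closure_mono fun g hg => Or.inr hg
  obtain ⟨hbF, c, hc, hct⟩ := D.rch_B h3 hj₀ hij₀
    (mul_mem (Subgroup.subset_closure (Or.inl ⟨a, rfl⟩)) (hle hqJ))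
  -- `c` commutes with `h`
  have hch : Commute (R.h lam) c := by
    refine Subgroup.closure_induction (p := fun c _ => Commute (R.h lam) c) ?_ (Commute.one_right _)
      (fun _ _ _ _ h1 h2 => h1.mul_right h2) (fun _ _ h1 => h1.inv_right) hc
    have turn : ∀ {g : G}, R.h lam * g * (R.h lam)⁻¹ = g → Commute (R.h lam) g := by
      intro g hg
      show R.h lam * g = g * R.h lam
      calc R.h lam * g = (R.h lam * g * (R.h lam)⁻¹) * R.h lam := by group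
        _ = _ := by rw [hg]
    rintro g (⟨u, rfl⟩ | ⟨b, rfl⟩ | ⟨j, hjJ, hij, ⟨u, rfl⟩ | ⟨b, rfl⟩ | ⟨u, v, rfl⟩⟩) <;> apply turn
    · rw [D.h_wy, hi, Units.val_one, one_pow, one_mul]
    · rw [R.h_y, hi, Units.val_one, one_pow, one_mul]
    · rw [D.h_wx lam hij, hi, hJ j hjJ, Units.val_one, one_mul, one_mul]
    · rw [R.h_x, hi, hJ j hjJ, Units.val_one, one_mul, one_mul]
    · rw [D.h_p hij u v, hi, hJ j hjJ]
      simp
  have hct2 : Commute (c⁻¹ * f) R.t := by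
    have h5 : c * R.t * c⁻¹ = f * R.t * f⁻¹ := by rw [hct, h1]
    show c⁻¹ * f * R.t = R.t * (c⁻¹ * f)
    calc c⁻¹ * f * R.t = c⁻¹ * (f * R.t * f⁻¹) * f := by group
      _ = _ := by rw [← h5]; group
  have hcf : c⁻¹ * f ∈ D.Fg i Set.univ := mul_mem (inv_mem (D.F_mono (Set.subset_univ J) hc)) hf
  have hcq := D.mem_Q_of_comm h3 hcf hct2
  have hcfix : R.h lam * (c⁻¹ * f) * (R.h lam)⁻¹ = c⁻¹ * f := by
    calc _ = (R.h lam * c⁻¹ * (R.h lam)⁻¹) * (R.h lam * f * (R.h lam)⁻¹) := by group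
      _ = _ := by rw [e, hch.inv_right.mul_inv_cancel]
  have h6 := Q_fix_mem hi hJ hj hcq hcfix
  have hle2 : Subgroup.closure {g | (∃ a, g = R.y i a) ∨ ∃ j ∈ J, Dj i j ∧ ∃ a, g = R.x i j a} ≤ D.Fg i J := by
    refine (Subgroup.closure_le _).mpr ?_
    rintro g (⟨b, rfl⟩ | ⟨j, hjJ, hij, b, rfl⟩)
    exacts [D.y_mem_F b, D.x_mem_F hjJ hij b]
  have h7 : f = c * (c⁻¹ * f) := by group
  rw [h7]
  exact mul_mem hc (hle2 h6)

end COne

end Cfsg.Agent.OddHalf.SpN
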