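import Mathlib
import Cfsg.Agent.OddHalf.SpN.COneI

/-!
# ODD D7, `K = Sp_2n(q)`, `q ≥ 4`, pattern (C,O): the group `U*` (helper63)

`COne.exists_Ustar` : a 2-group `S` containing `U`, normalised by `t`, `t ∉ S`, all involutions of `tS` are
`S`-conjugate to `t`.
-/

set_option autoImplicit false

namespace Cfsg.Agent.OddHalf.SpN

/-- A 2-group `A` normalised by the involution `t ∉ A` such that all involutions of `tA` are `A`-conjugate to `t`. -/
structure Good {G : Type*} [Group G] (t : G) (A : Subgroup G) : Prop where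
  p2 : IsPGroup 2 A
  nt : ∀ a ∈ A, t * a * t ∈ A
  tn : t ∉ A
  inv : ∀ a ∈ A, t * a * (t * a) = 1 → ∃ c ∈ A, c * t * c⁻¹ = t * a

section glue

variable {G : Type*} [Group G] {t : G} {A B : Subgroup G}

/-- the product `AB` -/
def glue (A B : Subgroup G) (h : ∀ a ∈ A, ∀ b ∈ B, a * b * a⁻¹ ∈ B) : Subgroup G where
  carrier := {g | ∃ a ∈ A, ∃ b ∈ B, g = a * b}
  one_mem' := ⟨1, one_mem _, 1, one_mem _, (one_mul _).symm⟩
  mul_mem' := by
    rintro _ _ ⟨a, ha, b, hb, rfl⟩ ⟨a', ha', b', hb', rfl⟩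
    refine ⟨a * a', mul_mem ha ha', (a'⁻¹ * b * a'⁻¹⁻¹) * b', mul_mem (h _ (inv_mem ha') _ hb) hb', ?_⟩
    group
  inv_mem' := by
    rintro _ ⟨a, ha, b, hb, rfl⟩
    refine ⟨a⁻¹, inv_mem ha, a * b⁻¹ * a⁻¹, h _ ha _ (inv_mem hb), ?_⟩
    group

theorem Good.glue (tt : t * t = 1) (hA : Good t A) (hB : Good t B) (h : ∀ a ∈ A, ∀ b ∈ B, a * b * a⁻¹ ∈ B)
    (disj : ∀ b ∈ B, b ∈ A ∨ t * b ∈ A → b = 1) : Good t (glue A B h) := by
  have ti : t⁻¹ = t := inv_eq_of_mul_eq_one_left tt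
  refine ⟨?_, ?_, ?_, ?_⟩
  · have h1 : A ≤ Subgroup.normalizer (B : Set G) := by
      intro a ha
      rw [Subgroup.mem_normalizer_iff]
      intro b
      constructor
      · exact fun hb => h a ha b hb
      · intro hb
        have := h a⁻¹ (inv_mem ha) _ hb
        have e : a⁻¹ * (a * b * a⁻¹) * a⁻¹⁻¹ = b := by group
        rwa [e] at this
    have h2 := hA.p2.to_sup_of_normal_right' hB.p2 h1
    refine h2.to_le ?_
    rintro _ ⟨a, ha, b, hb, rfl⟩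
    exact Subgroup.mul_mem_sup ha hb
  · rintro _ ⟨a, ha, b, hb, rfl⟩
    refine ⟨t * a * t, hA.nt a ha, t * b * t, hB.nt b hb, ?_⟩
    calc t * (a * b) * t = t * a * 1 * b * t := by group
      _ = _ := by rw [← tt]; simp only [mul_assoc]
  · rintro ⟨a, ha, b, hb, e⟩
    have h1 : t * b ∈ A := by
      have : t * b = t * a⁻¹ * t := by
        have : b = a⁻¹ * t := by rw [e]; group
        rw [this]; group
      rw [this]
      exact hA.nt _ (inv_mem ha)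
    have h2 := disj b hb (Or.inr h1)
    rw [h2, mul_one] at e
    exact hA.tn (by rw [e]; exact ha)
  · rintro _ ⟨a, ha, b, hb, rfl⟩ h0
    have e1 : t * a * (t * a) = 1 := by
      have h1 : t * a * (t * a) ∈ A := by
        have : t * a * (t * a) = (t * a * t) * a := by group
        rw [this]; exact mul_mem (hA.nt a ha) ha
      have h2 : t * a * (t * a) ∈ B := by
        have h3 : (t * a) * (t * a) * (((t * a)⁻¹ * b * (t * a)) * b) = 1 := by
          rw [← h0]; group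
        have h4 : (t * a)⁻¹ * b * (t * a) ∈ B := by
          have h5 := h a⁻¹ (inv_mem ha) _ (hB.nt b hb)
          have e : a⁻¹ * (t * b * t) * a⁻¹⁻¹ = (t * a)⁻¹ * b * (t * a) := by
            rw [mul_inv_rev, ti]; group
          rwa [e] at h5
        have h5 : t * a * (t * a) = (((t * a)⁻¹ * b * (t * a)) * b)⁻¹ := eq_inv_of_mul_eq_one_left h3
        rw [h5]; exact inv_mem (mul_mem h4 hb)
      exact disj _ h2 (Or.inl h1)
    obtain ⟨c, hc, hc2⟩ := hA.inv a ha e1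
    have hb' : c⁻¹ * b * c ∈ B := by
      have := h c⁻¹ (inv_mem hc) b hb
      rwa [inv_inv] at this
    have e2 : t * (c⁻¹ * b * c) * (t * (c⁻¹ * b * c)) = 1 := by
      have e3 : t * (c⁻¹ * b * c) = c⁻¹ * (t * (a * b)) * c := by
        have : t * (a * b) = c * t * c⁻¹ * b := by rw [hc2]; group
        rw [this]; group
      rw [e3]
      calc _ = c⁻¹ * (t * (a * b) * (t * (a * b))) * c := by group
        _ = 1 := by rw [h0]; group
    obtain ⟨d, hd, hd2⟩ := hB.inv _ hb' e2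
    refine ⟨c * d, ⟨c, hc, d, hd, rfl⟩, ?_⟩
    calc c * d * t * (c * d)⁻¹ = c * (d * t * d⁻¹) * c⁻¹ := by group
      _ = (c * t * c⁻¹) * b := by rw [hd2]; group
      _ = _ := by rw [hc2]; group

end glue

/-- coprime action on a coset of an elementary abelian 2-group -/
theorem avg {G : Type*} [Group G] [Finite G] {H Q : Subgroup G} (hodd : Odd (Nat.card H))
    (comm : ∀ a ∈ Q, ∀ b ∈ Q, a * b = b * a) (sq : ∀ a ∈ Q, a * a = 1) (hHQ : ∀ h ∈ H, ∀ q ∈ Q, h * q * h⁻¹ ∈ Q)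
    {c : G} (hc : ∀ h ∈ H, c⁻¹ * (h * c * h⁻¹) ∈ Q) : ∃ q ∈ Q, ∀ h ∈ H, h * (c * q) * h⁻¹ = c * q := by
  classical
  let _ : CommGroup Q := { (inferInstance : Group Q) with mul_comm := fun a b => Subtype.ext (comm _ a.2 _ b.2) }
  have _ : Fintype H := Fintype.ofFinite H
  let γ : H → Q := fun h => ⟨c⁻¹ * (h.1 * c * h.1⁻¹), hc _ h.2⟩
  let φ : H → (Q →* Q) := fun g =>
    { toFun := fun q => ⟨g.1 * q.1 * g.1⁻¹, hHQ _ g.2 _ q.2⟩
      map_one' := Subtype.ext (by show g.1 * 1 * g.1⁻¹ = 1; group)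
      map_mul' := fun a b => Subtype.ext (by
        show g.1 * (a.1 * b.1) * g.1⁻¹ = (g.1 * a.1 * g.1⁻¹) * (g.1 * b.1 * g.1⁻¹); group) }
  have hγ : ∀ g h : H, φ g (γ h) = (γ g)⁻¹ * γ (g * h) := fun g h => Subtype.ext (by
    show g.1 * (c⁻¹ * (h.1 * c * h.1⁻¹)) * g.1⁻¹ = (c⁻¹ * (g.1 * c * g.1⁻¹))⁻¹ *
      (c⁻¹ * ((g.1 * h.1) * c * (g.1 * h.1)⁻¹))
    group)
  have key : ∀ g : H, φ g (∏ h : H, γ h) = γ g * ∏ h : H, γ h := by
    intro g
    rw [map_prod]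
    simp only [hγ]
    rw [Finset.prod_mul_distrib, Finset.prod_const, Finset.card_univ]
    have h1 : ∏ h : H, γ (g * h) = ∏ h : H, γ h := Equiv.prod_comp (Equiv.mulLeft g) γ
    rw [h1]
    congr 1
    have h2 : (γ g)⁻¹ = γ g := inv_eq_of_mul_eq_one_left (Subtype.ext (sq _ (γ g).2))
    rw [h2]
    have h3 : γ g ^ 2 = 1 := by rw [pow_two]; exact Subtype.ext (sq _ (γ g).2)
    obtain ⟨m, hm⟩ := hodd
    rw [Nat.card_eq_fintype_card] at hm
    rw [hm, pow_add, pow_mul, h3, one_pow, one_mul, pow_one]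
  refine ⟨(∏ h : H, γ h : Q).1, (∏ h : H, γ h : Q).2, fun g hg => ?_⟩
  have h4 := congrArg Subtype.val (key ⟨g, hg⟩)
  have h5 : g * (∏ h : H, γ h : Q).1 * g⁻¹ = (c⁻¹ * (g * c * g⁻¹)) * (∏ h : H, γ h : Q).1 := h4
  have h6 := sq _ (hc g hg)
  calc g * (c * (∏ h : H, γ h : Q).1) * g⁻¹ = (g * c * g⁻¹) * (g * (∏ h : H, γ h : Q).1 * g⁻¹) := by group
    _ = c * ((c⁻¹ * (g * c * g⁻¹)) * (c⁻¹ * (g * c * g⁻¹))) * (∏ h : H, γ h : Q).1 := by rw [h5]; group
    _ = _ := by rw [h6, mul_one]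

namespace COne

variable {n : ℕ} {F : Type*} [Field F] [CharP F 2] {G : Type*} [Group G] {R : Frame n F G} (D : COne R)

include D

section conj

variable [Finite F] (h3 : ∀ i j : Ix n, ∃ k, Dj i k ∧ Dj j k) {i : Ix n} {J : Set (Ix n)}

omit [Finite F] in
/-- `t` normalises `F_i` -/
theorem t_F : ∀ f ∈ D.Fg i J, R.t * f * R.t ∈ D.Fg i J := by
  have ti : R.t⁻¹ = R.t := R.t_inv
  have h : ∀ f ∈ D.Fg i J, R.t * f * R.t⁻¹ ∈ D.Fg i J := by
    refine closure_conj (S := D.FS i J) ?_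
    rintro g (⟨u, rfl⟩ | ⟨a, rfl⟩ | ⟨j, hj, hij, ⟨u, rfl⟩ | ⟨a, rfl⟩ | ⟨u, v, rfl⟩⟩)
    · rw [ti, D.wy_t]; exact mul_mem (D.wy_mem_F u) (D.y_mem_F u)
    · rw [(R.y_t i a).symm.mul_inv_cancel]; exact D.y_mem_F a
    · rw [ti, D.wx_t hij]; exact mul_mem (D.wx_mem_F hj hij u) (D.x_mem_F hj hij u)
    · rw [(R.x_t i j a).symm.mul_inv_cancel]; exact D.x_mem_F hj hij a
    · obtain ⟨c, d, h1⟩ := D.t_p hij u v
      rw [ti, h1]
      exact mul_mem (mul_mem (mul_mem (D.p_mem_F hj hij u v) (D.wy_mem_F _)) (D.x_mem_F hj hij c)) (D.y_mem_F d)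
  intro f hf
  have := h f hf
  rwa [ti] at this

omit [Finite F] in
/-- the torus normalises `F_i` -/
theorem h_F (lam : Fin n → Fˣ) : ∀ f ∈ D.Fg i J, R.h lam * f * (R.h lam)⁻¹ ∈ D.Fg i J := by
  refine closure_conj (S := D.FS i J) ?_
  rintro g (⟨u, rfl⟩ | ⟨a, rfl⟩ | ⟨j, hj, hij, ⟨u, rfl⟩ | ⟨a, rfl⟩ | ⟨u, v, rfl⟩⟩)
  · rw [D.h_wy]; exact D.wy_mem_F _
  · rw [R.h_y]; exact D.y_mem_F _
  · rw [D.h_wx lam hij]; exact D.wx_mem_F hj hij _
  · rw [R.h_x]; exact D.x_mem_F hj hij _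
  · rw [D.h_p hij]; exact D.p_mem_F hj hij _ _

include h3

theorem F_p2 : IsPGroup 2 (D.Fg i J) := by
  intro g
  refine ⟨2, Subtype.ext ?_⟩
  obtain ⟨e, he⟩ := D.F_sq h3 g.2
  show (g.1) ^ (2 ^ 2) = 1
  calc g.1 ^ (2 ^ 2) = (g.1 * g.1) * (g.1 * g.1) := by rw [show 2 ^ 2 = 2 * 2 from rfl, pow_mul, pow_two, pow_two]
    _ = 1 := by rw [he, R.y_sq]

end conj

/-- the torus elements supported on the indices `< k` -/
def HL (R : Frame n F G) (k : ℕ) : Subgroup G where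
  carrier := {g | ∃ lam : Fin n → Fˣ, (∀ j : Fin n, k ≤ j → lam j = 1) ∧ g = R.h lam}
  one_mem' := ⟨1, fun _ _ => rfl, (map_one _).symm⟩
  mul_mem' := by
    rintro _ _ ⟨l, hl, rfl⟩ ⟨l', hl', rfl⟩
    exact ⟨l * l', fun j hj => by rw [Pi.mul_apply, hl j hj, hl' j hj, one_mul], (map_mul _ _ _).symm⟩
  inv_mem' := by
    rintro _ ⟨l, hl, rfl⟩
    exact ⟨l⁻¹, fun j hj => by rw [Pi.inv_apply, hl j hj, inv_one], (map_inv _ _).symm⟩

omit D in
theorem HL_mono {k m : ℕ} (h : k ≤ m) : HL R k ≤ HL R m := by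
  rintro _ ⟨l, hl, rfl⟩
  exact ⟨l, fun j hj => hl j (h.trans hj), rfl⟩

omit D in
theorem HL_odd [Finite G] (k : ℕ) : Odd (Nat.card (HL R k)) := by
  rw [← Nat.not_even_iff_odd, even_iff_two_dvd]
  intro h
  obtain ⟨x, ho⟩ := exists_prime_orderOf_dvd_card' 2 h
  obtain ⟨l, hl, hx⟩ := x.2
  have h1 : x.1 * x.1 = 1 := by
    have := pow_orderOf_eq_one x
    rw [ho, pow_two] at this
    exact congrArg Subtype.val this
  rw [hx, ← map_mul, ← map_one R.h] at h1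
  have h2 := R.h_injective h1
  have h4 : l = 1 := by
    funext j
    by_contra hj
    apply sq_ne_one hj
    rw [pow_two]
    exact congrFun h2 j
  rw [h4, map_one] at hx
  have h5 : x = 1 := Subtype.ext hx
  rw [h5, orderOf_one] at ho
  exact absurd ho (by norm_num)

/-- `R_k = C_{F_k}(H_{<k})` -/
def Rk (k : Fin n) : Subgroup G := D.Fg (Sum.inl k) Set.univ ⊓ Subgroup.centralizer (HL R k : Set G)

theorem mem_Rk {k : Fin n} {r : G} :
    r ∈ D.Rk k ↔ r ∈ D.Fg (Sum.inl k) Set.univ ∧ ∀ g ∈ HL R k, g * r = r * g := by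
  rw [Rk, Subgroup.mem_inf, Subgroup.mem_centralizer_iff]
  rfl

section Rk

variable [Finite F] [Finite G] (h3 : ∀ i j : Ix n, ∃ k, Dj i k ∧ Dj j k)

include h3

theorem Rk_good (k : Fin n) : Good R.t (D.Rk k) := by
  refine ⟨(D.F_p2 h3).to_le inf_le_left, ?_, fun h => D.t_notMem_F h3 (D.mem_Rk.mp h).1, ?_⟩
  · intro a ha0
    obtain ⟨ha, ha'⟩ := D.mem_Rk.mp ha0
    refine D.mem_Rk.mpr ⟨D.t_F a ha, ?_⟩
    rintro _ ⟨l, hl, rfl⟩
    have h1 := ha' _ ⟨l, hl, rfl⟩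
    have h2 := (R.h_t l).eq
    calc R.h l * (R.t * a * R.t) = (R.h l * R.t) * a * R.t := by group
      _ = R.t * (R.h l * a) * R.t := by rw [h2]; group
      _ = R.t * a * (R.h l * R.t) := by rw [h1]; group
      _ = _ := by rw [h2]; group
  · intro r hr0 h0
    obtain ⟨hr, hr'⟩ := D.mem_Rk.mp hr0
    obtain ⟨c, hc, hct⟩ := D.inv_F h3 hr h0
    have Qt : ∀ q ∈ R.Q (Sum.inl k), Commute q R.t := by
      intro q hq
      refine Subgroup.closure_induction (p := fun b _ => Commute b R.t) ?_ (Commute.one_left _)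
        (fun _ _ _ _ h1 h2 => h1.mul_left h2) (fun _ _ h1 => h1.inv_left) hq
      rintro g (⟨a, rfl⟩ | ⟨k, a, rfl⟩)
      exacts [R.y_t _ a, R.x_t _ k a]
    have sqQ : ∀ q ∈ R.Q (Sum.inl k), q * q = 1 := by
      intro q hq
      refine Subgroup.closure_induction (p := fun b _ => b ∈ R.Q (Sum.inl k) → b * b = 1) ?_ ?_ ?_ ?_ hq hq
      · rintro g (⟨a, rfl⟩ | ⟨k, a, rfl⟩) -
        exacts [R.y_sq _ a, R.x_sq _ k a]
      · intro _; rw [one_mul]
      · intro a b ha hb h1 h2 _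
        have h4 := Q_comm b hb a ha
        calc a * b * (a * b) = a * (b * a) * b := by group
          _ = (a * a) * (b * b) := by rw [h4]; group
          _ = 1 := by rw [h1 ha, h2 hb, one_mul]
      · intro a ha h1 _
        have : a⁻¹ * a⁻¹ = (a * a)⁻¹ := by group
        rw [this, h1 ha, inv_one]
    have hHQ : ∀ h ∈ HL R k, ∀ q ∈ R.Q (Sum.inl k), h * q * h⁻¹ ∈ R.Q (Sum.inl k) := by
      rintro _ ⟨l, -, rfl⟩ q hq
      exact h_Q l q hq
    have hcc : ∀ h ∈ HL R k, c⁻¹ * (h * c * h⁻¹) ∈ R.Q (Sum.inl k) := by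
      rintro _ ⟨l, hl, rfl⟩
      have hF : c⁻¹ * (R.h l * c * (R.h l)⁻¹) ∈ D.Fg (Sum.inl k) Set.univ := mul_mem (inv_mem hc) (D.h_F l c hc)
      refine D.mem_Q_of_comm h3 hF ?_
      have e1 : (R.h l * c * (R.h l)⁻¹) * R.t * (R.h l * c * (R.h l)⁻¹)⁻¹ = c * R.t * c⁻¹ := by
        have h4 : (R.h l)⁻¹ * R.t * R.h l = R.t := by
          rw [mul_assoc, ← (R.h_t l).eq]; group
        have h5 : Commute (R.h l) (R.t * r) := (R.h_t l).mul_right (hr' _ ⟨l, hl, rfl⟩)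
        calc _ = R.h l * (c * ((R.h l)⁻¹ * R.t * R.h l) * c⁻¹) * (R.h l)⁻¹ := by group
          _ = _ := by rw [h4, hct, h5.mul_inv_cancel]
      show c⁻¹ * (R.h l * c * (R.h l)⁻¹) * R.t = R.t * (c⁻¹ * (R.h l * c * (R.h l)⁻¹))
      calc _ = c⁻¹ * ((R.h l * c * (R.h l)⁻¹) * R.t * (R.h l * c * (R.h l)⁻¹)⁻¹) * (R.h l * c * (R.h l)⁻¹) := by group
        _ = _ := by rw [e1]; group
    obtain ⟨q, hq, hq2⟩ := avg (H := HL R k) (Q := R.Q (Sum.inl k)) (HL_odd k) Q_comm sqQ hHQ hcc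
    refine ⟨c * q, D.mem_Rk.mpr ⟨mul_mem hc (D.Q_le_F hq), ?_⟩, ?_⟩
    · intro g hg
      calc g * (c * q) = (g * (c * q) * g⁻¹) * g := by group
        _ = _ := by rw [hq2 g hg]
    · calc c * q * R.t * (c * q)⁻¹ = c * (q * R.t * q⁻¹) * c⁻¹ := by group
        _ = _ := by rw [(Qt q hq).mul_inv_cancel, hct]

/-- `C_{R_k}(h_k(μ)) = 1` -/
theorem Rk_fpf {k : Fin n} {μ : Fˣ} (hμ : μ ≠ 1) {r : G} (hr : r ∈ D.Rk k)
    (e : R.h (Pi.mulSingle k μ) * r = r * R.h (Pi.mulSingle k μ)) : r = 1 := by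
  have h1 : ev (Pi.mulSingle k μ) (Sum.inl k : Ix n) = μ := Pi.mulSingle_eq_same (M := fun _ : Fin n => Fˣ) k μ
  refine D.eq_one_of_fix h3 (i := Sum.inl k) (lam := Pi.mulSingle k μ) ?_ ?_ (D.mem_Rk.mp hr).1 ?_
  · rw [h1]; exact hμ
  · intro j hj
    have h2 : ev (Pi.mulSingle k μ) j = 1 := by
      rcases j with j | j
      · have : j ≠ k := fun h => hj.1 (by rw [h])
        exact Pi.mulSingle_eq_of_ne (M := fun _ : Fin n => Fˣ) this μ
      · have : j ≠ k := fun h => hj.2 (by rw [h]; rfl)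
        show ((Pi.mulSingle k μ : Fin n → Fˣ) j)⁻¹ = 1
        rw [Pi.mulSingle_eq_of_ne this, inv_one]
    rw [h1, h2, mul_one]; exact hμ
  · rw [e]; group

/-- `R_m ≤ N(F_k)` for `k < m` -/
theorem Rk_nor {k m : Fin n} (hkm : k < m) {μ : Fˣ} (hμ : μ ≠ 1) {r : G} (hr : r ∈ D.Rk m) :
    r ∈ Subgroup.normalizer (D.Fg (Sum.inl k) Set.univ : Set G) := by
  obtain ⟨hr1, hr2⟩ := D.mem_Rk.mp hr
  have hdj : Dj (Sum.inl m : Ix n) (Sum.inl k) :=
    ⟨fun h => hkm.ne' (Sum.inl_injective h), fun h => by simp at h⟩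
  have h0 : ∀ j : Ix n, Dj (Sum.inl k) j → ev (Pi.mulSingle k μ) j = 1 := by
    intro j hj
    rcases j with j | j
    · have : j ≠ k := fun h => hj.1 (by rw [h])
      exact Pi.mulSingle_eq_of_ne (M := fun _ : Fin n => Fˣ) this μ
    · have : j ≠ k := fun h => hj.2 (by rw [h]; rfl)
      show ((Pi.mulSingle k μ : Fin n → Fˣ) j)⁻¹ = 1
      rw [Pi.mulSingle_eq_of_ne this, inv_one]
  have h1 : ev (Pi.mulSingle k μ) (Sum.inl k : Ix n) = μ := Pi.mulSingle_eq_same (M := fun _ : Fin n => Fˣ) k μ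
  obtain ⟨j₀, hm0, hk0⟩ := h3 (Sum.inl m) (Sum.inl k)
  have hF : r ∈ D.Fg (Sum.inl m) {j | Dj (Sum.inl k) j} := by
    refine D.mem_of_fix h3 (lam := Pi.mulSingle k μ) (h0 _ hdj.symm) (fun j hj => h0 j hj) ?_ (j₀ := j₀) hk0 hm0 hr1 ?_
    · intro j hmj hj h
      have hj' : ¬ Dj (Sum.inl k) j := hj
      simp only [Dj, not_and_or, not_not] at hj'
      rcases hj' with hj | hj
      · rw [← hj, h1] at h; exact hμ h
      · have hj' : j = neg (Sum.inl k) := by rw [hj, neg_neg]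
        rw [hj', ev_neg, h1, inv_eq_one] at h; exact hμ h
    · have := hr2 (R.h (Pi.mulSingle k μ)) ⟨_, fun j hj => ?_, rfl⟩
      · rw [this]; group
      · have : j ≠ k := fun h => by rw [h] at hj; exact absurd hkm (not_lt.mpr hj)
        exact Pi.mulSingle_eq_of_ne (M := fun _ : Fin n => Fˣ) this μ
  have hle : D.Fg (Sum.inl m) {j | Dj (Sum.inl k) j} ≤ Subgroup.normalizer (D.Fg (Sum.inl k) Set.univ : Set G) := by
    refine (Subgroup.closure_le _).mpr ?_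
    rintro g (⟨u, rfl⟩ | ⟨a, rfl⟩ | ⟨j, hj, hij, ⟨u, rfl⟩ | ⟨a, rfl⟩ | ⟨u, v, rfl⟩⟩)
    · exact D.wy_nor h3 hdj.symm u
    · exact D.y_nor h3 hdj.symm a
    · exact D.wx_nor hdj.symm hj hij u
    · exact D.x_nor hdj.symm hj hij a
    · have e1 := D.wx_nor hdj.symm (dj_neg_right.mpr hj) (dj_neg_right.mpr hij) u
      have e2 := D.wy_nor h3 hj v
      exact mul_mem (mul_mem (mul_mem e1 e2) (inv_mem e1)) (inv_mem e2)
  exact hle hF

theorem exists_chain {μ : Fˣ} (hμ : μ ≠ 1) : ∀ m, m ≤ n → ∃ A : Subgroup G, Good R.t A ∧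
    (∀ k : Fin n, n - m ≤ k → D.Rk k ≤ A) ∧ (∀ a ∈ A, ∀ g ∈ HL R (n - m), g * a = a * g) ∧
    ∀ k : Fin n, (k : ℕ) < n - m → A ≤ Subgroup.normalizer (D.Fg (Sum.inl k) Set.univ : Set G) := by
  intro m
  induction m with
  | zero =>
    intro _
    refine ⟨⊥, ⟨IsPGroup.of_bot, ?_, ?_, ?_⟩, ?_, ?_, ?_⟩
    · intro a ha
      rw [Subgroup.mem_bot] at ha ⊢
      rw [ha, mul_one, R.tt]
    · intro h; exact R.t1 (Subgroup.mem_bot.mp h)
    · intro a ha _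
      rw [Subgroup.mem_bot] at ha
      exact ⟨1, one_mem _, by rw [ha]; group⟩
    · intro k hk; exact absurd k.2 (by omega)
    · intro a ha g _
      rw [Subgroup.mem_bot] at ha
      rw [ha]; group
    · intro k _; exact bot_le
  | succ m ih =>
    intro hm
    obtain ⟨A, hA, hA1, hA2, hA3⟩ := ih (by omega)
    have hk0 : n - (m + 1) < n := by omega
    let k0 : Fin n := ⟨n - (m + 1), hk0⟩
    have hk1 : n - m = (k0 : ℕ) + 1 := by show n - m = n - (m + 1) + 1; omega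
    have h : ∀ a ∈ A, ∀ b ∈ D.Rk k0, a * b * a⁻¹ ∈ D.Rk k0 := by
      intro a ha b hb
      obtain ⟨hb1, hb2⟩ := D.mem_Rk.mp hb
      refine D.mem_Rk.mpr ⟨(Subgroup.mem_normalizer_iff.mp (hA3 k0 (by omega) ha) b).mp hb1, ?_⟩
      intro g hg
      have e1 := hA2 a ha g (HL_mono (by omega) hg)
      have e2 := hb2 g hg
      calc g * (a * b * a⁻¹) = (g * a) * b * a⁻¹ := by group
        _ = a * (g * b) * a⁻¹ := by rw [e1]; group
        _ = a * b * (g * a⁻¹) := by rw [e2]; group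
        _ = _ := by
          have : g * a⁻¹ = a⁻¹ * g := by
            calc g * a⁻¹ = a⁻¹ * (a * g) * a⁻¹ := by group
              _ = _ := by rw [← e1]; group
          rw [this]; group
    have disj : ∀ b ∈ D.Rk k0, b ∈ A ∨ R.t * b ∈ A → b = 1 := by
      intro b hb hbA
      have hg : R.h (Pi.mulSingle k0 μ) ∈ HL R (n - m) := by
        refine ⟨_, fun j hj => ?_, rfl⟩
        have : j ≠ k0 := fun e => by rw [e] at hj; omega
        exact Pi.mulSingle_eq_of_ne (M := fun _ : Fin n => Fˣ) this μ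
      refine D.Rk_fpf h3 hμ hb ?_
      rcases hbA with hbA | hbA
      · exact hA2 b hbA _ hg
      · have e1 := hA2 _ hbA _ hg
        have e2 := (R.h_t (Pi.mulSingle k0 μ)).eq
        rw [← mul_assoc, e2, mul_assoc, mul_assoc] at e1
        exact mul_left_cancel e1
    refine ⟨glue A (D.Rk k0) h, hA.glue R.tt (D.Rk_good h3 k0) h disj, ?_, ?_, ?_⟩
    · intro k hk r hr
      by_cases hkm : n - m ≤ k
      · exact ⟨r, hA1 k hkm hr, 1, one_mem _, (mul_one _).symm⟩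
      · have : k = k0 := Fin.ext (by show (k : ℕ) = n - (m + 1); omega)
        exact ⟨1, one_mem _, r, by rw [← this]; exact hr, (one_mul _).symm⟩
    · rintro _ ⟨a, ha, b, hb, rfl⟩ g hg
      have e1 := hA2 a ha g (HL_mono (by omega) hg)
      have e2 := (D.mem_Rk.mp hb).2 g hg
      rw [← mul_assoc, e1, mul_assoc, e2, mul_assoc]
    · rintro k hk _ ⟨a, ha, b, hb, rfl⟩
      exact mul_mem (hA3 k (by omega) ha) (D.Rk_nor h3 (k := k) (m := k0) (Fin.lt_def.mpr hk) hμ hb)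

/-- **Section 10**: the group `U*` of pattern (C,O). -/
theorem exists_Ustar {μ : Fˣ} (hμ : μ ≠ 1) : ∃ S : Subgroup G, Good R.t S ∧
    (∀ (k : Fin n) (a : F), R.y (Sum.inl k) a ∈ S) ∧
    (∀ (k j : Fin n), k < j → ∀ a : F, R.x (Sum.inl k) (Sum.inl j) a ∈ S ∧ R.x (Sum.inl k) (Sum.inr j) a ∈ S) := by
  obtain ⟨S, hS, h1, -, -⟩ := D.exists_chain h3 hμ n le_rfl
  have h2 : ∀ k, D.Rk k ≤ S := fun k => h1 k (by omega)
  refine ⟨S, hS, fun k a => h2 k (D.mem_Rk.mpr ⟨D.y_mem_F a, ?_⟩), fun k j hkj a => ⟨?_, ?_⟩⟩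
  · rintro _ ⟨l, hl, rfl⟩
    have e := R.h_y l (Sum.inl k) a
    have hk : ev l (Sum.inl k : Ix n) = 1 := hl k le_rfl
    rw [hk, Units.val_one, one_pow, one_mul] at e
    exact mul_inv_eq_iff_eq_mul.mp e
  · have hd : Dj (Sum.inl k : Ix n) (Sum.inl j) := ⟨fun h => hkj.ne (Sum.inl_injective h), fun h => by simp at h⟩
    refine h2 k (D.mem_Rk.mpr ⟨D.x_mem_F (Set.mem_univ _) hd a, ?_⟩)
    rintro _ ⟨l, hl, rfl⟩
    have e := R.h_x l (Sum.inl k) (Sum.inl j) a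
    have hk : ev l (Sum.inl k : Ix n) = 1 := hl k le_rfl
    have hj : ev l (Sum.inl j : Ix n) = 1 := hl j hkj.le
    rw [hk, hj, Units.val_one, one_mul, one_mul] at e
    exact mul_inv_eq_iff_eq_mul.mp e
  · have hd : Dj (Sum.inl k : Ix n) (Sum.inr j) := ⟨fun h => by simp at h, fun h => hkj.ne (Sum.inl_injective h)⟩
    refine h2 k (D.mem_Rk.mpr ⟨D.x_mem_F (Set.mem_univ _) hd a, ?_⟩)
    rintro _ ⟨l, hl, rfl⟩
    have e := R.h_x l (Sum.inl k) (Sum.inr j) a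
    have hk : ev l (Sum.inl k : Ix n) = 1 := hl k le_rfl
    have hj : ev l (Sum.inr j : Ix n) = 1 := by
      show (l j)⁻¹ = 1
      rw [hl j hkj.le, inv_one]
    rw [hk, hj, Units.val_one, one_mul, one_mul] at e
    exact mul_inv_eq_iff_eq_mul.mp e

end Rk

end COne

end Cfsg.Agent.OddHalf.SpN
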