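import Mathlib
import Cfsg.Agent.OddHalf.SpN.COneU
import Cfsg.Agent.OddHalf.SpN.SylU
import Cfsg.Agent.OddHalf.F4.EndO

/-!
# ODD D7, `K = Sp_2n(q)`, `n ≥ 3`, `q ≥ 4`, END of the pattern (C,O) (helper63)

`COne.exists_hom` : `t ↦ -1` for some homomorphism `G →* {±1}`.
-/

set_option autoImplicit false

namespace Cfsg.Agent.OddHalf.SpN

open Cfsg.Agent.OddHalf.F4.EndO

/-- third index -/
theorem exists_third {n : ℕ} (hn : 3 ≤ n) (i j : Ix n) : ∃ k, Dj i k ∧ Dj j k := by
  classical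
  let a : Ix n → Fin n := Sum.elim id id
  have ha : ∀ i j : Ix n, a i ≠ a j → Dj i j := by
    intro i j h
    refine ⟨fun e => h (by rw [e]), fun e => h ?_⟩
    rw [e]
    rcases j with j | j <;> rfl
  obtain ⟨k, hk⟩ : ∃ k : Fin n, k ∉ ({a i, a j} : Finset (Fin n)) := by
    by_contra h
    push_neg at h
    have h1 : (Finset.univ : Finset (Fin n)) ⊆ {a i, a j} := fun k _ => h k
    have h2 := Finset.card_le_card h1
    rw [Finset.card_univ, Fintype.card_fin] at h2
    have h3 : ({a i, a j} : Finset (Fin n)).card ≤ 2 := Finset.card_le_two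
    omega
  rw [Finset.mem_insert, Finset.mem_singleton, not_or] at hk
  exact ⟨Sum.inl k, ha _ _ (fun e => hk.1 e.symm), ha _ _ (fun e => hk.2 e.symm)⟩

variable {n : ℕ} {F : Type*} [Field F] [CharP F 2] [Finite F] {G : Type*} [Group G] [Finite G]

/-- **transfer**: a good 2-group containing a Sylow subgroup of `C(t)` modulo `t` -/
theorem Good.exists_hom {t : G} (tt : t * t = 1) {S : Subgroup G} (hS : Good t S) {T : Subgroup G}
    (hT : T ≤ S ⊔ Subgroup.zpowers t) (hodd : Odd (T.relIndex (Subgroup.centralizer {t}))) :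
    ∃ m : G →* ℤˣ, m t = -1 := by
  refine exists_hom_of_extremal tt hS.nt hS.tn hS.p2 (T := T) ?_ hodd ?_
  · have h1 : S ⊔ Subgroup.zpowers t ≤ Ht t S tt hS.nt := by
      refine sup_le (fun x hx => mem_Ht.2 (Or.inl hx)) ?_
      rw [Subgroup.zpowers_le]
      exact mem_Ht.2 (Or.inr (by rw [tt]; exact one_mem _))
    exact fun x hx => mem_Ht.1 (h1 (hT hx))
  · intro g hg h0 _ _
    obtain ⟨c, hc, h1⟩ := hS.inv g hg h0
    exact ⟨c, hc, by rw [← h1]; group⟩

namespace COne

/-- **END (C,O)**. -/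
theorem exists_hom {R : Frame n F G} (D : COne R) (hn : 3 ≤ n) {μ : Fˣ} (hμ : μ ≠ 1)
    (hodd : Odd ((R.Up ⊔ Subgroup.zpowers R.t).relIndex (Subgroup.centralizer {R.t}))) :
    ∃ m : G →* ℤˣ, m R.t = -1 := by
  obtain ⟨S, hS, hy, hx⟩ := D.exists_Ustar (exists_third hn) hμ
  refine hS.exists_hom R.tt (sup_le_sup_right ?_ _) hodd
  rw [R.Up_eq_closure, Subgroup.closure_le]
  rintro _ (⟨i, j, hij, h, a, rfl⟩ | ⟨i, h, a, rfl⟩)
  · rcases i with i | i <;> rcases j with j | j
    · rcases lt_trichotomy i j with h1 | h1 | h1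
      · exact (hx i j h1 a).1
      · exact absurd (by rw [h1]) hij.1
      · rw [R.x_symm]; exact (hx j i h1 a).1
    · rcases lt_trichotomy i j with h1 | h1 | h1
      · exact (hx i j h1 a).2
      · exact absurd (by rw [h1]; rfl) hij.2
      · exfalso
        have h2 := Fd_inl_lt h1
        have h3 : Fd (Sum.inr j : Ix n) = -Fd (Sum.inl j : Ix n) := Fd_neg (Sum.inl j)
        omega
    · rcases lt_trichotomy i j with h1 | h1 | h1
      · exfalso
        have h2 := Fd_inl_lt h1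
        have h3 : Fd (Sum.inr i : Ix n) = -Fd (Sum.inl i : Ix n) := Fd_neg (Sum.inl i)
        omega
      · exact absurd (by rw [h1]; rfl) hij.2
      · rw [R.x_symm]; exact (hx j i h1 a).2
    · exfalso
      have h2 := Fd_inl_pos i
      have h4 := Fd_inl_pos j
      have h3 : Fd (Sum.inr i : Ix n) = -Fd (Sum.inl i : Ix n) := Fd_neg (Sum.inl i)
      have h5 : Fd (Sum.inr j : Ix n) = -Fd (Sum.inl j : Ix n) := Fd_neg (Sum.inl j)
      omega
  · rcases i with i | i
    · exact hy i a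
    · exfalso
      have h2 := Fd_inl_pos i
      have h3 : Fd (Sum.inr i : Ix n) = -Fd (Sum.inl i : Ix n) := Fd_neg (Sum.inl i)
      omega

/-- **END (C,O), clean case**. -/
theorem exists_hom' {R : CFrame n F G} (D : COne R.toFrame) (hn : 3 ≤ n) {μ : Fˣ} (hμ : μ ≠ 1) :
    ∃ m : G →* ℤˣ, m R.t = -1 := D.exists_hom hn hμ R.odd_cent

end COne

end Cfsg.Agent.OddHalf.SpN
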