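import Mathlib
import Cfsg.Agent.OddHalf.SpN.FreeSer
import Cfsg.Agent.OddHalf.F4.EndO

/-!
# Free series: scalars, products (helper859)

* `FreeSer.torus` : a factor `A / B` which is elementary abelian is free for the involution `u` if there are `g`, `g'`
  ("scalars" `c`, `σ c` with `c + σ c = 1`) with `a^g a^{g'} = a` and `u g = g' u` on `A / B`;
* `FreeSer.lift` : `FreeSer u A`, `FreeSer (u b) B`, `b ∈ B`, `A` normalises `B`, `A ∩ B = 1`: `FreeSer (u b) (A B)`.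
-/

set_option autoImplicit false

namespace Cfsg.Agent.OddHalf.SpN

open Subgroup

variable {G : Type*} [Group G]

/-- an elementary abelian factor on which `u` is semilinear -/
theorem FreeSer.torus [Finite G] {u : G} (huu : u * u = 1) {A B : Subgroup G} (hB : FreeSer u B) (hBA : B ≤ A)
    (hsA : ∀ a ∈ A, u * a * u⁻¹ ∈ A)
    (hcomm : ∀ a ∈ A, ∀ b ∈ A, a * b * a⁻¹ * b⁻¹ ∈ B) (hsq : ∀ a ∈ A, a * a ∈ B)
    (g g' : G) (hg : ∀ a ∈ A, g * a * g⁻¹ ∈ A) (hgB' : ∀ b ∈ B, g' * b * g'⁻¹ ∈ B)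
    (hadd : ∀ a ∈ A, g * a * g⁻¹ * (g' * a * g'⁻¹) * a⁻¹ ∈ B)
    (hsemi : ∀ a ∈ A, (g' * (u * a * u⁻¹) * g'⁻¹)⁻¹ * (u * (g * a * g⁻¹) * u⁻¹) ∈ B) : FreeSer u A := by
  have hn : ∀ a ∈ A, ∀ b ∈ B, a * b * a⁻¹ ∈ B := by
    intro a ha b hb
    have e : a * b * a⁻¹ = (a * b * a⁻¹ * b⁻¹) * b := by group
    rw [e]
    exact mul_mem (hcomm a ha b (hBA hb)) hb
  have hN : (B.subgroupOf A).Normal := ⟨fun b hb a => by
    rw [mem_subgroupOf] at hb ⊢
    exact hn a a.2 b hb⟩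
  let _ : CommGroup (A ⧸ B.subgroupOf A) :=
    { (inferInstance : Group (A ⧸ B.subgroupOf A)) with
      mul_comm := by
        intro x y
        obtain ⟨a, rfl⟩ := QuotientGroup.mk_surjective x
        obtain ⟨b, rfl⟩ := QuotientGroup.mk_surjective y
        rw [← QuotientGroup.mk_mul, ← QuotientGroup.mk_mul, QuotientGroup.eq, mem_subgroupOf]
        have h1 := hcomm _ (inv_mem b.2) _ (inv_mem a.2)
        have h2 : ((a * b)⁻¹ * (b * a) : A) = b⁻¹ * a⁻¹ * b * a := by group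
        rw [h2]
        simpa using h1 }
  have key : ∀ a b : A, ((a : A ⧸ B.subgroupOf A) = b) ↔ (a : G)⁻¹ * b ∈ B := by
    intro a b
    rw [QuotientGroup.eq, mem_subgroupOf]
    rfl
  let cu : A →* A :=
    { toFun := fun a => ⟨u * a * u⁻¹, hsA a a.2⟩
      map_one' := Subtype.ext (by simp)
      map_mul' := fun a b => Subtype.ext (by
        change u * ((a : G) * b) * u⁻¹ = u * a * u⁻¹ * (u * b * u⁻¹)
        group) }
  have hcu : B.subgroupOf A ≤ (B.subgroupOf A).comap cu := by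
    intro b hb
    rw [mem_comap, mem_subgroupOf]
    rw [mem_subgroupOf] at hb
    exact hB.inv b hb
  let σ : Additive (A ⧸ B.subgroupOf A) →+ Additive (A ⧸ B.subgroupOf A) :=
    MonoidHom.toAdditive (QuotientGroup.map (B.subgroupOf A) (B.subgroupOf A) cu hcu)
  let π : A →* Multiplicative (Additive (A ⧸ B.subgroupOf A)) :=
    { toFun := fun a => Multiplicative.ofAdd (Additive.ofMul (a : A ⧸ B.subgroupOf A))
      map_one' := rfl
      map_mul' := fun a b => rfl }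
  have hσ : ∀ a : A, σ (Additive.ofMul (a : A ⧸ B.subgroupOf A)) =
      Additive.ofMul ((cu a : A) : A ⧸ B.subgroupOf A) := fun a => rfl
  refine hB.module (V := Additive (A ⧸ B.subgroupOf A)) (σ := σ) ?_ ?_ ?_ hBA hn hsA π ?_ ?_ ?_
  · intro x
    obtain ⟨a, ha⟩ := QuotientGroup.mk_surjective (Additive.toMul x)
    have h1 : x = Additive.ofMul (a : A ⧸ B.subgroupOf A) := by rw [ha]; rfl
    rw [h1, ← ofMul_mul, ← QuotientGroup.mk_mul]
    have h2 : ((a * a : A) : A ⧸ B.subgroupOf A) = ((1 : A) : A ⧸ B.subgroupOf A) := by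
      rw [key]
      have := inv_mem (hsq a a.2)
      simpa using this
    rw [h2]
    rfl
  · intro x
    obtain ⟨a, ha⟩ := QuotientGroup.mk_surjective (Additive.toMul x)
    have h1 : x = Additive.ofMul (a : A ⧸ B.subgroupOf A) := by rw [ha]; rfl
    rw [h1, hσ, hσ]
    congr 2
    apply Subtype.ext
    change u * (u * (a : G) * u⁻¹) * u⁻¹ = a
    have hu : u⁻¹ = u := inv_eq_of_mul_eq_one_left huu
    calc u * (u * (a : G) * u⁻¹) * u⁻¹ = (u * u) * a * (u⁻¹ * u⁻¹) := by group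
      _ = a := by rw [hu, huu]; group
  · intro x hx
    obtain ⟨a, ha⟩ := QuotientGroup.mk_surjective (Additive.toMul x)
    have h1 : x = Additive.ofMul (a : A ⧸ B.subgroupOf A) := by rw [ha]; rfl
    rw [h1] at hx ⊢
    rw [hσ] at hx
    have h2 : (a : G)⁻¹ * (u * a * u⁻¹) ∈ B := (key _ _).1 (Additive.ofMul.injective hx).symm
    refine ⟨Additive.ofMul (((⟨g * a * g⁻¹, hg a a.2⟩ : A)) : A ⧸ B.subgroupOf A), ?_⟩
    rw [hσ, ← ofMul_mul, ← QuotientGroup.mk_mul]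
    congr 1
    rw [eq_comm, key]
    change (g * (a : G) * g⁻¹ * (u * (g * (a : G) * g⁻¹) * u⁻¹))⁻¹ * a ∈ B
    have h3 := hsemi a a.2
    have h4 := hgB' _ h2
    have h5 := hadd a a.2
    -- `u (g a g⁻¹) u⁻¹ = g' a g'⁻¹ b`
    have e1 : u * (g * (a : G) * g⁻¹) * u⁻¹ = g' * a * g'⁻¹ * ((g' * ((a : G)⁻¹ * (u * a * u⁻¹)) * g'⁻¹) *
        ((g' * (u * a * u⁻¹) * g'⁻¹)⁻¹ * (u * (g * a * g⁻¹) * u⁻¹))) := by group
    set b := (g' * ((a : G)⁻¹ * (u * a * u⁻¹)) * g'⁻¹) *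
        ((g' * (u * a * u⁻¹) * g'⁻¹)⁻¹ * (u * (g * a * g⁻¹) * u⁻¹)) with hb
    have hbB : b ∈ B := mul_mem h4 h3
    rw [e1]
    have e2 : (g * (a : G) * g⁻¹ * (g' * a * g'⁻¹ * b))⁻¹ * a =
        b⁻¹ * ((a : G)⁻¹ * (g * a * g⁻¹ * (g' * a * g'⁻¹) * (a : G)⁻¹) * (a : G)⁻¹⁻¹)⁻¹ := by group
    rw [e2]
    exact mul_mem (inv_mem hbB) (inv_mem (hn _ (inv_mem a.2) _ h5))
  · intro x
    obtain ⟨a, ha⟩ := QuotientGroup.mk_surjective (Additive.toMul (Multiplicative.toAdd x))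
    exact ⟨a, congrArg (fun y => Multiplicative.ofAdd (Additive.ofMul y)) ha⟩
  · intro a
    constructor
    · intro h
      have h1 : (a : A ⧸ B.subgroupOf A) = ((1 : A) : A ⧸ B.subgroupOf A) := h
      rw [key] at h1
      have := inv_mem h1
      simpa using this
    · intro h
      have h1 : (a : A ⧸ B.subgroupOf A) = ((1 : A) : A ⧸ B.subgroupOf A) := by
        rw [key]
        have := inv_mem h
        simpa using this
      change Multiplicative.ofAdd (Additive.ofMul (a : A ⧸ B.subgroupOf A)) = 1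
      rw [h1]
      rfl
  · intro a
    rfl

/-- products -/
theorem FreeSer.lift [Finite G] {u b : G} {B : Subgroup G} (hb : b ∈ B) (huB : ∀ x ∈ B, u * x * u⁻¹ ∈ B)
    (hB : FreeSer (u * b) B) {A : Subgroup G} (hA : FreeSer u A) :
    (∀ a ∈ A, ∀ x ∈ B, a * x * a⁻¹ ∈ B) → (∀ x ∈ A, x ∈ B → x = 1) → FreeSer (u * b) (A ⊔ B) := by
  induction hA with
  | bot =>
    intro _ _
    rwa [bot_sup_eq]
  | @step A A₁ hA₁ hle hn hsA hsB h1 hcard ih =>
    intro hAB hdisj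
    have ih' := ih (fun a ha => hAB a (hle ha)) (fun x hx => hdisj x (hle hx))
    have dec : ∀ g ∈ A ⊔ B, ∃ a ∈ A, ∃ x ∈ B, g = a * x := fun g hg => F4.EndO.exists_mul hAB hg
    have dec₁ : ∀ g ∈ A₁ ⊔ B, ∃ a ∈ A₁, ∃ x ∈ B, g = a * x := fun g hg =>
      F4.EndO.exists_mul (fun a ha => hAB a (hle ha)) hg
    have hle' : A₁ ⊔ B ≤ A ⊔ B := sup_le_sup_right hle B
    have hBle : B ≤ A₁ ⊔ B := le_sup_right
    have conjB : ∀ a ∈ A, ∀ x ∈ B, a⁻¹ * x * a ∈ B := by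
      intro a ha x hx
      have := hAB a⁻¹ (inv_mem ha) x hx
      rwa [inv_inv] at this
    -- `A ∩ A₁ B = A₁`
    have hmod : ∀ a ∈ A, a ∈ A₁ ⊔ B → a ∈ A₁ := by
      intro a ha ha'
      obtain ⟨a₁, ha₁, x, hx, e⟩ := dec₁ a ha'
      have h2 : x = a₁⁻¹ * a := by rw [e]; group
      have h3 : x = 1 := hdisj x (by rw [h2]; exact mul_mem (inv_mem (hle ha₁)) ha) hx
      rw [e, h3, mul_one]; exact ha₁
    -- the action
    have act : ∀ a ∈ A, ∀ x ∈ B, ∃ y ∈ B, u * b * (a * x) * (u * b)⁻¹ = u * a * u⁻¹ * y := by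
      intro a ha x hx
      refine ⟨u * ((a⁻¹ * b * a) * x * b⁻¹) * u⁻¹, huB _ (mul_mem (mul_mem (conjB a ha b hb) hx) (inv_mem hb)), ?_⟩
      group
    have hsA' : ∀ g ∈ A ⊔ B, u * b * g * (u * b)⁻¹ ∈ A ⊔ B := by
      intro g hg
      obtain ⟨a, ha, x, hx, rfl⟩ := dec g hg
      obtain ⟨y, hy, e⟩ := act a ha x hx
      rw [e]
      exact mul_mem (mem_sup_left (hsA a ha)) (mem_sup_right hy)
    have hn' : ∀ g ∈ A ⊔ B, ∀ y ∈ A₁ ⊔ B, g * y * g⁻¹ ∈ A₁ ⊔ B := by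
      intro g hg y hy
      obtain ⟨a, ha, x, hx, rfl⟩ := dec g hg
      obtain ⟨a₁, ha₁, x₁, hx₁, rfl⟩ := dec₁ y hy
      have e : a * x * (a₁ * x₁) * (a * x)⁻¹ =
          (a * a₁ * a⁻¹) * (a * ((a₁⁻¹ * x * a₁) * x₁ * x⁻¹) * a⁻¹) := by group
      rw [e]
      refine mul_mem (mem_sup_left (hn a ha a₁ ha₁)) (mem_sup_right (hAB a ha _ ?_))
      exact mul_mem (mul_mem (conjB a₁ (hle ha₁) x hx) hx₁) (inv_mem hx)
    refine FreeSer.step ih' hle' hn' hsA' ih'.inv ?_ ?_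
    · intro g hg hgg
      obtain ⟨a, ha, x, hx, rfl⟩ := dec g hg
      obtain ⟨y, hy, e⟩ := act a ha x hx
      rw [e] at hgg
      -- `a x (u a u⁻¹) y`
      have hua := hsA a ha
      have h2 : a * (u * a * u⁻¹) ∈ A₁ ⊔ B := by
        have e2 : a * (u * a * u⁻¹) = a * x * (u * a * u⁻¹ * y) *
            (y⁻¹ * ((u * a * u⁻¹)⁻¹ * x⁻¹ * (u * a * u⁻¹))) := by group
        rw [e2]
        exact mul_mem hgg (hBle (mul_mem (inv_mem hy) (conjB _ hua _ (inv_mem hx))))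
      obtain ⟨r, hr, hr2⟩ := h1 a ha (hmod _ (mul_mem ha hua) h2)
      refine ⟨r, mem_sup_left hr, ?_⟩
      obtain ⟨z, hz, ez⟩ := act r⁻¹ (inv_mem hr) 1 (one_mem _)
      rw [mul_one] at ez
      rw [ez]
      have e3 : (r * (u * r⁻¹ * u⁻¹ * z))⁻¹ * (a * x) = z⁻¹ * ((r * (u * r⁻¹ * u⁻¹))⁻¹ * a) * x := by group
      rw [e3]
      exact mul_mem (mul_mem (hBle (inv_mem hz)) (mem_sup_left hr2)) (hBle hx)
    · -- cardinalities
      have c0 : ∀ C : Subgroup G, C ≤ A → Nat.card (C ⊔ B : Subgroup G) = Nat.card C * Nat.card B := by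
        intro C hC
        have hCB : ∀ a ∈ C, ∀ x ∈ B, a * x * a⁻¹ ∈ B := fun a ha => hAB a (hC ha)
        rw [← Nat.card_prod]
        symm
        refine Nat.card_congr (Equiv.ofBijective (fun z : C × B => (⟨z.1 * z.2,
          mul_mem (mem_sup_left z.1.2) (mem_sup_right z.2.2)⟩ : (C ⊔ B : Subgroup G))) ⟨?_, ?_⟩)
        · rintro ⟨⟨x, hx⟩, ⟨s, hs⟩⟩ ⟨⟨y, hy⟩, ⟨r, hr⟩⟩ he
          have h2 : x * s = y * r := congrArg (fun z : (C ⊔ B : Subgroup G) => (z : G)) he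
          have h3 : y⁻¹ * x = r * s⁻¹ := by
            rw [inv_mul_eq_iff_eq_mul, ← mul_assoc, eq_mul_inv_iff_mul_eq]; exact h2
          have h4 : y⁻¹ * x = 1 := hdisj _ (hC (mul_mem (inv_mem hy) hx)) (by
            rw [h3]; exact mul_mem hr (inv_mem hs))
          have h5 : x = y := (inv_mul_eq_one.1 h4).symm
          subst h5
          have h6 : s = r := mul_left_cancel h2
          subst h6
          rfl
        · rintro ⟨g, hg⟩
          obtain ⟨a, ha, x, hx, rfl⟩ := F4.EndO.exists_mul hCB hg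
          exact ⟨(⟨a, ha⟩, ⟨x, hx⟩), rfl⟩
      have iff1 : ∀ a ∈ A, ∀ x ∈ B, (a * x)⁻¹ * (u * b * (a * x) * (u * b)⁻¹) ∈ A₁ ⊔ B ↔
          a⁻¹ * (u * a * u⁻¹) ∈ A₁ := by
        intro a ha x hx
        obtain ⟨y, hy, e⟩ := act a ha x hx
        rw [e]
        have hua := hsA a ha
        have hC : a⁻¹ * (u * a * u⁻¹) ∈ A := mul_mem (inv_mem ha) hua
        have e2 : (a * x)⁻¹ * (u * a * u⁻¹ * y) = a⁻¹ * (u * a * u⁻¹) *
            (((a⁻¹ * (u * a * u⁻¹))⁻¹ * x⁻¹ * (a⁻¹ * (u * a * u⁻¹))) * y) := by group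
        rw [e2]
        have hyy := mul_mem (conjB _ hC _ (inv_mem hx)) hy
        constructor
        · intro h
          refine hmod _ hC ?_
          have := mul_mem h (hBle (inv_mem hyy))
          rwa [mul_assoc, mul_inv_cancel, mul_one] at this
        · intro h
          exact mul_mem (mem_sup_left h) (hBle hyy)
      let C : Subgroup G :=
        { carrier := {x | x ∈ A ∧ x⁻¹ * (u * x * u⁻¹) ∈ A₁}
          one_mem' := ⟨one_mem _, by simp⟩
          mul_mem' := by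
            rintro x y ⟨hx, hx'⟩ ⟨hy, hy'⟩
            refine ⟨mul_mem hx hy, ?_⟩
            have e : (x * y)⁻¹ * (u * (x * y) * u⁻¹) =
                (y⁻¹ * (x⁻¹ * (u * x * u⁻¹)) * y⁻¹⁻¹) * (y⁻¹ * (u * y * u⁻¹)) := by group
            rw [e]
            exact mul_mem (hn y⁻¹ (inv_mem hy) _ hx') hy'
          inv_mem' := by
            rintro x ⟨hx, hx'⟩
            refine ⟨inv_mem hx, ?_⟩
            have e : x⁻¹⁻¹ * (u * x⁻¹ * u⁻¹) = x * (x⁻¹ * (u * x * u⁻¹))⁻¹ * x⁻¹ := by group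
            rw [e]
            exact hn x hx _ (inv_mem hx') }
      have hCA : C ≤ A := fun x hx => hx.1
      have hC : Nat.card C ^ 2 = Nat.card A * Nat.card A₁ := hcard
      have e1 : Nat.card {x : G // x ∈ A ⊔ B ∧ x⁻¹ * (u * b * x * (u * b)⁻¹) ∈ A₁ ⊔ B} =
          Nat.card (C ⊔ B : Subgroup G) := by
        apply Nat.card_congr
        refine Equiv.subtypeEquivRight fun g => ?_
        constructor
        · rintro ⟨hg, hg'⟩
          obtain ⟨a, ha, x, hx, rfl⟩ := dec g hg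
          exact mul_mem (mem_sup_left ⟨ha, (iff1 a ha x hx).1 hg'⟩) (mem_sup_right hx)
        · intro hg
          obtain ⟨a, ha, x, hx, rfl⟩ := F4.EndO.exists_mul (fun a ha => hAB a (hCA ha)) hg
          exact ⟨mul_mem (mem_sup_left ha.1) (mem_sup_right hx), (iff1 a ha.1 x hx).2 ha.2⟩
      rw [e1, c0 C hCA, c0 A le_rfl, c0 A₁ hle, mul_pow, hC]
      ring

end Cfsg.Agent.OddHalf.SpN
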