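import Mathlib
import Cfsg.Agent.OddHalf.SpN.OutDefs
import Cfsg.Agent.OddHalf.SpN.OutFlag

/-!
# ODD D7, `K = Sp_2n(q)`: small facts for the outer 2-part (helper859)

* `Frame.Up_max` : `R.Up` is a maximal 2-subgroup of `K`;
* `Frame.Sem.eq_one_of_Up` : an element of `U` acting as `diag ∘ σ` is `1`;
* `Frame.OutT.conj_Up` : `T` normalises `U`.
-/

set_option autoImplicit false

namespace Cfsg.Agent.OddHalf.SpN

open Subgroup Cfsg Cfsg.Agent.ClassicalGeometry.SympBasic Cfsg.Agent.ClassicalGeometry.SympAutSemi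

variable {n : ℕ} {F : Type*} [Field F] {G : Type*} [Group G]

namespace Frame

variable {R : Frame n F G}

/-- `T` normalises `U` -/
theorem OutT.conj_Up {T : Subgroup G} (h : R.OutT T) {y u : G} (hy : y ∈ T) (hu : u ∈ R.Up) :
    y * u * y⁻¹ ∈ R.Up := by
  obtain ⟨A, -, rfl⟩ := id hu
  obtain ⟨B, hB⟩ := R.nK y (h.Tc y hy) A
  rw [hB]
  apply h.TK
  rw [← hB]
  exact mul_mem (mul_mem hy (h.UT hu)) (inv_mem hy)

variable (R) in
/-- `U` is a maximal 2-subgroup of `K` -/
theorem Up_max [CharP F 2] [Finite F] [Finite G] {P : Subgroup G} (hP : IsPGroup 2 P) (hPK : P ≤ R.K) (hU : R.Up ≤ P) :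
    P ≤ R.Up := by
  have h1 : R.Up.relIndex P * P.relIndex R.K = R.Up.relIndex R.K := relIndex_mul_relIndex _ _ _ hU hPK
  have h2 : Odd (R.Up.relIndex P) := Odd.of_dvd_nat R.odd_Up (Dvd.intro _ h1)
  obtain ⟨a, ha⟩ := IsPGroup.iff_card.mp hP
  have h3 : R.Up.relIndex P ∣ 2 ^ a := by rw [← ha]; exact relIndex_dvd_card _ _
  obtain ⟨b, -, hb⟩ := (Nat.dvd_prime_pow Nat.prime_two).1 h3
  have h4 : b = 0 := by
    by_contra hb0
    rw [hb] at h2
    exact (Nat.not_even_iff_odd.2 h2) (Even.pow_of_ne_zero even_two hb0)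
  rw [h4, pow_zero] at hb
  exact relIndex_eq_one.1 hb

/-- an element of `U` acting as `diag ∘ σ` is `1` -/
theorem Sem.eq_one_of_Up [CharP F 2] [Finite F] (hn : 3 ≤ n) {y : G} {σ : F ≃+* F} {lam : Fin n → Fˣ}
    (hs : R.Sem y σ lam) (hy : y ∈ R.Up) : y = 1 := by
  have hσ : σ = 1 := hs.eq_one_of_mem (by omega) hy
  subst hσ
  -- powers
  have hpow : ∀ m : ℕ, ∀ i a, y ^ m * R.y i a * (y ^ m)⁻¹ = R.y i (((ev lam i : F) ^ 2) ^ m * a) := by
    intro m i
    induction m with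
    | zero => intro a; simp
    | succ m ih =>
      intro a
      have e : y ^ (m + 1) * R.y i a * (y ^ (m + 1))⁻¹ = y ^ m * (y * R.y i a * y⁻¹) * (y ^ m)⁻¹ := by
        rw [pow_succ]; group
      have h1 := hs.yy i a
      change y * R.y i a * y⁻¹ = R.y i ((ev lam i : F) ^ 2 * a) at h1
      rw [e, h1, ih]
      congr 1
      ring
  obtain ⟨k, hk⟩ := R.Up_isPGroup ⟨y, hy⟩
  have hk' : y ^ 2 ^ k = 1 := congrArg Subtype.val hk
  have hc : ∀ i, (ev lam i : F) ^ 2 = 1 := by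
    intro i
    have h1 := hpow (2 ^ k) i 1
    rw [hk', one_mul, inv_one, mul_one, mul_one] at h1
    have h2 := R.y_inj h1
    have h3 : ∀ (m : ℕ) (a : F), a ^ 2 ^ m = 1 → a = 1 := by
      intro m
      induction m with
      | zero => intro a h; simpa using h
      | succ m ih =>
        intro a h
        rw [pow_succ, pow_mul, pow_two] at h
        have h4 : (a ^ 2 ^ m + 1) * (a ^ 2 ^ m + 1) = 0 := by
          rw [CharTwo.add_mul_self, h, one_mul, CharTwo.add_self_eq_zero]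
        have h5 := mul_self_eq_zero.1 h4
        apply ih
        rw [add_eq_zero_iff_eq_neg, CharTwo.neg_eq] at h5
        exact h5
    exact h3 k _ h2.symm
  obtain ⟨A, -, rfl⟩ := id hy
  have hcomm : ∀ i, Commute A (sy i 1) := by
    intro i
    apply R.inj
    have h1 := hs.yy i 1
    change R.ι A * R.ι (sy i 1) * (R.ι A)⁻¹ = R.ι (sy i ((ev lam i : F) ^ 2 * 1)) at h1
    rw [hc, one_mul, mul_inv_eq_iff_eq_mul] at h1
    rw [map_mul, map_mul]
    exact h1
  have hA : A = 1 := by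
    apply rho_injective
    rw [map_one]
    refine Out.SI.ext (Out.SI.of_rho A) Out.SI.one fun i => ?_
    rw [Out.fix_of_comm_sy (hcomm i)]
    rfl
  rw [hA, map_one]

end Frame

end Cfsg.Agent.OddHalf.SpN
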