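import Mathlib
import Cfsg.Agent.OddHalf.SpN.COneEnd
import Cfsg.Agent.OddHalf.SpN.FreeLift
import Cfsg.Agent.OddHalf.SpN.OutDefs
import Cfsg.Agent.OddHalf.SpN.OutTwo
import Cfsg.Agent.OddHalf.Out.FreeEnd

/-!
# ODD D7, `K = Sp_2n(q)`, `n ≥ 3`, `q ≥ 4`, pattern (C,O) with an outer 2-part (helper859)

`U*` is helper63's group `R_1 ⋯ R_n`.  `R_k / Y_k` is elementary abelian and `h_k(c)` acts on it as the scalar `c`; an
involution `y w`, `y` of field type, is semilinear on `R_k / Y_k` and on `Y_k`, hence free on `U*`.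
-/

set_option autoImplicit false

namespace Cfsg.Agent.OddHalf.SpN

open Subgroup

namespace COne

variable {n : ℕ} {F : Type*} [Field F] [CharP F 2] {G : Type*} [Group G] {R : Frame n F G} (D : COne R)

/-- the doubles are normalised by the semilinear elements -/
structure SemC (D : COne R) : Prop where
  wx : ∀ y σ lam, R.Sem y σ lam → ∀ i j, Dj i j → ∀ u, ∃ c e, y * D.wx i j u * y⁻¹ = D.wx i j c * R.x i j e
  wy : ∀ y σ lam, R.Sem y σ lam → ∀ i u, ∃ c e, y * D.wy i u * y⁻¹ = D.wy i c * R.y i e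

section free

variable [Finite F] (h3 : ∀ i j : Ix n, ∃ k, Dj i k ∧ Dj j k) {i : Ix n}

include h3 in
/-- the semilinear elements normalise `F_i` -/
theorem sem_F [Finite G] (hS : D.SemC) {y : G} {σ : F ≃+* F} {lam : Fin n → Fˣ} (hy : R.Sem y σ lam) :
    ∀ f ∈ D.Fg i Set.univ, y * f * y⁻¹ ∈ D.Fg i Set.univ := by
  refine closure_conj (S := D.FS i Set.univ) ?_
  rintro g (⟨u, rfl⟩ | ⟨a, rfl⟩ | ⟨j, hj, hij, ⟨u, rfl⟩ | ⟨a, rfl⟩ | ⟨u, v, rfl⟩⟩)
  · obtain ⟨c, e, h⟩ := hS.wy y σ lam hy i u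
    rw [h]; exact mul_mem (D.wy_mem_F c) (D.y_mem_F e)
  · rw [hy.yy]; exact D.y_mem_F _
  · obtain ⟨c, e, h⟩ := hS.wx y σ lam hy i j hij u
    rw [h]; exact mul_mem (D.wx_mem_F hj hij c) (D.x_mem_F hj hij e)
  · rw [hy.yx i j hij]; exact D.x_mem_F hj hij _
  · obtain ⟨c, e, h⟩ := hS.wx y σ lam hy i (neg j) (dj_neg_right.mpr hij) u
    obtain ⟨c', e', h'⟩ := hS.wy y σ lam hy j v
    have e1 : y * D.p i j u v * y⁻¹ = (y * D.wx i (neg j) u * y⁻¹) *
        ((y * D.wy j v * y⁻¹) * (y * D.wx i (neg j) u * y⁻¹)⁻¹ * (y * D.wy j v * y⁻¹)⁻¹) := by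
      unfold p; group
    have hm : y * D.wx i (neg j) u * y⁻¹ ∈ D.Fg i Set.univ := by
      rw [h]
      exact mul_mem (D.wx_mem_F (Set.mem_univ _) (dj_neg_right.mpr hij) c)
        (D.x_mem_F (Set.mem_univ _) (dj_neg_right.mpr hij) e)
    have hn : y * D.wy j v * y⁻¹ ∈ normalizer (D.Fg i Set.univ : Set G) := by
      rw [h']
      exact mul_mem (D.wy_nor h3 hij c') (D.y_nor h3 hij e')
    rw [e1]
    exact mul_mem hm ((mem_normalizer_iff.1 hn _).1 (inv_mem hm))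

omit [CharP F 2] [Finite F] in
theorem ev_single (k : Fin n) (μ : Fˣ) : ev (Pi.mulSingle k μ) (Sum.inl k : Ix n) = μ :=
  Pi.mulSingle_eq_same (M := fun _ : Fin n => Fˣ) k μ

omit [CharP F 2] [Finite F] in
theorem ev_single_dj {k : Fin n} (μ : Fˣ) {j : Ix n} (hj : Dj (Sum.inl k) j) : ev (Pi.mulSingle k μ) j = 1 := by
  rcases j with j | j
  · have : j ≠ k := fun h => hj.1 (by rw [h])
    exact Pi.mulSingle_eq_of_ne (M := fun _ : Fin n => Fˣ) this μ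
  · have : j ≠ k := fun h => hj.2 (by rw [h]; rfl)
    show ((Pi.mulSingle k μ : Fin n → Fˣ) j)⁻¹ = 1
    rw [Pi.mulSingle_eq_of_ne this, inv_one]

omit [CharP F 2] [Finite F] in
theorem fm_single (σ : F ≃+* F) (k : Fin n) (μ : Fˣ) :
    fm σ (Pi.mulSingle k μ) = Pi.mulSingle k (Units.map (σ : F →* F) μ) := by
  funext j
  unfold fm
  by_cases h : j = k
  · subst h; rw [Pi.mulSingle_eq_same, Pi.mulSingle_eq_same]
  · rw [Pi.mulSingle_eq_of_ne h, Pi.mulSingle_eq_of_ne h, map_one]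

omit [Finite F] in
theorem Yg_cen {f : G} (hf : Cy R i f) : ∀ z ∈ Yg R i, f * z * f⁻¹ = z := by
  rintro _ ⟨a, rfl⟩
  exact (hf a).mul_inv_cancel

include h3 in
/-- `h_k(c)`, `h_k(d)`, `c + d = 1` : scalars `c`, `d` on `F_k / Y_k` -/
theorem add_F {k : Fin n} {c d : Fˣ} (hcd : (c : F) + d = 1) : ∀ f ∈ D.Fg (Sum.inl k) Set.univ,
    R.h (Pi.mulSingle k c) * f * (R.h (Pi.mulSingle k c))⁻¹ *
      (R.h (Pi.mulSingle k d) * f * (R.h (Pi.mulSingle k d))⁻¹) * f⁻¹ ∈ Yg R (Sum.inl k) := by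
  set g := R.h (Pi.mulSingle k c) with hg
  set g' := R.h (Pi.mulSingle k d) with hg'
  have hcd2 : (c : F) ^ 2 + (d : F) ^ 2 = 1 := by
    rw [← CharTwo.add_sq, hcd, one_pow]
  have hF : ∀ f ∈ D.Fg (Sum.inl k) Set.univ, g * f * g⁻¹ ∈ D.Fg (Sum.inl k) Set.univ := fun f hf => D.h_F _ f hf
  have hF' : ∀ f ∈ D.Fg (Sum.inl k) Set.univ, g' * f * g'⁻¹ ∈ D.Fg (Sum.inl k) Set.univ := fun f hf => D.h_F _ f hf
  have cm : ∀ a ∈ D.Fg (Sum.inl k) Set.univ, ∀ b ∈ D.Fg (Sum.inl k) Set.univ, a * b * a⁻¹ * b⁻¹ ∈ Yg R (Sum.inl k) := by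
    intro a ha b hb
    obtain ⟨e, he⟩ := D.F_cm h3 ha hb
    exact ⟨e, by rw [he]; group⟩
  have cy : ∀ a ∈ D.Fg (Sum.inl k) Set.univ, ∀ z ∈ Yg R (Sum.inl k), a * z * a⁻¹ ∈ Yg R (Sum.inl k) := by
    intro a ha z hz
    rw [Yg_cen (D.F_cy ha) z hz]; exact hz
  intro f hf
  refine (closure_induction (p := fun f _ => f ∈ D.Fg (Sum.inl k) Set.univ ∧
    g * f * g⁻¹ * (g' * f * g'⁻¹) * f⁻¹ ∈ Yg R (Sum.inl k)) ?_ ?_ ?_ ?_ hf).2
  · rintro f (⟨u, rfl⟩ | ⟨a, rfl⟩ | ⟨j, hj, hij, ⟨u, rfl⟩ | ⟨a, rfl⟩ | ⟨u, v, rfl⟩⟩)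
    · refine ⟨D.wy_mem_F u, ?_⟩
      rw [hg, hg', D.h_wy, D.h_wy, ev_single, ev_single]
      obtain ⟨e, he⟩ := D.wy_add (Sum.inl k) ((c : F) ^ 2 * u) ((d : F) ^ 2 * u)
      rw [he, ← add_mul, hcd2, one_mul]
      have : D.wy (Sum.inl k) u * R.y (Sum.inl k) e * (D.wy (Sum.inl k) u)⁻¹ = R.y (Sum.inl k) e :=
        Yg_cen (D.F_cy (D.wy_mem_F (J := Set.univ) u)) _ ⟨e, rfl⟩
      rw [this]; exact ⟨e, rfl⟩
    · refine ⟨D.y_mem_F a, ?_⟩
      rw [hg, hg', R.h_y, R.h_y]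
      exact mul_mem (mul_mem ⟨_, rfl⟩ ⟨_, rfl⟩) (inv_mem ⟨_, rfl⟩)
    · refine ⟨D.wx_mem_F hj hij u, ?_⟩
      rw [hg, hg', D.h_wx _ hij, D.h_wx _ hij, ev_single, ev_single, ev_single_dj _ hij, ev_single_dj _ hij,
        ← D.wx_add hij, Units.val_one, mul_one, mul_one, ← add_mul, hcd, one_mul, mul_inv_cancel]
      exact one_mem _
    · refine ⟨D.x_mem_F hj hij a, ?_⟩
      rw [hg, hg', R.h_x, R.h_x, ev_single, ev_single, ev_single_dj _ hij, ev_single_dj _ hij,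
        ← R.x_add, Units.val_one, mul_one, mul_one, ← add_mul, hcd, one_mul, mul_inv_cancel]
      exact one_mem _
    · refine ⟨D.p_mem_F hj hij u v, ?_⟩
      rw [hg, hg', D.h_p hij, D.h_p hij, ev_single, ev_single, ev_single_dj _ hij, ev_single_dj _ hij, inv_one,
        Units.val_one, mul_one, mul_one, one_pow, one_mul]
      obtain ⟨e, he⟩ := D.p_add h3 hij ((d : F) * u) ((c : F) * u) v
      rw [← add_mul, add_comm (d : F), hcd, one_mul] at he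
      refine ⟨e, ?_⟩
      have e2 : D.p (Sum.inl k) j (↑c * u) v * D.p (Sum.inl k) j (↑d * u) v =
          R.y (Sum.inl k) e * D.p (Sum.inl k) j u v := by
        rw [he, ← mul_assoc, R.y_sq, one_mul]
      rw [e2]; group
  · exact ⟨one_mem _, by simp⟩
  · rintro a b - - ⟨ha, ha'⟩ ⟨hb, hb'⟩
    refine ⟨mul_mem ha hb, ?_⟩
    have e : g * (a * b) * g⁻¹ * (g' * (a * b) * g'⁻¹) * (a * b)⁻¹ =
        (g * a * g⁻¹ * ((g * b * g⁻¹) * (g' * a * g'⁻¹) * (g * b * g⁻¹)⁻¹ * (g' * a * g'⁻¹)⁻¹) * (g * a * g⁻¹)⁻¹) *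
        ((g * a * g⁻¹ * (g' * a * g'⁻¹)) * (g * b * g⁻¹ * (g' * b * g'⁻¹) * b⁻¹) *
          (g * a * g⁻¹ * (g' * a * g'⁻¹))⁻¹) *
        (g * a * g⁻¹ * (g' * a * g'⁻¹) * a⁻¹) := by group
    rw [e]
    exact mul_mem (mul_mem (cy _ (hF a ha) _ (cm _ (hF b hb) _ (hF' a ha)))
      (cy _ (mul_mem (hF a ha) (hF' a ha)) _ hb')) ha'
  · rintro a - ⟨ha, ha'⟩
    refine ⟨inv_mem ha, ?_⟩
    have e : g * a⁻¹ * g⁻¹ * (g' * a⁻¹ * g'⁻¹) * a⁻¹⁻¹ =
        (a⁻¹ * ((g' * a * g'⁻¹) * (g * a * g⁻¹) * (g' * a * g'⁻¹)⁻¹ * (g * a * g⁻¹)⁻¹ *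
          (g * a * g⁻¹ * (g' * a * g'⁻¹) * a⁻¹)) * a⁻¹⁻¹)⁻¹ := by group
    rw [e]
    exact inv_mem (cy _ (inv_mem ha) _ (mul_mem (cm _ (hF' a ha) _ (hF a ha)) ha'))

/-! ### The groups `R_k` -/

omit [CharP F 2] [Finite F] in
theorem single_mem_HL {m : ℕ} {j : Fin n} (hj : (j : ℕ) < m) (μ : Fˣ) : R.h (Pi.mulSingle j μ) ∈ HL R m := by
  refine ⟨_, fun l hl => ?_, rfl⟩
  have : l ≠ j := fun e => by rw [e] at hl; omega
  exact Pi.mulSingle_eq_of_ne (M := fun _ : Fin n => Fˣ) this μ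

omit [CharP F 2] [Finite F] in
/-- the semilinear elements normalise `H_{<k}` -/
theorem sem_HL {y : G} {σ : F ≃+* F} {lam : Fin n → Fˣ} (hy : R.Sem y σ lam) {k : ℕ} :
    ∀ g ∈ HL R k, y * g * y⁻¹ ∈ HL R k := by
  rintro _ ⟨l, hl, rfl⟩
  refine ⟨fm σ l, fun j hj => ?_, hy.yh l⟩
  show Units.map (σ : F →* F) (l j) = 1
  rw [hl j hj, map_one]

include h3 in
theorem sem_Rk [Finite G] (hS : D.SemC) {y : G} {σ : F ≃+* F} {lam : Fin n → Fˣ} (hy : R.Sem y σ lam) {k : Fin n} :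
    ∀ r ∈ D.Rk k, y * r * y⁻¹ ∈ D.Rk k := by
  intro r hr
  obtain ⟨h1, h2⟩ := D.mem_Rk.mp hr
  refine D.mem_Rk.mpr ⟨D.sem_F h3 hS hy r h1, fun g hg => ?_⟩
  have h4 := h2 _ (sem_HL hy.inv g hg)
  rw [inv_inv] at h4
  calc g * (y * r * y⁻¹) = y * (y⁻¹ * g * y * r) * y⁻¹ := by group
    _ = y * (r * (y⁻¹ * g * y)) * y⁻¹ := by rw [h4]
    _ = _ := by group

theorem h_Rk (mu : Fin n → Fˣ) {k : Fin n} : ∀ r ∈ D.Rk k, R.h mu * r * (R.h mu)⁻¹ ∈ D.Rk k := by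
  intro r hr
  obtain ⟨h1, h2⟩ := D.mem_Rk.mp hr
  refine D.mem_Rk.mpr ⟨D.h_F mu r h1, ?_⟩
  rintro _ ⟨l, hl, rfl⟩
  have h4 := h2 _ ⟨l, hl, rfl⟩
  have h5 : R.h l * R.h mu = R.h mu * R.h l := by rw [← map_mul, ← map_mul, mul_comm]
  calc R.h l * (R.h mu * r * (R.h mu)⁻¹) = (R.h l * R.h mu) * r * (R.h mu)⁻¹ := by group
    _ = R.h mu * (R.h l * r) * (R.h mu)⁻¹ := by rw [h5]; group
    _ = R.h mu * r * (R.h mu * (R.h l)⁻¹)⁻¹ := by rw [h4]; group
    _ = R.h mu * r * ((R.h l)⁻¹ * R.h mu)⁻¹ := by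
      have h6 : R.h mu * (R.h l)⁻¹ = (R.h l)⁻¹ * R.h mu := by
        rw [← map_inv, ← map_mul, ← map_mul, mul_comm]
      rw [h6]
    _ = _ := by group

theorem Yg_le_Rk {k : Fin n} : Yg R (Sum.inl k) ≤ D.Rk k := by
  rintro _ ⟨a, rfl⟩
  refine D.mem_Rk.mpr ⟨D.y_mem_F a, ?_⟩
  rintro _ ⟨l, hl, rfl⟩
  have e := R.h_y l (Sum.inl k) a
  have hk : ev l (Sum.inl k : Ix n) = 1 := hl k le_rfl
  rw [hk, Units.val_one, one_pow, one_mul] at e
  exact mul_inv_eq_iff_eq_mul.mp e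

include h3 in
/-- **`R_k` is free** for the involution `y w b`, `y` of field type, `w` in `R_{k+1} ⋯ R_n`, `b ∈ R_k`. -/
theorem free_Rk [Finite G] (hS : D.SemC) {y : G} {σ : F ≃+* F} {lam : Fin n → Fˣ} (hy : R.Sem y σ lam)
    (hσ : ∀ a, σ (σ a) = a) (hσ1 : ∃ a, σ a ≠ a) {k : Fin n} {w : G} (hw : ∀ r ∈ D.Rk k, w * r * w⁻¹ ∈ D.Rk k)
    (hwh : ∀ μ : Fˣ, w * R.h (Pi.mulSingle k μ) = R.h (Pi.mulSingle k μ) * w)
    (hwy : ∀ a, Commute w (R.y (Sum.inl k) a)) {b : G} (hb : b ∈ D.Rk k)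
    (huu : y * w * b * (y * w * b) = 1) : FreeSer (y * w * b) (D.Rk k) := by
  obtain ⟨c₀, hc₀⟩ := exists_trace hσ hσ1 1 (map_one σ)
  have hc0 : c₀ ≠ 0 := by
    rintro rfl
    rw [map_zero, add_zero] at hc₀
    exact one_ne_zero hc₀
  set c : Fˣ := Units.mk0 c₀ hc0 with hc
  set d : Fˣ := Units.map (σ : F →* F) c with hd
  have hdv : (d : F) = σ c₀ := rfl
  have hcv : (c : F) = c₀ := rfl
  have hcd : (c : F) + d = 1 := by rw [hdv, hcv]; exact hc₀.symm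
  have hcd2 : (c : F) ^ 2 + (d : F) ^ 2 = 1 := by rw [← CharTwo.add_sq, hcd, one_pow]
  have hbF : b ∈ D.Fg (Sum.inl k) Set.univ := (D.mem_Rk.mp hb).1
  -- the action on `Y_k`
  have hact : ∀ a, y * w * b * R.y (Sum.inl k) a * (y * w * b)⁻¹ =
      R.y (Sum.inl k) ((ev lam (Sum.inl k : Ix n) : F) ^ 2 * σ a) := by
    intro a
    have e1 : b * R.y (Sum.inl k) a * b⁻¹ = R.y (Sum.inl k) a := (D.F_cy hbF a).mul_inv_cancel
    have e2 : w * R.y (Sum.inl k) a * w⁻¹ = R.y (Sum.inl k) a := (hwy a).mul_inv_cancel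
    calc y * w * b * R.y (Sum.inl k) a * (y * w * b)⁻¹
        = y * (w * (b * R.y (Sum.inl k) a * b⁻¹) * w⁻¹) * y⁻¹ := by group
      _ = _ := by rw [e1, e2, hy.yy]
  have hY : FreeSer (y * w * b) (Yg R (Sum.inl k)) := by
    refine FreeSer.bot.torus huu bot_le ?_ ?_ ?_ (R.h (Pi.mulSingle k c)) (R.h (Pi.mulSingle k d)) ?_ ?_ ?_ ?_
    · rintro _ ⟨a, rfl⟩
      rw [hact]; exact ⟨_, rfl⟩
    · rintro _ ⟨a, rfl⟩ _ ⟨a', rfl⟩
      rw [mem_bot, (R.y_comm (ne_neg _) a a').eq]; group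
    · rintro _ ⟨a, rfl⟩
      rw [mem_bot, R.y_sq]
    · rintro _ ⟨a, rfl⟩
      rw [R.h_y]; exact ⟨_, rfl⟩
    · intro x hx
      rw [mem_bot] at hx ⊢
      rw [hx]; group
    · rintro _ ⟨a, rfl⟩
      rw [mem_bot, R.h_y, R.h_y, ev_single, ev_single, ← R.y_add, ← add_mul, hcd2, one_mul, mul_inv_cancel]
    · rintro _ ⟨a, rfl⟩
      rw [mem_bot, hact, R.h_y, R.h_y, hact, ev_single, ev_single, inv_mul_eq_one]
      congr 1
      rw [map_mul, map_pow, hdv, hcv]; ring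
  have cm : ∀ a ∈ D.Rk k, ∀ b ∈ D.Rk k, a * b * a⁻¹ * b⁻¹ ∈ Yg R (Sum.inl k) := by
    intro a ha b hb
    obtain ⟨e, he⟩ := D.F_cm h3 (D.mem_Rk.mp ha).1 (D.mem_Rk.mp hb).1
    exact ⟨e, by rw [he]; group⟩
  refine hY.torus huu D.Yg_le_Rk ?_ cm (fun a ha => D.F_sq h3 (D.mem_Rk.mp ha).1) (R.h (Pi.mulSingle k c))
    (R.h (Pi.mulSingle k d)) (D.h_Rk _) ?_ (fun a ha => D.add_F h3 hcd a (D.mem_Rk.mp ha).1) ?_
  · intro r hr
    have e : y * w * b * r * (y * w * b)⁻¹ = y * (w * (b * r * b⁻¹) * w⁻¹) * y⁻¹ := by group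
    rw [e]
    exact D.sem_Rk h3 hS hy _ (hw _ (mul_mem (mul_mem hb hr) (inv_mem hb)))
  · rintro _ ⟨a, rfl⟩
    rw [R.h_y]; exact ⟨_, rfl⟩
  · -- semilinearity modulo `Y_k`
    intro r hr
    set g := R.h (Pi.mulSingle k c) with hg
    set g' := R.h (Pi.mulSingle k d) with hg'
    have hgr : g * r * g⁻¹ ∈ D.Rk k := D.h_Rk _ r hr
    -- `b` acts trivially modulo `Y_k`
    obtain ⟨e1, he1⟩ := cm b hb r hr
    obtain ⟨e2, he2⟩ := cm b hb _ hgr
    have f1 : b * r * b⁻¹ = R.y (Sum.inl k) e1 * r := by rw [← he1]; group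
    have f2 : b * (g * r * g⁻¹) * b⁻¹ = R.y (Sum.inl k) e2 * (g * r * g⁻¹) := by rw [← he2]; group
    have ywy : ∀ a, y * (w * R.y (Sum.inl k) a * w⁻¹) * y⁻¹ ∈ Yg R (Sum.inl k) := by
      intro a
      rw [(hwy a).mul_inv_cancel, hy.yy]; exact ⟨_, rfl⟩
    have e3 : y * w * b * r * (y * w * b)⁻¹ = (y * (w * R.y (Sum.inl k) e1 * w⁻¹) * y⁻¹) *
        (y * (w * r * w⁻¹) * y⁻¹) := by
      calc y * w * b * r * (y * w * b)⁻¹ = y * (w * (b * r * b⁻¹) * w⁻¹) * y⁻¹ := by group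
        _ = _ := by rw [f1]; group
    have e4 : y * w * b * (g * r * g⁻¹) * (y * w * b)⁻¹ = (y * (w * R.y (Sum.inl k) e2 * w⁻¹) * y⁻¹) *
        (g' * (y * (w * r * w⁻¹) * y⁻¹) * g'⁻¹) := by
      have h5 : y * g * y⁻¹ = g' := by rw [hg, hy.yh, fm_single]
      calc y * w * b * (g * r * g⁻¹) * (y * w * b)⁻¹ = y * (w * (b * (g * r * g⁻¹) * b⁻¹) * w⁻¹) * y⁻¹ := by group
        _ = y * (w * (R.y (Sum.inl k) e2 * (g * r * g⁻¹)) * w⁻¹) * y⁻¹ := by rw [f2]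
        _ = (y * (w * R.y (Sum.inl k) e2 * w⁻¹) * y⁻¹) * (y * ((w * g) * r * (w * g)⁻¹) * y⁻¹) := by group
        _ = (y * (w * R.y (Sum.inl k) e2 * w⁻¹) * y⁻¹) * (y * ((g * w) * r * (g * w)⁻¹) * y⁻¹) := by rw [hwh]
        _ = (y * (w * R.y (Sum.inl k) e2 * w⁻¹) * y⁻¹) *
            ((y * g * y⁻¹) * (y * (w * r * w⁻¹) * y⁻¹) * (y * g * y⁻¹)⁻¹) := by group
        _ = _ := by rw [h5]
    rw [e3, e4]
    obtain ⟨a1, ha1⟩ := ywy e1
    obtain ⟨a2, ha2⟩ := ywy e2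
    rw [ha1, ha2]
    set s := y * (w * r * w⁻¹) * y⁻¹ with hs
    have hsR : s ∈ D.Rk k := D.sem_Rk h3 hS hy _ (hw r hr)
    have e5 : (g' * (R.y (Sum.inl k) a1 * s) * g'⁻¹)⁻¹ * (R.y (Sum.inl k) a2 * (g' * s * g'⁻¹)) =
        (g' * s * g'⁻¹)⁻¹ * ((g' * R.y (Sum.inl k) a1 * g'⁻¹)⁻¹ * R.y (Sum.inl k) a2) * (g' * s * g'⁻¹)⁻¹⁻¹ := by
      group
    rw [e5]
    have h6 : (g' * R.y (Sum.inl k) a1 * g'⁻¹)⁻¹ * R.y (Sum.inl k) a2 ∈ Yg R (Sum.inl k) := by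
      rw [R.h_y]
      exact mul_mem (inv_mem ⟨_, rfl⟩) ⟨_, rfl⟩
    rw [Yg_cen (D.F_cy (inv_mem (D.mem_Rk.mp (D.h_Rk _ s hsR)).1)) _ h6]
    exact h6

end free

section count

variable [Finite F] [Finite G] (h3 : ∀ i j : Ix n, ∃ k, Dj i k ∧ Dj j k)

include h3 in
/-- `R_m ≤ F_m({j : Dj k j})` for `k < m` -/
theorem Rk_le {k m : Fin n} (hkm : k < m) {μ : Fˣ} (hμ : μ ≠ 1) {r : G} (hr : r ∈ D.Rk m) :
    r ∈ D.Fg (Sum.inl m) {j | Dj (Sum.inl k) j} := by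
  obtain ⟨hr1, hr2⟩ := D.mem_Rk.mp hr
  have hdj : Dj (Sum.inl m : Ix n) (Sum.inl k) :=
    ⟨fun h => hkm.ne' (Sum.inl_injective h), fun h => by simp at h⟩
  have h1 := ev_single (F := F) k μ
  obtain ⟨j₀, hm0, hk0⟩ := h3 (Sum.inl m) (Sum.inl k)
  refine D.mem_of_fix h3 (lam := Pi.mulSingle k μ) (ev_single_dj μ hdj.symm) (fun j hj => ev_single_dj μ hj) ?_
    (j₀ := j₀) hk0 hm0 hr1 ?_
  · intro j hmj hj h
    have hj' : ¬ Dj (Sum.inl k) j := hj
    simp only [Dj, not_and_or, not_not] at hj'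
    rcases hj' with hj | hj
    · rw [← hj, h1] at h; exact hμ h
    · have hj' : j = neg (Sum.inl k) := by rw [hj, neg_neg]
      rw [hj', ev_neg, h1, inv_eq_one] at h; exact hμ h
  · have := hr2 (R.h (Pi.mulSingle k μ)) (single_mem_HL hkm μ)
    rw [this]; group

include h3 in
/-- `R_m` centralises `Y_k` for `k < m` -/
theorem Rk_cy {k m : Fin n} (hkm : k < m) {μ : Fˣ} (hμ : μ ≠ 1) {r : G} (hr : r ∈ D.Rk m) (c : F) :
    Commute r (R.y (Sum.inl k) c) := by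
  have hkm' : (Sum.inl k : Ix n) ≠ neg (Sum.inl m) := fun h => by simp at h
  refine closure_induction (p := fun g _ => Commute g (R.y (Sum.inl k) c)) ?_ (Commute.one_left _)
    (fun _ _ _ _ a b => a.mul_left b) (fun _ _ a => a.inv_left) (D.Rk_le h3 hkm hμ hr)
  rintro g (⟨u, rfl⟩ | ⟨a, rfl⟩ | ⟨j, hj, hij, ⟨u, rfl⟩ | ⟨a, rfl⟩ | ⟨u, v, rfl⟩⟩)
  · exact D.b1 hkm' u c
  · exact R.y_comm hkm' a c
  · exact D.a4 hij hkm' hj.2 u c
  · exact (R.y_x_comm (fun h => by simp at h) (fun h => hj.2 (by rw [h, neg_neg])) c a).symm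
  · have e1 : Commute (D.wx (Sum.inl m) (neg j) u) (R.y (Sum.inl k) c) :=
      D.a4 (dj_neg_right.mpr hij) hkm' (by rw [neg_neg]; exact hj.1) u c
    have e2 : Commute (D.wy j v) (R.y (Sum.inl k) c) := D.b1 hj.2 v c
    exact ((e1.mul_left e2).mul_left e1.inv_left).mul_left e2.inv_left

omit [CharP F 2] [Finite F] [Finite G] in
theorem Q_le_K {i : Ix n} : R.Q i ≤ R.K := by
  rw [Frame.Q, closure_le]
  rintro g (⟨a, rfl⟩ | ⟨k, a, rfl⟩)
  · exact ⟨_, rfl⟩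
  · exact ⟨_, rfl⟩

omit [Finite F] [Finite G] in
theorem Q_sq {i : Ix n} : ∀ q ∈ R.Q i, q * q = 1 := by
  intro q hq
  refine closure_induction (p := fun b _ => b ∈ R.Q i → b * b = 1) ?_ ?_ ?_ ?_ hq hq
  · rintro g (⟨a, rfl⟩ | ⟨k, a, rfl⟩) -
    exacts [R.y_sq _ a, R.x_sq _ k a]
  · intro _; rw [one_mul]
  · intro a b ha hb h1 h2 _
    have h4 := Q_comm b hb a ha
    calc a * b * (a * b) = a * (b * a) * b := by group
      _ = (a * a) * (b * b) := by rw [h4]; group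
      _ = 1 := by rw [h1 ha, h2 hb, one_mul]
  · intro a ha h1 _
    have : a⁻¹ * a⁻¹ = (a * a)⁻¹ := by group
    rw [this, h1 ha, inv_one]

omit [Finite F] [Finite G] in
theorem Q_t {i : Ix n} : ∀ q ∈ R.Q i, q * R.t = R.t * q := by
  intro q hq
  refine (closure_induction (p := fun b _ => Commute b R.t) ?_ (Commute.one_left _)
    (fun _ _ _ _ h1 h2 => h1.mul_left h2) (fun _ _ h1 => h1.inv_left) hq).eq
  rintro g (⟨a, rfl⟩ | ⟨k, a, rfl⟩)
  exacts [R.y_t _ a, R.x_t _ k a]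

/-- the injection `(q, q') ↦ c_q q'` -/
theorem card_sq_le {t : G} {B : Subgroup G} (hB : Good t B) (hsq : ∀ q ∈ B, q * t = t * q → q * q = 1)
    (tt : t * t = 1) :
    Nat.card (B ⊓ centralizer ({t} : Set G) : Subgroup G) ^ 2 ≤ Nat.card B ∧
    ((∃ p ∈ B, ∀ q ∈ B, q * t = t * q → p * t * p⁻¹ ≠ t * q) →
      Nat.card (B ⊓ centralizer ({t} : Set G) : Subgroup G) ^ 2 < Nat.card B) := by
  classical
  set Q := B ⊓ centralizer ({t} : Set G) with hQ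
  have hQt : ∀ q : Q, (q : G) * t = t * q := fun q => mem_centralizer_singleton_iff.1 q.2.2
  have hc : ∀ q : Q, ∃ c ∈ B, c * t * c⁻¹ = t * q := by
    intro q
    refine hB.inv q q.2.1 ?_
    have h1 := hsq q q.2.1 (hQt q)
    calc t * (q : G) * (t * q) = t * ((q : G) * t) * q := by group
      _ = (t * t) * (q * q) := by rw [hQt q]; group
      _ = 1 := by rw [tt, h1, one_mul]
  choose c hcB hct using hc
  let f : Q × Q → B := fun z => ⟨c z.1 * z.2, mul_mem (hcB z.1) z.2.2.1⟩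
  have hfv : ∀ z : Q × Q, (f z : G) * t * (f z : G)⁻¹ = t * z.1 := by
    intro z
    change c z.1 * z.2 * t * (c z.1 * z.2)⁻¹ = t * z.1
    calc c z.1 * z.2 * t * (c z.1 * z.2)⁻¹ = c z.1 * ((z.2 : G) * t * (z.2 : G)⁻¹) * (c z.1)⁻¹ := by group
      _ = c z.1 * t * (c z.1)⁻¹ := by rw [hQt z.2]; group
      _ = _ := hct z.1
  have hf : Function.Injective f := by
    intro z z' h
    have h1 : (z.1 : G) = z'.1 := by
      have h2 := hfv z
      rw [h, hfv z'] at h2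
      exact (mul_left_cancel h2).symm
    have h2 : z.1 = z'.1 := Subtype.ext h1
    have h3 : c z.1 * z.2 = c z'.1 * z'.2 := congrArg Subtype.val h
    rw [h2] at h3
    exact Prod.ext h2 (Subtype.ext (mul_left_cancel h3))
  have hcard : Nat.card (Q × Q) = Nat.card Q ^ 2 := by rw [Nat.card_prod, pow_two]
  refine ⟨?_, ?_⟩
  · rw [← hcard]; exact Nat.card_le_card_of_injective f hf
  · rintro ⟨p, hp, hpq⟩
    rw [← hcard]
    refine lt_of_le_of_ne (Nat.card_le_card_of_injective f hf) fun heq => ?_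
    obtain ⟨z, hz⟩ := (hf.bijective_of_nat_card_le heq.ge).2 ⟨p, hp⟩
    have h1 := hfv z
    rw [hz] at h1
    exact hpq z.1 z.1.2.1 (hQt z.1) h1

include h3 in
theorem Rk_ct {k : Fin n} {r : G} (hr : r ∈ D.Rk k) (hc : r * R.t = R.t * r) : r ∈ R.Q (Sum.inl k) :=
  D.mem_Q_of_comm h3 (D.mem_Rk.mp hr).1 hc

include h3 in
theorem Rk_card (k : Fin n) :
    Nat.card (D.Rk k ⊓ centralizer ({R.t} : Set G) : Subgroup G) ^ 2 ≤ Nat.card (D.Rk k) :=
  (card_sq_le (D.Rk_good h3 k) (fun q hq hqt => Q_sq q (D.Rk_ct h3 hq hqt)) R.tt).1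

include h3 in
theorem Rk_card_lt {k l : Fin n} (hk : (k : ℕ) = 0) (hkl : k ≠ l) :
    Nat.card (D.Rk k ⊓ centralizer ({R.t} : Set G) : Subgroup G) ^ 2 < Nat.card (D.Rk k) := by
  refine (card_sq_le (D.Rk_good h3 k) (fun q hq hqt => Q_sq q (D.Rk_ct h3 hq hqt)) R.tt).2 ?_
  have hd : Dj (Sum.inl k : Ix n) (Sum.inl l) := ⟨fun h => hkl (Sum.inl_injective h), fun h => by simp at h⟩
  set i : Ix n := Sum.inl k with hi
  set p := D.p i (Sum.inl l) 1 1 with hp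
  have hpF : p ∈ D.Fg i Set.univ := D.p_mem_F (Set.mem_univ _) hd 1 1
  refine ⟨p, D.mem_Rk.mpr ⟨hpF, ?_⟩, ?_⟩
  · rintro _ ⟨m, hm, rfl⟩
    have : m = 1 := by funext j; exact hm j (by omega)
    rw [this, map_one, one_mul, mul_one]
  · intro q hq hqt h
    have hqQ := D.Rk_ct h3 hq hqt
    have hqF := (D.mem_Rk.mp hq).1
    obtain ⟨c, d, htp⟩ := D.t_p hd 1 1
    rw [← hp, one_pow, mul_one] at htp
    have ti : R.t⁻¹ = R.t := R.t_inv
    -- `w = w_i(1) x y = p⁻¹ q p`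
    have e1 : D.wy i 1 * R.x i (Sum.inl l) c * R.y i d = p⁻¹ * q * p := by
      have e2 : R.t * p * R.t = q * p := by
        calc R.t * p * R.t = R.t * (p * R.t * p⁻¹) * p := by group
          _ = R.t * (R.t * q) * p := by rw [h]
          _ = q * p := by rw [← mul_assoc, R.tt, one_mul]
      calc D.wy i 1 * R.x i (Sum.inl l) c * R.y i d = p⁻¹ * (p * D.wy i 1 * R.x i (Sum.inl l) c * R.y i d) := by group
        _ = p⁻¹ * (R.t * p * R.t) := by rw [htp]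
        _ = _ := by rw [e2]; group
    have e3 : p⁻¹ * q * p ∈ R.Q i := by
      obtain ⟨a, ha⟩ := D.F_cm h3 hqF hpF
      have e4 : p⁻¹ * q * p = p⁻¹ * R.y i a * p * q := by
        calc p⁻¹ * q * p = p⁻¹ * (q * p) := by group
          _ = p⁻¹ * (R.y i a * (p * q)) := by rw [ha]
          _ = _ := by group
      have e5 : p⁻¹ * R.y i a * p = R.y i a := by
        have := (D.F_cy hpF a).inv_left.eq
        rw [this]; group
      rw [e4, e5]
      exact mul_mem (R.y_mem_Q i a) hqQ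
    have e6 : D.wy i 1 ∈ R.Q i := by
      have e7 : D.wy i 1 = p⁻¹ * q * p * (R.y i d)⁻¹ * (R.x i (Sum.inl l) c)⁻¹ := by rw [← e1]; group
      rw [e7]
      exact mul_mem (mul_mem e3 (inv_mem (R.y_mem_Q i d))) (inv_mem (R.x_mem_Q i _ c))
    have e8 := Q_t _ e6
    have e9 := D.wy_t i 1
    have e10 : R.y i 1 = 1 := by
      have e11 : R.t * D.wy i 1 * R.t = D.wy i 1 := by rw [← e8, mul_assoc, R.tt, mul_one]
      rw [e11] at e9
      exact left_eq_mul.1 e9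
    exact one_ne_zero (R.y_eq_one e10)

end count

section chain

/-- the product of `A` and `B` -/
theorem glue_eq_sup {A B : Subgroup G} (h : ∀ a ∈ A, ∀ b ∈ B, a * b * a⁻¹ ∈ B) : glue A B h = A ⊔ B := by
  apply le_antisymm
  · rintro _ ⟨a, ha, b, hb, rfl⟩
    exact mul_mem (mem_sup_left ha) (mem_sup_right hb)
  · refine sup_le (fun a ha => ⟨a, ha, 1, one_mem _, (mul_one _).symm⟩) fun b hb => ⟨1, one_mem _, b, hb, (one_mul _).symm⟩

theorem card_sup_of {A B : Subgroup G} (h : ∀ a ∈ A, ∀ b ∈ B, a * b * a⁻¹ ∈ B) (hd : ∀ x ∈ A, x ∈ B → x = 1) :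
    Nat.card (A ⊔ B : Subgroup G) = Nat.card A * Nat.card B := by
  rw [← Nat.card_prod]
  symm
  refine Nat.card_congr (Equiv.ofBijective (fun z : A × B => (⟨z.1 * z.2,
    mul_mem (mem_sup_left z.1.2) (mem_sup_right z.2.2)⟩ : (A ⊔ B : Subgroup G))) ⟨?_, ?_⟩)
  · rintro ⟨⟨x, hx⟩, ⟨s, hs⟩⟩ ⟨⟨y, hy⟩, ⟨r, hr⟩⟩ he
    have h2 : x * s = y * r := congrArg (fun z : (A ⊔ B : Subgroup G) => (z : G)) he
    have h3 : y⁻¹ * x = r * s⁻¹ := by
      rw [inv_mul_eq_iff_eq_mul, ← mul_assoc, eq_mul_inv_iff_mul_eq]; exact h2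
    have h4 : y⁻¹ * x = 1 := hd _ (mul_mem (inv_mem hy) hx) (by
      rw [h3]; exact mul_mem hr (inv_mem hs))
    have h5 : x = y := (inv_mul_eq_one.1 h4).symm
    subst h5
    have h6 : s = r := mul_left_cancel h2
    subst h6
    rfl
  · rintro ⟨g, hg⟩
    obtain ⟨a, ha, x, hx, rfl⟩ := F4.EndO.exists_mul h hg
    exact ⟨(⟨a, ha⟩, ⟨x, hx⟩), rfl⟩

variable [Finite F] [Finite G]

/-- the group `A = R_{n-m} ⋯ R_{n-1}` -/
structure Chn (D : COne R) (m : ℕ) (A : Subgroup G) : Prop where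
  good : Good R.t A
  rk : ∀ k : Fin n, n - m ≤ k → D.Rk k ≤ A
  hl : ∀ a ∈ A, ∀ g ∈ HL R (n - m), g * a = a * g
  nor : ∀ k : Fin n, (k : ℕ) < n - m → A ≤ normalizer (D.Fg (Sum.inl k) Set.univ : Set G)
  cY : ∀ a ∈ A, ∀ k : Fin n, (k : ℕ) < n - m → ∀ c, Commute a (R.y (Sum.inl k) c)
  sem : ∀ y σ lam, R.Sem y σ lam → ∀ a ∈ A, y * a * y⁻¹ ∈ A
  ctK : ∀ a ∈ A, a * R.t = R.t * a → a ∈ R.K
  free : ∀ y σ lam, R.Sem y σ lam → (∀ a, σ (σ a) = a) → (∃ a, σ a ≠ a) → y * y = 1 →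
    ∀ w ∈ A, y * w * (y * w) = 1 → FreeSer (y * w) A
  crd : Nat.card (A ⊓ centralizer ({R.t} : Set G) : Subgroup G) ^ 2 ≤ Nat.card A
  crd' : n - m = 0 → Nat.card (A ⊓ centralizer ({R.t} : Set G) : Subgroup G) ^ 2 < Nat.card A

theorem exists_chn (h3 : ∀ i j : Ix n, ∃ k, Dj i k ∧ Dj j k) (hn : 2 ≤ n) (hS : D.SemC) {μ : Fˣ} (hμ : μ ≠ 1) :
    ∀ m, m ≤ n → ∃ A : Subgroup G, Chn D m A := by
  intro m
  induction m with
  | zero =>
    intro _
    refine ⟨⊥, ⟨⟨IsPGroup.of_bot, ?_, ?_, ?_⟩, ?_, ?_, ?_, ?_, ?_, ?_, ?_, ?_, ?_⟩⟩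
    · intro a ha
      rw [mem_bot] at ha ⊢
      rw [ha, mul_one, R.tt]
    · intro h; exact R.t1 (mem_bot.mp h)
    · intro a ha _
      rw [mem_bot] at ha
      exact ⟨1, one_mem _, by rw [ha]; group⟩
    · intro k hk; exact absurd k.2 (by omega)
    · intro a ha g _
      rw [mem_bot] at ha
      rw [ha]; group
    · intro k _; exact bot_le
    · intro a ha k _ c
      rw [mem_bot] at ha
      rw [ha]; exact Commute.one_left _
    · intro y σ lam _ a ha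
      rw [mem_bot] at ha ⊢
      rw [ha]; group
    · intro a ha _
      rw [mem_bot] at ha
      rw [ha]; exact one_mem _
    · intro y σ lam _ _ _ _ w _ _
      exact FreeSer.bot
    · simp
    · intro h; omega
  | succ m ih =>
    intro hm
    obtain ⟨A, hA⟩ := ih (by omega)
    have hk0 : n - (m + 1) < n := by omega
    let k0 : Fin n := ⟨n - (m + 1), hk0⟩
    have hk1 : n - m = (k0 : ℕ) + 1 := by show n - m = n - (m + 1) + 1; omega
    have h : ∀ a ∈ A, ∀ b ∈ D.Rk k0, a * b * a⁻¹ ∈ D.Rk k0 := by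
      intro a ha b hb
      obtain ⟨hb1, hb2⟩ := D.mem_Rk.mp hb
      refine D.mem_Rk.mpr ⟨(mem_normalizer_iff.mp (hA.nor k0 (by omega) ha) b).mp hb1, ?_⟩
      intro g hg
      have e1 := hA.hl a ha g (HL_mono (by omega) hg)
      have e2 := hb2 g hg
      calc g * (a * b * a⁻¹) = (g * a) * b * a⁻¹ := by group
        _ = a * (g * b) * a⁻¹ := by rw [e1]; group
        _ = a * b * (g * a⁻¹) := by rw [e2]; group
        _ = _ := by
          have : g * a⁻¹ = a⁻¹ * g := by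
            calc g * a⁻¹ = a⁻¹ * (a * g) * a⁻¹ := by group
              _ = _ := by rw [← e1]; group
          rw [this]; group
    have disj : ∀ b ∈ D.Rk k0, b ∈ A ∨ R.t * b ∈ A → b = 1 := by
      intro b hb hbA
      have hg : R.h (Pi.mulSingle k0 μ) ∈ HL R (n - m) := single_mem_HL (by omega) μ
      refine D.Rk_fpf h3 hμ hb ?_
      rcases hbA with hbA | hbA
      · exact hA.hl b hbA _ hg
      · have e1 := hA.hl _ hbA _ hg
        have e2 := (R.h_t (Pi.mulSingle k0 μ)).eq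
        rw [← mul_assoc, e2, mul_assoc, mul_assoc] at e1
        exact mul_left_cancel e1
    have disj' : ∀ x ∈ A, x ∈ D.Rk k0 → x = 1 := fun x hx hx' => disj x hx' (Or.inl hx)
    have dec : ∀ x ∈ A ⊔ D.Rk k0, ∃ a ∈ A, ∃ b ∈ D.Rk k0, x = a * b := fun x hx => F4.EndO.exists_mul h hx
    -- `C(t)`
    have hct : ∀ a ∈ A, ∀ b ∈ D.Rk k0, (a * b) * R.t = R.t * (a * b) →
        a * R.t = R.t * a ∧ b * R.t = R.t * b := by
      intro a ha b hb hc
      have ti : R.t⁻¹ = R.t := R.t_inv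
      have e1 : a⁻¹ * (R.t * a * R.t) = b * (R.t * b * R.t)⁻¹ := by
        have e2 : R.t * (a * b) * R.t = a * b := by rw [← hc, mul_assoc, R.tt, mul_one]
        have e3 : R.t * (a * b) * R.t = (R.t * a * R.t) * (R.t * b * R.t) := by
          calc R.t * (a * b) * R.t = R.t * a * 1 * b * R.t := by group
            _ = _ := by rw [← R.tt]; simp only [mul_assoc]
        rw [e3] at e2
        rw [inv_mul_eq_iff_eq_mul, ← mul_assoc, eq_mul_inv_iff_mul_eq]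
        exact e2
      have h1 : a⁻¹ * (R.t * a * R.t) = 1 := disj' _ (mul_mem (inv_mem ha) (hA.good.nt a ha)) (by
        rw [e1]; exact mul_mem hb (inv_mem ((D.Rk_good h3 k0).nt b hb)))
      have h2 : a * R.t = R.t * a := by
        have h3 : R.t * a * R.t = a := (inv_mul_eq_one.1 h1).symm
        calc a * R.t = (R.t * a * R.t) * R.t := by rw [h3]
          _ = R.t * a * (R.t * R.t) := by group
          _ = _ := by rw [R.tt, mul_one]
      refine ⟨h2, mul_left_cancel (a := a) ?_⟩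
      rw [← mul_assoc, hc, ← mul_assoc, ← mul_assoc, h2]
    have hinf : (A ⊔ D.Rk k0) ⊓ centralizer ({R.t} : Set G) =
        (A ⊓ centralizer ({R.t} : Set G)) ⊔ (D.Rk k0 ⊓ centralizer ({R.t} : Set G)) := by
      apply le_antisymm
      · rintro x ⟨hx, hx'⟩
        obtain ⟨a, ha, b, hb, rfl⟩ := dec x hx
        obtain ⟨h1, h2⟩ := hct a ha b hb (mem_centralizer_singleton_iff.1 hx')
        exact mul_mem (mem_sup_left ⟨ha, mem_centralizer_singleton_iff.2 h1⟩)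
          (mem_sup_right ⟨hb, mem_centralizer_singleton_iff.2 h2⟩)
      · exact sup_le (le_inf (inf_le_left.trans le_sup_left) inf_le_right)
          (le_inf (inf_le_left.trans le_sup_right) inf_le_right)
    have hc1 : Nat.card ((A ⊔ D.Rk k0) ⊓ centralizer ({R.t} : Set G) : Subgroup G) =
        Nat.card (A ⊓ centralizer ({R.t} : Set G) : Subgroup G) *
          Nat.card (D.Rk k0 ⊓ centralizer ({R.t} : Set G) : Subgroup G) := by
      rw [hinf]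
      refine card_sup_of ?_ fun x hx hx' => disj' x hx.1 hx'.1
      rintro a ⟨ha, ha'⟩ b ⟨hb, hb'⟩
      refine ⟨h a ha b hb, ?_⟩
      have h5 : a * b * a⁻¹ ∈ centralizer ({R.t} : Set G) :=
        (centralizer ({R.t} : Set G)).mul_mem ((centralizer ({R.t} : Set G)).mul_mem ha' hb')
          ((centralizer ({R.t} : Set G)).inv_mem ha')
      exact h5
    have hc2 : Nat.card (A ⊔ D.Rk k0 : Subgroup G) = Nat.card A * Nat.card (D.Rk k0) := card_sup_of h disj'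
    refine ⟨A ⊔ D.Rk k0, ⟨?_, ?_, ?_, ?_, ?_, ?_, ?_, ?_, ?_, ?_⟩⟩
    · rw [← glue_eq_sup h]
      exact hA.good.glue R.tt (D.Rk_good h3 k0) h disj
    · intro k hk
      by_cases hkm : n - m ≤ k
      · exact (hA.rk k hkm).trans le_sup_left
      · have : k = k0 := Fin.ext (by show (k : ℕ) = n - (m + 1); omega)
        rw [this]; exact le_sup_right
    · intro x hx g hg
      obtain ⟨a, ha, b, hb, rfl⟩ := dec x hx
      have e1 := hA.hl a ha g (HL_mono (by omega) hg)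
      have e2 := (D.mem_Rk.mp hb).2 g hg
      rw [← mul_assoc, e1, mul_assoc, e2, mul_assoc]
    · intro k hk
      refine sup_le (hA.nor k (by omega)) fun b hb => D.Rk_nor h3 (k := k) (m := k0) (Fin.lt_def.mpr hk) hμ hb
    · intro x hx k hk c
      obtain ⟨a, ha, b, hb, rfl⟩ := dec x hx
      exact (hA.cY a ha k (by omega) c).mul_left (D.Rk_cy h3 (k := k) (m := k0) (Fin.lt_def.mpr hk) hμ hb c)
    · intro y σ lam hy x hx
      obtain ⟨a, ha, b, hb, rfl⟩ := dec x hx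
      have e : y * (a * b) * y⁻¹ = (y * a * y⁻¹) * (y * b * y⁻¹) := by group
      rw [e]
      exact mul_mem (mem_sup_left (hA.sem y σ lam hy a ha)) (mem_sup_right (D.sem_Rk h3 hS hy b hb))
    · intro x hx hc
      obtain ⟨a, ha, b, hb, rfl⟩ := dec x hx
      obtain ⟨h1, h2⟩ := hct a ha b hb hc
      exact mul_mem (hA.ctK a ha h1) (Q_le_K (D.Rk_ct h3 hb h2))
    · intro y σ lam hy hσ hσ1 hyy x hx huu
      obtain ⟨a, ha, b, hb, rfl⟩ := dec x hx
      have hyi : y⁻¹ = y := inv_eq_of_mul_eq_one_left hyy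
      -- `(y a)² = 1`
      have e1 : y * a * (y * a) = 1 := by
        apply disj'
        · have e2 : y * a * (y * a) = (y * a * y⁻¹) * a := by
            rw [hyi]; group
          rw [e2]
          exact mul_mem (hA.sem y σ lam hy a ha) ha
        · have e2 : y * a * (y * a) = (((y * a)⁻¹ * b * (y * a)) * b)⁻¹ := by
            apply eq_inv_of_mul_eq_one_left
            rw [← huu]; group
          rw [e2]
          have e3 : (y * a)⁻¹ * b * (y * a) = a⁻¹ * (y * b * y⁻¹) * a⁻¹⁻¹ := by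
            rw [mul_inv_rev, hyi]; group
          refine inv_mem (mul_mem ?_ hb)
          rw [e3]
          exact h _ (inv_mem ha) _ (D.sem_Rk h3 hS hy b hb)
      have hF := hA.free y σ lam hy hσ hσ1 hyy a ha e1
      have hB : FreeSer (y * a * b) (D.Rk k0) := by
        refine D.free_Rk h3 hS hy hσ hσ1 (h a ha) (fun μ' => ?_) (fun c => hA.cY a ha k0 (by omega) c) hb ?_
        · exact (hA.hl a ha _ (single_mem_HL (by omega) μ')).symm
        · rw [← huu]; group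
      rw [← mul_assoc]
      refine FreeSer.lift hb ?_ hB hF h disj'
      intro b' hb'
      have e4 : y * a * b' * (y * a)⁻¹ = y * (a * b' * a⁻¹) * y⁻¹ := by group
      rw [e4]
      exact D.sem_Rk h3 hS hy _ (h a ha b' hb')
    · rw [hc1, hc2, mul_pow]
      exact Nat.mul_le_mul hA.crd (D.Rk_card h3 k0)
    · intro h0
      rw [hc1, hc2, mul_pow]
      have hk00 : (k0 : ℕ) = 0 := h0
      have h4 : Nat.card (D.Rk k0 ⊓ centralizer ({R.t} : Set G) : Subgroup G) ^ 2 < Nat.card (D.Rk k0) :=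
        D.Rk_card_lt h3 (k := k0) (l := ⟨1, by omega⟩) hk00 (fun e => by
          have := congrArg Fin.val e
          rw [hk00] at this
          exact absurd this (by simp))
      exact Nat.mul_lt_mul_of_le_of_lt hA.crd h4 Nat.card_pos

end chain

section main

variable [Finite F] [Finite G]

/-- `U ≤ R_1 ⋯ R_n` -/
theorem Up_le_of_Rk {S : Subgroup G} (h2 : ∀ k, D.Rk k ≤ S) : R.Up ≤ S := by
  have hy : ∀ (k : Fin n) (a : F), R.y (Sum.inl k) a ∈ S := fun k a => h2 k (D.Yg_le_Rk ⟨a, rfl⟩)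
  have hx : ∀ (k j : Fin n), k < j → ∀ a : F,
      R.x (Sum.inl k) (Sum.inl j) a ∈ S ∧ R.x (Sum.inl k) (Sum.inr j) a ∈ S := by
    intro k j hkj a
    constructor
    · have hd : Dj (Sum.inl k : Ix n) (Sum.inl j) := ⟨fun h => hkj.ne (Sum.inl_injective h), fun h => by simp at h⟩
      refine h2 k (D.mem_Rk.mpr ⟨D.x_mem_F (Set.mem_univ _) hd a, ?_⟩)
      rintro _ ⟨l, hl, rfl⟩
      have e := R.h_x l (Sum.inl k) (Sum.inl j) a
      have hk : ev l (Sum.inl k : Ix n) = 1 := hl k le_rfl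
      have hj : ev l (Sum.inl j : Ix n) = 1 := hl j hkj.le
      rw [hk, hj, Units.val_one, one_mul, one_mul] at e
      exact mul_inv_eq_iff_eq_mul.mp e
    · have hd : Dj (Sum.inl k : Ix n) (Sum.inr j) := ⟨fun h => by simp at h, fun h => hkj.ne (Sum.inl_injective h)⟩
      refine h2 k (D.mem_Rk.mpr ⟨D.x_mem_F (Set.mem_univ _) hd a, ?_⟩)
      rintro _ ⟨l, hl, rfl⟩
      have e := R.h_x l (Sum.inl k) (Sum.inr j) a
      have hk : ev l (Sum.inl k : Ix n) = 1 := hl k le_rfl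
      have hj : ev l (Sum.inr j : Ix n) = 1 := by
        show (l j)⁻¹ = 1
        rw [hl j hkj.le, inv_one]
      rw [hk, hj, Units.val_one, one_mul, one_mul] at e
      exact mul_inv_eq_iff_eq_mul.mp e
  rw [R.Up_eq_closure, closure_le]
  rintro _ (⟨i, j, hij, h, a, rfl⟩ | ⟨i, h, a, rfl⟩)
  · rcases i with i | i <;> rcases j with j | j
    · rcases lt_trichotomy i j with h1 | h1 | h1
      · exact (hx i j h1 a).1
      · exact absurd (by rw [h1]) hij.1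
      · rw [R.x_symm]; exact (hx j i h1 a).1
    · rcases lt_trichotomy i j with h1 | h1 | h1
      · exact (hx i j h1 a).2
      · exact absurd (by rw [h1]; rfl) hij.2
      · exfalso
        have h2 := Fd_inl_lt h1
        have h3 : Fd (Sum.inr j : Ix n) = -Fd (Sum.inl j : Ix n) := Fd_neg (Sum.inl j)
        omega
    · rcases lt_trichotomy i j with h1 | h1 | h1
      · exfalso
        have h2 := Fd_inl_lt h1
        have h3 : Fd (Sum.inr i : Ix n) = -Fd (Sum.inl i : Ix n) := Fd_neg (Sum.inl i)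
        omega
      · exact absurd (by rw [h1]; rfl) hij.2
      · rw [R.x_symm]; exact (hx j i h1 a).2
    · exfalso
      have h2 := Fd_inl_pos i
      have h4 := Fd_inl_pos j
      have h3 : Fd (Sum.inr i : Ix n) = -Fd (Sum.inl i : Ix n) := Fd_neg (Sum.inl i)
      have h5 : Fd (Sum.inr j : Ix n) = -Fd (Sum.inl j : Ix n) := Fd_neg (Sum.inl j)
      omega
  · rcases i with i | i
    · exact hy i a
    · exfalso
      have h2 := Fd_inl_pos i
      have h3 : Fd (Sum.inr i : Ix n) = -Fd (Sum.inl i : Ix n) := Fd_neg (Sum.inl i)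
      omega

/-- **END (C,O) with an outer 2-part** -/
theorem out (hS : D.SemC) (hn : 3 ≤ n) {μ : Fˣ} (hμ : μ ≠ 1) {T : Subgroup G} (hT : R.OutT T) :
    R.t ∉ _root_.commutator G := by
  obtain ⟨S, C⟩ := D.exists_chn (exists_third hn) (by omega) hS hμ n le_rfl
  have h2 : ∀ k, D.Rk k ≤ S := fun k => C.rk k (by omega)
  have hUS : R.Up ≤ S := D.Up_le_of_Rk h2
  have hU : ∀ w, w ∈ R.Up ↔ w ∈ S ∧ w * R.t = R.t * w := by
    intro w
    refine ⟨fun hw => ⟨hUS hw, (Frame.Up_comm_t hw).eq⟩, fun hw => ?_⟩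
    have h4 : S ⊓ centralizer ({R.t} : Set G) ≤ R.Up := R.Up_max
      (C.good.p2.to_le inf_le_left) (fun x hx => C.ctK x hx.1 (mem_centralizer_singleton_iff.1 hx.2))
      (fun x hx => ⟨hUS hx, mem_centralizer_singleton_iff.2 (Frame.Up_comm_t hx).eq⟩)
    exact h4 ⟨hw.1, mem_centralizer_singleton_iff.2 hw.2⟩
  have hUc : S ⊓ centralizer ({R.t} : Set G) = R.Up := by
    ext w
    exact ⟨fun hw => (hU w).2 ⟨hw.1, mem_centralizer_singleton_iff.1 hw.2⟩,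
      fun hw => ⟨hUS hw, mem_centralizer_singleton_iff.2 (Frame.Up_comm_t hw).eq⟩⟩
  have F := hT.fr C.good.p2 (hT.norm_of hUS fun y _ σ lam hy => C.sem y σ lam hy) hU
  refine Out.FreeEnd.not_mem_commutator F C.good.tn ?_ ?_ ?_
  · intro u huu htu _ _
    have e : R.t * (R.t * u) = u := by rw [← mul_assoc, R.tt, one_mul]
    obtain ⟨c, hc, h⟩ := C.good.inv _ htu (by rw [e]; exact huu)
    exact ⟨c, hc, by rw [h, e]⟩
  · intro d hd w hw hdw h1 h4 h5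
    obtain ⟨y, hy, u, hu, rfl, σ, lam, hs⟩ := hT.dec d hd
    have hyy : y * y ∈ R.Up := by
      have e : y * y = (y * u) * (y * u) * (u⁻¹ * (y⁻¹ * u * y)⁻¹) := by group
      rw [e]
      have h6 := hT.conj_Up (inv_mem hy) hu
      rw [inv_inv] at h6
      exact mul_mem h5 (mul_mem (inv_mem hu) (inv_mem h6))
    have hy1 : y ∉ R.Up := fun h => h1 (mul_mem h hu)
    have hy2 : R.t * y ∉ R.Up := fun h => h4 (by rw [← mul_assoc]; exact mul_mem h hu)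
    obtain ⟨hσ, hσ1⟩ := hT.field (by omega) hy hs hyy hy1 hy2
    have hy3 : y * y = 1 := (hs.mul hs).eq_one_of_Up hn hyy
    have e1 : y * u * w = y * (u * w) := mul_assoc _ _ _
    rw [e1] at hdw ⊢
    exact C.free y σ lam hs hσ hσ1 hy3 _ (mul_mem (hUS hu) hw) hdw
  · have := C.crd' (by omega)
    rw [hUc] at this
    exact this.ne

end main

end COne

end Cfsg.Agent.OddHalf.SpN
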