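import Mathlib
import Cfsg.Agent.OddHalf.SpN.Cent2

/-!
# `C_{C(t)}(Y_i) ∩ C(Q_i / Y_i) = ⟨t⟩ Q_i` in `Sp_2n(F)`, `char F = 2`
-/

set_option autoImplicit false
set_option linter.unusedSimpArgs false

namespace Cfsg.Agent.OddHalf.SpN

open Cfsg Cfsg.Agent.ClassicalGeometry.SympBasic Cfsg.Agent.ClassicalGeometry.SympAutSemi
open scoped Matrix commutatorElement

variable {n : ℕ} {F : Type*} [Field F] [CharP F 2]

/-- acting trivially on `Q_i / Y_i` implies acting trivially on `Q_i` -/
theorem comm_of_mod {A : Sy n F} {i : Ix n} (hy : Commute A (sy i 1)) {k : Ix n} (hk : Dj i k)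
    (hx : ∃ e, A * sx i k 1 = sy i e * (sx i k 1 * A)) : Commute A (sx i k 1) := by
  have ci := cy_of_comm hy
  obtain ⟨e, he⟩ := hx
  have hik : neg i ≠ neg k := fun e => hk.1 (neg_inj.mp e)
  have hil : ∀ l, ent (A * sx i k 1) l (neg i) = ent A l (neg i) + ent A l k := by
    intro l
    rw [ent_mul_sx hk, if_neg hik, if_pos rfl]; ring
  have hir : ∀ l, ent (sy i e * (sx i k 1 * A)) l (neg i) = ent A l (neg i) + (if l = k then 1 else 0) +
      (if l = i then ent A (neg k) (neg i) + e else 0) := by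
    intro l
    have h1 : (rho n F A (be n F (neg i))) (neg i) = 1 := ci.diag'
    have h2 : neg i ≠ k := fun e => hk.2 (by rw [← e, neg_neg])
    rw [ent, map_mul, map_mul, Equiv.Perm.mul_apply, Equiv.Perm.mul_apply, rho_sy, rho_sx hk]
    simp only [Pi.add_apply, Pi.smul_apply, smul_eq_mul, be_apply, h1, one_mul, if_neg (neg_ne i), if_neg h2,
      mul_zero, add_zero, mul_one]
    change ent A l (neg i) + ent A (neg k) (neg i) * (if l = i then 1 else 0) + (if l = k then 1 else 0) +
      e * (if l = i then 1 else 0) = _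
    split_ifs <;> ring
  have hcol : ∀ l, ent A l k = (if l = k then 1 else 0) + (if l = i then ent A (neg k) (neg i) + e else 0) := by
    intro l
    have := hil l
    rw [he, hir l] at this
    linear_combination -this
  have hv : rho n F A (be n F k) = be n F k + (ent A (neg k) (neg i) + e) • be n F i := by
    ext l
    have := hcol l
    rw [ent] at this
    rw [this, Pi.add_apply, Pi.smul_apply, smul_eq_mul, be_apply, be_apply]
    split_ifs <;> ring
  have hf : sympForm n F (rho n F A (be n F (neg i))) (rho n F A (be n F k)) = 0 := by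
    rw [sympForm_rho A, form_be, be_apply, if_neg]
    exact fun e => hik (by rw [← e])
  rw [hv, sympForm_add_right, sympForm_smul_right, form_be, form_be] at hf
  have h1 : (rho n F A (be n F (neg i))) (neg i) = 1 := ci.diag'
  have h3 : (rho n F A (be n F (neg i))) (neg k) = ent A (neg k) (neg i) := rfl
  rw [h1, h3] at hf
  have he0 : e = 0 := by linear_combination hf - ent A (neg k) (neg i) * (two0 : (2 : F) = 0)
  rw [he0, sy_zero, one_mul] at he
  exact he

namespace Frame

variable {G : Type*} [Group G] (R : Frame n F G)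

/-- **F3** for `Q_i / Y_i`: an element of `C(t)` centralising `Y_i` and `Q_i / Y_i` is in `⟨t⟩ Q_i`. -/
theorem CQ' [Finite F] (hn : 3 ≤ n) {i : Ix n} {c : G} (ht : Commute c R.t) (hy : ∀ b, Commute c (R.y i b))
    (hx : ∀ k, Dj i k → ∀ b, ∃ e, c * R.x i k b = R.y i e * (R.x i k b * c)) {S : Subgroup G}
    (h1 : ∀ a, R.y i a ∈ S) (h2 : ∀ k a, Dj i k → R.x i k a ∈ S) : c ∈ S ∨ R.t * c ∈ S := by
  obtain ⟨A, hA⟩ := R.ct_comm_y hn ht hy
  have hyA : Commute A (sy i 1) := R.comm_of hA (hy 1)
  have hc : ∀ k, Dj i k → Commute A (sx i k 1) := fun k hk => by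
    obtain ⟨e, he⟩ := hx k hk 1
    refine comm_of_mod hyA hk ⟨e, R.inj ?_⟩
    rw [map_mul, map_mul, map_mul]
    rcases hA with rfl | rfl
    · exact he
    · have ct : ∀ B, R.ι B * R.t = R.t * R.ι B := fun B => (R.comm B).eq
      apply mul_left_cancel (a := R.t)
      calc R.t * (R.ι A * R.ι (sx i k 1)) = R.t * R.ι A * R.x i k 1 := by rw [mul_assoc]; rfl
        _ = R.y i e * (R.x i k 1 * (R.t * R.ι A)) := he
        _ = R.ι (sy i e) * (R.ι (sx i k 1) * R.t) * R.ι A := by
          simp only [mul_assoc]; rfl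
        _ = (R.ι (sy i e) * R.t) * R.ι (sx i k 1) * R.ι A := by rw [ct]; group
        _ = _ := by rw [ct]; group
  have h3 : A ∈ S.comap R.ι := mem_Q_Sy (i := i) h1 h2 {k | Dj i k ∧ ent A i k ≠ 0}.ncard A hyA hc le_rfl
  rcases hA with e | e
  · left; rw [e]; exact h3
  · right; rw [e, ← mul_assoc, R.tt, one_mul]; exact h3

end Frame

end Cfsg.Agent.OddHalf.SpN
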