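import Cfsg.Agent.OddHalf.SpN.KInst
import Cfsg.Agent.OddHalf.SpN.RelsOf

/-!
# ODD D7, `K = Sp_2n(q)`, `q ≥ 4` even: the doubles of the long root groups (helper570)

Section 4 of `blueprints/ODD-D7-Sp-helper297.md`: `DL.ll` : `[V_i, V_j] ≤ X_ij`.
-/

set_option autoImplicit false

namespace Cfsg.Agent.OddHalf.SpN

open scoped commutatorElement

variable {n : ℕ} {F : Type*} [Field F] {G : Type*} [Group G]

theorem ll_conj_comm {g x y : G} (h : ⁅g, x⁆ = y) (gy : Commute g y) (xy : Commute x y) :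
    g⁻¹ * x * g = x * y⁻¹ ∧ x * g * x⁻¹ = g * y⁻¹ := by
  have h1 : g * x = y * x * g := by rw [← h, commutatorElement_def]; group
  constructor
  · calc g⁻¹ * x * g = g⁻¹ * (y⁻¹ * (y * x * g)) := by group
      _ = g⁻¹ * y⁻¹ * g * x := by rw [← h1]; group
      _ = y⁻¹ * g⁻¹ * g * x := by rw [gy.inv_inv.eq]
      _ = y⁻¹ * x := by group
      _ = _ := xy.inv_right.symm.eq
  · calc x * g * x⁻¹ = y⁻¹ * (y * x * g) * x⁻¹ := by group
      _ = y⁻¹ * g := by rw [← h1]; group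
      _ = _ := gy.inv_right.symm.eq

namespace DL

variable [CharP F 2] {R : Frame n F G} {γ : F} (V : DL R γ)
include V

theorem cX {i : Ix n} {g : G} (hg : g ∈ V.V i) {k l : Ix n} (h1 : k ≠ neg i) (h2 : l ≠ neg i) (a : F) :
    Commute g (R.x k l a) := V.cx i g hg k l a h1 h2

/-- elements of the same height differ by an element of `Y_i` -/
theorem eq_mul_y {i : Ix n} {g g' : G} (hg : g ∈ V.V i) (hg' : g' ∈ V.V i) {u : F}
    (h : R.t * g * R.t = g * R.y i u) (h' : R.t * g' * R.t = g' * R.y i u) :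
    ∃ a, g' = g * R.y i a := by
  have h1 : g⁻¹ * g' ∈ V.V i := mul_mem (inv_mem hg) hg'
  obtain ⟨a, ha⟩ := V.ker i _ h1 (by
    rw [R.t_mul, R.t_inv', h, h']
    calc (g * R.y i u)⁻¹ * (g' * R.y i u) = (R.y i u)⁻¹ * ((g⁻¹ * g') * R.y i u) := by group
      _ = (R.y i u)⁻¹ * (R.y i u * (g⁻¹ * g')) := by rw [V.comm i _ h1 _ (V.y_mem i u)]
      _ = g⁻¹ * g' := by group)
  exact ⟨a, by rw [← ha]; group⟩

/-- every element of `V_i` is `g' g'^H y` if `H` induces `μ ≠ 1` on the heights -/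
theorem exists_decomp {i : Ix n} {lam : Fin n → Fˣ} {μ : Fˣ} (hμ : (μ : F) ^ 2 ≠ 1)
    (hl : ev lam i = μ) {g : G} (hg : g ∈ V.V i) :
    ∃ g' ∈ V.V i, ∃ a, g = g' * (R.h lam * g' * (R.h lam)⁻¹) * R.y i a := by
  obtain ⟨u, hu⟩ := V.ht i g hg
  have hμ1 : (1 : F) + μ ^ 2 ≠ 0 := by
    intro h
    apply hμ
    have : (μ : F) ^ 2 = -1 := by linear_combination h
    rw [this, CharTwo.neg_eq]
  obtain ⟨g', hg', hu'⟩ := V.onto i ((1 + (μ : F) ^ 2)⁻¹ * u)
  refine ⟨g', hg', ?_⟩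
  have hH := V.torus i g' hg' lam
  refine V.eq_mul_y (mul_mem hg' hH) hg ?_ hu
  have h1 : R.t * (R.h lam * g' * (R.h lam)⁻¹) * R.t =
      (R.h lam * g' * (R.h lam)⁻¹) * R.y i (μ ^ 2 * ((1 + (μ : F) ^ 2)⁻¹ * u)) := by
    rw [R.t_mul, R.t_mul, R.t_of_comm (R.h_t lam), R.t_inv', R.t_of_comm (R.h_t lam), hu']
    have h2 := R.h_y lam i ((1 + (μ : F) ^ 2)⁻¹ * u)
    rw [hl] at h2
    rw [← h2]; group
  rw [R.t_mul, h1, hu']
  have h3 : Commute (R.y i ((1 + (μ : F) ^ 2)⁻¹ * u)) (R.h lam * g' * (R.h lam)⁻¹) :=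
    V.comm i _ (V.y_mem i _) _ hH
  calc g' * R.y i ((1 + (μ : F) ^ 2)⁻¹ * u) *
        (R.h lam * g' * (R.h lam)⁻¹ * R.y i (μ ^ 2 * ((1 + (μ : F) ^ 2)⁻¹ * u)))
      = g' * (R.y i ((1 + (μ : F) ^ 2)⁻¹ * u) * (R.h lam * g' * (R.h lam)⁻¹)) *
          R.y i (μ ^ 2 * ((1 + (μ : F) ^ 2)⁻¹ * u)) := by group
    _ = g' * (R.h lam * g' * (R.h lam)⁻¹) * (R.y i ((1 + (μ : F) ^ 2)⁻¹ * u) *
          R.y i (μ ^ 2 * ((1 + (μ : F) ^ 2)⁻¹ * u))) := by rw [h3.eq]; group
    _ = _ := by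
      rw [← R.y_add]
      congr 2
      field_simp

/-- `g' t g'⁻¹ ∈ t Y_i` -/
theorem conj_t {i : Ix n} {g' : G} (hg' : g' ∈ V.V i) :
    ∃ u, g' * R.t * g'⁻¹ * R.t = R.y i u := by
  obtain ⟨u, hu⟩ := V.ht i g' hg'
  refine ⟨u, ?_⟩
  have h1 : g' * R.t = R.t * (g' * R.y i u) := by
    rw [← hu, ← mul_assoc, ← mul_assoc, R.tt, one_mul]
  have h2 : Commute (R.y i u) g' := V.comm i _ (V.y_mem i u) _ hg'
  calc g' * R.t * g'⁻¹ * R.t = R.t * (g' * R.y i u) * g'⁻¹ * R.t := by rw [h1]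
    _ = R.t * (R.y i u * g') * g'⁻¹ * R.t := by rw [h2.eq]
    _ = R.t * R.y i u * R.t := by group
    _ = R.y i u := R.t_of_comm (R.y_t _ _)

variable [Finite F]

/-- conjugates of `y_k` under `V_i` -/
theorem ypar {i k : Ix n} (hik : Dj i k) {g : G} (hg : g ∈ V.V i) (b : F) :
    ∃ f, g⁻¹ * R.y k b * g = R.y k b * R.x i k f ∧ g * R.y k b * g⁻¹ = R.y k b * R.x i k f ∧
      R.y k b * g * (R.y k b)⁻¹ = g * R.x i k f := by
  have : Fintype F := Fintype.ofFinite F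
  obtain ⟨b0, rfl⟩ : ∃ b0, b0 ^ 2 = b := by
    obtain ⟨b0, hb0⟩ := (PerfectRing.bijective_frobenius (p := 2) (R := F)).surjective b
    exact ⟨b0, hb0⟩
  obtain ⟨u, hu⟩ := V.ht i g hg
  obtain ⟨u0, rfl⟩ : ∃ u0, u0 ^ 2 = u := by
    obtain ⟨u0, hu0⟩ := (PerfectRing.bijective_frobenius (p := 2) (R := F)).surjective u
    exact ⟨u0, hu0⟩
  have h := V.par i k hik g hg u0 hu b0
  have c1 : Commute g (R.x i k (γ * u0 * b0)) := V.cX hg (ne_neg i) hik.symm.2 _
  have c2 : Commute (R.y k (b0 ^ 2)) (R.x i k (γ * u0 * b0)) := R.y_x_comm hik.2 (ne_neg k) _ _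
  obtain ⟨h1, h2⟩ := ll_conj_comm h c1 c2
  rw [R.x_inv] at h1 h2
  refine ⟨γ * u0 * b0, h1, ?_, h2⟩
  calc g * R.y k (b0 ^ 2) * g⁻¹ = ⁅g, R.y k (b0 ^ 2)⁆ * R.y k (b0 ^ 2) := by rw [commutatorElement_def]; group
    _ = _ := by rw [h, c2.eq]

/-- one half of `ll` -/
theorem ll_half (hn : 3 ≤ n) (hF : ∃ μ : Fˣ, (μ : F) ≠ 1) {i j : Ix n} (hij : Dj i j)
    {g g' : G} (hg : g ∈ V.V i) (hg' : g' ∈ V.V j) : ∃ a b, ⁅g, g'⁆ = R.y j a * R.x i j b := by
  have n1 : i ≠ neg j := hij.2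
  have n1' : j ≠ neg i := hij.symm.2
  -- the decomposition
  have main : ∀ g' ∈ V.V j, ∃ e f r s, (e = 1 ∨ e = R.t) ∧ ⁅g, g'⁆ = e * R.y i f * (R.y j r * R.x i j s) := by
    intro g' hg'
    obtain ⟨u, hu⟩ := V.ht i g hg
    obtain ⟨v, hv⟩ := V.ht j g' hg'
    have ct : Commute ⁅g, g'⁆ R.t := by
      apply R.comm_of_t
      obtain ⟨f1, -, -, q1⟩ := V.ypar hij hg v
      obtain ⟨f2, -, -, q2⟩ := V.ypar hij.symm hg' u
      -- the two constants agree
      have e12 : f1 = f2 := by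
        have : Fintype F := Fintype.ofFinite F
        obtain ⟨u0, rfl⟩ : ∃ u0, u0 ^ 2 = u := by
          obtain ⟨u0, hu0⟩ := (PerfectRing.bijective_frobenius (p := 2) (R := F)).surjective u
          exact ⟨u0, hu0⟩
        obtain ⟨v0, rfl⟩ : ∃ v0, v0 ^ 2 = v := by
          obtain ⟨v0, hv0⟩ := (PerfectRing.bijective_frobenius (p := 2) (R := F)).surjective v
          exact ⟨v0, hv0⟩
        have h1 := V.par i j hij g hg u0 hu v0
        have h2 := V.par j i hij.symm g' hg' v0 hv u0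
        have c1 : Commute g (R.x i j (γ * u0 * v0)) := V.cX hg (ne_neg i) n1' _
        have c2 : Commute (R.y j (v0 ^ 2)) (R.x i j (γ * u0 * v0)) := R.y_x_comm n1 (ne_neg j) _ _
        have c3 : Commute g' (R.x j i (γ * v0 * u0)) := V.cX hg' (ne_neg j) n1 _
        have c4 : Commute (R.y i (u0 ^ 2)) (R.x j i (γ * v0 * u0)) := R.y_x_comm n1' (ne_neg i) _ _
        have e1 := (ll_conj_comm h1 c1 c2).2
        have e2 := (ll_conj_comm h2 c3 c4).2
        rw [q1, R.x_inv] at e1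
        rw [q2, R.x_inv] at e2
        have e3 := R.x_inj hij (mul_left_cancel e1)
        have e4 := R.x_inj hij.symm (mul_left_cancel e2)
        rw [e3, e4]; ring
      rw [R.x_symm j i, ← e12] at q2
      set x := R.x i j f1 with hx
      set y := R.y i u with hy
      set y' := R.y j v with hy'
      have yy' : Commute y y' := R.y_comm n1' _ _
      have xy : Commute x y := (R.y_x_comm (ne_neg i) n1' _ _).symm
      have xg : Commute x g := (V.cX hg (ne_neg i) n1' _).symm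
      have xg' : Commute x g' := (V.cX hg' n1 (ne_neg j) _).symm
      rw [commutatorElement_def, R.t_mul, R.t_mul, R.t_mul, R.t_inv', R.t_inv', hu, hv]
      show ⁅g * y, g' * y'⁆ = g * g' * g⁻¹ * g'⁻¹
      have c1 : y' * (g * y) * y'⁻¹ = (g * y) * x := by
        calc y' * (g * y) * y'⁻¹ = (y' * g * y'⁻¹) * (y' * y) * y'⁻¹ := by group
          _ = (g * x) * (y * y') * y'⁻¹ := by rw [q1, yy'.eq]
          _ = g * (x * y) := by group
          _ = _ := by rw [xy.eq]; group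
      rw [comm_mul_x' c1 (xg.mul_right xy) xg']
      have c2 : ⁅g * y, g'⁆ = ⁅g, g'⁆ * x := by
        have h1 : ⁅g', g * y⁆ = ⁅g', g⁆ * x⁻¹ := comm_mul_x' q2 xg' xg
        rw [← commutatorElement_inv, h1, mul_inv_rev, inv_inv, commutatorElement_inv]
        have : Commute x ⁅g, g'⁆ := by
          rw [commutatorElement_def]
          exact ((xg.mul_right xg').mul_right xg.inv_right).mul_right xg'.inv_right
        exact this.eq
      rw [c2, mul_assoc, mul_inv_cancel, mul_one]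
      rfl
    have cy : ∀ k, k ≠ neg i → k ≠ neg j → ∀ b, Commute ⁅g, g'⁆ (R.y k b) := by
      intro k k1 k2 b
      by_cases h1 : k = i
      · subst h1
        have c1 : Commute g (R.y k b) := V.cy k g hg b
        obtain ⟨f, hf, -, -⟩ := V.ypar hij.symm hg' b
        exact comm_of_conj c1 (by rw [hf]; exact c1.mul_right (V.cX hg n1' (ne_neg k) f))
      by_cases h2 : k = j
      · subst h2
        have c1 : Commute g' (R.y k b) := V.cy k g' hg' b
        obtain ⟨f, hf, -, -⟩ := V.ypar hij hg b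
        exact comm_of_conj' c1 (by rw [hf]; exact c1.mul_right (V.cX hg' n1 (ne_neg k) f))
      have hik : Dj i k := ⟨fun e => h1 e.symm, fun e => k1 (by rw [e, neg_neg])⟩
      have hjk : Dj j k := ⟨fun e => h2 e.symm, fun e => k2 (by rw [e, neg_neg])⟩
      obtain ⟨f, hf, hf', -⟩ := V.ypar hik hg b
      obtain ⟨f2, hf2, hf2', -⟩ := V.ypar hjk hg' b
      have a1 : Commute g (R.x j k f2) := V.cX hg n1' k1 _
      have a2 : Commute g' (R.x i k f) := V.cX hg' n1 k2 _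
      have a3 : Commute g (R.x i k f) := V.cX hg (ne_neg i) k1 _
      have a4 : Commute g' (R.x j k f2) := V.cX hg' (ne_neg j) k2 _
      have b1 : Commute (R.x i k f) (R.x j k f2) := R.x_comm n1' hjk.2 k1 (ne_neg k) _ _
      show ⁅g, g'⁆ * R.y k b = R.y k b * ⁅g, g'⁆
      have key : ⁅g, g'⁆⁻¹ * R.y k b * ⁅g, g'⁆ = R.y k b := by
        have s1 : g⁻¹ * R.y k b * g = R.y k b * R.x i k f := hf
        have s2 : g'⁻¹ * (g⁻¹ * R.y k b * g) * g' = R.y k b * R.x j k f2 * R.x i k f := by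
          rw [s1]
          calc g'⁻¹ * (R.y k b * R.x i k f) * g' = (g'⁻¹ * R.y k b * g') * (g'⁻¹ * (R.x i k f * g')) := by group
            _ = (g'⁻¹ * R.y k b * g') * (g'⁻¹ * (g' * R.x i k f)) := by rw [a2.eq]
            _ = _ := by rw [hf2]; group
        have s3 : g * (g'⁻¹ * (g⁻¹ * R.y k b * g) * g') * g⁻¹ = R.y k b * R.x j k f2 := by
          rw [s2]
          calc g * (R.y k b * R.x j k f2 * R.x i k f) * g⁻¹
              = (g * R.y k b * g⁻¹) * (g * R.x j k f2) * R.x i k f * g⁻¹ := by group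
            _ = (R.y k b * R.x i k f) * (R.x j k f2 * g) * R.x i k f * g⁻¹ := by rw [hf', a1.eq]
            _ = R.y k b * (R.x i k f * R.x j k f2) * (g * R.x i k f) * g⁻¹ := by group
            _ = R.y k b * (R.x j k f2 * R.x i k f) * (R.x i k f * g) * g⁻¹ := by rw [b1.eq, a3.eq]
            _ = R.y k b * R.x j k f2 * (R.x i k f * R.x i k f) := by group
            _ = _ := by rw [R.x_sq, mul_one]
        calc ⁅g, g'⁆⁻¹ * R.y k b * ⁅g, g'⁆
            = g' * (g * (g'⁻¹ * (g⁻¹ * R.y k b * g) * g') * g⁻¹) * g'⁻¹ := by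
              rw [commutatorElement_def]; group
          _ = g' * (R.y k b * R.x j k f2) * g'⁻¹ := by rw [s3]
          _ = (g' * R.y k b * g'⁻¹) * (g' * R.x j k f2) * g'⁻¹ := by group
          _ = (R.y k b * R.x j k f2) * (R.x j k f2 * g') * g'⁻¹ := by rw [hf2', a4.eq]
          _ = R.y k b * (R.x j k f2 * R.x j k f2) := by group
          _ = _ := by rw [R.x_sq, mul_one]
      calc ⁅g, g'⁆ * R.y k b = ⁅g, g'⁆ * (⁅g, g'⁆⁻¹ * R.y k b * ⁅g, g'⁆) := by rw [key]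
        _ = _ := by group
    obtain ⟨a, b, d, h, -⟩ := R.FU2 hn hij ct cy
    rcases h with h | h
    · exact ⟨1, a, b, d, Or.inl rfl, by rw [h, one_mul, mul_assoc]⟩
    · exact ⟨R.t, a, b, d, Or.inr rfl, by rw [h]; group⟩
  -- equivariance
  obtain ⟨μ, hμ⟩ := exists_nu hF
  have hμ2 : (μ : F) ^ 2 ≠ 1 := fun h => hμ (by rw [Units.val_mul, ← sq, h])
  obtain ⟨lam, l1, l2⟩ := exists_lam j μ
  have li : ev lam i = 1 := l2 i hij.symm
  obtain ⟨g1, hg1, a, rfl⟩ := V.exists_decomp hμ2 l1 hg'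
  obtain ⟨e, f, r, s, he, h⟩ := main g1 hg1
  -- the subgroup `Q`
  have xy : ∀ a b, Commute (R.y j a) (R.x i j b) := fun a b => R.y_x_comm n1 (ne_neg j) _ _
  let Q : Subgroup G :=
    { carrier := {z | ∃ a b, z = R.y j a * R.x i j b}
      one_mem' := ⟨0, 0, by rw [R.x_zero, R.y_zero, mul_one]⟩
      mul_mem' := by
        rintro _ _ ⟨a, b, rfl⟩ ⟨a', b', rfl⟩
        refine ⟨a + a', b + b', ?_⟩
        rw [R.x_add, R.y_add]
        calc R.y j a * R.x i j b * (R.y j a' * R.x i j b')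
            = R.y j a * (R.x i j b * R.y j a') * R.x i j b' := by group
          _ = R.y j a * (R.y j a' * R.x i j b) * R.x i j b' := by rw [(xy a' b).eq]
          _ = _ := by group
      inv_mem' := by
        rintro _ ⟨a, b, rfl⟩
        exact ⟨a, b, by rw [mul_inv_rev, R.x_inv, R.y_inv, (xy a b).eq]⟩ }
  have memQ : ∀ {z}, z ∈ Q ↔ ∃ a b, z = R.y j a * R.x i j b := Iff.rfl
  have het : ∀ x : G, Commute x R.t → Commute x e := by
    intro x hx
    rcases he with rfl | rfl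
    · exact Commute.one_right _
    · exact hx
  have hee : e * e = 1 := by
    rcases he with rfl | rfl
    · rw [mul_one]
    · exact R.tt
  have hcom : ∀ z x : G, x ∈ Q → Commute z x → z * z = 1 → z * x * z ∈ Q := by
    intro z x hx hzx hz
    rw [hzx.eq, mul_assoc, hz, mul_one]; exact hx
  have key : ⁅g, g1 * (R.h lam * g1 * (R.h lam)⁻¹)⁆ ∈ Q := by
    refine kill (e := e) (p := R.y i f) (q := R.y j r * R.x i j s) Q (memQ.2 ⟨r, s, rfl⟩)
      h (V.torus_one i g hg lam li) (het _ (R.h_t lam)) ?_ hee (R.y_sq _ _) (het _ (R.y_t _ _)).symm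
      ?_ ?_ ?_ ?_ ?_ ?_
    · have h := R.h_y lam i f
      rw [li, Units.val_one, one_pow, one_mul, mul_inv_eq_iff_eq_mul] at h
      exact h
    · rintro x ⟨a, b, rfl⟩
      refine ⟨ev lam j ^ 2 * a, ev lam i * ev lam j * b, ?_⟩
      calc R.h lam * (R.y j a * R.x i j b) * (R.h lam)⁻¹
            = (R.h lam * R.y j a * (R.h lam)⁻¹) * (R.h lam * R.x i j b * (R.h lam)⁻¹) := by group
        _ = _ := by rw [R.h_x, R.h_y]
    · intro x hx
      refine hcom _ _ hx (Commute.symm (het _ ?_)) hee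
      obtain ⟨a, b, rfl⟩ := hx
      exact (R.y_t _ _).mul_left (R.x_t _ _ _)
    · intro x hx
      refine hcom _ _ hx ?_ (R.y_sq _ _)
      obtain ⟨a, b, rfl⟩ := hx
      exact (R.y_comm n1' _ _).mul_right (R.y_x_comm (ne_neg i) n1' _ _)
    · rintro x ⟨a, b, rfl⟩
      have c1 : Commute g1 (R.y j a) := V.cy j g1 hg1 a
      have c2 : Commute g1 (R.x i j b) := V.cX hg1 n1 (ne_neg j) b
      rw [(c1.mul_right c2).eq, mul_inv_cancel_right]
      exact ⟨a, b, rfl⟩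
    · rcases he with rfl | rfl
      · simp only [mul_one, mul_inv_cancel]; exact one_mem _
      · obtain ⟨u, hu⟩ := V.conj_t hg1
        rw [hu]
        exact ⟨u, 0, by rw [R.x_zero, mul_one]⟩
    · obtain ⟨b, -, hb, -⟩ := V.ypar hij.symm hg1 f
      rw [hb]
      have c3 : Commute (R.y i f) (R.x j i b) := R.y_x_comm n1' (ne_neg i) _ _
      refine ⟨0, b, ?_⟩
      rw [R.y_zero, one_mul, c3.eq, mul_assoc, R.y_sq, mul_one, R.x_symm]
  obtain ⟨b, -, -, hb⟩ := V.ypar hij hg a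
  have hH1 : R.h lam * g1 * (R.h lam)⁻¹ ∈ V.V j := V.torus j g1 hg1 lam
  rw [comm_mul_x' hb (V.cX hg (ne_neg i) n1' b).symm (V.cX (mul_mem hg1 hH1) n1 (ne_neg j) b).symm]
  obtain ⟨a', b', h'⟩ := key
  refine ⟨a', b' + b, ?_⟩
  rw [h', R.x_inv, R.x_add]
  group

/-- **Section 4**: `[V_i, V_j] ≤ X_ij` -/
theorem ll (hn : 3 ≤ n) (hF : ∃ μ : Fˣ, (μ : F) ≠ 1) {i j : Ix n} (hij : Dj i j)
    {g g' : G} (hg : g ∈ V.V i) (hg' : g' ∈ V.V j) : ∃ a, ⁅g, g'⁆ = R.x i j a := by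
  obtain ⟨a, b, h1⟩ := V.ll_half hn hF hij hg hg'
  obtain ⟨a', b', h2⟩ := V.ll_half hn hF hij.symm hg' hg
  have n1 : i ≠ neg j := hij.2
  have n1' : j ≠ neg i := hij.symm.2
  have h3 : ⁅g, g'⁆ = R.x i j b' * R.y i a' := by
    rw [← commutatorElement_inv, h2, mul_inv_rev, R.x_inv, R.y_inv, R.x_symm j i]
  have h4 : R.y i a' * R.y j a * R.x i j (b + b') = 1 := by
    have c1 : Commute (R.y i a') (R.x i j b') := R.y_x_comm (ne_neg i) n1' _ _
    have c2 : Commute (R.y j a) (R.x i j b) := R.y_x_comm n1 (ne_neg j) _ _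
    calc R.y i a' * R.y j a * R.x i j (b + b')
        = R.y i a' * (R.y j a * R.x i j b) * R.x i j b' := by rw [R.x_add]; group
      _ = R.y i a' * ⁅g, g'⁆ * R.x i j b' := by rw [h1]
      _ = R.y i a' * (R.x i j b' * R.y i a') * R.x i j b' := by rw [h3]
      _ = (R.y i a' * R.x i j b') * (R.y i a' * R.x i j b') := by group
      _ = (R.y i a' * R.x i j b') * (R.x i j b' * R.y i a') := by rw [c1.eq]
      _ = R.y i a' * (R.x i j b' * R.x i j b') * R.y i a' := by group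
      _ = 1 := by rw [R.x_sq, mul_one, R.y_sq]
  obtain ⟨e1, e2, e3⟩ := R.rels.ind i j a' a (b + b') hij h4
  rw [e2, R.y_zero, one_mul] at h1
  exact ⟨b, h1⟩

end DL

end Cfsg.Agent.OddHalf.SpN
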