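import Cfsg.Agent.OddHalf.SpN.Both8
import Cfsg.Agent.OddHalf.SpN.KInst
import Cfsg.Agent.OddHalf.SpN.LongL
import Cfsg.Agent.OddHalf.SpN.CC
import Cfsg.Agent.OddHalf.SpN.COneDefs
import Cfsg.Agent.OddHalf.SpN.Cent3

/-!
# ODD D7, `K = Sp_2n(q)`, pattern ALL: the output of section 8 (helper780)

`toCC` (`δ = 0`), `toCOne` (`δ = 1`), `both_out`: the two cases of pattern ALL.
-/

set_option autoImplicit false

namespace Cfsg.Agent.OddHalf.SpN

open scoped commutatorElement

variable {n : ℕ} {F : Type*} [Field F] [CharP F 2] [Finite F] {G : Type*} [Group G] {R : Frame n F G}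

omit [CharP F 2] [Finite F] in
theorem exists_unit_neB (hF : ∃ a : F, a ≠ 0 ∧ a ≠ 1) : ∃ μ : Fˣ, (μ : F) ≠ 1 := by
  obtain ⟨a, h0, h1⟩ := hF
  exact ⟨Units.mk0 a h0, h1⟩

/-- the inputs of section 8 -/
theorem Inp.of {δ γ : F} (D : DS R δ) (V : DL R γ) (hn : 3 ≤ n) (hF : ∃ a : F, a ≠ 0 ∧ a ≠ 1) : Inp D V where
  hn := hn
  hF := hF
  el := fun i j h g hg => by
    obtain ⟨k, h1, h2⟩ := exists_dj hn i j
    exact D.sq (exists_unit_neB hF) (R.ks hn (exists_unit_neB hF)) h1 h h2.symm hg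
  h4 := fun i j h g hg g' hg' => by
    obtain ⟨a, ha⟩ := V.ll hn (exists_unit_neB hF) h hg hg'
    refine ⟨a, ?_⟩
    have c1 : Commute g (R.x i j a) := V.cx i g hg i j a (ne_neg i) (neg_ne_of_dj h)
    have c2 : Commute g' (R.x i j a) := V.cx j g' hg' i j a h.2 (ne_neg j)
    rw [commutatorElement_def] at ha
    calc g * g' = (g * g' * g⁻¹ * g'⁻¹) * (g' * g) := by group
      _ = _ := by rw [ha, (c2.mul_left c1).eq]

variable {δ γ : F}

/-- **the case `δ = 0`** -/
noncomputable def toCC (D : DS R (0 : F)) (V : DL R (0 : F)) (hn : 3 ≤ n) (hF : ∃ a : F, a ≠ 0 ∧ a ≠ 1) : CC R :=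
  have I : Inp D V := Inp.of D V hn hF
  have hF' := exists_unit_neB hF
  have hK := R.kt hn hF'
  { D := D
    L := V
    Wsq := I.el
    Vsq := fun i g hg => by
      obtain ⟨u, hu⟩ := V.ht i g hg
      rw [I.sq hg hu, zero_mul, R.y_zero]
    c60 := fun i j k hij hik hjk g hg g' hg' => D.comm60 hF' hK hij hik hjk hg hg'
    c90 := fun i j k l hij hik hil hjk hjl hkl g hg g' hg' => D.comm90 hF' hK hij hik hil hjk hjl hkl hg hg'
    cpar := fun i j h g hg g' hg' => by
      obtain ⟨k, h1, h2⟩ := exists_dj hn i j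
      exact D.par_mem hF' hK h h1 h2 hg hg'
    c120 := fun i j k hij hik hjk g hg g' hg' => D.mem120 hF' hK hij hik hjk hg hg'
    cWV := fun i j k h h1 h2 g hg v hv => by
      rcases cases5 i j k with rfl | rfl | rfl | rfl | h3
      · exact I.comm45' h hg hv
      · exact I.comm45 h hg hv
      · exact absurd rfl h1
      · exact absurd rfl h2
      · exact I.comm90 h h3.1 h3.2 hg hv
    cVV := fun i j h g hg g' hg' => by
      obtain ⟨u, hu⟩ := V.ht i g hg
      obtain ⟨v, hv⟩ := V.ht j g' hg'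
      have := I.ll h hg hg' hu hv
      rwa [zero_mul, R.x_zero, mul_one] at this
    cVx := fun i j h v hv b => by
      obtain ⟨u, hu⟩ := V.ht j v hv
      obtain ⟨v', hv', a, ha, -, -, e⟩ := I.conj_x h.symm hv hu b
      rw [D.symm j i] at ha
      rw [R.x_symm (neg j) i] at e
      refine ⟨a, ha, v', hv', ?_⟩
      rw [R.x_inv, e, (I.comm45' h ha hv').eq, mul_assoc]
    cWy := fun i j h g hg b => by
      obtain ⟨u, hu⟩ := D.ht i (neg j) (dj_neg_right.mpr h) g hg
      obtain ⟨a, ha, v', hv', -, -, e⟩ := I.conj_y h hg hu b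
      exact ⟨a, ha, v', hv', by rw [R.y_inv, e, mul_assoc]⟩ }

theorem comm_ws_ws (D : DS R δ) (hn : 3 ≤ n) (hF : ∃ a : F, a ≠ 0 ∧ a ≠ 1) {i j k l : Ix n} (hij : Dj i j)
    (hkl : Dj k l) (h1 : k ≠ neg i) (h2 : k ≠ neg j) (h3 : l ≠ neg i) (h4 : l ≠ neg j) {g g' : G} (hg : g ∈ D.W i j)
    (hg' : g' ∈ D.W k l) : Commute g g' := by
  have hF' := exists_unit_neB hF
  have hK := R.kt hn hF'
  have hgs : g ∈ D.W j i := by rwa [D.symm j i]
  have hgs' : g' ∈ D.W l k := by rwa [D.symm l k]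
  rcases cases5 i j k with rfl | rfl | rfl | rfl | ⟨ik, jk⟩
  · rcases cases5 k j l with rfl | rfl | rfl | rfl | ⟨il, jl⟩
    · exact absurd rfl hkl.1
    · exact D.comm _ _ hij g hg g' hg'
    · exact absurd rfl h3
    · exact absurd rfl h4
    · exact D.comm60 hF' hK hij il jl hg hg'
  · rcases cases5 i k l with rfl | rfl | rfl | rfl | ⟨il, jl⟩
    · exact D.comm _ _ hij g hg g' hgs'
    · exact absurd rfl hkl.1
    · exact absurd rfl h3
    · exact absurd rfl h4
    · exact D.comm60 hF' hK hij.symm jl il hgs hg'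
  · exact absurd rfl h1
  · exact absurd rfl h2
  · rcases cases5 i j l with rfl | rfl | rfl | rfl | ⟨il, jl⟩
    · exact D.comm60 hF' hK hij ik jk hg hgs'
    · exact D.comm60 hF' hK hij.symm jk ik hgs hgs'
    · exact absurd rfl h3
    · exact absurd rfl h4
    · exact D.comm90 hF' hK hij ik il jk jl hkl hg hg'

theorem conj_x120 (D : DS R δ) (hn : 3 ≤ n) (hF : ∃ a : F, a ≠ 0 ∧ a ≠ 1) {i j k : Ix n} (hij : Dj i j)
    (hjk : Dj j k) (hik : Dj i k) (u v : F) : ∃ c,
    R.x (neg j) k v * D.ws i j u * R.x (neg j) k v = D.ws i j u * D.ws i k (u * v) * R.x i k c := by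
  have hF' := exists_unit_neB hF
  have hK := R.ks hn hF'
  set x := R.x (neg j) k v with hx
  have hxx : x * x = 1 := R.x_sq _ _ _
  have hm := D.conj_mem hF' hK (i := k) (j := j) (k := i) hjk.symm hik.symm hij.symm (g := D.ws i j u)
    (by rw [D.symm j i]; exact D.ws_mem hij u) v
  rw [R.x_symm k (neg j), ← hx, D.symm k i] at hm
  set m := (D.ws i j u)⁻¹ * (x * D.ws i j u * x) with hmd
  have e0 : x * D.ws i j u * x = D.ws i j u * m := by rw [hmd, mul_inv_cancel_left]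
  have e1 : x * R.x i j u * x = R.x i j u * R.x i k (u * v) := R.rels.ss i j k u v hij hjk hik
  have cX : Commute m (R.x i j u) := D.cx i k hik m hm i j u (ne_neg i) hik.2 (neg_ne_of_dj hij)
    hjk.2
  have ct : Commute R.t x := (R.x_t _ _ _).symm
  have ht : R.t * m * R.t = m * R.x i k (u * v) := by
    have e2 : R.t * (D.ws i j u * m) * R.t = D.ws i j u * m * (R.x i j u * R.x i k (u * v)) := by
      rw [← e0, Both.conj3 R.tt, D.ws_t hij, Both.conj_of_comm R.tt ct, ← e1]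
      calc x * (D.ws i j u * R.x i j u) * x = x * D.ws i j u * 1 * R.x i j u * x := by simp only [mul_assoc, one_mul]
        _ = _ := by rw [← hxx]; simp only [mul_assoc]
    rw [Both.conj2 R.tt, D.ws_t hij] at e2
    have e3 : D.ws i j u * (R.x i j u * (R.t * m * R.t)) = D.ws i j u * (R.x i j u * (m * R.x i k (u * v))) := by
      calc D.ws i j u * (R.x i j u * (R.t * m * R.t)) = D.ws i j u * R.x i j u * (R.t * m * R.t) := by
            simp only [mul_assoc]
        _ = D.ws i j u * (m * R.x i j u) * R.x i k (u * v) := by rw [e2]; simp only [mul_assoc]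
        _ = _ := by rw [cX.eq]; simp only [mul_assoc]
    exact mul_left_cancel (mul_left_cancel e3)
  obtain ⟨c, hc⟩ := D.eq_ws hik hm ht
  exact ⟨c, by rw [e0, hc, mul_assoc]⟩

theorem conj_ws120 (D : DS R δ) (hn : 3 ≤ n) (hF : ∃ a : F, a ≠ 0 ∧ a ≠ 1) {i j k : Ix n} (hij : Dj i j)
    (hjk : Dj j k) (hik : Dj i k) (u v : F) : ∃ c d,
    D.ws (neg j) k v * D.ws i j u * (D.ws (neg j) k v)⁻¹ = D.ws i j u * D.ws i k c * R.x i k d := by
  have hF' := exists_unit_neB hF
  have hK := R.kt hn hF'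
  have m1 := D.ws_mem (dj_neg_left.mpr hjk) v
  have m2 := D.ws_mem hij u
  have hm := D.mem120 hF' hK (i := i) (j := neg j) (k := k) (dj_neg_right.mpr hij) hik (dj_neg_left.mpr hjk)
    m1 (by rw [neg_neg]; exact m2)
  have hc := D.comm60 hF' hK hij hik hjk m2 hm
  obtain ⟨c, hc1⟩ := D.ht i k hik _ hm
  obtain ⟨d, hd⟩ := D.eq_ws hik hm hc1
  refine ⟨c, d, ?_⟩
  rw [mul_assoc (D.ws i j u), ← hd, hc.eq, commutatorElement_def]; group

/-- **the case `δ = 1`** -/
noncomputable def toCOne (D : DS R (1 : F)) (V : DL R (0 : F)) (hn : 3 ≤ n) (hF : ∃ a : F, a ≠ 0 ∧ a ≠ 1) : COne R :=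
  have I : Inp D V := Inp.of D V hn hF
  have hF' := exists_unit_neB hF
  have hK := R.kt hn hF'
  { wx := D.ws
    wy := V.wl
    wx_symm := D.ws_symm
    wx_t := fun h u => D.ws_t h u
    wy_t := V.wl_t
    h_wx := fun lam _ _ h u => D.h_ws h lam u
    h_wy := fun lam i u => by rw [V.h_wl, pow_two]
    wx_add := fun h u v => D.ws_add I.el h u v
    wy_zero := V.wl_zero
    wy_add := V.wl_mul
    wy_sq := fun i u => by rw [I.sq (V.wl_mem i u) (V.wl_t i u), one_mul]
    a1 := fun {i j k l} h _ h1 h2 h3 h4 u v => D.cx i j h _ (D.ws_mem h u) k l v h1 h2 h3 h4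
    a2 := fun {i j} h u v => by
      have e := D.ws_par h u v
      rw [one_mul] at e
      have c1 : Commute (R.y i (u * v)) (R.x i (neg j) v) :=
        R.y_x_comm (ne_neg i) (fun e => h.1 (neg_inj.mp e).symm) _ _
      have c2 : Commute (D.ws i j u) (R.y i (u * v)) := D.cy i j h _ (D.ws_mem h u) i _ (ne_neg i) h.2
      rw [e, (c1.mul_right c2.symm).eq]
    a3 := fun {i j k} hij hjk hik u v => by
      obtain ⟨c, hc⟩ := conj_x120 D hn hF hij hjk hik u v
      exact ⟨c, by rw [R.x_inv, hc]⟩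
    a4 := fun {i j k} h h1 h2 u v => D.cy i j h _ (D.ws_mem h u) k v h1 h2
    a5 := fun {i j} h u v => by
      obtain ⟨c, d, e⟩ := I.conj_ws (dj_neg_right.mpr h) u v
      rw [neg_neg, CharTwo.add_self_eq_zero, zero_mul, V.wl_zero, mul_one] at e
      exact ⟨c, d, by rw [R.y_inv, e]⟩
    b1 := fun {i j} h u v => I.cy' h (V.wl_mem i u) v
    b2 := fun {i j k} _ h1 h2 u v => V.cx i _ (V.wl_mem i u) j k v h1 h2
    b3 := fun {i j} h u v => by
      obtain ⟨c, d, e⟩ := I.conj_wl h u v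
      exact ⟨c, d, by rw [R.x_inv, e]⟩
    c1 := fun {i j k l} hij hkl h1 h2 h3 h4 u v =>
      comm_ws_ws D hn hF hij hkl h1 h2 h3 h4 (D.ws_mem hij u) (D.ws_mem hkl v)
    c2 := fun {i j} h u v => by
      obtain ⟨k, h1, h2⟩ := exists_dj hn i j
      obtain ⟨c, e⟩ := D.par_mem hF' hK h h1 h2 (D.ws_mem h u) (D.ws_mem (dj_neg_right.mpr h) v)
      rw [commutatorElement_def] at e
      exact ⟨c, by rw [← e]; group⟩
    c3 := fun {i j k} hij hjk hik u v => conj_ws120 D hn hF hij hjk hik u v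
    c4 := fun {i j} h u v => by
      obtain ⟨a, ha⟩ := V.ll hn hF' h (V.wl_mem i u) (V.wl_mem j v)
      rw [commutatorElement_def] at ha
      exact ⟨a, by rw [← ha]; group⟩
    c5 := fun {i j k} hjk h1 h2 u v => by
      rcases cases5 j k i with rfl | rfl | rfl | rfl | h3
      · exact (I.comm45' hjk (D.ws_mem hjk v) (V.wl_mem _ u)).symm
      · exact (I.comm45 hjk (D.ws_mem hjk v) (V.wl_mem _ u)).symm
      · exact absurd (neg_neg j).symm h1
      · exact absurd (neg_neg k).symm h2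
      · exact (I.comm90 hjk h3.1 h3.2 (D.ws_mem hjk v) (V.wl_mem _ u)).symm
    f3 := fun i g gt g1 g2 => R.CQ' hn gt g1 g2 (S := R.Q i) (R.y_mem_Q i)
      (fun k a _ => R.x_mem_Q i k a) }

/-- **pattern ALL**: the two cases -/
theorem both_out (D : DS R δ) (V : DL R γ) (hn : 3 ≤ n) (hF : ∃ a : F, a ≠ 0 ∧ a ≠ 1) :
    Nonempty (CC R) ∨ Nonempty (COne R) := by
  have I : Inp D V := Inp.of D V hn hF
  obtain ⟨rfl, h0 | h1⟩ := I.gamma_delta
  · subst h0; exact Or.inl ⟨toCC D V hn hF⟩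
  · subst h1; exact Or.inr ⟨toCOne D V hn hF⟩

end Cfsg.Agent.OddHalf.SpN
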