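import Mathlib
import Cfsg.Agent.OddHalf.SpN.CCEnd
import Cfsg.Agent.OddHalf.SpN.BothOut

/-!
# Pattern ALL: the homomorphism of the case (C,C), or the data of the case (C,O) (helper678)
-/

set_option autoImplicit false

namespace Cfsg.Agent.OddHalf.SpN

open scoped commutatorElement

variable {n : ℕ} {F : Type*} [Field F] [CharP F 2] [Finite F] {G : Type*} [Group G] {R : Frame n F G}

/-- **Pattern ALL**: either the data of pattern (C,O), or a homomorphism to `{±1}` with `t ↦ -1`. -/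
theorem exists_cone_or_hom [Finite G] {δ γ : F} (D : DS R δ) (V : DL R γ) (hn : 3 ≤ n)
    (hF : ∃ a : F, a ≠ 0 ∧ a ≠ 1)
    (hodd : Odd ((R.UpP ⊔ Subgroup.zpowers R.t).relIndex (Subgroup.centralizer {R.t}))) :
    Nonempty (COne R) ∨ ∃ m : G →* ℤˣ, m R.t = -1 := by
  rcases both_out D V hn hF with ⟨⟨C⟩⟩ | h
  · exact Or.inr (C.exists_hom hn (exists_unit_neB hF) hodd)
  · exact Or.inl h

end Cfsg.Agent.OddHalf.SpN
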