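import Cfsg.Agent.OddHalf.SpN.WInst
import Cfsg.Agent.OddHalf.SpN.TUCent
import Cfsg.Agent.OddHalf.SpN.KInst
import Cfsg.Agent.OddHalf.SpN.RelsOf
import Cfsg.Agent.OddHalf.SpN.ShortY

/-!
# ODD D7, `K = Sp_2n(q)`, `q > 2`: the doubles of the short root groups, `DS R δ` (helper570)

Section 3, short roots, of `blueprints/ODD-D7-Sp-helper297.md`:
`Frame.exists_DS` : if the doubles `R.Wd i j` exist (i.e. `X_12` is moved by `N(T₁)`), they form a `DS R δ` for some `δ`.
-/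

set_option autoImplicit false

namespace Cfsg.Agent.OddHalf.SpN

open WExist Subgroup
open scoped commutatorElement

variable {n : ℕ} {F : Type*} [Field F] {G : Type*} [Group G]

/-- the 'EP' argument: `w` centralises the root group `X` -/
theorem scal_one [CharP F 2] {X : F → G} (X_add : ∀ u v, X (u + v) = X u * X v)
    (X_inj : ∀ u v, X u = X v → u = v) {w : G} (P : G → Prop) (hF : ∃ μ : Fˣ, (μ : F) ≠ 1)
    (hP : ∀ z, P z → z * z = 1 ∧ ∀ v, Commute z (X v))
    (hH : ∀ μ : Fˣ, ∃ h, Commute h w ∧ (∀ v, h * X v * h⁻¹ = X (μ * v)) ∧ ∀ z, P z → Commute h z)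
    (hdec : ∀ v, ∃ a z, P z ∧ w * X v * w⁻¹ = X a * z)
    (hw : ∀ v, Commute (w * w) (X v)) (v : F) : Commute w (X v) := by
  have conjh : ∀ h : G, Commute h w → ∀ y : G, w * (h * y * h⁻¹) * w⁻¹ = h * (w * y * w⁻¹) * h⁻¹ := by
    intro h hh y
    calc w * (h * y * h⁻¹) * w⁻¹ = (w * h) * y * (h⁻¹ * w⁻¹) := by group
      _ = (h * w) * y * (w⁻¹ * h⁻¹) := by rw [hh.eq, hh.inv_inv.eq]
      _ = _ := by group
  -- step 1
  have s1 : ∀ v, ∃ a, w * X v * w⁻¹ = X a := by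
    intro v
    obtain ⟨μ, hμ⟩ := hF
    have hμ1 : (1 : F) + μ ≠ 0 := by
      intro h
      apply hμ
      have : (μ : F) = -1 := by linear_combination h
      rw [this, CharTwo.neg_eq]
    obtain ⟨h, hh, hX, hz⟩ := hH μ
    obtain ⟨a, z, Pz, ha⟩ := hdec ((1 + (μ : F))⁻¹ * v)
    obtain ⟨zz, zX⟩ := hP z Pz
    have hv : v = (1 + (μ : F))⁻¹ * v + μ * ((1 + (μ : F))⁻¹ * v) := by field_simp
    refine ⟨a + μ * a, ?_⟩
    have e1 : w * X (μ * ((1 + (μ : F))⁻¹ * v)) * w⁻¹ = X (μ * a) * z := by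
      rw [← hX, conjh h hh, ha]
      calc h * (X a * z) * h⁻¹ = h * X a * h⁻¹ * (h * z) * h⁻¹ := by group
        _ = h * X a * h⁻¹ * (z * h) * h⁻¹ := by rw [(hz z Pz).eq]
        _ = _ := by rw [hX]; group
    calc w * X v * w⁻¹ = w * (X ((1 + (μ : F))⁻¹ * v) * X (μ * ((1 + (μ : F))⁻¹ * v))) * w⁻¹ := by
          rw [← X_add, ← hv]
      _ = (w * X ((1 + (μ : F))⁻¹ * v) * w⁻¹) * (w * X (μ * ((1 + (μ : F))⁻¹ * v)) * w⁻¹) := by group
      _ = X a * (z * X (μ * a)) * z := by rw [ha, e1]; group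
      _ = X a * X (μ * a) * (z * z) := by rw [(zX _).eq]; group
      _ = _ := by rw [zz, mul_one, ← X_add]
  -- step 2
  obtain ⟨k, hk⟩ := s1 1
  have X0 : X 0 = 1 := by
    have := X_add 0 0
    rw [add_zero] at this
    exact left_eq_mul.1 this
  have s2 : ∀ v, w * X v * w⁻¹ = X (v * k) := by
    intro v
    by_cases hv : v = 0
    · subst hv
      rw [zero_mul, X0]; group
    · obtain ⟨h, hh, hX, -⟩ := hH (Units.mk0 v hv)
      have e1 := conjh h hh (X 1)
      rw [hX, Units.val_mk0, mul_one, hk, hX, Units.val_mk0] at e1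
      exact e1
  have s3 : k * k = 1 := by
    apply X_inj
    have e1 := s2 (1 * k)
    rw [← s2 1, one_mul] at e1
    have e2 : w * w * X 1 * (w * w)⁻¹ = X 1 := by rw [(hw 1).eq]; group
    calc X (k * k) = w * (w * X 1 * w⁻¹) * w⁻¹ := e1.symm
      _ = w * w * X 1 * (w * w)⁻¹ := by group
      _ = X 1 := e2
  have s4 : k = 1 := by
    have h1 : (k - 1) * (k - 1) = 0 := by
      linear_combination s3 - (k - 1) * (two0 : (2 : F) = 0)
    exact sub_eq_zero.1 (mul_self_eq_zero.1 h1)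
  have s5 := s2 v
  rw [s4, mul_one, mul_inv_eq_iff_eq_mul] at s5
  exact s5

section root

variable [Finite F] [CharP F 2]

theorem exists_sqrt (c : F) : ∃ d : F, d * d = c := by
  have hinj : Function.Injective (fun c : F => c * c) := by
    intro a b hab
    have hab' : a * a = b * b := hab
    have : (a - b) * (a - b) = 0 := by linear_combination hab' - (a * b - b * b) * (two0 : (2 : F) = 0)
    exact sub_eq_zero.mp (mul_self_eq_zero.mp this)
  exact (Finite.injective_iff_surjective.mp hinj) c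

theorem exists_usqrt (μ : Fˣ) : ∃ ν : Fˣ, ν * ν = μ := by
  obtain ⟨d, hd⟩ := exists_sqrt (μ : F)
  have hd0 : d ≠ 0 := by
    rintro rfl
    exact μ.ne_zero (by rw [← hd, mul_zero])
  exact ⟨Units.mk0 d hd0, Units.ext hd⟩

end root

namespace Frame

variable (R : Frame n F G)

theorem Wd_symm [CharP F 2] (i j : Ix n) : R.Wd i j = R.Wd j i := by
  have h1 : R.x i j = R.x j i := funext fun a => R.x_symm i j a
  have h2 : chix (F := F) i j = chix j i := MonoidHom.ext fun lam => by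
    rw [chix_apply, chix_apply, mul_comm]
  show Dbl R.t (R.x i j) R.h (chix i j) = Dbl R.t (R.x j i) R.h (chix j i)
  rw [h1, h2]

theorem x_mem_Wd (i j : Ix n) (a : F) : R.x i j a ∈ R.Wd i j := subset_closure (Or.inl ⟨a, rfl⟩)

variable [CharP F 2] [Finite F]

/-- elements of `T₁` -/
theorem Wd_T1 {i j : Ix n} (hN : R.Wd i j ≤ normalizer (R.T1 : Set G)) {w : G} (hw : w ∈ R.Wd i j) {x : G}
    (hx : x ∈ R.T1) : w * x * w⁻¹ ∈ R.T1 := (mem_normalizer_iff.1 (hN hw) x).1 hx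

/-- the base case of `[W_ij, Y_i] = 1` -/
theorem base_y1 (hF : ∃ μ : Fˣ, (μ : F) ≠ 1) {a b : Fin n} (ha : a.val = 0) (hb : b.val = 1)
    (L : Loc R.t (R.x (Sum.inl a) (Sum.inl b)) R.h (chix (Sum.inl a) (Sum.inl b)))
    (hN : R.Wd (Sum.inl a) (Sum.inl b) ≤ normalizer (R.T1 : Set G)) {w : G}
    (hw : w ∈ R.Wd (Sum.inl a) (Sum.inl b)) (v : F) : Commute w (R.y (Sum.inl a) v) := by
  obtain ⟨u, hu, c0, hc0⟩ := L.dbl_bs hw
  have hab : a ≠ b := fun e => by rw [e, hb] at ha; exact one_ne_zero ha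
  have hd : Dj (Sum.inl a : Ix n) (Sum.inl b) := TU.dj_inl hab
  have hpa : TU.pos (Sum.inl a : Ix n) = 0 := by rw [TU.pos_inl, ha]
  refine scal_one (X := R.y (Sum.inl a)) (R.y_add _) (fun _ _ => R.y_inj)
    (fun z => ∃ e f, (e = 1 ∨ e = R.t) ∧ z = e * R.x (Sum.inl a) (Sum.inl b) f) hF ?_ ?_ ?_ ?_ v
  · rintro z ⟨e, f, he, rfl⟩
    have h1 : Commute e (R.x (Sum.inl a) (Sum.inl b) f) := by
      rcases he with rfl | rfl
      · exact Commute.one_left _
      · exact (R.x_t _ _ _).symm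
    have h2 : ∀ v, Commute e (R.y (Sum.inl a) v) := by
      intro v
      rcases he with rfl | rfl
      · exact Commute.one_left _
      · exact (R.y_t _ _).symm
    have h3 : e * e = 1 := by
      rcases he with rfl | rfl
      · exact mul_one _
      · exact R.tt
    refine ⟨?_, fun v => (h2 v).mul_left (R.y_x_comm (ne_neg _) hd.symm.2 _ _).symm⟩
    calc e * R.x (Sum.inl a) (Sum.inl b) f * (e * R.x (Sum.inl a) (Sum.inl b) f)
        = (e * R.x (Sum.inl a) (Sum.inl b) f) * (R.x (Sum.inl a) (Sum.inl b) f * e) := by rw [h1.eq]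
      _ = e * (R.x (Sum.inl a) (Sum.inl b) f * R.x (Sum.inl a) (Sum.inl b) f) * e := by group
      _ = 1 := by rw [R.x_sq, mul_one, h3]
  · intro μ
    obtain ⟨ν, hν⟩ := exists_usqrt μ
    obtain ⟨lam, l1, l2, -⟩ := exists_lam2 hd ν ν⁻¹
    have l3 : chix (F := F) (Sum.inl a) (Sum.inl b) lam = 1 := by rw [chix_apply, l1, l2, mul_inv_cancel]
    refine ⟨R.h lam, (hu.1 lam l3).symm, fun v => ?_, ?_⟩
    · rw [R.h_y, l1, ← hν, Units.val_mul, pow_two]
    · rintro z ⟨e, f, he, rfl⟩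
      refine Commute.mul_right ?_ (R.h_comm l3 f)
      rcases he with rfl | rfl
      · exact Commute.one_right _
      · exact R.h_t _
  · intro v
    have hT : w * R.y (Sum.inl a) v * w⁻¹ ∈ R.T1 :=
      R.Wd_T1 hN hw (R.ι_mem_T1 (TU.sy_inl_mem a v))
    obtain ⟨A, hA, hA'⟩ := hT
    have hcen : ∀ u ∈ TU.Uu n F, Commute A u := by
      intro B hB
      refine R.comm_of (g := w * R.y (Sum.inl a) v * w⁻¹) hA' ?_
      have h1 : w⁻¹ * R.ι B * w ∈ R.T1 := by
        have := (mem_normalizer_iff.1 (inv_mem (hN hw)) (R.ι B)).1 (R.ι_mem_T1 hB)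
        rwa [inv_inv] at this
      have h2 := R.T1_y hpa _ h1 v
      show w * R.y (Sum.inl a) v * w⁻¹ * R.ι B = R.ι B * (w * R.y (Sum.inl a) v * w⁻¹)
      calc w * R.y (Sum.inl a) v * w⁻¹ * R.ι B = w * (R.y (Sum.inl a) v * (w⁻¹ * R.ι B * w)) * w⁻¹ := by group
        _ = w * ((w⁻¹ * R.ι B * w) * R.y (Sum.inl a) v) * w⁻¹ := by rw [h2]
        _ = _ := by group
    obtain ⟨x, y, rfl⟩ := TU.center_eq ha hb hA hcen
    rcases hA' with h | h
    · exact ⟨x, _, ⟨1, y, Or.inl rfl, rfl⟩, by rw [h, map_mul, one_mul]; rfl⟩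
    · refine ⟨x, _, ⟨R.t, y, Or.inr rfl, rfl⟩, ?_⟩
      rw [h, map_mul]
      show R.t * (R.y (Sum.inl a) x * R.x (Sum.inl a) (Sum.inl b) y) = _
      rw [← mul_assoc, ← mul_assoc, (R.y_t (Sum.inl a) x).eq]
  · intro v
    rw [hc0]
    exact (R.y_x_comm (ne_neg _) hd.symm.2 _ _).symm

/-- the base case of `[W_ij, Y_k] = 1` -/
theorem base_y3 (hF : ∃ μ : Fˣ, (μ : F) ≠ 1) {a b c : Fin n} (hab : a ≠ b) (hac : a ≠ c) (hbc : b ≠ c)
    (L : Loc R.t (R.x (Sum.inl a) (Sum.inl b)) R.h (chix (Sum.inl a) (Sum.inl b)))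
    (hN : R.Wd (Sum.inl a) (Sum.inl b) ≤ normalizer (R.T1 : Set G)) {w : G}
    (hw : w ∈ R.Wd (Sum.inl a) (Sum.inl b)) (v : F) : Commute w (R.y (Sum.inl c) v) := by
  obtain ⟨u, hu, c0, hc0⟩ := L.dbl_bs hw
  have hd : Dj (Sum.inl a : Ix n) (Sum.inl b) := TU.dj_inl hab
  have hdc : Dj (Sum.inl a : Ix n) (Sum.inl c) := TU.dj_inl hac
  have hdc' : Dj (Sum.inl b : Ix n) (Sum.inl c) := TU.dj_inl hbc
  refine scal_one (X := R.y (Sum.inl c)) (R.y_add _) (fun _ _ => R.y_inj)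
    (fun z => ∃ e f, (e = 1 ∨ e = R.t) ∧ z = e * R.x (Sum.inl a) (Sum.inl b) f) hF ?_ ?_ ?_ ?_ v
  · rintro z ⟨e, f, he, rfl⟩
    have h1 : Commute e (R.x (Sum.inl a) (Sum.inl b) f) := by
      rcases he with rfl | rfl
      · exact Commute.one_left _
      · exact (R.x_t _ _ _).symm
    have h2 : ∀ v, Commute e (R.y (Sum.inl c) v) := by
      intro v
      rcases he with rfl | rfl
      · exact Commute.one_left _
      · exact (R.y_t _ _).symm
    have h3 : e * e = 1 := by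
      rcases he with rfl | rfl
      · exact mul_one _
      · exact R.tt
    refine ⟨?_, fun v => (h2 v).mul_left (R.y_x_comm hdc.2 hdc'.2 _ _).symm⟩
    calc e * R.x (Sum.inl a) (Sum.inl b) f * (e * R.x (Sum.inl a) (Sum.inl b) f)
        = (e * R.x (Sum.inl a) (Sum.inl b) f) * (R.x (Sum.inl a) (Sum.inl b) f * e) := by rw [h1.eq]
      _ = e * (R.x (Sum.inl a) (Sum.inl b) f * R.x (Sum.inl a) (Sum.inl b) f) * e := by group
      _ = 1 := by rw [R.x_sq, mul_one, h3]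
  · intro μ
    obtain ⟨ν, hν⟩ := exists_usqrt μ
    obtain ⟨lam, l1, l2⟩ := exists_lam (Sum.inl c) ν
    have l3 : chix (F := F) (Sum.inl a) (Sum.inl b) lam = 1 := by
      rw [chix_apply, l2 _ hdc.symm, l2 _ hdc'.symm, one_mul]
    refine ⟨R.h lam, (hu.1 lam l3).symm, fun v => ?_, ?_⟩
    · rw [R.h_y, l1, ← hν, Units.val_mul, pow_two]
    · rintro z ⟨e, f, he, rfl⟩
      refine Commute.mul_right ?_ (R.h_comm l3 f)
      rcases he with rfl | rfl
      · exact Commute.one_right _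
      · exact R.h_t _
  · intro v
    have hT : w * R.y (Sum.inl c) v * w⁻¹ ∈ R.T1 :=
      R.Wd_T1 hN hw (R.ι_mem_T1 (TU.sy_inl_mem c v))
    obtain ⟨A, hA, hA'⟩ := hT
    have hcen : ∀ lam : Fin n → Fˣ, lam c = 1 → lam a * lam b = 1 → Commute A (sh lam) := by
      intro lam h1 h2
      refine R.comm_of (g := w * R.y (Sum.inl c) v * w⁻¹) hA' ?_
      have e1 : Commute w (R.h lam) := hu.1 lam h2
      have e2 : Commute (R.y (Sum.inl c) v) (R.h lam) := by
        have h := R.h_y lam (Sum.inl c) v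
        have h3 : ev lam (Sum.inl c : Ix n) = 1 := h1
        rw [h3, Units.val_one, one_pow, one_mul, mul_inv_eq_iff_eq_mul] at h
        exact h.symm
      exact (e1.mul_left e2).mul_left e1.inv_left
    obtain ⟨μ, hμ⟩ := hF
    obtain ⟨x, y, rfl⟩ := TU.torus_yx (z := μ) (fun h => hμ (by rw [h, Units.val_one])) hac.symm hbc.symm hab hA hcen
    rcases hA' with h | h
    · exact ⟨x, _, ⟨1, y, Or.inl rfl, rfl⟩, by rw [h, map_mul, one_mul]; rfl⟩
    · refine ⟨x, _, ⟨R.t, y, Or.inr rfl, rfl⟩, ?_⟩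
      rw [h, map_mul]
      show R.t * (R.y (Sum.inl c) x * R.x (Sum.inl a) (Sum.inl b) y) = _
      rw [← mul_assoc, ← mul_assoc, (R.y_t (Sum.inl c) x).eq]
  · intro v
    rw [hc0]
    exact (R.y_x_comm hdc.2 hdc'.2 _ _).symm

omit [Finite F] in
/-- pulling back along a Weyl element -/
theorem comm_of_w (s : SpN.W n) {g x : G} (h : Commute (R.w s * g * (R.w s)⁻¹) (R.w s * x * (R.w s)⁻¹)) :
    Commute g x := by
  have h1 := h.eq
  show g * x = x * g
  have e1 : R.w s * g * (R.w s)⁻¹ * (R.w s * x * (R.w s)⁻¹) = R.w s * (g * x) * (R.w s)⁻¹ := by group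
  have e2 : R.w s * x * (R.w s)⁻¹ * (R.w s * g * (R.w s)⁻¹) = R.w s * (x * g) * (R.w s)⁻¹ := by group
  rw [e1, e2] at h1
  exact mul_left_cancel (mul_right_cancel h1)

/-- the hypotheses on the doubles -/
structure WOk (R : Frame n F G) : Prop where
  n3 : 3 ≤ n
  hF : ∃ μ : Fˣ, (μ : F) ≠ 1
  loc : ∀ i j, Dj i j → Loc R.t (R.x i j) R.h (chix i j)
  norm : ∀ a b : Fin n, a.val = 0 → b.val = 1 → R.Wd (Sum.inl a) (Sum.inl b) ≤ normalizer (R.T1 : Set G)

namespace WOk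

variable {R}
variable (O : WOk R)
include O

/-- the height of an element -/
theorem ht {i j : Ix n} (hij : Dj i j) {g : G} (hg : g ∈ R.Wd i j) : ∃ u, R.t * g * R.t = g * R.x i j u := by
  obtain ⟨u, hu, -⟩ := (O.loc i j hij).dbl_bs hg
  exact ⟨u, (O.loc i j hij).tgt hu⟩

theorem cy {i j : Ix n} (hij : Dj i j) {g : G} (hg : g ∈ R.Wd i j) {k : Ix n} (h1 : k ≠ neg i) (h2 : k ≠ neg j)
    (v : F) : Commute g (R.y k v) := by
  have hn := O.n3
  let a : Fin n := ⟨0, by omega⟩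
  let b : Fin n := ⟨1, by omega⟩
  let c : Fin n := ⟨2, by omega⟩
  have hab : a ≠ b := fun e => by simpa [a, b] using congrArg Fin.val e
  have hac : a ≠ c := fun e => by simpa [a, c] using congrArg Fin.val e
  have hbc : b ≠ c := fun e => by simpa [b, c] using congrArg Fin.val e
  have hN := O.norm a b rfl rfl
  have L := O.loc _ _ (TU.dj_inl hab)
  have key1 : ∀ i j, Dj i j → ∀ g ∈ R.Wd i j, Commute g (R.y i v) := by
    intro i j hij g hg
    obtain ⟨s, hs1, hs2⟩ := exists_W2 hij (TU.dj_inl hab)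
    refine R.comm_of_w s ?_
    have h3 := R.Wd_w s hg
    rw [hs1, hs2] at h3
    rw [R.w_y, hs1]
    exact R.base_y1 O.hF rfl rfl L hN h3 v
  by_cases e1 : k = i
  · rw [e1]; exact key1 i j hij g hg
  by_cases e2 : k = j
  · rw [e2]; exact key1 j i hij.symm g (by rw [R.Wd_symm]; exact hg)
  have hik : Dj i k := ⟨fun e => e1 e.symm, fun e => h1 (by rw [e, neg_neg])⟩
  have hjk : Dj j k := ⟨fun e => e2 e.symm, fun e => h2 (by rw [e, neg_neg])⟩
  obtain ⟨s, hs1, hs2, hs3⟩ := exists_W3 hij hik hjk (TU.dj_inl hab) (TU.dj_inl hac) (TU.dj_inl hbc)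
  refine R.comm_of_w s ?_
  have h3 := R.Wd_w s hg
  rw [hs1, hs2] at h3
  rw [R.w_y, hs3]
  exact R.base_y3 O.hF hab hac hbc L hN h3 v

/-- conjugates of elements of `C(t) ∩ C(X_ij)` are in `C(t)` -/
theorem conj_t {i j : Ix n} (hij : Dj i j) {g : G} (hg : g ∈ R.Wd i j) {x : G} (hx : Commute x R.t)
    (hx' : ∀ u, Commute x (R.x i j u)) : Commute (g * x * g⁻¹) R.t := by
  obtain ⟨u, hu⟩ := O.ht hij hg
  apply R.comm_of_t
  rw [R.t_mul, R.t_mul, R.t_inv', hu, R.t_of_comm hx]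
  calc g * R.x i j u * x * (g * R.x i j u)⁻¹ = g * (R.x i j u * x) * (R.x i j u)⁻¹ * g⁻¹ := by group
    _ = g * (x * R.x i j u) * (R.x i j u)⁻¹ * g⁻¹ := by rw [(hx' u).eq]
    _ = _ := by group

theorem ch {i j : Ix n} (hij : Dj i j) {g : G} (hg : g ∈ R.Wd i j) {lam : Fin n → Fˣ}
    (hl : ev lam i * ev lam j = 1) : Commute g (R.h lam) := by
  obtain ⟨u, hu, -⟩ := (O.loc i j hij).dbl_bs hg
  exact hu.1 lam hl

theorem cxx {i j : Ix n} (hij : Dj i j) {g : G} (hg : g ∈ R.Wd i j) (v : F) : Commute g (R.x i j v) := by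
  obtain ⟨u, hu, -⟩ := (O.loc i j hij).dbl_bs hg
  exact hu.2.1 v

theorem ww {i j : Ix n} (hij : Dj i j) {g : G} (hg : g ∈ R.Wd i j) : ∃ v, g * g = R.x i j v := by
  obtain ⟨u, hu, h⟩ := (O.loc i j hij).dbl_bs hg
  exact h

/-- the properties of `⟨t⟩ X_ij` -/
theorem hPz {i j : Ix n} {X : F → G} (hXt : ∀ v, Commute (X v) R.t) (hX : ∀ f v, Commute (R.x i j f) (X v)) :
    ∀ z, (∃ e f, (e = 1 ∨ e = R.t) ∧ z = e * R.x i j f) → z * z = 1 ∧ ∀ v, Commute z (X v) := by
  rintro z ⟨e, f, he, rfl⟩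
  have h1 : Commute e (R.x i j f) := by
    rcases he with rfl | rfl
    · exact Commute.one_left _
    · exact (R.x_t _ _ _).symm
  have h2 : ∀ v, Commute e (X v) := by
    intro v
    rcases he with rfl | rfl
    · exact Commute.one_left _
    · exact (hXt v).symm
  have h3 : e * e = 1 := by
    rcases he with rfl | rfl
    · exact mul_one _
    · exact R.tt
  refine ⟨?_, fun v => (h2 v).mul_left (hX f v)⟩
  calc e * R.x i j f * (e * R.x i j f)
      = (e * R.x i j f) * (R.x i j f * e) := by rw [h1.eq]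
    _ = e * (R.x i j f * R.x i j f) * e := by group
    _ = 1 := by rw [R.x_sq, mul_one, h3]

theorem hHz {i j : Ix n} {lam : Fin n → Fˣ} (hl : ev lam i * ev lam j = 1) :
    ∀ z, (∃ e f, (e = 1 ∨ e = R.t) ∧ z = e * R.x i j f) → Commute (R.h lam) z := by
  rintro z ⟨e, f, he, rfl⟩
  refine Commute.mul_right ?_ (R.h_comm hl f)
  rcases he with rfl | rfl
  · exact Commute.one_right _
  · exact R.h_t _

/-- `X_ik` -/
theorem cx3 {i j k : Ix n} (hij : Dj i j) (hik : Dj i k) (hjk : Dj j k) {g : G} (hg : g ∈ R.Wd i j) (v : F) :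
    Commute g (R.x i k v) := by
  obtain ⟨ν, hν⟩ := exists_nu O.hF
  have ν1 : (ν : F) ≠ 1 := fun h => hν (by rw [Units.val_mul, h, mul_one])
  have ν2 : (ν : F) ^ 2 ≠ 1 := fun h => hν (by rw [Units.val_mul, ← pow_two, h])
  have ν3 : ((ν⁻¹ : Fˣ) : F) ^ 2 ≠ 1 := by
    intro h
    apply ν2
    have h1 : (ν⁻¹ : Fˣ) ^ 2 = 1 := Units.ext (by rw [Units.val_pow_eq_pow_val, h, Units.val_one])
    rw [inv_pow, inv_eq_one] at h1
    rw [← Units.val_pow_eq_pow_val, h1, Units.val_one]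
  have zero_of : ∀ {x y : F}, x ≠ 1 → x * y = y → y = 0 := by
    intro x y hx h
    have : (x - 1) * y = 0 := by linear_combination h
    rcases mul_eq_zero.1 this with h1 | h1
    · exact absurd (sub_eq_zero.1 h1) hx
    · exact h1
  have xx : ∀ f v, Commute (R.x i j f) (R.x i k v) := fun f v =>
    R.x_comm (ne_neg i) hij.2 hik.symm.2 hjk.symm.2 _ _
  refine scal_one (X := R.x i k) (R.x_add _ _) (fun _ _ => R.x_inj hik)
    (fun z => ∃ e f, (e = 1 ∨ e = R.t) ∧ z = e * R.x i j f) O.hF (O.hPz (fun v => R.x_t _ _ _) xx) ?_ ?_ ?_ v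
  · intro μ
    obtain ⟨lam, l1, l2⟩ := exists_lam k μ
    have l3 : ev lam i * ev lam j = 1 := by rw [l2 _ hik.symm, l2 _ hjk.symm, one_mul]
    refine ⟨R.h lam, (O.ch hij hg l3).symm, fun v => ?_, O.hHz l3⟩
    rw [R.h_x, l1, l2 _ hik.symm, Units.val_one, one_mul]
  · intro v
    have c1 : Commute (g * R.x i k v * g⁻¹) R.t := O.conj_t hij hg (R.x_t _ _ _) (fun u => (xx u v).symm)
    obtain ⟨a, b, d, e, f, g', h1, h2⟩ := R.FU3 O.n3 hij hik hjk c1 (fun l l1 l2 l3 b =>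
      ((O.cy hij hg l1 l2 b).mul_left (R.y_x_comm (i := l) (j := i) (k := k)
        (fun e => l1 (by rw [e, neg_neg])) (fun e => l3 (by rw [e, neg_neg])) b v).symm).mul_left
        (O.cy hij hg l1 l2 b).inv_left)
    obtain ⟨lam, l1, l2, l3, -⟩ := exists_lam3 hij hik hjk ν ν⁻¹ ν⁻¹
    have ch1 : Commute g (R.h lam) := O.ch hij hg (by rw [l1, l2, mul_inv_cancel])
    have ch2 : Commute (R.x i k v) (R.h lam) := (R.h_comm (by rw [l1, l3, mul_inv_cancel]) v).symm
    obtain ⟨e1, e2, e3, -, -, e6⟩ := h2 lam ((ch1.mul_left ch2).mul_left ch1.inv_left)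
    rw [l1] at e1
    rw [l2] at e2
    rw [l3] at e3
    rw [l2, l3, ← pow_two] at e6
    rw [zero_of ν2 e1, zero_of ν3 e2, zero_of ν3 e3, zero_of ν3 e6] at h1
    simp only [R.y_zero, R.x_zero, one_mul, mul_one] at h1
    rcases h1 with h | h
    · exact ⟨f, _, ⟨1, e, Or.inl rfl, rfl⟩, by rw [h, one_mul, (xx e f).eq]⟩
    · refine ⟨f, _, ⟨R.t, e, Or.inr rfl, rfl⟩, ?_⟩
      rw [h, (xx e f).eq, ← mul_assoc, ← mul_assoc, (R.x_t i k f).eq]
  · intro v
    obtain ⟨v0, h0⟩ := O.ww hij hg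
    rw [h0]
    exact xx _ _

/-- `X_kl` -/
theorem cx4 {i j k l : Ix n} (hij : Dj i j) (hik : Dj i k) (hil : Dj i l) (hjk : Dj j k) (hjl : Dj j l)
    (hkl : Dj k l) {g : G} (hg : g ∈ R.Wd i j) (v : F) : Commute g (R.x k l v) := by
  obtain ⟨ν, hν⟩ := exists_nu O.hF
  have ν1 : (ν : F) ≠ 1 := fun h => hν (by rw [Units.val_mul, h, mul_one])
  have ν2 : (ν : F) ^ 2 ≠ 1 := fun h => hν (by rw [Units.val_mul, ← pow_two, h])
  have ν3 : ((ν⁻¹ : Fˣ) : F) ^ 2 ≠ 1 := by
    intro h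
    apply ν2
    have h1 : (ν⁻¹ : Fˣ) ^ 2 = 1 := Units.ext (by rw [Units.val_pow_eq_pow_val, h, Units.val_one])
    rw [inv_pow, inv_eq_one] at h1
    rw [← Units.val_pow_eq_pow_val, h1, Units.val_one]
  have ν4 : ((ν⁻¹ : Fˣ) : F) ≠ 1 := fun h => ν3 (by rw [h, one_pow])
  have xx : ∀ f v, Commute (R.x i j f) (R.x k l v) := fun f v =>
    R.x_comm hik.symm.2 hjk.symm.2 hil.symm.2 hjl.symm.2 _ _
  refine scal_one (X := R.x k l) (R.x_add _ _) (fun _ _ => R.x_inj hkl)
    (fun z => ∃ e f, (e = 1 ∨ e = R.t) ∧ z = e * R.x i j f) O.hF (O.hPz (fun v => R.x_t _ _ _) xx) ?_ ?_ ?_ v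
  · intro μ
    obtain ⟨lam, l1, l2⟩ := exists_lam k μ
    have l3 : ev lam i * ev lam j = 1 := by rw [l2 _ hik.symm, l2 _ hjk.symm, one_mul]
    refine ⟨R.h lam, (O.ch hij hg l3).symm, fun v => ?_, O.hHz l3⟩
    rw [R.h_x, l1, l2 _ hkl, Units.val_one, mul_one]
  · intro v
    have c1 : Commute (g * R.x k l v * g⁻¹) R.t := O.conj_t hij hg (R.x_t _ _ _) (fun u => (xx u v).symm)
    have hU : Isot ({i, j, k, l} : Finset (Ix n)) := isot_insert (isot_triple hjk hjl hkl) fun m hm => by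
      simp only [Finset.mem_insert, Finset.mem_singleton] at hm
      rcases hm with rfl | rfl | rfl
      · exact hij
      · exact hik
      · exact hil
    have mi : i ∈ ({i, j, k, l} : Finset (Ix n)) := by simp
    have mj : j ∈ ({i, j, k, l} : Finset (Ix n)) := by simp
    have mk : k ∈ ({i, j, k, l} : Finset (Ix n)) := by simp
    have ml : l ∈ ({i, j, k, l} : Finset (Ix n)) := by simp
    obtain ⟨M, hM, h1⟩ := R.FU O.n3 hU c1 fun m hm b => by
      have m1 : m ≠ neg i := fun e => hm (by rw [e, neg_neg]; exact mi)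
      have m2 : m ≠ neg j := fun e => hm (by rw [e, neg_neg]; exact mj)
      have m3 : k ≠ neg m := fun e => hm (by rw [← e]; exact mk)
      have m4 : l ≠ neg m := fun e => hm (by rw [← e]; exact ml)
      exact ((O.cy hij hg m1 m2 b).mul_left (R.y_x_comm m3 m4 b v).symm).mul_left (O.cy hij hg m1 m2 b).inv_left
    obtain ⟨la, a1, a2, a3⟩ := exists_lam2 hij ν ν⁻¹
    obtain ⟨lb, b1, b2, b3⟩ := exists_lam2 hkl ν ν⁻¹
    have ch : ∀ lam, ev lam i * ev lam j = 1 → ev lam k * ev lam l = 1 →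
        Commute (g * R.x k l v * g⁻¹) (R.h lam) := by
      intro lam l1 l2
      exact ((O.ch hij hg l1).mul_left (R.h_comm l2 v).symm).mul_left (O.ch hij hg l1).inv_left
    have ha := ch la (by rw [a1, a2, mul_inv_cancel]) (by rw [a3 k hik hjk, a3 l hil hjl, one_mul])
    have hb := ch lb (by rw [b3 i hik.symm hil.symm, b3 j hjk.symm hjl.symm, one_mul])
      (by rw [b1, b2, mul_inv_cancel])
    have Mii : M i i = 0 := R.a_torus hU hM h1 ha mi mi (by rw [a1, ← pow_two]; exact ν2)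
    have Mjj : M j j = 0 := R.a_torus hU hM h1 ha mj mj (by rw [a2, ← pow_two]; exact ν3)
    have Mkk : M k k = 0 := R.a_torus hU hM h1 hb mk mk (by rw [b1, ← pow_two]; exact ν2)
    have Mll : M l l = 0 := R.a_torus hU hM h1 hb ml ml (by rw [b2, ← pow_two]; exact ν3)
    have Mik : M i k = 0 := R.a_torus hU hM h1 ha mi mk (by
      rw [a1, a3 k hik hjk, Units.val_one, mul_one]; exact ν1)
    have Mil : M i l = 0 := R.a_torus hU hM h1 ha mi ml (by
      rw [a1, a3 l hil hjl, Units.val_one, mul_one]; exact ν1)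
    have Mjk : M j k = 0 := R.a_torus hU hM h1 ha mj mk (by
      rw [a2, a3 k hik hjk, Units.val_one, mul_one]; exact ν4)
    have Mjl : M j l = 0 := R.a_torus hU hM h1 ha mj ml (by
      rw [a2, a3 l hil hjl, Units.val_one, mul_one]; exact ν4)
    rw [R.a_four hij hik hil hjk hjl hkl hM, R.a_three hjk hjl hkl hM, R.a_two hkl hM, Mii, Mjj, Mkk, Mll, Mik, Mil,
      Mjk, Mjl] at h1
    simp only [R.y_zero, R.x_zero, one_mul, mul_one] at h1
    rcases h1 with h | h
    · exact ⟨M k l, _, ⟨1, M i j, Or.inl rfl, rfl⟩, by rw [h, one_mul]⟩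
    · refine ⟨M k l, _, ⟨R.t, M i j, Or.inr rfl, rfl⟩, ?_⟩
      rw [h, ← mul_assoc, ← mul_assoc, (R.x_t k l (M k l)).eq]
  · intro v
    obtain ⟨v0, h0⟩ := O.ww hij hg
    rw [h0]
    exact xx _ _

theorem cx {i j : Ix n} (hij : Dj i j) {g : G} (hg : g ∈ R.Wd i j) {k l : Ix n} (h1 : k ≠ neg i) (h2 : k ≠ neg j)
    (h3 : l ≠ neg i) (h4 : l ≠ neg j) (v : F) : Commute g (R.x k l v) := by
  by_cases hkl : Dj k l
  swap
  · rw [R.x_of_not hkl]; exact Commute.one_right _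
  have main : ∀ i j, Dj i j → ∀ g ∈ R.Wd i j, ∀ l, l ≠ neg i → l ≠ neg j → Dj i l → Commute g (R.x i l v) := by
    intro i j hij g hg l l1 l2 hil
    by_cases e1 : l = j
    · rw [e1]; exact O.cxx hij hg v
    · exact O.cx3 hij hil ⟨fun e => e1 e.symm, fun e => l2 (by rw [e, neg_neg])⟩ hg v
  have hg' : g ∈ R.Wd j i := by rw [R.Wd_symm]; exact hg
  by_cases ki : k = i
  · subst ki; exact main k j hij g hg l h3 h4 hkl
  by_cases kj : k = j
  · subst kj; exact main k i hij.symm g hg' l h4 h3 hkl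
  by_cases li : l = i
  · subst li; rw [R.x_symm]; exact main l j hij g hg k h1 h2 hkl.symm
  by_cases lj : l = j
  · subst lj; rw [R.x_symm]; exact main l i hij.symm g hg' k h2 h1 hkl.symm
  exact O.cx4 hij ⟨fun e => ki e.symm, fun e => h1 (by rw [e, neg_neg])⟩
    ⟨fun e => li e.symm, fun e => h3 (by rw [e, neg_neg])⟩ ⟨fun e => kj e.symm, fun e => h2 (by rw [e, neg_neg])⟩
    ⟨fun e => lj e.symm, fun e => h4 (by rw [e, neg_neg])⟩ hkl hg v

/-- independence -/
theorem ind2 {i j : Ix n} (hij : Dj i j) {a b a' b' : F}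
    (h : R.x i (neg j) a * R.y i b = R.x i (neg j) a' * R.y i b') : a = a' ∧ b = b' := by
  have hd : Dj i (neg j) := dj_neg_right.2 hij
  have c1 : ∀ a b, Commute (R.x i (neg j) a) (R.y i b) := fun a b => (R.y_x_comm (ne_neg i) hd.symm.2 _ _).symm
  have h2 : R.y i (b + b') * R.y (neg j) 0 * R.x i (neg j) (a + a') = 1 := by
    rw [R.y_zero, mul_one, add_comm b b', R.y_add, R.x_add]
    calc R.y i b' * R.y i b * (R.x i (neg j) a * R.x i (neg j) a')
        = R.y i b' * (R.y i b * R.x i (neg j) a) * R.x i (neg j) a' := by group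
      _ = R.y i b' * (R.x i (neg j) a * R.y i b) * R.x i (neg j) a' := by rw [(c1 a b).eq]
      _ = R.y i b' * (R.x i (neg j) a' * R.y i b') * R.x i (neg j) a' := by rw [h]
      _ = (R.y i b' * R.x i (neg j) a') * (R.y i b' * R.x i (neg j) a') := by group
      _ = (R.x i (neg j) a' * R.y i b') * (R.y i b' * R.x i (neg j) a') := by rw [(c1 a' b').eq]
      _ = R.x i (neg j) a' * (R.y i b' * R.y i b') * R.x i (neg j) a' := by group
      _ = 1 := by rw [R.y_sq, mul_one, R.x_sq]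
  obtain ⟨e1, -, e3⟩ := R.rels.ind i (neg j) _ _ _ hd h2
  have z : ∀ {a b : F}, a + b = 0 → a = b := fun {a b} h => by
    have := CharTwo.add_self_eq_zero b
    exact add_right_cancel (h.trans this.symm)
  exact ⟨z e3, z e1⟩

/-- the partner, first form -/
theorem par0 {i j : Ix n} (hij : Dj i j) {g : G} (hg : g ∈ R.Wd i j) (v : F) :
    ∃ a s, g * R.x i (neg j) v * g⁻¹ = R.x i (neg j) a * R.y i s := by
  have hd : Dj i (neg j) := dj_neg_right.2 hij
  have n1 : i ≠ neg j := hij.2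
  have n1' : j ≠ neg i := hij.symm.2
  have m4 : neg j ≠ neg i := fun e => hij.1 (neg_inj.1 e).symm
  obtain ⟨ν, hν⟩ := exists_nu O.hF
  have xx' : ∀ a b, Commute (R.x i j a) (R.x i (neg j) b) := fun a b => by
    have h := R.x_comm' (i := j) (j := i) a b
    rw [R.x_symm j i, R.x_symm (neg j) i] at h
    exact h
  have x'y : ∀ a b, Commute (R.x i (neg j) a) (R.y i b) := fun a b => (R.y_x_comm (ne_neg i) m4 _ _).symm
  have xy : ∀ a b, Commute (R.x i j a) (R.y i b) := fun a b => (R.y_x_comm (ne_neg i) n1' _ _).symm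
  have xyj : ∀ a b, Commute (R.x i j a) (R.y j b) := fun a b => (R.y_x_comm n1 (ne_neg j) _ _).symm
  have yy : ∀ a b, Commute (R.y i a) (R.y j b) := fun a b => R.y_comm n1' _ _
  -- `F5`
  have dec : ∀ v, ∃ e a b d s, (e = 1 ∨ e = R.t) ∧
      g * R.x i (neg j) v * g⁻¹ = e * (R.x i (neg j) a * R.y j b * R.x i j d * R.y i s) := by
    intro v
    have c1 : Commute (g * R.x i (neg j) v * g⁻¹) R.t :=
      O.conj_t hij hg (R.x_t _ _ _) (fun u => (xx' u v).symm)
    have cg : ∀ {z : G}, Commute g z → Commute (R.x i (neg j) v) z → Commute (g * R.x i (neg j) v * g⁻¹) z :=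
      fun h1 h2 => (h1.mul_left h2).mul_left h1.inv_left
    obtain ⟨a, b, d, e, h⟩ := R.F5 O.n3 hij c1 (fun b => cg (O.cy hij hg (ne_neg i) n1 b) (x'y v b))
      (cg (O.cxx hij hg 1) (xx' 1 v).symm)
      (fun l h1 h2 => cg (O.cy hij hg h1.symm.2 h2.symm.2 1)
        (R.y_x_comm h1.2 (fun e => h2.1 (neg_inj.1 e)) _ _).symm)
    rcases h with h | h
    · exact ⟨1, a, b, d, e, Or.inl rfl, by rw [h, one_mul]⟩
    · exact ⟨R.t, a, b, d, e, Or.inr rfl, h⟩
  -- doubling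
  have hν1 : (1 : F) + ν * ν ≠ 0 := by
    intro h
    apply hν
    have : (ν : F) * ν = -1 := by linear_combination h
    rw [Units.val_mul, this, CharTwo.neg_eq]
  set v0 := (1 + (ν : F) * ν)⁻¹ * v with hv0
  have hv : v = v0 + ν * ν * v0 := by
    calc v = (1 + (ν : F) * ν) * ((1 + (ν : F) * ν)⁻¹ * v) := (mul_inv_cancel_left₀ hν1 v).symm
      _ = v0 + ν * ν * v0 := by rw [← hv0]; ring
  obtain ⟨e, a, b, d, s, he, h0⟩ := dec v0
  have ee : e * e = 1 := by
    rcases he with rfl | rfl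
    · exact mul_one _
    · exact R.tt
  have ez : ∀ {z : G}, Commute z R.t → Commute z e := by
    intro z hz
    rcases he with rfl | rfl
    · exact Commute.one_right _
    · exact hz
  -- `a b = 0`
  have hab : a * b = 0 := by
    have h1 : (g * R.x i (neg j) v0 * g⁻¹) * (g * R.x i (neg j) v0 * g⁻¹) = 1 := by
      calc (g * R.x i (neg j) v0 * g⁻¹) * (g * R.x i (neg j) v0 * g⁻¹)
          = g * (R.x i (neg j) v0 * R.x i (neg j) v0) * g⁻¹ := by group
        _ = 1 := by rw [R.x_sq]; group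
    set P := R.x i (neg j) a * R.y j b with hP
    set Q := R.x i j d * R.y i s with hQ
    have hPQ : R.x i (neg j) a * R.y j b * R.x i j d * R.y i s = P * Q := by rw [hP, hQ]; group
    have cPQ : Commute P Q :=
      (((xx' d a).symm.mul_right (x'y a s))).mul_left ((xyj d b).symm.mul_right (yy s b).symm)
    have QQ : Q * Q = 1 := by
      calc Q * Q = R.x i j d * (R.y i s * R.x i j d) * R.y i s := by rw [hQ]; group
        _ = R.x i j d * (R.x i j d * R.y i s) * R.y i s := by rw [(xy d s).eq]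
        _ = (R.x i j d * R.x i j d) * (R.y i s * R.y i s) := by group
        _ = 1 := by rw [R.x_sq, R.y_sq, one_mul]
    have ceP : Commute (P * Q) e := ez ((((R.x_t i (neg j) a).mul_left (R.y_t j b))).mul_left
      ((R.x_t i j d).mul_left (R.y_t i s)))
    rw [h0, hPQ] at h1
    have h2 : P * P = 1 := by
      calc P * P = P * P * (Q * Q) := by rw [QQ, mul_one]
        _ = P * (P * Q) * Q := by group
        _ = P * (Q * P) * Q := by rw [cPQ.eq]
        _ = (P * Q) * (P * Q) * (e * e) := by rw [ee]; group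
        _ = (P * Q) * ((P * Q) * e) * e := by group
        _ = (P * Q) * (e * (P * Q)) * e := by rw [ceP.eq]
        _ = ((P * Q) * e) * ((P * Q) * e) := by group
        _ = (e * (P * Q)) * (e * (P * Q)) := by rw [ceP.eq]
        _ = 1 := h1
    have h3 : P * P = R.x i j (a * b) * R.y i (a ^ 2 * b) := by
      calc P * P = R.x i (neg j) a * (R.y j b * R.x i (neg j) a * R.y j b) := by rw [hP]; group
        _ = (R.x i (neg j) a * R.x i (neg j) a) * (R.x i j (a * b) * R.y i (a ^ 2 * b)) := by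
            rw [R.y_conj_x hij a b]; group
        _ = _ := by rw [R.x_sq, one_mul]
    rw [h2] at h3
    have h4 : R.y i (a ^ 2 * b) * R.y j 0 * R.x i j (a * b) = 1 := by
      rw [R.y_zero, mul_one, ← (xy _ _).eq]; exact h3.symm
    exact (R.rels.ind i j _ _ _ hij h4).2.2
  -- the torus
  obtain ⟨lam, l1, l2, -⟩ := exists_lam2 hij ν ν⁻¹
  have hgH : Commute g (R.h lam) := O.ch hij hg (by rw [l1, l2, mul_inv_cancel])
  have hx' : ∀ a, R.h lam * R.x i (neg j) a * (R.h lam)⁻¹ = R.x i (neg j) (ν * ν * a) := by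
    intro a; rw [R.h_x, ev_neg, l1, l2, inv_inv]
  have hxx : ∀ a, R.h lam * R.x i j a * (R.h lam)⁻¹ = R.x i j a := by
    intro a; rw [R.h_x, l1, l2, ← Units.val_mul, mul_inv_cancel, Units.val_one, one_mul]
  have hyi : ∀ a, R.h lam * R.y i a * (R.h lam)⁻¹ = R.y i (ν * ν * a) := by
    intro a; rw [R.h_y, l1, pow_two]
  have hyj : ∀ a, R.h lam * R.y j a * (R.h lam)⁻¹ = R.y j ((ν⁻¹ : Fˣ) * (ν⁻¹ : Fˣ) * a) := by
    intro a; rw [R.h_y, l2, pow_two]
  have heh : R.h lam * e * (R.h lam)⁻¹ = e := by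
    rw [(ez (R.h_t lam)).eq, mul_inv_cancel_right]
  have hg2 : g * R.x i (neg j) v * g⁻¹ = (g * R.x i (neg j) v0 * g⁻¹) *
      (R.h lam * (g * R.x i (neg j) v0 * g⁻¹) * (R.h lam)⁻¹) := by
    have e1 : g * R.x i (neg j) (ν * ν * v0) * g⁻¹ = R.h lam * (g * R.x i (neg j) v0 * g⁻¹) * (R.h lam)⁻¹ := by
      rw [← hx']
      calc g * (R.h lam * R.x i (neg j) v0 * (R.h lam)⁻¹) * g⁻¹
          = (g * R.h lam) * R.x i (neg j) v0 * ((R.h lam)⁻¹ * g⁻¹) := by group
        _ = (R.h lam * g) * R.x i (neg j) v0 * (g⁻¹ * (R.h lam)⁻¹) := by rw [hgH.eq, hgH.inv_inv.eq]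
        _ = _ := by group
    rw [← e1]
    calc g * R.x i (neg j) v * g⁻¹ = g * (R.x i (neg j) v0 * R.x i (neg j) (ν * ν * v0)) * g⁻¹ := by
          rw [← R.x_add, ← hv]
      _ = _ := by group
  have hconj : R.h lam * (g * R.x i (neg j) v0 * g⁻¹) * (R.h lam)⁻¹ =
      e * (R.x i (neg j) (ν * ν * a) * R.y j ((ν⁻¹ : Fˣ) * (ν⁻¹ : Fˣ) * b) * R.x i j d * R.y i (ν * ν * s)) := by
    rw [h0]
    calc R.h lam * (e * (R.x i (neg j) a * R.y j b * R.x i j d * R.y i s)) * (R.h lam)⁻¹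
        = (R.h lam * e * (R.h lam)⁻¹) * ((R.h lam * R.x i (neg j) a * (R.h lam)⁻¹) *
            (R.h lam * R.y j b * (R.h lam)⁻¹) * (R.h lam * R.x i j d * (R.h lam)⁻¹) *
            (R.h lam * R.y i s * (R.h lam)⁻¹)) := by group
      _ = _ := by rw [heh, hx', hyj, hxx, hyi]
  rcases mul_eq_zero.1 hab with ha | hb
  · -- `a = 0`
    rw [ha, R.x_zero, one_mul] at h0
    rw [ha, mul_zero, R.x_zero, one_mul] at hconj
    set b' := ((ν⁻¹ : Fˣ) : F) * (ν⁻¹ : Fˣ) * b with hb'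
    have h5 : g * R.x i (neg j) v * g⁻¹ = R.y j (b + b') * R.y i (s + ν * ν * s) := by
      rw [hg2, hconj, h0]
      have c1 : Commute (R.y j b * R.x i j d * R.y i s) e :=
        ez (((R.y_t j b).mul_left (R.x_t i j d)).mul_left (R.y_t i s))
      have c2 : Commute (R.y i s) (R.y j b' * R.x i j d) := (yy _ _).mul_right (xy _ _).symm
      have c3 : Commute (R.x i j d) (R.y j b') := xyj _ _
      calc e * (R.y j b * R.x i j d * R.y i s) * (e * (R.y j b' * R.x i j d * R.y i (ν * ν * s)))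
          = e * ((R.y j b * R.x i j d * R.y i s) * e) * (R.y j b' * R.x i j d * R.y i (ν * ν * s)) := by group
        _ = (e * e) * (R.y j b * R.x i j d * R.y i s) * (R.y j b' * R.x i j d * R.y i (ν * ν * s)) := by
            rw [c1.eq]; group
        _ = R.y j b * R.x i j d * (R.y i s * (R.y j b' * R.x i j d)) * R.y i (ν * ν * s) := by rw [ee]; group
        _ = R.y j b * (R.x i j d * R.y j b') * R.x i j d * (R.y i s * R.y i (ν * ν * s)) := by
            rw [c2.eq]; group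
        _ = (R.y j b * R.y j b') * (R.x i j d * R.x i j d) * (R.y i s * R.y i (ν * ν * s)) := by
            rw [c3.eq]; group
        _ = _ := by rw [R.x_sq, mul_one, ← R.y_add, ← R.y_add]
    -- `g` commutes with the right side
    have h6 : g * R.x i (neg j) v * g⁻¹ = R.x i (neg j) v := by
      obtain ⟨c, hc⟩ := O.ww hij hg
      have c1 : Commute g (R.y j (b + b') * R.y i (s + ν * ν * s)) :=
        (O.cy hij hg n1' (ne_neg j) _).mul_right (O.cy hij hg (ne_neg i) n1 _)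
      rw [← h5] at c1
      have c2 : Commute (R.x i j c) (R.x i (neg j) v) := xx' _ _
      calc g * R.x i (neg j) v * g⁻¹ = g⁻¹ * (g * (g * R.x i (neg j) v * g⁻¹)) := by group
        _ = g⁻¹ * ((g * R.x i (neg j) v * g⁻¹) * g) := by rw [c1.eq]
        _ = R.x i (neg j) v := by group
    exact ⟨v, 0, by rw [h6, R.y_zero, mul_one]⟩
  · -- `b = 0`
    rw [hb, R.y_zero, mul_one] at h0
    rw [hb, mul_zero, R.y_zero, mul_one] at hconj
    refine ⟨a + ν * ν * a, s + ν * ν * s, ?_⟩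
    rw [hg2, hconj, h0]
    have c1 : Commute (R.x i (neg j) a * R.x i j d * R.y i s) e :=
      ez (((R.x_t i (neg j) a).mul_left (R.x_t i j d)).mul_left (R.y_t i s))
    have c2 : Commute (R.y i s) (R.x i (neg j) (ν * ν * a) * R.x i j d) := (x'y _ _).symm.mul_right (xy _ _).symm
    have c3 : Commute (R.x i j d) (R.x i (neg j) (ν * ν * a)) := xx' _ _
    calc e * (R.x i (neg j) a * R.x i j d * R.y i s) * (e * (R.x i (neg j) (ν * ν * a) * R.x i j d *
          R.y i (ν * ν * s)))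
        = e * ((R.x i (neg j) a * R.x i j d * R.y i s) * e) *
            (R.x i (neg j) (ν * ν * a) * R.x i j d * R.y i (ν * ν * s)) := by group
      _ = (e * e) * (R.x i (neg j) a * R.x i j d * R.y i s) *
            (R.x i (neg j) (ν * ν * a) * R.x i j d * R.y i (ν * ν * s)) := by rw [c1.eq]; group
      _ = R.x i (neg j) a * R.x i j d * (R.y i s * (R.x i (neg j) (ν * ν * a) * R.x i j d)) *
            R.y i (ν * ν * s) := by rw [ee]; group
      _ = R.x i (neg j) a * (R.x i j d * R.x i (neg j) (ν * ν * a)) * R.x i j d *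
            (R.y i s * R.y i (ν * ν * s)) := by rw [c2.eq]; group
      _ = (R.x i (neg j) a * R.x i (neg j) (ν * ν * a)) * (R.x i j d * R.x i j d) *
            (R.y i s * R.y i (ν * ν * s)) := by rw [c3.eq]; group
      _ = _ := by rw [R.x_sq, mul_one, ← R.x_add, ← R.y_add]

/-- the partner, second form -/
theorem par1 {i j : Ix n} (hij : Dj i j) {g : G} (hg : g ∈ R.Wd i j) :
    ∃ s, ∀ v, g * R.x i (neg j) v * g⁻¹ = R.x i (neg j) v * R.y i (s * v) := by
  obtain ⟨k, s, h1⟩ := O.par0 hij hg 1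
  have m4 : neg j ≠ neg i := fun e => hij.1 (neg_inj.1 e).symm
  have x'y : ∀ a b, Commute (R.x i (neg j) a) (R.y i b) := fun a b => (R.y_x_comm (ne_neg i) m4 _ _).symm
  have h2 : ∀ v, g * R.x i (neg j) v * g⁻¹ = R.x i (neg j) (v * k) * R.y i (v * s) := by
    intro v
    by_cases hv : v = 0
    · subst hv
      rw [zero_mul, zero_mul, R.x_zero, R.y_zero]; group
    · obtain ⟨ν, hν⟩ := exists_usqrt (Units.mk0 v hv)
      have hν' : (ν : F) * ν = v := by rw [← Units.val_mul, hν, Units.val_mk0]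
      obtain ⟨lam, l1, l2, -⟩ := exists_lam2 hij ν ν⁻¹
      have hgH : Commute g (R.h lam) := O.ch hij hg (by rw [l1, l2, mul_inv_cancel])
      have hx' : ∀ a, R.h lam * R.x i (neg j) a * (R.h lam)⁻¹ = R.x i (neg j) (ν * ν * a) := by
        intro a; rw [R.h_x, ev_neg, l1, l2, inv_inv]
      have hyi : ∀ a, R.h lam * R.y i a * (R.h lam)⁻¹ = R.y i (ν * ν * a) := by
        intro a; rw [R.h_y, l1, pow_two]
      have e0 := hx' 1
      rw [hν', mul_one] at e0
      calc g * R.x i (neg j) v * g⁻¹ = (g * R.h lam) * R.x i (neg j) 1 * ((R.h lam)⁻¹ * g⁻¹) := by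
            rw [← e0]; group
        _ = (R.h lam * g) * R.x i (neg j) 1 * (g⁻¹ * (R.h lam)⁻¹) := by rw [hgH.eq, hgH.inv_inv.eq]
        _ = R.h lam * (g * R.x i (neg j) 1 * g⁻¹) * (R.h lam)⁻¹ := by group
        _ = (R.h lam * R.x i (neg j) k * (R.h lam)⁻¹) * (R.h lam * R.y i s * (R.h lam)⁻¹) := by rw [h1]; group
        _ = _ := by rw [hx', hyi, hν']
  have h3 : k * k = 1 := by
    obtain ⟨c, hc⟩ := O.ww hij hg
    have c2 : Commute (R.x i j c) (R.x i (neg j) 1) := by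
      have h := R.x_comm' (i := j) (j := i) c 1
      rw [R.x_symm j i, R.x_symm (neg j) i] at h
      exact h
    have c3 : Commute g (R.y i (1 * s)) := O.cy hij hg (ne_neg i) hij.2 _
    have e1 : R.x i (neg j) 1 * R.y i 0 = R.x i (neg j) (k * k) * R.y i (k * s + 1 * s) := by
      calc R.x i (neg j) 1 * R.y i 0 = (R.x i j c * R.x i (neg j) 1) * (R.x i j c)⁻¹ := by
            rw [c2.eq, R.y_zero]; group
        _ = g * (g * R.x i (neg j) 1 * g⁻¹) * g⁻¹ := by rw [← hc]; group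
        _ = g * (R.x i (neg j) (1 * k) * R.y i (1 * s)) * g⁻¹ := by rw [h2 1]
        _ = g * R.x i (neg j) (1 * k) * g⁻¹ * (g * R.y i (1 * s)) * g⁻¹ := by group
        _ = g * R.x i (neg j) (1 * k) * g⁻¹ * (R.y i (1 * s) * g) * g⁻¹ := by rw [c3.eq]
        _ = R.x i (neg j) (1 * k * k) * R.y i (1 * k * s) * R.y i (1 * s) := by rw [h2 (1 * k)]; group
        _ = _ := by rw [mul_assoc, ← R.y_add, one_mul]
    exact (O.ind2 hij e1).1.symm
  have h4 : k = 1 := by
    have h5 : (k - 1) * (k - 1) = 0 := by linear_combination h3 - (k - 1) * (two0 : (2 : F) = 0)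
    exact sub_eq_zero.1 (mul_self_eq_zero.1 h5)
  exact ⟨s, fun v => by rw [h2, h4, mul_one, mul_comm v s]⟩

/-- the partner: the constant of one element of height `1` determines all -/
theorem par2 {i j : Ix n} (hij : Dj i j) {δ : F} {g1 : G} (hg1 : g1 ∈ R.Wd i j)
    (hu1 : R.t * g1 * R.t = g1 * R.x i j 1)
    (hδ : ∀ v, g1 * R.x i (neg j) v * g1⁻¹ = R.x i (neg j) v * R.y i (δ * v))
    {g : G} (hg : g ∈ R.Wd i j) {u : F} (hu : R.t * g * R.t = g * R.x i j u) (b : F) :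
    ⁅g, R.x i (neg j) b⁆ = R.y i (δ * u * b) := by
  have m4 : neg j ≠ neg i := fun e => hij.1 (neg_inj.1 e).symm
  have L := O.loc i j hij
  have x'y : ∀ a b, Commute (R.x i (neg j) a) (R.y i b) := fun a b => (R.y_x_comm (ne_neg i) m4 _ _).symm
  have xx' : ∀ a b, Commute (R.x i j a) (R.x i (neg j) b) := fun a b => by
    have h := R.x_comm' (i := j) (j := i) a b
    rw [R.x_symm j i, R.x_symm (neg j) i] at h
    exact h
  have key : g * R.x i (neg j) b * g⁻¹ = R.x i (neg j) b * R.y i (δ * u * b) := by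
    obtain ⟨u', hu', -⟩ := L.dbl_bs hg
    have e0 : u' = u := L.of_tgt hu' hu
    subst e0
    by_cases h0 : u' = 0
    · subst h0
      obtain ⟨f, rfl⟩ := L.dbl_zero hg hu'
      rw [mul_zero, zero_mul, R.y_zero, mul_one, (xx' f b).eq, mul_inv_cancel_right]
    · obtain ⟨ν, hν⟩ := exists_usqrt (Units.mk0 u' h0)
      have hν' : (ν : F) * ν = u' := by rw [← Units.val_mul, hν, Units.val_mk0]
      obtain ⟨lam, l1, l2, -⟩ := exists_lam2 hij ν ν
      obtain ⟨u1, hu1', -⟩ := L.dbl_bs hg1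
      have e1 : u1 = 1 := L.of_tgt hu1' hu1
      subst e1
      have hm := L.mv_h hu1' lam
      rw [mul_one, chix_apply, l1, l2, Units.val_mul, hν'] at hm
      have hd := L.dbl_h hg1 lam
      have h3 := L.mv_mul (L.mv_inv hm) hu'
      rw [L.two] at h3
      obtain ⟨f, hf⟩ := L.dbl_zero (mul_mem (inv_mem hd) hg) h3
      have hgf : g = (R.h lam * g1 * (R.h lam)⁻¹) * R.x i j f := by rw [← hf]; group
      have hx : Commute (R.h lam) (R.x i (neg j) b) := R.h_comm (by rw [ev_neg, l1, l2, mul_inv_cancel]) b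
      rw [hgf]
      calc R.h lam * g1 * (R.h lam)⁻¹ * R.x i j f * R.x i (neg j) b * (R.h lam * g1 * (R.h lam)⁻¹ * R.x i j f)⁻¹
          = R.h lam * g1 * (R.h lam)⁻¹ * (R.x i j f * R.x i (neg j) b) * (R.x i j f)⁻¹ * R.h lam * g1⁻¹ *
              (R.h lam)⁻¹ := by group
        _ = R.h lam * g1 * ((R.h lam)⁻¹ * R.x i (neg j) b) * R.h lam * g1⁻¹ * (R.h lam)⁻¹ := by
            rw [(xx' f b).eq]; group
        _ = R.h lam * g1 * (R.x i (neg j) b * (R.h lam)⁻¹) * R.h lam * g1⁻¹ * (R.h lam)⁻¹ := by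
            rw [hx.inv_left.eq]
        _ = R.h lam * (g1 * R.x i (neg j) b * g1⁻¹) * (R.h lam)⁻¹ := by group
        _ = (R.h lam * R.x i (neg j) b) * R.y i (δ * b) * (R.h lam)⁻¹ := by rw [hδ]; group
        _ = R.x i (neg j) b * (R.h lam * R.y i (δ * b) * (R.h lam)⁻¹) := by rw [hx.eq]; group
        _ = _ := by
            rw [R.h_y, l1, pow_two, hν']
            congr 2
            ring
  rw [commutatorElement_def, key]
  calc R.x i (neg j) b * R.y i (δ * u * b) * (R.x i (neg j) b)⁻¹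
      = R.y i (δ * u * b) * R.x i (neg j) b * (R.x i (neg j) b)⁻¹ := by rw [(x'y _ _).eq]
    _ = _ := by group

/-- **Section 3, short roots.** -/
theorem exists_DS : ∃ δ : F, ∃ D : DS R δ, D.W = R.Wd := by
  have hn := O.n3
  let a : Fin n := ⟨0, by omega⟩
  let b : Fin n := ⟨1, by omega⟩
  have hab : a ≠ b := fun e => by simpa [a, b] using congrArg Fin.val e
  have hd0 : Dj (Sum.inl a : Ix n) (Sum.inl b) := TU.dj_inl hab
  obtain ⟨g0, hg0, hu0, -⟩ := (O.loc _ _ hd0).exists_dbl 1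
  obtain ⟨δ, hδ⟩ := O.par1 hd0 hg0
  refine ⟨δ, ⟨R.Wd, R.Wd_symm, fun i j a => R.x_mem_Wd i j a, fun i j hij g hg => O.ht hij hg,
    ?_, ?_, ?_, ?_, ?_, ?_, ?_, ?_, ?_⟩, rfl⟩
  · intro i j hij u
    obtain ⟨g, hg, hu, -⟩ := (O.loc i j hij).exists_dbl u
    exact ⟨g, hg, (O.loc i j hij).tgt hu⟩
  · intro i j hij g hg h
    obtain ⟨u, hu, -⟩ := (O.loc i j hij).dbl_bs hg
    have e0 : u = 0 := (O.loc i j hij).of_tgt hu (by rw [h, R.x_zero, mul_one])
    subst e0
    exact (O.loc i j hij).dbl_zero hg hu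
  · intro i j hij g hg g' hg'
    obtain ⟨w, -, h2, -, -, h5, -⟩ := (O.loc i j hij).exists_w (fun a => by
      obtain ⟨d, hd⟩ := exists_sqrt a
      exact ⟨d, by rw [pow_two, hd]⟩)
    obtain ⟨u, v, rfl⟩ := (h2 g).1 hg
    obtain ⟨u', v', rfl⟩ := (h2 g').1 hg'
    have c1 : ∀ u v, Commute (w u) (R.x i j v) := fun u v =>
      O.cxx hij ((h2 _).2 ⟨u, 0, by rw [R.x_zero, mul_one]⟩) v
    exact (((h5 u u').mul_right (c1 u v')).mul_left
      ((c1 u' v).symm.mul_right ((O.loc i j hij).xx v v'))).eq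
  · intro i j hij g hg lam
    exact (O.loc i j hij).dbl_h hg lam
  · intro i j hij g hg lam hl
    exact (O.ch hij hg hl).symm.eq
  · intro i j _ g hg s
    exact R.Wd_w s hg
  · intro i j hij g hg k l v h1 h2 h3 h4
    exact (O.cx hij hg h1 h2 h3 h4 v).eq
  · intro i j hij g hg k v h1 h2
    exact (O.cy hij hg h1 h2 v).eq
  · intro i j hij g hg u hu v
    obtain ⟨s, hs1, hs2⟩ := exists_W2 hd0 hij
    have h3 := R.Wd_w s hg0
    rw [hs1, hs2] at h3
    refine O.par2 hij h3 ?_ ?_ hg hu v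
    · have h4 := (O.loc _ _ hd0).tgt hu0
      rw [R.t_mul, R.t_mul, R.t_inv', R.t_of_comm (R.w_t s), h4]
      have h5 := R.w_x s (Sum.inl a) (Sum.inl b) 1
      rw [hs1, hs2] at h5
      rw [← h5]; group
    · intro v
      have h5 := R.w_x s (Sum.inl a) (neg (Sum.inl b)) v
      have h6 := R.w_y s (Sum.inl a) (δ * v)
      rw [hs1, W_neg, hs2] at h5
      rw [hs1] at h6
      calc R.w s * g0 * (R.w s)⁻¹ * R.x i (neg j) v * (R.w s * g0 * (R.w s)⁻¹)⁻¹
          = R.w s * (g0 * R.x (Sum.inl a) (neg (Sum.inl b)) v * g0⁻¹) * (R.w s)⁻¹ := by rw [← h5]; group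
        _ = _ := by rw [hδ, ← h5, ← h6]; group

end WOk

/-- **(3.s)** from the existence of the double of `X_12` in `N(T₁)` -/
theorem exists_DS (hn : 3 ≤ n) (hq : ∃ c : F, c ≠ 0 ∧ c ≠ 1) {a b : Fin n} (ha : a.val = 0) (hb : b.val = 1)
    (h : ∀ u, ∃ g ∈ normalizer (R.T1 : Set G),
      Mv R.t (R.x (Sum.inl a) (Sum.inl b)) R.h (chix (Sum.inl a) (Sum.inl b)) g u) :
    ∃ δ : F, ∃ D : DS R δ, D.W = R.Wd := by
  have hab : a ≠ b := fun e => by rw [e, hb] at ha; exact one_ne_zero ha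
  have hd : Dj (Sum.inl a : Ix n) (Sum.inl b) := TU.dj_inl hab
  have hmv : R.MvX (Sum.inl a) (Sum.inl b) := fun u => by obtain ⟨g, -, hg⟩ := h u; exact ⟨g, hg⟩
  obtain ⟨c, c0, c1⟩ := hq
  refine WOk.exists_DS (R := R) ⟨hn, ⟨Units.mk0 c c0, c1⟩, fun i j hij =>
    R.locX hn ⟨c, c0, c1⟩ hij (R.MvX_all hd hmv hij), fun a' b' ha' hb' => ?_⟩
  have e1 : a' = a := Fin.ext (by rw [ha, ha'])
  have e2 : b' = b := Fin.ext (by rw [hb, hb'])
  subst e1 e2
  exact R.Wd_norm hn ⟨c, c0, c1⟩ (by rw [TU.pos_inl, ha]) (by rw [TU.pos_inl, hb]) hd h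

end Frame

end Cfsg.Agent.OddHalf.SpN
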