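import Cfsg.Agent.OddHalf.SpN.W3Gen
import Cfsg.Agent.OddHalf.SpN.Dbl

/-!
# ODD D7, `K = Sp_2n(q)`, `q > 2`: section 3 for the long root groups (helper297)

`R.exists_DL` : if `Y_1` is moved (fusion in `T₁`), then `∃ γ, Nonempty (DL R γ)`.
-/

set_option autoImplicit false

namespace Cfsg.Agent.OddHalf.SpN

open Cfsg Cfsg.Agent.ClassicalGeometry.SympBasic Cfsg.Agent.ClassicalGeometry.SympAutSemi
open scoped Matrix commutatorElement
open WExist Subgroup TU

variable {n : ℕ} {F : Type*} [Field F]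

section mat

variable [CharP F 2]

/-- conjugates of `y_2(v)` under `U` -/
theorem Uu_conj_sy {A : Sy n F} (hA : A ∈ Uu n F) {i j : Ix n} (hi : pos i = 0) (hj : pos j = 1) (hd : Dj i j)
    (v : F) : A * sy j v = sy j v * (sx i j (v * ent A i j) * sy i (v * ent A i j ^ 2)) * A := by
  have hn : 2 ≤ n := by
    by_contra h
    have h1 := pos_lt i
    have h2 := pos_lt (neg j)
    apply hd.2
    apply pos_inj
    rw [pos_neg]; omega
  have hrow : ∀ v, rho n F A v (neg i) = v (neg i) := by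
    intro v
    rw [rho_eq_sum, Finset.sum_eq_single (neg i)]
    · rw [Uu_diag hA, mul_one]
    · intro k _ hk
      rw [Uu_zero hA, mul_zero]
      rcases lt_or_ge (pos k) (pos (neg i)) with h | h
      · exact h
      · exfalso; apply hk
        apply pos_inj
        have := pos_lt k
        rw [pos_neg] at h ⊢
        omega
    · intro h; exact absurd (Finset.mem_univ _) h
  have hne : neg i ≠ neg j := fun e => hd.1 (neg_inj.mp e)
  have hrow' : ∀ v, rho n F A v (neg j) = v (neg j) + v (neg i) * ent A (neg j) (neg i) := by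
    intro v
    rw [rho_eq_sum, ← Finset.sum_subset (Finset.subset_univ ({neg j, neg i} : Finset (Ix n))),
      Finset.sum_pair hne.symm, Uu_diag hA, mul_one]
    intro k _ hk
    rw [Finset.mem_insert, Finset.mem_singleton, not_or] at hk
    rw [Uu_zero hA, mul_zero]
    rcases lt_or_ge (pos k) (pos (neg j)) with h | h
    · exact h
    · exfalso
      have h1 := pos_lt k
      rw [pos_neg] at h
      rcases Nat.lt_or_ge (pos k) (2 * n - 1) with h2 | h2
      · apply hk.1; apply pos_inj; rw [pos_neg]; omega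
      · apply hk.2; apply pos_inj; rw [pos_neg]; omega
  have hcol' : rho n F A (be n F j) = be n F j + ent A i j • be n F i := by
    ext l
    rw [Pi.add_apply, Pi.smul_apply, be_apply, be_apply, smul_eq_mul]
    show ent A l j = _
    by_cases h1 : l = i
    · subst h1
      rw [if_neg hd.1, if_pos rfl]; ring
    · rw [if_neg h1, hA l j (by
        have : pos l ≠ 0 := fun e => h1 (pos_inj (by omega))
        omega)]
      ring
  have hc : ent A (neg j) (neg i) = ent A i j := by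
    rw [← ent_inv]
    have hI := inv_mem hA
    have e1 : ent (A⁻¹ * A) i j = 0 := by rw [inv_mul_cancel, ent_one, if_neg hd.1]
    rw [ent_mul, ← Finset.sum_subset (Finset.subset_univ ({i, j} : Finset (Ix n))), Finset.sum_pair hd.1,
      Uu_diag hI, Uu_diag hA] at e1
    · linear_combination e1 - ent A i j * (two0 : (2 : F) = 0)
    · intro k _ hk
      rw [Finset.mem_insert, Finset.mem_singleton, not_or] at hk
      rw [Uu_zero hA, mul_zero]
      have h1 : pos k ≠ 0 := fun e => hk.1 (pos_inj (by omega))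
      have h2 : pos k ≠ 1 := fun e => hk.2 (pos_inj (by omega))
      omega
  have n1 : neg j ≠ i := fun e => hd.2 e.symm
  apply rho_injective
  ext x l
  simp only [map_mul, Equiv.Perm.mul_apply, rho_sx hd, rho_sy, rho_add, rho_smul, hcol', hrow, hrow', hc,
    Pi.add_apply, Pi.smul_apply, smul_eq_mul, be_apply, neg_ne, n1, if_false]
  ring_nf
  simp only [mul2, add_zero]

/-- `y_2(v)` is in the second centre -/
theorem com_sy {A : Sy n F} (hA : A ∈ Uu n F) {i j : Ix n} (hi : pos i = 0) (hj : pos j = 1) (hd : Dj i j)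
    (v : F) : sy j v * A * (sy j v)⁻¹ * A⁻¹ = sx i j (v * ent A i j) * sy i (v * ent A i j ^ 2) := by
  have h := Uu_conj_sy hA hi hj hd v
  have h1 : (sy j v)⁻¹ = sy j v := inv_eq_of_mul_eq_one_left (sy_sq j v)
  calc sy j v * A * (sy j v)⁻¹ * A⁻¹ = sy j v * (A * sy j v) * A⁻¹ := by rw [h1]; group
    _ = (sy j v * sy j v) * (sx i j (v * ent A i j) * sy i (v * ent A i j ^ 2)) := by rw [h]; group
    _ = _ := by rw [sy_sq, one_mul]

end mat

namespace Frame

variable {G : Type*} [Group G] (R : Frame n F G) [CharP F 2]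

/-- the conjugates `w x(v) w⁻¹` of a root group in `T₁` -/
theorem conj_hom (hq : ∃ c : F, c ≠ 0 ∧ c ≠ 1) {w : G} (hw : w ∈ normalizer (R.T1 : Set G)) {x : F → G}
    (x_add : ∀ u v, x (u + v) = x u * x v) (xT : ∀ u, x u ∈ R.T1)
    (heq : ∀ μ : F, μ ≠ 0 → ∃ lam, Commute w (R.h lam) ∧ ∀ v, R.h lam * x v * (R.h lam)⁻¹ = x (μ * v)) :
    ∃ E : F → Sy n F, (∀ v, w * x v * w⁻¹ = R.ι (E v)) ∧ (∀ v, E v ∈ Uu n F) ∧ (∀ u v, E (u + v) = E u * E v) ∧
      ∀ (lam : Fin n → Fˣ) (μ : F), Commute w (R.h lam) → (∀ v, R.h lam * x v * (R.h lam)⁻¹ = x (μ * v)) →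
        ∀ v, sh lam * E v * (sh lam)⁻¹ = E (μ * v) := by
  have key : ∀ (lam : Fin n → Fˣ) (μ : F), Commute w (R.h lam) → (∀ v, R.h lam * x v * (R.h lam)⁻¹ = x (μ * v)) →
      ∀ v, R.h lam * (w * x v * w⁻¹) * (R.h lam)⁻¹ = w * x (μ * v) * w⁻¹ := by
    intro lam μ hc h v
    have e := hc.eq
    have e2 : w⁻¹ * (R.h lam)⁻¹ = (R.h lam)⁻¹ * w⁻¹ := by rw [← mul_inv_rev, ← mul_inv_rev, e]
    calc R.h lam * (w * x v * w⁻¹) * (R.h lam)⁻¹ = (R.h lam * w) * x v * (w⁻¹ * (R.h lam)⁻¹) := by group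
      _ = w * (R.h lam * x v * (R.h lam)⁻¹) * w⁻¹ := by rw [← e, e2]; group
      _ = w * x (μ * v) * w⁻¹ := by rw [h]
  obtain ⟨E, h1, h2, h3, h4⟩ := R.no_t hq (e := fun v => w * x v * w⁻¹)
    (fun u v => by simp only [x_add]; group)
    (fun μ hμ => by
      obtain ⟨lam, hl, h⟩ := heq μ hμ
      exact ⟨lam, key lam μ hl h⟩)
    (fun v => (mem_normalizer_iff.1 hw _).1 (xT v))
  exact ⟨E, h1, h2, h3, fun lam μ hc h v => h4 lam v μ (key lam μ hc h v)⟩

/-- final step: `k² = 1` -/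
theorem k_one {w : G} {x : F → G} (x_inj : ∀ u v, x u = x v → u = v) {k : F}
    (h : ∀ v, w * x v * w⁻¹ = x (k * v)) (hw : Commute (w * w) (x 1)) : k = 1 := by
  have h1 : x 1 = x (k * (k * 1)) := by
    calc x 1 = (w * w) * x 1 * (w * w)⁻¹ := by rw [hw.eq]; group
      _ = w * (w * x 1 * w⁻¹) * w⁻¹ := by group
      _ = x (k * (k * 1)) := by rw [h, h]
  have h2 := x_inj _ _ h1
  have h3 : (k - 1) * (k - 1) = 0 := by linear_combination -h2 - (k - 1) * (two0 : (2 : F) = 0)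
  exact sub_eq_zero.mp (mul_self_eq_zero.mp h3)

theorem dj_inl' {a b : Fin n} (h : a ≠ b) : Dj (Sum.inl a : Ix n) (Sum.inl b) :=
  ⟨fun e => h (Sum.inl_injective e), fun e => by rw [neg_inl] at e; cases e⟩

/-- hypotheses on an element `w` of the double of `Y_1` -/
structure WY (w : G) (a : Fin n) : Prop where
  norm : w ∈ normalizer (R.T1 : Set G)
  torus : ∀ lam : Fin n → Fˣ, lam a = 1 → Commute w (R.h lam)
  sq : ∃ s, w * w = R.y (Sum.inl a) s

variable {a b c : Fin n}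

/-- **(3.l)** `[W_1, X_12] = 1` -/
theorem WY.x12 (hq : ∃ c : F, c ≠ 0 ∧ c ≠ 1) (ha : a.val = 0) (hb : b.val = 1) {w : G} (hw : R.WY w a) (v : F) :
    Commute w (R.x (Sum.inl a) (Sum.inl b) v) := by
  have hab : a ≠ b := fun e => by rw [e] at ha; omega
  have hd := dj_inl' hab
  have hn : b.val < n := b.2
  have weight : ∀ μ : Fˣ, ∀ v, R.h (one (Sum.inl b) μ) * R.x (Sum.inl a) (Sum.inl b) v *
      (R.h (one (Sum.inl b) μ))⁻¹ = R.x (Sum.inl a) (Sum.inl b) (μ * v) := by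
    intro μ v
    rw [R.h_x, ev_one_self, ev_one_ne hd, Units.val_one, one_mul]
  have htor : ∀ μ : Fˣ, Commute w (R.h (one (Sum.inl b) μ)) := fun μ => hw.torus _ (by
    have := ev_one_ne hd μ
    exact this)
  have xT : ∀ u, R.x (Sum.inl a) (Sum.inl b) u ∈ R.T1 := fun u => R.ι_mem_T1 (sx_inl_inl_mem a b u)
  obtain ⟨E, h1, h2, h3, h4⟩ := R.conj_hom hq hw.norm (R.x_add _ _) xT (fun μ hμ =>
    ⟨one (Sum.inl b) (Units.mk0 μ hμ), htor _, weight (Units.mk0 μ hμ)⟩)
  -- `E v` is central in `U`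
  have hcen : ∀ v, ∀ u ∈ Uu n F, Commute (E v) u := by
    intro v u hu
    apply R.inj
    rw [map_mul, map_mul, ← h1]
    have h5 : w⁻¹ * R.ι u * w ∈ R.T1 := by
      have := (mem_normalizer_iff.1 (inv_mem hw.norm) (R.ι u)).1 (R.ι_mem_T1 hu)
      rwa [inv_inv] at this
    have h6 := R.T1_x (i := Sum.inl a) (j := Sum.inl b) ha hb hd _ h5 v
    calc w * R.x (Sum.inl a) (Sum.inl b) v * w⁻¹ * R.ι u
        = w * (R.x (Sum.inl a) (Sum.inl b) v * (w⁻¹ * R.ι u * w)) * w⁻¹ := by group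
      _ = w * ((w⁻¹ * R.ι u * w) * R.x (Sum.inl a) (Sum.inl b) v) * w⁻¹ := by rw [h6]
      _ = _ := by group
  have hform : ∀ v, E v = sy (Sum.inl a) (ent (E v) (Sum.inl a) (neg (Sum.inl a))) *
      sx (Sum.inl a) (Sum.inl b) (ent (E v) (Sum.inl a) (neg (Sum.inl b))) ∧ Sg (E v) := by
    intro v
    obtain ⟨p, r, e⟩ := center_eq ha hb (h2 v) (hcen v)
    have s1 : Sg (sy (Sum.inl a) p : Sy n F) := Sg_sy (by rw [pos_inl]; exact a.2) p
    have s2 : Sg (sx (Sum.inl a) (Sum.inl b) r : Sy n F) := Sg_sx (by rw [pos_inl]; exact a.2) (by rw [pos_inl]; exact b.2) r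
    have q1 : pos (Sum.inl a : Ix n) < n := by rw [pos_inl]; exact a.2
    have q2 : n ≤ pos (neg (Sum.inl a) : Ix n) := by rw [pos_neg, pos_inl]; omega
    have q3 : n ≤ pos (neg (Sum.inl b) : Ix n) := by rw [pos_neg, pos_inl]; omega
    have e1 : ent (E v) (Sum.inl a) (neg (Sum.inl a)) = p := by
      rw [e, s1.ent_mul s2 q1 q2, ent_sy, ent_sx hd]
      simp [hab]
    have e2 : ent (E v) (Sum.inl a) (neg (Sum.inl b)) = r := by
      rw [e, s1.ent_mul s2 q1 q3, ent_sy, ent_sx hd]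
      simp [hab, hab.symm]
    rw [e1, e2]
    exact ⟨e, by rw [e]; exact s1.mul s2⟩
  have q1 : pos (Sum.inl a : Ix n) < n := by rw [pos_inl]; exact a.2
  have q2 : n ≤ pos (neg (Sum.inl a) : Ix n) := by rw [pos_neg, pos_inl]; omega
  have q3 : n ≤ pos (neg (Sum.inl b) : Ix n) := by rw [pos_neg, pos_inl]; omega
  have hE : ∀ (μ : Fˣ) v, sh (one (Sum.inl b) μ) * E v * (sh (one (Sum.inl b) μ))⁻¹ = E (μ * v) := fun μ v =>
    h4 _ μ (htor μ) (weight μ) v
  have f0 : ∀ v, ent (E v) (Sum.inl a) (neg (Sum.inl a)) = 0 := by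
    apply const_zero hq
    · intro u v
      rw [h3, (hform u).2.ent_mul (hform v).2 q1 q2]
    · intro μ v hμ
      have := hE (Units.mk0 μ hμ) v
      rw [Units.val_mk0] at this
      rw [← this, ent_conj_sh, ev_one_ne hd, Units.val_one, one_mul, one_mul]
  have f1 : ∀ v, ent (E v) (Sum.inl a) (neg (Sum.inl b)) = ent (E 1) (Sum.inl a) (neg (Sum.inl b)) * v := by
    intro v
    by_cases hv : v = 0
    · subst hv
      have e0 : E 0 = 1 := by
        have := h3 0 0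
        rw [add_zero] at this
        exact (left_eq_mul.1 this)
      rw [e0, ent_one, if_neg (fun e => by rw [neg_inl] at e; cases e), mul_zero]
    · have := hE (Units.mk0 v hv) 1
      rw [Units.val_mk0, mul_one] at this
      rw [← this, ent_conj_sh, ev_one_ne hd, ev_one_self, Units.val_one, Units.val_mk0, one_mul, mul_comm]
  set k := ent (E 1) (Sum.inl a) (neg (Sum.inl b)) with hk
  have h5 : ∀ v, w * R.x (Sum.inl a) (Sum.inl b) v * w⁻¹ = R.x (Sum.inl a) (Sum.inl b) (k * v) := by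
    intro v
    rw [h1, (hform v).1, f0, f1, sy_zero, one_mul]
    rfl
  have hk1 : k = 1 := by
    refine k_one (x := R.x (Sum.inl a) (Sum.inl b)) (fun u v e => R.x_inj hd e) h5 ?_
    obtain ⟨s, hs⟩ := hw.sq
    rw [hs]
    exact R.y_x_comm (ne_neg _) hd.symm.2 _ _
  have h6 := h5 v
  rw [hk1, one_mul] at h6
  show w * _ = _ * w
  calc w * R.x (Sum.inl a) (Sum.inl b) v = w * R.x (Sum.inl a) (Sum.inl b) v * w⁻¹ * w := by group
    _ = _ := by rw [h6]

/-- **(3.l)** `[W_1, X_23] = 1` -/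
theorem WY.x23 (hq : ∃ c : F, c ≠ 0 ∧ c ≠ 1) (ha : a.val = 0) (hb : b.val = 1) (hc : c.val = 2) {w : G}
    (hw : R.WY w a) (v : F) : Commute w (R.x (Sum.inl b) (Sum.inl c) v) := by
  have hab : a ≠ b := fun e => by rw [e] at ha; omega
  have hac : a ≠ c := fun e => by rw [e] at ha; omega
  have hbc : b ≠ c := fun e => by rw [e] at hb; omega
  have hdab := dj_inl' hab
  have hdac := dj_inl' hac
  have hd := dj_inl' hbc
  have weight : ∀ μ : Fˣ, ∀ v, R.h (one (Sum.inl c) μ) * R.x (Sum.inl b) (Sum.inl c) v *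
      (R.h (one (Sum.inl c) μ))⁻¹ = R.x (Sum.inl b) (Sum.inl c) (μ * v) := by
    intro μ v
    rw [R.h_x, ev_one_self, ev_one_ne hd, Units.val_one, one_mul]
  have htor : ∀ μ : Fˣ, Commute w (R.h (one (Sum.inl c) μ)) := fun μ => hw.torus _ (by
    have := ev_one_ne hdac μ
    exact this)
  have xT : ∀ u, R.x (Sum.inl b) (Sum.inl c) u ∈ R.T1 := fun u => R.ι_mem_T1 (sx_inl_inl_mem b c u)
  obtain ⟨E, h1, h2, h3, h4⟩ := R.conj_hom hq hw.norm (R.x_add _ _) xT (fun μ hμ =>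
    ⟨one (Sum.inl c) (Units.mk0 μ hμ), htor _, weight (Units.mk0 μ hμ)⟩)
  obtain ⟨z, z0, z1⟩ := hq
  have hcen : ∀ v, ∀ lam : Fin n → Fˣ, lam a = 1 → lam b * lam c = 1 → Commute (E v) (sh lam) := by
    intro v lam l1 l2
    have h5 := h4 lam 1 (hw.torus lam l1) (fun v => by
      rw [R.h_x]
      have : (ev lam (Sum.inl b) : F) * ev lam (Sum.inl c) = 1 := by
        rw [← Units.val_mul]
        exact congrArg Units.val l2
      rw [this]) v
    rw [one_mul] at h5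
    show E v * sh lam = sh lam * E v
    calc E v * sh lam = sh lam * E v * (sh lam)⁻¹ * sh lam := by rw [h5]
      _ = sh lam * E v := by group
  have q1 : pos (Sum.inl a : Ix n) < n := by rw [pos_inl]; exact a.2
  have q1' : pos (Sum.inl b : Ix n) < n := by rw [pos_inl]; exact b.2
  have q2 : n ≤ pos (neg (Sum.inl a) : Ix n) := by rw [pos_neg, pos_inl]; omega
  have q3 : n ≤ pos (neg (Sum.inl c) : Ix n) := by rw [pos_neg, pos_inl]; omega
  have hform : ∀ v, E v = sy (Sum.inl a) (ent (E v) (Sum.inl a) (neg (Sum.inl a))) *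
      sx (Sum.inl b) (Sum.inl c) (ent (E v) (Sum.inl b) (neg (Sum.inl c))) ∧ Sg (E v) := by
    intro v
    obtain ⟨p, r, e⟩ := torus_yx (z := Units.mk0 z z0) (fun e => z1 (congrArg Units.val e)) hab hac hbc (h2 v)
      (hcen v)
    have s1 : Sg (sy (Sum.inl a) p : Sy n F) := Sg_sy (by rw [pos_inl]; exact a.2) p
    have s2 : Sg (sx (Sum.inl b) (Sum.inl c) r : Sy n F) :=
      Sg_sx (by rw [pos_inl]; exact b.2) (by rw [pos_inl]; exact c.2) r
    have e1 : ent (E v) (Sum.inl a) (neg (Sum.inl a)) = p := by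
      rw [e, s1.ent_mul s2 q1 q2, ent_sy, ent_sx hd]
      simp [hab, hac]
    have e2 : ent (E v) (Sum.inl b) (neg (Sum.inl c)) = r := by
      rw [e, s1.ent_mul s2 q1' q3, ent_sy, ent_sx hd]
      simp [hab.symm, hbc, hbc.symm]
    rw [e1, e2]
    exact ⟨e, by rw [e]; exact s1.mul s2⟩
  have hE : ∀ (μ : Fˣ) v, sh (one (Sum.inl c) μ) * E v * (sh (one (Sum.inl c) μ))⁻¹ = E (μ * v) := fun μ v =>
    h4 _ μ (htor μ) (weight μ) v
  have f0 : ∀ v, ent (E v) (Sum.inl a) (neg (Sum.inl a)) = 0 := by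
    apply const_zero ⟨z, z0, z1⟩
    · intro u v
      rw [h3, (hform u).2.ent_mul (hform v).2 q1 q2]
    · intro μ v hμ
      have := hE (Units.mk0 μ hμ) v
      rw [Units.val_mk0] at this
      rw [← this, ent_conj_sh, ev_one_ne hdac, Units.val_one, one_mul, one_mul]
  have f1 : ∀ v, ent (E v) (Sum.inl b) (neg (Sum.inl c)) = ent (E 1) (Sum.inl b) (neg (Sum.inl c)) * v := by
    intro v
    by_cases hv : v = 0
    · subst hv
      have e0 : E 0 = 1 := by
        have := h3 0 0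
        rw [add_zero] at this
        exact (left_eq_mul.1 this)
      rw [e0, ent_one, if_neg (fun e => by rw [neg_inl] at e; cases e), mul_zero]
    · have := hE (Units.mk0 v hv) 1
      rw [Units.val_mk0, mul_one] at this
      rw [← this, ent_conj_sh, ev_one_ne hd, ev_one_self, Units.val_one, Units.val_mk0, one_mul, mul_comm]
  set k := ent (E 1) (Sum.inl b) (neg (Sum.inl c)) with hk
  have h5 : ∀ v, w * R.x (Sum.inl b) (Sum.inl c) v * w⁻¹ = R.x (Sum.inl b) (Sum.inl c) (k * v) := by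
    intro v
    rw [h1, (hform v).1, f0, f1, sy_zero, one_mul]
    rfl
  have hk1 : k = 1 := by
    refine k_one (x := R.x (Sum.inl b) (Sum.inl c)) (fun u v e => R.x_inj hd e) h5 ?_
    obtain ⟨s, hs⟩ := hw.sq
    rw [hs]
    exact R.y_x_comm hdab.symm.2 hdac.symm.2 _ _
  have h6 := h5 v
  rw [hk1, one_mul] at h6
  show w * _ = _ * w
  calc w * R.x (Sum.inl b) (Sum.inl c) v = w * R.x (Sum.inl b) (Sum.inl c) v * w⁻¹ * w := by group
    _ = _ := by rw [h6]

/-- **(3.l)** `w y_2(v²) w⁻¹ = y_2(v²) x_12(θ v)` -/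
theorem WY.y2 [Finite F] (hq : ∃ c : F, c ≠ 0 ∧ c ≠ 1) (ha : a.val = 0) (hb : b.val = 1) (hc : c.val = 2) {w : G}
    (hw : R.WY w a) : ∃ θ, ∀ v, w * R.y (Sum.inl b) (v ^ 2) * w⁻¹ =
      R.y (Sum.inl b) (v ^ 2) * R.x (Sum.inl a) (Sum.inl b) (θ * v) := by
  have hab : a ≠ b := fun e => by rw [e] at ha; omega
  have hac : a ≠ c := fun e => by rw [e] at ha; omega
  have hbc : b ≠ c := fun e => by rw [e] at hb; omega
  have hd := dj_inl' hab
  have hdac := dj_inl' hac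
  have hdbc := dj_inl' hbc
  have weight : ∀ μ : Fˣ, ∀ v, R.h (one (Sum.inl b) μ) * R.y (Sum.inl b) v *
      (R.h (one (Sum.inl b) μ))⁻¹ = R.y (Sum.inl b) ((μ : F) ^ 2 * v) := by
    intro μ v
    rw [R.h_y, ev_one_self]
  have htor : ∀ μ : Fˣ, Commute w (R.h (one (Sum.inl b) μ)) := fun μ => hw.torus _ (by
    have := ev_one_ne hd μ
    exact this)
  have htor' : ∀ μ : Fˣ, Commute w (R.h (one (Sum.inl c) μ)) := fun μ => hw.torus _ (by
    have := ev_one_ne hdac μ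
    exact this)
  have xT : ∀ u, R.y (Sum.inl b) u ∈ R.T1 := fun u => R.ι_mem_T1 (sy_inl_mem b u)
  have hroot : ∀ μ : Fˣ, ∃ ν : Fˣ, ν ^ 2 = μ := fun μ => by
    obtain ⟨lam, hl⟩ := chiy_surj (n := n) (F := F) (Sum.inl b) μ
    exact ⟨ev lam (Sum.inl b), by rw [pow_two]; exact hl⟩
  obtain ⟨E, h1, h2, h3, h4⟩ := R.conj_hom hq hw.norm (R.y_add _) xT (fun μ hμ => by
    obtain ⟨ν, hν⟩ := hroot (Units.mk0 μ hμ)
    refine ⟨one (Sum.inl b) ν, htor _, fun v => ?_⟩
    rw [weight]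
    have : (ν : F) ^ 2 = μ := by rw [← Units.val_pow_eq_pow_val, hν]; rfl
    rw [this])
  obtain ⟨z, z0, z1⟩ := hq
  have q1 : pos (Sum.inl a : Ix n) < n := by rw [pos_inl]; exact a.2
  have q1' : pos (Sum.inl b : Ix n) < n := by rw [pos_inl]; exact b.2
  have q2 : n ≤ pos (neg (Sum.inl a) : Ix n) := by rw [pos_neg, pos_inl]; omega
  have q2' : n ≤ pos (neg (Sum.inl b) : Ix n) := by rw [pos_neg, pos_inl]; omega
  have q3 : n ≤ pos (neg (Sum.inl c) : Ix n) := by rw [pos_neg, pos_inl]; omega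
  -- `E v` is in the second centre
  have hcen : ∀ v, ∀ u ∈ Uu n F, ∃ x y : F, E v * u * (E v)⁻¹ * u⁻¹ =
      sy (Sum.inl a) x * sx (Sum.inl a) (Sum.inl b) y := by
    intro v u hu
    have h5 : w⁻¹ * R.ι u * w ∈ R.T1 := by
      have := (mem_normalizer_iff.1 (inv_mem hw.norm) (R.ι u)).1 (R.ι_mem_T1 hu)
      rwa [inv_inv] at this
    -- the commutator of `y_2` with an element of `T₁`
    have h6 : ∃ x y : F, R.y (Sum.inl b) v * (w⁻¹ * R.ι u * w) * (R.y (Sum.inl b) v)⁻¹ * (w⁻¹ * R.ι u * w)⁻¹ =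
        R.x (Sum.inl a) (Sum.inl b) y * R.y (Sum.inl a) x := by
      obtain ⟨B, hB, h7⟩ := h5
      have h8 := com_sy hB (i := Sum.inl a) (j := Sum.inl b) ha hb hd v
      have h9 : R.y (Sum.inl b) v * R.ι B * (R.y (Sum.inl b) v)⁻¹ * (R.ι B)⁻¹ =
          R.x (Sum.inl a) (Sum.inl b) (v * ent B (Sum.inl a) (Sum.inl b)) *
            R.y (Sum.inl a) (v * ent B (Sum.inl a) (Sum.inl b) ^ 2) := by
        have := congrArg R.ι h8
        simp only [map_mul, map_inv] at this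
        exact this
      refine ⟨v * ent B (Sum.inl a) (Sum.inl b) ^ 2, v * ent B (Sum.inl a) (Sum.inl b), ?_⟩
      rcases h7 with h7 | h7
      · rw [h7]; exact h9
      · rw [h7, ← h9]
        have e1 := (R.y_t (Sum.inl b) v).eq
        have e2 := ((R.y_t (Sum.inl b) v).inv_left).eq
        calc R.y (Sum.inl b) v * (R.t * R.ι B) * (R.y (Sum.inl b) v)⁻¹ * (R.t * R.ι B)⁻¹
            = (R.y (Sum.inl b) v * R.t) * R.ι B * (R.y (Sum.inl b) v)⁻¹ * (R.ι B)⁻¹ * R.t⁻¹ := by group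
          _ = R.t * (R.y (Sum.inl b) v * R.ι B * (R.y (Sum.inl b) v)⁻¹ * (R.ι B)⁻¹) * R.t⁻¹ := by rw [e1]; group
          _ = _ := by
            have e3 : Commute R.t (R.y (Sum.inl b) v * R.ι B * (R.y (Sum.inl b) v)⁻¹ * (R.ι B)⁻¹) := by
              have c1 := (R.y_t (Sum.inl b) v).symm
              have c2 := (R.comm B).symm
              exact ((c1.mul_right c2).mul_right c1.inv_right).mul_right c2.inv_right
            rw [e3.eq]; group
    obtain ⟨x, y, h6⟩ := h6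
    -- conjugate by `w`: central
    have h7 : ∀ u' ∈ Uu n F, Commute (E v * u * (E v)⁻¹ * u⁻¹) u' := by
      intro u' hu'
      apply R.inj
      have e1 : R.ι (E v * u * (E v)⁻¹ * u⁻¹) = w * (R.x (Sum.inl a) (Sum.inl b) y * R.y (Sum.inl a) x) * w⁻¹ := by
        rw [← h6]
        simp only [map_mul, map_inv]
        rw [← h1]; group
      rw [map_mul R.ι (E v * u * (E v)⁻¹ * u⁻¹) u', map_mul R.ι u', e1]
      have h8 : w⁻¹ * R.ι u' * w ∈ R.T1 := by
        have := (mem_normalizer_iff.1 (inv_mem hw.norm) (R.ι u')).1 (R.ι_mem_T1 hu')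
        rwa [inv_inv] at this
      have h9 := R.T1_x (i := Sum.inl a) (j := Sum.inl b) ha hb hd _ h8 y
      have h10 := R.T1_y (i := Sum.inl a) ha _ h8 x
      calc w * (R.x (Sum.inl a) (Sum.inl b) y * R.y (Sum.inl a) x) * w⁻¹ * R.ι u'
          = w * (R.x (Sum.inl a) (Sum.inl b) y * (R.y (Sum.inl a) x * (w⁻¹ * R.ι u' * w))) * w⁻¹ := by group
        _ = w * (R.x (Sum.inl a) (Sum.inl b) y * (w⁻¹ * R.ι u' * w) * R.y (Sum.inl a) x) * w⁻¹ := by
            rw [← h10]; group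
        _ = w * ((w⁻¹ * R.ι u' * w) * R.x (Sum.inl a) (Sum.inl b) y * R.y (Sum.inl a) x) * w⁻¹ := by rw [← h9]
        _ = _ := by group
    have h8 : E v * u * (E v)⁻¹ * u⁻¹ ∈ Uu n F :=
      mul_mem (mul_mem (mul_mem (h2 v) hu) (inv_mem (h2 v))) (inv_mem hu)
    exact center_eq ha hb h8 h7
  -- torus
  have hE : ∀ (μ : Fˣ) v, sh (one (Sum.inl b) μ) * E v * (sh (one (Sum.inl b) μ))⁻¹ = E ((μ : F) ^ 2 * v) := fun μ v =>
    h4 _ _ (htor μ) (weight μ) v
  have hE' : ∀ (μ : Fˣ) v, sh (one (Sum.inl c) μ) * E v * (sh (one (Sum.inl c) μ))⁻¹ = E v := fun μ v => by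
    have := h4 (one (Sum.inl c) μ) 1 (htor' μ) (fun v => by
      rw [R.h_y, ev_one_ne hdbc, Units.val_one, one_pow]) v
    rwa [one_mul] at this
  have hform : ∀ v, E v = sy (Sum.inl a) (ent (E v) (Sum.inl a) (neg (Sum.inl a))) *
      sx (Sum.inl a) (Sum.inl b) (ent (E v) (Sum.inl a) (neg (Sum.inl b))) *
      sy (Sum.inl b) (ent (E v) (Sum.inl b) (neg (Sum.inl b))) ∧ Sg (E v) := by
    intro v
    obtain ⟨p, r, s, y, e⟩ := second_center_eq ha hb hc (h2 v) (hcen v)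
    have s1 : Sg (sy (Sum.inl a) p : Sy n F) := Sg_sy (by rw [pos_inl]; exact a.2) p
    have s2 : Sg (sx (Sum.inl a) (Sum.inl b) r : Sy n F) :=
      Sg_sx (by rw [pos_inl]; exact a.2) (by rw [pos_inl]; exact b.2) r
    have s3 : Sg (sx (Sum.inl a) (Sum.inl c) s : Sy n F) :=
      Sg_sx (by rw [pos_inl]; exact a.2) (by rw [pos_inl]; exact c.2) s
    have s4 : Sg (sy (Sum.inl b) y : Sy n F) := Sg_sy (by rw [pos_inl]; exact b.2) y
    have e1 : ent (E v) (Sum.inl a) (neg (Sum.inl a)) = p := by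
      rw [e, ((s1.mul s2).mul s3).ent_mul s4 q1 q2, (s1.mul s2).ent_mul s3 q1 q2, s1.ent_mul s2 q1 q2, ent_sy,
        ent_sx hd, ent_sx hdac, ent_sy]
      simp [hab, hac]
    have e2 : ent (E v) (Sum.inl a) (neg (Sum.inl b)) = r := by
      rw [e, ((s1.mul s2).mul s3).ent_mul s4 q1 q2', (s1.mul s2).ent_mul s3 q1 q2', s1.ent_mul s2 q1 q2', ent_sy,
        ent_sx hd, ent_sx hdac, ent_sy]
      simp [hab, hab.symm, hac, hbc]
    have e3 : ent (E v) (Sum.inl a) (neg (Sum.inl c)) = s := by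
      rw [e, ((s1.mul s2).mul s3).ent_mul s4 q1 q3, (s1.mul s2).ent_mul s3 q1 q3, s1.ent_mul s2 q1 q3, ent_sy,
        ent_sx hd, ent_sx hdac, ent_sy]
      simp [hab, hac, hac.symm, hbc.symm]
    have e4 : ent (E v) (Sum.inl b) (neg (Sum.inl b)) = y := by
      rw [e, ((s1.mul s2).mul s3).ent_mul s4 q1' q2', (s1.mul s2).ent_mul s3 q1' q2', s1.ent_mul s2 q1' q2', ent_sy,
        ent_sx hd, ent_sx hdac, ent_sy]
      simp [hab.symm, hbc]
    -- `s = 0`
    have hs : s = 0 := by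
      have h5 := hE' (Units.mk0 z z0) v
      have h6 := congrArg (fun A => ent A (Sum.inl a) (neg (Sum.inl c))) h5
      simp only [ent_conj_sh, ev_one_ne hdac, ev_one_self, Units.val_one, Units.val_mk0, one_mul, e3] at h6
      have h7 : (z - 1) * s = 0 := by linear_combination h6
      exact (mul_eq_zero.1 h7).resolve_left (sub_ne_zero.2 z1)
    rw [hs, sx_zero, mul_one] at e
    rw [e1, e2, e4]
    exact ⟨e, by rw [e]; exact (s1.mul s2).mul s4⟩
  have f0 : ∀ v, ent (E v) (Sum.inl a) (neg (Sum.inl a)) = 0 := by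
    apply const_zero ⟨z, z0, z1⟩
    · intro u v
      rw [h3, (hform u).2.ent_mul (hform v).2 q1 q2]
    · intro μ v hμ
      obtain ⟨ν, hν⟩ := hroot (Units.mk0 μ hμ)
      have hν' : (ν : F) ^ 2 = μ := by rw [← Units.val_pow_eq_pow_val, hν]; rfl
      rw [← hν', ← hE, ent_conj_sh, ev_one_ne hd, Units.val_one, one_mul, one_mul]
  have e0 : E 0 = 1 := by
    have := h3 0 0
    rw [add_zero] at this
    exact (left_eq_mul.1 this)
  have f1 : ∀ v, ent (E (v ^ 2)) (Sum.inl a) (neg (Sum.inl b)) = ent (E 1) (Sum.inl a) (neg (Sum.inl b)) * v := by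
    intro v
    by_cases hv : v = 0
    · subst hv
      rw [zero_pow two_ne_zero, e0, ent_one, if_neg (fun e => by rw [neg_inl] at e; cases e), mul_zero]
    · have := hE (Units.mk0 v hv) 1
      rw [Units.val_mk0, mul_one] at this
      rw [← this, ent_conj_sh, ev_one_ne hd, ev_one_self, Units.val_one, Units.val_mk0, one_mul, mul_comm]
  have f2 : ∀ v, ent (E v) (Sum.inl b) (neg (Sum.inl b)) = ent (E 1) (Sum.inl b) (neg (Sum.inl b)) * v := by
    intro v
    by_cases hv : v = 0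
    · subst hv
      rw [e0, ent_one, if_neg (fun e => by rw [neg_inl] at e; cases e), mul_zero]
    · obtain ⟨ν, hν⟩ := hroot (Units.mk0 v hv)
      have hν' : (ν : F) ^ 2 = v := by rw [← Units.val_pow_eq_pow_val, hν]; rfl
      have := hE ν 1
      rw [mul_one] at this
      rw [← hν', ← this, ent_conj_sh, ev_one_self]; ring
  set θ := ent (E 1) (Sum.inl a) (neg (Sum.inl b)) with hθ
  set k := ent (E 1) (Sum.inl b) (neg (Sum.inl b)) with hk
  -- `k = 1`
  obtain ⟨s, hs⟩ := hw.sq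
  have hk1 : k = 1 := by
    have h5 : Commute (w * w) (R.y (Sum.inl b) 1) := by
      rw [hs]; exact R.y_comm hd.symm.2 _ _
    have hx := hw.x12 R ⟨z, z0, z1⟩ ha hb
    -- `w² y_2(1) w⁻²`
    have h6 : w * R.y (Sum.inl b) 1 * w⁻¹ = R.x (Sum.inl a) (Sum.inl b) θ * R.y (Sum.inl b) k := by
      rw [h1, (hform 1).1, f0, sy_zero, one_mul, map_mul]; rfl
    have h7 : R.y (Sum.inl b) 1 = R.x (Sum.inl a) (Sum.inl b) θ * R.ι (E k) := by
      calc R.y (Sum.inl b) 1 = (w * w) * R.y (Sum.inl b) 1 * (w * w)⁻¹ := by rw [h5.eq]; group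
        _ = w * (w * R.y (Sum.inl b) 1 * w⁻¹) * w⁻¹ := by group
        _ = (w * R.x (Sum.inl a) (Sum.inl b) θ) * w⁻¹ * (w * R.y (Sum.inl b) k * w⁻¹) := by rw [h6]; group
        _ = _ := by rw [(hx θ).eq, h1]; group
    have h8 : (sy (Sum.inl b) 1 : Sy n F) = sx (Sum.inl a) (Sum.inl b) θ * E k := by
      apply R.inj
      rw [map_mul]; exact h7
    have h9 := congrArg (fun A => ent A (Sum.inl b) (neg (Sum.inl b))) h8
    have s2 : Sg (sx (Sum.inl a) (Sum.inl b) θ : Sy n F) :=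
      Sg_sx (by rw [pos_inl]; exact a.2) (by rw [pos_inl]; exact b.2) θ
    simp only [s2.ent_mul (hform k).2 q1' q2', f2, ent_sy, ent_sx hd] at h9
    simp [hab.symm] at h9
    have h10 : (k - 1) * (k - 1) = 0 := by linear_combination -h9 - (k - 1) * (two0 : (2 : F) = 0)
    exact sub_eq_zero.mp (mul_self_eq_zero.mp h10)
  refine ⟨θ, fun v => ?_⟩
  rw [h1, (hform _).1, f0, f1, f2, hk1, sy_zero, one_mul, one_mul, map_mul]
  exact (R.y_x_comm hd.2 (ne_neg _) _ _).eq.symm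

/-! ### The structure `DL` -/

section DLsec

variable [Finite F]

/-- **Section 3 for the long root groups**: the doubles of the long root groups. -/
theorem exists_DL_V [Finite G] (hn : 3 ≤ n) (hq : ∃ c : F, c ≠ 0 ∧ c ≠ 1)
    (fus : ∀ u, ∃ g ∈ normalizer (R.T1 : Set G),
      (∀ y, (∃ v, y = R.y (Sum.inl ⟨0, by omega⟩) v) ↔ ∃ v, g * y * g⁻¹ = R.y (Sum.inl ⟨0, by omega⟩) v) ∧
      g * R.t * g⁻¹ = R.t * R.y (Sum.inl ⟨0, by omega⟩) u) : ∃ γ, ∃ D : DL R γ, D.V = R.V := by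
  set a : Fin n := ⟨0, by omega⟩ with ha
  set b : Fin n := ⟨1, by omega⟩ with hb
  set c : Fin n := ⟨2, by omega⟩ with hc
  have ha0 : a.val = 0 := rfl
  have hb1 : b.val = 1 := rfl
  have hc2 : c.val = 2 := rfl
  have hab : a ≠ b := fun e => by rw [e] at ha0; omega
  have hac : a ≠ c := fun e => by rw [e] at ha0; omega
  have hbc : b ≠ c := fun e => by rw [e] at hb1; omega
  have hmv := R.mvY hn hq (i := Sum.inl a) rfl fus
  have hMa : R.MvY (Sum.inl a) := fun u => by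
    obtain ⟨g, -, hg⟩ := hmv u
    exact ⟨g, hg⟩
  have hM : ∀ i, R.MvY i := R.MvY_all hMa
  have L : ∀ i, Loc R.t (R.y i) R.h (chiy i) := fun i => R.locY hn hq (hM i)
  have hnorm := R.V_norm hn hq (i := Sum.inl a) rfl hmv
  have hsq : ∀ x : F, ∃ y, y ^ 2 = x := by
    intro x
    by_cases hx : x = 0
    · exact ⟨0, by rw [hx, zero_pow two_ne_zero]⟩
    · obtain ⟨lam, hl⟩ := chiy_surj (n := n) (F := F) (Sum.inl a) (Units.mk0 x hx)
      refine ⟨ev lam (Sum.inl a), ?_⟩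
      rw [pow_two, ← Units.val_mul]
      exact congrArg Units.val hl
  have WYof : ∀ w ∈ R.V (Sum.inl a), R.WY w a := by
    intro w hw
    obtain ⟨u, hu⟩ := (L _).dbl_bs hw
    refine ⟨hnorm hw, fun lam hl => hu.1.1 lam ?_, hu.2⟩
    have : ev lam (Sum.inl a) = 1 := hl
    rw [chiy_apply, this, one_mul]
  -- transport by the Weyl group
  have back : ∀ (s : W n) {i : Ix n} {g : G}, g ∈ R.V (s.1 i) → (R.w s)⁻¹ * g * R.w s ∈ R.V i := by
    intro s i g hg
    have h1 := R.V_w s⁻¹ hg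
    rw [map_inv, inv_inv] at h1
    have h2 : (s⁻¹).1 (s.1 i) = i := perm_inv_apply_self s.1 i
    rwa [h2] at h1
  have inter : ∀ (m : G) {p q r : G}, p * q * p⁻¹ = r → (m * p * m⁻¹) * (m * q * m⁻¹) * (m * p * m⁻¹)⁻¹ = m * r * m⁻¹ := by
    intro m p q r h
    rw [← h]; group
  -- `[V_i, X_kl] = 1`
  have cx12 : ∀ i k, Dj i k → ∀ g ∈ R.V i, ∀ v, g * R.x i k v = R.x i k v * g := by
    intro i k hik g hg v
    obtain ⟨s, h1, h2⟩ := exists_W2 (dj_inl' hab) hik
    subst h1 h2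
    have h3 := (WYof _ (back s hg)).x12 R hq ha0 hb1 v
    have h4 := R.w_x s (Sum.inl a) (Sum.inl b) v
    rw [← h4]
    have h5 := h3.eq
    calc g * (R.w s * R.x (Sum.inl a) (Sum.inl b) v * (R.w s)⁻¹)
        = R.w s * (((R.w s)⁻¹ * g * R.w s) * R.x (Sum.inl a) (Sum.inl b) v) * (R.w s)⁻¹ := by group
      _ = _ := by rw [h5]; group
  have cx23 : ∀ i k l, Dj i k → Dj i l → Dj k l → ∀ g ∈ R.V i, ∀ v, g * R.x k l v = R.x k l v * g := by
    intro i k l hik hil hkl g hg v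
    obtain ⟨s, h1, h2, h3⟩ := exists_W3 (dj_inl' hab) (dj_inl' hac) (dj_inl' hbc) hik hil hkl
    subst h1 h2 h3
    have h3 := (WYof _ (back s hg)).x23 R hq ha0 hb1 hc2 v
    have h4 := R.w_x s (Sum.inl b) (Sum.inl c) v
    rw [← h4]
    have h5 := h3.eq
    calc g * (R.w s * R.x (Sum.inl b) (Sum.inl c) v * (R.w s)⁻¹)
        = R.w s * (((R.w s)⁻¹ * g * R.w s) * R.x (Sum.inl b) (Sum.inl c) v) * (R.w s)⁻¹ := by group
      _ = _ := by rw [h5]; group
  -- the constant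
  obtain ⟨w1, hw1, hb1'⟩ := (L (Sum.inl a)).exists_dbl 1
  obtain ⟨γ, hγ⟩ := (WYof w1 hw1).y2 R hq ha0 hb1 hc2
  have par0 : ∀ g ∈ R.V (Sum.inl a), ∀ u, Mv R.t (R.y (Sum.inl a)) R.h (chiy (Sum.inl a)) g (u ^ 2) → ∀ v,
      g * R.y (Sum.inl b) (v ^ 2) * g⁻¹ = R.y (Sum.inl b) (v ^ 2) * R.x (Sum.inl a) (Sum.inl b) (γ * u * v) := by
    intro g hg u hu v
    by_cases hu0 : u = 0
    · subst hu0
      rw [zero_pow two_ne_zero] at hu
      obtain ⟨s, rfl⟩ := (L _).dbl_zero hg hu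
      have e := (R.y_comm (i := Sum.inl a) (j := Sum.inl b) (dj_inl' hab).symm.2 s (v ^ 2)).eq
      rw [e, mul_zero, zero_mul, R.x_zero, mul_one]; group
    · set lam := one (Sum.inl a) (Units.mk0 u hu0) with hlam
      have hg2 : R.h lam * w1 * (R.h lam)⁻¹ ∈ R.V (Sum.inl a) := (L _).dbl_h hw1 lam
      have hm2 := (L _).mv_h hb1'.1 lam
      have e1 : ((chiy (Sum.inl a) lam : Fˣ) : F) * 1 = u ^ 2 := by
        rw [mul_one, chiy_apply, hlam, ev_one_self, Units.val_mul, Units.val_mk0, pow_two]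
      rw [e1] at hm2
      -- `g = h w₁ h⁻¹ y_a(s)`
      have h1 := (L _).mv_mul ((L _).mv_inv hm2) hu
      rw [CharTwo.add_self_eq_zero] at h1
      obtain ⟨s, hs⟩ := (L _).dbl_zero (mul_mem (inv_mem hg2) hg) h1
      have hg3 : g = R.h lam * w1 * (R.h lam)⁻¹ * R.y (Sum.inl a) s := by rw [← hs]; group
      have e2 := (R.y_comm (i := Sum.inl a) (j := Sum.inl b) (dj_inl' hab).symm.2 s (v ^ 2)).eq
      have e3 : (R.h lam)⁻¹ * R.y (Sum.inl b) (v ^ 2) * R.h lam = R.y (Sum.inl b) (v ^ 2) := by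
        have := R.h_y lam⁻¹ (Sum.inl b) (v ^ 2)
        have e4 : ev lam⁻¹ (Sum.inl b) = 1 := by
          have e5 : ev lam⁻¹ (Sum.inl b) = (ev lam (Sum.inl b))⁻¹ := map_inv (evM (Sum.inl b)) lam
          rw [e5, hlam, ev_one_ne (dj_inl' hab).symm, inv_one]
        rwa [map_inv, inv_inv, e4, Units.val_one, one_pow, one_mul] at this
      have e5 : R.h lam * R.y (Sum.inl b) (v ^ 2) * (R.h lam)⁻¹ = R.y (Sum.inl b) (v ^ 2) := by
        rw [R.h_y, hlam, ev_one_ne (dj_inl' hab).symm, Units.val_one, one_pow, one_mul]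
      have e6 : R.h lam * R.x (Sum.inl a) (Sum.inl b) (γ * v) * (R.h lam)⁻¹ =
          R.x (Sum.inl a) (Sum.inl b) (γ * u * v) := by
        rw [R.h_x, hlam, ev_one_ne (dj_inl' hab).symm, ev_one_self, Units.val_one, Units.val_mk0, mul_one]
        congr 1; ring
      rw [hg3]
      calc R.h lam * w1 * (R.h lam)⁻¹ * R.y (Sum.inl a) s * R.y (Sum.inl b) (v ^ 2) *
            (R.h lam * w1 * (R.h lam)⁻¹ * R.y (Sum.inl a) s)⁻¹
          = R.h lam * w1 * (R.h lam)⁻¹ * (R.y (Sum.inl a) s * R.y (Sum.inl b) (v ^ 2)) * (R.y (Sum.inl a) s)⁻¹ *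
            R.h lam * w1⁻¹ * (R.h lam)⁻¹ := by group
        _ = R.h lam * (w1 * ((R.h lam)⁻¹ * R.y (Sum.inl b) (v ^ 2) * R.h lam) * w1⁻¹) * (R.h lam)⁻¹ := by
            rw [e2]; group
        _ = (R.h lam * R.y (Sum.inl b) (v ^ 2) * (R.h lam)⁻¹) *
            (R.h lam * R.x (Sum.inl a) (Sum.inl b) (γ * v) * (R.h lam)⁻¹) := by
            rw [e3, hγ]; group
        _ = _ := by rw [e5, e6]
  refine ⟨γ, {
    V := R.V
    y_mem := fun i u => (L i).x_mem_dbl u
    ht := fun i g hg => by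
      obtain ⟨u, hu⟩ := (L i).dbl_bs hg
      exact ⟨u, (L i).tgt hu.1⟩
    onto := fun i u => by
      obtain ⟨g, hg, hu⟩ := (L i).exists_dbl u
      exact ⟨g, hg, (L i).tgt hu.1⟩
    ker := fun i g hg h => by
      obtain ⟨u, hu⟩ := (L i).dbl_bs hg
      have h1 : u = 0 := (L i).of_tgt hu.1 (by rw [h, R.y_zero, mul_one])
      subst h1
      exact (L i).dbl_zero hg hu.1
    comm := fun i g hg g' hg' => by
      obtain ⟨w, -, h2, h3, -, h5, -⟩ := (L i).exists_w hsq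
      obtain ⟨p, r, rfl⟩ := (h2 g).1 hg
      obtain ⟨p', r', rfl⟩ := (h2 g').1 hg'
      have c1 : Commute (w p) (w p') := h5 p p'
      have c2 : Commute (w p) (R.y i r') := (h3 p).1.2.1 r'
      have c3 : Commute (w p') (R.y i r) := (h3 p').1.2.1 r
      have c4 : Commute (R.y i r) (R.y i r') := (L i).xx r r'
      exact ((c1.mul_right c2).mul_left (c3.symm.mul_right c4)).eq
    torus := fun i g hg lam => (L i).dbl_h hg lam
    torus_one := fun i g hg lam hl => by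
      obtain ⟨u, hu⟩ := (L i).dbl_bs hg
      exact (hu.1.1 lam (by rw [chiy_apply, hl, one_mul])).eq.symm
    weyl := fun i g hg s => R.V_w s hg
    cx := fun i g hg k l v hk hl => by
      by_cases hkl : Dj k l
      · by_cases h1 : k = i
        · subst h1
          exact cx12 k l hkl g hg v
        by_cases h2 : l = i
        · subst h2
          rw [R.x_symm]
          exact cx12 l k hkl.symm g hg v
        · have d1 : Dj i k := ⟨fun e => h1 e.symm, fun e => hk (by rw [e, neg_neg])⟩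
          have d2 : Dj i l := ⟨fun e => h2 e.symm, fun e => hl (by rw [e, neg_neg])⟩
          exact cx23 i k l d1 d2 hkl g hg v
      · rw [R.x_of_not hkl, mul_one, one_mul]
    cy := fun i g hg v => by
      obtain ⟨u, hu⟩ := (L i).dbl_bs hg
      exact (hu.1.2.1 v).eq
    par := fun i k hik g hg u hgu v => by
      obtain ⟨s, h1, h2⟩ := exists_W2 (dj_inl' hab) hik
      subst h1 h2
      have hg' := back s hg
      obtain ⟨u', hu'⟩ := (L _).dbl_bs hg
      have hu'' : u' = u ^ 2 := (L _).of_tgt hu'.1 hgu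
      subst hu''
      have hm : Mv R.t (R.y (Sum.inl a)) R.h (chiy (Sum.inl a)) ((R.w s)⁻¹ * g * R.w s) (u ^ 2) := by
        have h3 := (R.cjgY s⁻¹ (s.1 (Sum.inl a))).mv hu'.1
        have h4 : (s⁻¹).1 (s.1 (Sum.inl a)) = Sum.inl a := perm_inv_apply_self s.1 _
        rw [map_inv, inv_inv, h4] at h3
        exact h3
      have h5 := inter (R.w s) (par0 _ hg' u hm v)
      have e1 : R.w s * ((R.w s)⁻¹ * g * R.w s) * (R.w s)⁻¹ = g := by group
      have e2 : R.w s * (R.y (Sum.inl b) (v ^ 2) * R.x (Sum.inl a) (Sum.inl b) (γ * u * v)) * (R.w s)⁻¹ =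
          R.y (s.1 (Sum.inl b)) (v ^ 2) * R.x (s.1 (Sum.inl a)) (s.1 (Sum.inl b)) (γ * u * v) := by
        rw [← R.w_y, ← R.w_x]; group
      rw [e1, e2, R.w_y] at h5
      have hd := (W_dj s).2 (dj_inl' hab)
      rw [commutatorElement_def, h5]
      have c1 := (R.y_x_comm (i := s.1 (Sum.inl b)) (j := s.1 (Sum.inl a)) (k := s.1 (Sum.inl b)) hd.2
        (ne_neg _) (v ^ 2) (γ * u * v)).eq
      rw [c1]; group }, rfl⟩

theorem exists_DL [Finite G] (hn : 3 ≤ n) (hq : ∃ c : F, c ≠ 0 ∧ c ≠ 1)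
    (fus : ∀ u, ∃ g ∈ normalizer (R.T1 : Set G),
      (∀ y, (∃ v, y = R.y (Sum.inl ⟨0, by omega⟩) v) ↔ ∃ v, g * y * g⁻¹ = R.y (Sum.inl ⟨0, by omega⟩) v) ∧
      g * R.t * g⁻¹ = R.t * R.y (Sum.inl ⟨0, by omega⟩) u) : ∃ γ, Nonempty (DL R γ) := by
  obtain ⟨γ, D, -⟩ := R.exists_DL_V hn hq fus
  exact ⟨γ, ⟨D⟩⟩

end DLsec

end Frame

end Cfsg.Agent.OddHalf.SpN
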