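import Mathlib
import Cfsg.Agent.OddHalf.SpN.StartClean
import Cfsg.Agent.OddHalf.SpN.CCInst
import Cfsg.Agent.OddHalf.SpN.COneEnd
import Cfsg.Agent.OddHalf.SpN.OfDS
import Cfsg.Agent.OddHalf.SpN.W3L
import Cfsg.Agent.OddHalf.SpN.DSInst

/-!
# ODD D7, `K = Sp_2n(q)`, `n ≥ 3`, `q ≥ 4` even, clean case: the master (helper678)

`CFrame.exists_hom`: if `t` is not isolated in `T₁ = ⟨t⟩ U`, then `t ↦ -1` for some homomorphism `G →* {±1}`.
Patterns: only long, only short, all moved; the last one splits into (C,C) and (C,O).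
-/

set_option autoImplicit false

namespace Cfsg.Agent.OddHalf.SpN

open Cfsg.Agent.ClassicalGeometry.SympBasic
open Subgroup WExist

variable {n : ℕ} {F : Type*} [Field F] [CharP F 2] [Finite F] {G : Type*} [Group G]

/-- pattern ALL, clean -/
theorem CFrame.exists_hom_all [Finite G] (R : CFrame n F G) (hn : 3 ≤ n) (hq : ∃ a : F, a ≠ 0 ∧ a ≠ 1) {δ γ : F}
    (D : DS R.toFrame δ) (V : DL R.toFrame γ) : ∃ m : G →* ℤˣ, m R.t = -1 := by
  rcases exists_cone_or_hom D V hn hq (by rw [UpP_eq]; exact R.odd_cent) with ⟨⟨C⟩⟩ | h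
  · obtain ⟨μ, hμ⟩ := exists_unit_neB hq
    exact C.exists_hom' hn (μ := μ) (fun e => hμ (by rw [e]; rfl))
  · exact h

namespace Frame

variable (R : Frame n F G)

omit [Finite F] in
theorem conj_y_all {i : Ix n} {a : F} (h : IsConj R.t (R.t * R.y i a)) (j : Ix n) :
    IsConj R.t (R.t * R.y j a) := by
  obtain ⟨s, rfl⟩ := exists_W1 i j
  obtain ⟨g, hg⟩ := isConj_iff.1 h
  refine isConj_iff.2 ⟨R.w s * g, ?_⟩
  have h1 := (R.w_t s).eq
  have h2 := R.w_y s i a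
  calc R.w s * g * R.t * (R.w s * g)⁻¹ = R.w s * (g * R.t * g⁻¹) * (R.w s)⁻¹ := by group
    _ = (R.w s * R.t) * R.y i a * (R.w s)⁻¹ := by rw [hg]; group
    _ = R.t * (R.w s * R.y i a * (R.w s)⁻¹) := by rw [h1]; group
    _ = _ := by rw [h2]

omit [Finite F] in
theorem conj_x_all {i j : Ix n} (hij : Dj i j) {a : F} (h : IsConj R.t (R.t * R.x i j a)) {k l : Ix n}
    (hkl : Dj k l) : IsConj R.t (R.t * R.x k l a) := by
  obtain ⟨s, rfl, rfl⟩ := exists_W2 hij hkl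
  obtain ⟨g, hg⟩ := isConj_iff.1 h
  refine isConj_iff.2 ⟨R.w s * g, ?_⟩
  have h1 := (R.w_t s).eq
  have h2 := R.w_x s i j a
  calc R.w s * g * R.t * (R.w s * g)⁻¹ = R.w s * (g * R.t * g⁻¹) * (R.w s)⁻¹ := by group
    _ = (R.w s * R.t) * R.x i j a * (R.w s)⁻¹ := by rw [hg]; group
    _ = R.t * (R.w s * R.x i j a * (R.w s)⁻¹) := by rw [h1]; group
    _ = _ := by rw [h2]

end Frame

/-- the fusion in the form of section 3 from `Mv` -/
theorem fus_of_mv {t : G} {T1 : Subgroup G} {A : Type*} [CommGroup A] {x : F → G} {h : A →* G} {χ : A →* Fˣ}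
    (hm : ∀ u, ∃ g ∈ normalizer (T1 : Set G), Mv t x h χ g u) : ∀ u, ∃ g ∈ normalizer (T1 : Set G),
      (∀ y, (∃ v, y = x v) ↔ ∃ v, g * y * g⁻¹ = x v) ∧ g * t * g⁻¹ = t * x u := by
  intro u
  obtain ⟨g, hg, -, h2, h3⟩ := hm u
  refine ⟨g, hg, fun y => ⟨?_, ?_⟩, h3⟩
  · rintro ⟨v, rfl⟩
    exact ⟨v, by rw [(h2 v).eq]; group⟩
  · rintro ⟨v, hv⟩
    refine ⟨v, ?_⟩
    calc y = g⁻¹ * (g * y * g⁻¹) * g := by group
      _ = g⁻¹ * (x v * g) := by rw [hv]; group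
      _ = x v := by rw [← (h2 v).eq]; group

/-- **The clean case.** -/
theorem CFrame.exists_hom [Finite G] (R : CFrame n F G) (hn : 3 ≤ n) (hq : ∃ a : F, a ≠ 0 ∧ a ≠ 1)
    (hni : ¬ D7Out.Defs.Iso R.t R.T1) : ∃ m : G →* ℤˣ, m R.t = -1 := by
  obtain ⟨a, ha⟩ : ∃ a : Fin n, a = ⟨0, by omega⟩ := ⟨⟨0, by omega⟩, rfl⟩
  obtain ⟨b, hb⟩ : ∃ a : Fin n, a.val = 1 := ⟨⟨1, by omega⟩, rfl⟩
  obtain ⟨c, hc⟩ : ∃ a : Fin n, a.val = 2 := ⟨⟨2, by omega⟩, rfl⟩
  have ha0 : a.val = 0 := by rw [ha]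
  have hab : a ≠ b := by rintro rfl; omega
  have hd : Dj (Sum.inl a : Ix n) (Sum.inl b) := ⟨fun e => hab (Sum.inl_injective e), fun e => by cases e⟩
  have L : ∀ (i : Ix n) (s : F), s ≠ 0 → IsConj R.t (R.t * R.y i s) → ∃ γ : F, Nonempty (DL R.toFrame γ) :=
    fun i s hs h => by
      have h1 := R.movesY hq ha0 hb hc hs (R.conj_y_all h _)
      rw [ha] at h1
      exact R.exists_DL hn hq (fus_of_mv h1)
  have S : ∀ (i j : Ix n) (s : F), Dj i j → s ≠ 0 → IsConj R.t (R.t * R.x i j s) →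
      ∃ δ : F, Nonempty (DS R.toFrame δ) :=
    fun i j s hij hs h => by
      obtain ⟨δ, D, -⟩ := R.exists_DS hn hq ha0 hb (R.movesX hq ha0 hb hc hs (R.conj_x_all hij h hd))
      exact ⟨δ, ⟨D⟩⟩
  by_cases hl : ∃ (i : Ix n) (s : F), s ≠ 0 ∧ IsConj R.t (R.t * R.y i s)
  · obtain ⟨i, s, hs, h⟩ := hl
    obtain ⟨γ, ⟨V⟩⟩ := L i s hs h
    by_cases hsh : ∃ (i j : Ix n) (s : F), Dj i j ∧ s ≠ 0 ∧ IsConj R.t (R.t * R.x i j s)
    · obtain ⟨i, j, s, hij, hs, h⟩ := hsh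
      obtain ⟨δ, ⟨D⟩⟩ := S i j s hij hs h
      exact R.exists_hom_all hn hq D V
    · push Not at hsh
      refine R.exists_hom_l hn ?_ V fun i j s hij hs h => hsh i j s hij hs h
      obtain ⟨x, h0, h1⟩ := hq
      have := Fintype.ofFinite F
      classical
      rw [Nat.card_eq_fintype_card, ← Finset.card_univ]
      have h3 : ({0, 1, x} : Finset F).card = 3 := by
        rw [Finset.card_eq_three]
        exact ⟨0, 1, x, zero_ne_one, h0.symm, h1.symm, rfl⟩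
      rw [← h3]
      exact Finset.card_le_card (Finset.subset_univ _)
  · push Not at hl
    rcases R.start hq ha0 hb hc hni with ⟨s, hs, h⟩ | ⟨s, hs, h⟩
    · exact absurd h (hl _ s hs)
    · obtain ⟨δ, ⟨D⟩⟩ := S _ _ s hd hs h
      exact R.exists_hom_s hn (exists_unit_neB hq) D fun i s hs h => hl i s hs h

end Cfsg.Agent.OddHalf.SpN
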