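import Mathlib
import Cfsg.Agent.OddHalf.F4.EndOut
import Cfsg.Agent.OddHalf.SpN.GradeOf

/-!
# Tools for the END with an outer 2-part (helper200)

* `card_lt`: `|U*| < |U|²` if one marked level is not trivial;
* `card_fix_sq_le`: `|{a | c σ(a) = a}|² ≤ |F|` for an automorphism `σ ≠ 1`;
* `card_double`, `card_single`: `|C_V(y)|² ≤ |V|` for a double `V`, and for a root group;
* `hfld_of`, `hDN_of`: the hypotheses of `EndOut.end_out'` for a graded group from a family of root groups.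
-/

set_option autoImplicit false

namespace Cfsg.Agent.OddHalf.SpN.OutGrd

open Cfsg.Agent.OddHalf.F4 Cfsg.Agent.OddHalf.F4.EndO Subgroup

variable {G : Type*} [Group G]

section grd

variable {t : G} {V X : ℕ → Subgroup G} {lg : ℕ → Prop} {R n : ℕ}

theorem card_NV_le [Finite G] (h : Grd t V X lg R n) {k : ℕ} (hk : 1 ≤ k) :
    Nat.card (N V k) ≤ Nat.card (V k) * Nat.card (N V (k + 1)) := by
  have h1 := (Grd.card_aux (A := N V k) (B := V k) (M := N V (k + 1)) (fun g hg => by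
    obtain ⟨v, hv, g', hg', rfl⟩ := h.decomp hk hg
    exact ⟨v, hv, by rw [inv_mul_cancel_left]; exact hg'⟩)).1
  have h2 : N V k ⊓ N V (k + 1) = N V (k + 1) := inf_eq_right.2 (N_anti V (Nat.le_succ k))
  rwa [h2] at h1

theorem card_V_le [Finite G] (h : Grd t V X lg R n) (k : ℕ) : Nat.card (V k) ≤ Nat.card (X k) ^ 2 := by
  classical
  have h1 : ∀ v : V k, (v : G)⁻¹ * (t * v * t) ∈ X k := fun v => h.brk v.2
  let β : V k → X k := fun v => ⟨_, h1 v⟩
  let I : Set (X k) := Set.range β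
  have hs : ∀ b : I, ∃ a : V k, β a = b.1 := fun b => b.2
  choose s hs using hs
  have hmem : ∀ a : V k, (s ⟨β a, a, rfl⟩ : G)⁻¹ * a ∈ X k := by
    intro a
    set b := s ⟨β a, a, rfl⟩ with hb
    have h2 : β b = β a := hs _
    have h3 : (b : G)⁻¹ * (t * b * t) = (a : G)⁻¹ * (t * a * t) := congrArg Subtype.val h2
    refine h.fix k _ (mul_mem (inv_mem b.2) a.2) ?_
    have h4 : t * (b : G) * t = b * ((a : G)⁻¹ * (t * a * t)) := by rw [← h3]; group
    rw [h.conj_mul, h.conj_inv, h4]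
    have h5 : Commute (a : G) (t * a * t) := h.V_comm a.2 (h.conj k _ a.2)
    have h6 : Commute (b : G) (a : G) := h.V_comm b.2 a.2
    have h7 : Commute (b : G) (t * a * t) := h.V_comm b.2 (h.conj k _ a.2)
    calc ((b : G) * ((a : G)⁻¹ * (t * a * t)))⁻¹ * (t * a * t) =
        ((t * a * t)⁻¹ * a) * ((b : G)⁻¹ * (t * a * t)) := by group
      _ = ((t * a * t)⁻¹ * a) * ((t * a * t) * (b : G)⁻¹) := by rw [(h7.inv_left).eq]
      _ = (t * a * t)⁻¹ * (a * (t * a * t)) * (b : G)⁻¹ := by group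
      _ = a * (b : G)⁻¹ := by rw [h5.eq]; group
      _ = (b : G)⁻¹ * a := h6.inv_left.symm.eq
  let f : V k → X k × X k := fun a => (β a, ⟨_, hmem a⟩)
  have hf : Function.Injective f := by
    intro a a' haa
    have h1 : β a = β a' := congrArg (fun z => z.1) haa
    have h2 : (s ⟨β a, a, rfl⟩ : G)⁻¹ * a = (s ⟨β a', a', rfl⟩ : G)⁻¹ * a' :=
      congrArg (fun z => ((z.2 : X k) : G)) haa
    have h3 : (⟨β a, a, rfl⟩ : I) = ⟨β a', a', rfl⟩ := Subtype.ext h1
    rw [h3] at h2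
    exact Subtype.ext (mul_left_cancel h2)
  have := Nat.card_le_card_of_injective f hf
  rw [Nat.card_prod] at this
  rwa [sq]

/-- `|U*| < |U|²` -/
theorem card_lt [Finite G] (h : Grd t V X lg R n) {k0 : ℕ} (hk0 : 1 ≤ k0) (hl : lg k0) (hX : X k0 ≠ ⊥) :
    Nat.card (N V 1) < Nat.card (N X 1) ^ 2 := by
  have hlt : Nat.card (V k0) < Nat.card (X k0) ^ 2 := by
    have h1 : V k0 = X k0 := le_antisymm (h.lgV k0 hl) (h.X_le k0)
    rw [h1]
    have h2 : 1 < Nat.card (X k0) := by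
      have : Nontrivial (X k0) := nontrivial_iff_ne_bot _ |>.2 hX
      exact Finite.one_lt_card
    nlinarith
  have main : ∀ c k : ℕ, n < k + c → 1 ≤ k →
      Nat.card (N V k) ≤ Nat.card (N X k) ^ 2 ∧ (k ≤ k0 → Nat.card (N V k) < Nat.card (N X k) ^ 2) := by
    intro c
    induction c with
    | zero =>
      intro k hk hk1
      have h1 : N V k = ⊥ := h.top_N (by omega)
      refine ⟨?_, fun hkk => ?_⟩
      · rw [h1, card_bot]
        have : 0 < Nat.card (N X k) := Nat.card_pos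
        nlinarith
      · exfalso
        apply hX
        rw [eq_bot_iff]
        exact (h.X_le k0).trans ((h.top k0 (by omega)).le)
    | succ c ih =>
      intro k hk hk1
      obtain ⟨ih1, ih2⟩ := ih (k + 1) (by omega) (by omega)
      have h1 := card_NV_le h hk1
      have h2 := card_V_le h k
      have h3 := h.card_NX hk1
      have h4 : (Nat.card (X k) * Nat.card (N X (k + 1))) ^ 2 ≤ Nat.card (N X k) ^ 2 := Nat.pow_le_pow_left h3 2
      rw [mul_pow] at h4
      refine ⟨h1.trans ((Nat.mul_le_mul h2 ih1).trans h4), fun hkk => ?_⟩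
      rcases hkk.eq_or_lt with rfl | hlt'
      · refine lt_of_le_of_lt h1 (lt_of_lt_of_le ?_ h4)
        exact Nat.mul_lt_mul_of_lt_of_le hlt ih1 (pow_pos Nat.card_pos 2)
      · refine lt_of_le_of_lt h1 (lt_of_lt_of_le ?_ h4)
        exact Nat.mul_lt_mul_of_le_of_lt h2 (ih2 hlt') (pow_pos Nat.card_pos 2)
  exact (main (n + 1) 1 (by omega) le_rfl).2 hk0

end grd

section card

variable {F : Type*} [Field F] [Finite F]

/-- the fixed points of a semilinear map -/
theorem card_fix_sq_le (σ : F ≃+* F) (h1 : ∃ a, σ a ≠ a) (c : F) :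
    Nat.card {a : F // c * σ a = a} ^ 2 ≤ Nat.card F := by
  obtain ⟨θ, hθ⟩ := h1
  rw [sq, ← Nat.card_prod]
  refine Nat.card_le_card_of_injective
    (fun z : {a : F // c * σ a = a} × {a : F // c * σ a = a} => (z.1 : F) + z.2 * θ) ?_
  rintro ⟨⟨a, ha⟩, ⟨b, hb⟩⟩ ⟨⟨a', ha'⟩, ⟨b', hb'⟩⟩ he
  have he' : a + b * θ = a' + b' * θ := he
  have hα : c * σ (a - a') = a - a' := by rw [map_sub, mul_sub, ha, ha']
  have hβ : c * σ (b' - b) = b' - b := by rw [map_sub, mul_sub, hb, hb']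
  have h2 : a - a' = (b' - b) * θ := by linear_combination he'
  by_cases h0 : b' - b = 0
  · have h3 : a - a' = 0 := by rw [h2, h0, zero_mul]
    have h4 : a = a' := sub_eq_zero.1 h3
    have h5 : b' = b := sub_eq_zero.1 h0
    subst h4; subst h5; rfl
  · exfalso
    apply hθ
    have h3 : c * σ ((b' - b) * θ) = (b' - b) * θ := by rw [← h2]; exact hα
    rw [map_mul, ← mul_assoc, hβ] at h3
    exact mul_left_cancel₀ h0 h3

/-- the fixed points of `y` on a root group -/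
theorem card_single [Finite G] {X : Subgroup G} {Y : F → G} (hX : ∀ g, g ∈ X ↔ ∃ a, g = Y a)
    (inj : ∀ a b, Y a = Y b → a = b) {y : G} {c : F} {σ : F ≃+* F} (hσ : ∃ a, σ a ≠ a)
    (hy : ∀ a, y * Y a * y⁻¹ = Y (c * σ a)) :
    Nat.card (X ⊓ centralizer {y} : Subgroup G) ^ 2 ≤ Nat.card X := by
  have h1 : Nat.card (X ⊓ centralizer {y} : Subgroup G) ≤ Nat.card {a : F // c * σ a = a} := by
    have hc : ∀ z : (X ⊓ centralizer {y} : Subgroup G), ∃ a : {a : F // c * σ a = a}, (z : G) = Y a := by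
      rintro ⟨z, hz, hz'⟩
      obtain ⟨a, rfl⟩ := (hX z).1 hz
      refine ⟨⟨a, inj _ _ ?_⟩, rfl⟩
      rw [← hy]
      have := mem_centralizer_singleton_iff.1 hz'
      rw [← this]; group
    choose f hf using hc
    refine Nat.card_le_card_of_injective f fun z z' h => Subtype.ext ?_
    rw [hf z, hf z', h]
  have h2 : Nat.card F ≤ Nat.card X :=
    Nat.card_le_card_of_injective (fun a => (⟨Y a, (hX _).2 ⟨a, rfl⟩⟩ : X))
      fun a b h => inj _ _ (congrArg Subtype.val h)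
  exact ((Nat.pow_le_pow_left h1 2).trans (card_fix_sq_le σ hσ c)).trans h2

/-- the fixed points of `y` on a double of a root group -/
theorem card_double [Finite G] {V : Subgroup G} {t : G} {Y : F → G} (hadd : ∀ a b, Y (a + b) = Y a * Y b)
    (inj : ∀ a b, Y a = Y b → a = b) (mem : ∀ a, Y a ∈ V)
    (ht : ∀ g ∈ V, ∃ u, t * g * t = g * Y u) (onto : ∀ u, ∃ g ∈ V, t * g * t = g * Y u)
    (ker : ∀ g ∈ V, t * g * t = g → ∃ a, g = Y a) (Yt : ∀ a, t * Y a * t = Y a) (hc : ∀ g ∈ V, ∀ a, g * Y a = Y a * g) (tt : t * t = 1)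
    {y : G} (hyt : Commute y t) {c : F} {σ : F ≃+* F} (hσ : ∃ a, σ a ≠ a)
    (hy : ∀ a, y * Y a * y⁻¹ = Y (c * σ a)) :
    Nat.card (V ⊓ centralizer {y} : Subgroup G) ^ 2 ≤ Nat.card V := by
  classical
  set E := {a : F // c * σ a = a} with hE
  have hEc : Nat.card E ^ 2 ≤ Nat.card F := card_fix_sq_le σ hσ c
  have tinv : t⁻¹ = t := inv_eq_of_mul_eq_one_left tt
  have tm : ∀ a b : G, t * (a * b) * t = (t * a * t) * (t * b * t) := fun a b => by
    calc t * (a * b) * t = t * a * 1 * b * t := by group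
      _ = _ := by rw [← tt]; group
  have ti : ∀ a : G, t * a⁻¹ * t = (t * a * t)⁻¹ := fun a => by
    rw [mul_inv_rev, mul_inv_rev, tinv, mul_assoc]
  -- same height
  have same : ∀ g ∈ V, ∀ g' ∈ V, ∀ u, t * g * t = g * Y u → t * g' * t = g' * Y u → ∃ a, g' = g * Y a := by
    intro g hg g' hg' u h1 h2
    obtain ⟨a, ha⟩ := ker (g⁻¹ * g') (mul_mem (inv_mem hg) hg') (by
      rw [tm, ti, h1, h2, hc g hg u]
      have h3 := hc g' hg' u
      calc (Y u * g)⁻¹ * (g' * Y u) = g⁻¹ * ((Y u)⁻¹ * (g' * Y u)) := by group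
        _ = g⁻¹ * g' := by rw [h3]; group)
    exact ⟨a, by rw [← ha]; group⟩
  -- `|F|² ≤ |V|`
  have hVF : Nat.card F ^ 2 ≤ Nat.card V := by
    choose r hr hrt using onto
    rw [sq, ← Nat.card_prod]
    refine Nat.card_le_card_of_injective (fun z : F × F => (⟨r z.1 * Y z.2, mul_mem (hr _) (mem _)⟩ : V)) ?_
    rintro ⟨u, a⟩ ⟨u', a'⟩ he
    have h1 : r u * Y a = r u' * Y a' := congrArg Subtype.val he
    have h2 : ∀ u a, t * (r u * Y a) * t = r u * Y a * Y u := by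
      intro u a
      rw [tm, hrt, Yt, mul_assoc, ← hadd, add_comm, hadd, mul_assoc]
    have h3 : Y u = Y u' := by
      have h4 := h2 u a
      rw [h1, h2 u' a'] at h4
      exact (mul_left_cancel h4).symm
    have h4 := inj _ _ h3
    subst h4
    have h5 := inj _ _ (mul_left_cancel h1)
    subst h5
    rfl
  -- `|C| ≤ |E|²`
  set C : Subgroup G := V ⊓ centralizer {y} with hC
  have hCm : ∀ z ∈ C, z ∈ V ∧ y * z * y⁻¹ = z := by
    rintro z ⟨h1, h2⟩
    refine ⟨h1, ?_⟩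
    rw [← mem_centralizer_singleton_iff.1 h2]; group
  have hcE : ∀ z : C, ∃ u : E, t * (z : G) * t = z * Y u := by
    rintro ⟨z, hz⟩
    obtain ⟨h1, h2⟩ := hCm z hz
    obtain ⟨u, hu⟩ := ht z h1
    refine ⟨⟨u, inj _ _ ?_⟩, hu⟩
    rw [← hy]
    have h3 : y⁻¹ * t = t * y⁻¹ := hyt.inv_left.eq
    have h4 : y * (t * z * t) * y⁻¹ = t * z * t := by
      calc y * (t * z * t) * y⁻¹ = (y * t) * z * (t * y⁻¹) := by group
        _ = t * (y * z * y⁻¹) * t := by rw [hyt.eq, ← h3]; group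
        _ = _ := by rw [h2]
    rw [hu] at h4
    have h5 : y * (z * Y u) * y⁻¹ = (y * z * y⁻¹) * (y * Y u * y⁻¹) := by group
    rw [h5, h2] at h4
    exact mul_left_cancel h4
  choose β hβ using hcE
  let I : Set E := Set.range β
  have hs : ∀ b : I, ∃ z : C, β z = b.1 := fun b => b.2
  choose s hs using hs
  have hmem : ∀ z : C, ∃ a : E, (z : G) = s ⟨β z, z, rfl⟩ * Y a := by
    intro z
    set b := s ⟨β z, z, rfl⟩ with hb
    have h2 : β b = β z := hs _
    obtain ⟨a, ha⟩ := same b (hCm b b.2).1 z (hCm z z.2).1 (β z) (by rw [← h2]; exact hβ b) (hβ z)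
    refine ⟨⟨a, inj _ _ ?_⟩, ha⟩
    rw [← hy]
    have h3 : Y a = (b : G)⁻¹ * z := by rw [ha]; group
    rw [h3]
    calc y * ((b : G)⁻¹ * z) * y⁻¹ = (y * b * y⁻¹)⁻¹ * (y * z * y⁻¹) := by group
      _ = _ := by rw [(hCm b b.2).2, (hCm z z.2).2]
  choose α hα using hmem
  have hle : Nat.card C ≤ Nat.card E ^ 2 := by
    rw [sq, ← Nat.card_prod]
    refine Nat.card_le_card_of_injective (fun z : C => (β z, α z)) ?_
    intro z z' h
    have h1 : β z = β z' := congrArg Prod.fst h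
    have h2 : α z = α z' := congrArg Prod.snd h
    have h3 : (⟨β z, z, rfl⟩ : I) = ⟨β z', z', rfl⟩ := Subtype.ext h1
    apply Subtype.ext
    rw [hα z, hα z', h3, h2]
  calc Nat.card C ^ 2 ≤ (Nat.card E ^ 2) ^ 2 := Nat.pow_le_pow_left hle 2
    _ ≤ Nat.card F ^ 2 := Nat.pow_le_pow_left hEc 2
    _ ≤ Nat.card V := hVF

end card

section fam

open GradeOf

variable {P : Type*} {t : G} {deg : P → ℕ} {V X : P → Subgroup G} {lg : ℕ → Prop} {R n : ℕ}

theorem hDN_of (hV : ∀ p q, 0 < deg p → deg p = deg q → V p = V q) {y : G}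
    (hy : ∀ p, 0 < deg p → ∀ v ∈ V p, y * v * y⁻¹ ∈ V p) {i : ℕ} {v : G}
    (hv : v ∈ N (Vd deg V) i) : y * v * y⁻¹ ∈ N (Vd deg V) i := by
  have h1 : ∀ j, ∀ v ∈ Vd deg V j, y * v * y⁻¹ ∈ Vd deg V j := by
    intro j v hv
    by_cases h : ∃ p, 0 < deg p ∧ deg p = j
    · obtain ⟨p, hp, rfl⟩ := h
      rw [Vd_eq hV hp] at hv ⊢
      exact hy p hp v hv
    · push Not at h
      rw [Vd_bot h, mem_bot] at hv ⊢
      rw [hv]; group
  have h2 : N (Vd deg V) i ≤ (N (Vd deg V) i).comap (MulAut.conj y).toMonoidHom := by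
    refine N_le fun j hj v hv => ?_
    exact le_N _ hj (h1 j v hv)
  exact h2 hv

theorem hfld_of (h : Grd t (Vd deg V) (Vd deg X) lg R n)
    (hV : ∀ p q, 0 < deg p → deg p = deg q → V p = V q) {y : G}
    (hy : ∀ p, 0 < deg p → ∀ v ∈ V p, y * v * y⁻¹ ∈ V p)
    (hc : ∀ p, 0 < deg p → Nat.card (V p ⊓ centralizer {y} : Subgroup G) ^ 2 ≤ Nat.card (V p)) {i : ℕ} (hi : 1 ≤ i) :
    ∃ K : Subgroup G, (∀ v ∈ Vd deg V i, v⁻¹ * (y * v * y⁻¹) ∈ N (Vd deg V) (i + 1) → v ∈ K) ∧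
      Nat.card K ^ 2 ≤ Nat.card (Vd deg V i) := by
  by_cases h' : ∃ p, 0 < deg p ∧ deg p = i
  · obtain ⟨p, hp, rfl⟩ := h'
    have hVe := Vd_eq hV hp
    refine ⟨V p ⊓ centralizer {y}, fun v hv hv' => ?_, by rw [hVe]; exact hc p hp⟩
    have hv1 : v ∈ V p := by rwa [hVe] at hv
    refine ⟨hv1, mem_centralizer_singleton_iff.2 ?_⟩
    have h2 : v⁻¹ * (y * v * y⁻¹) ∈ Vd deg V (deg p) := by
      rw [hVe]; exact mul_mem (inv_mem hv1) (hy p hp v hv1)
    have h3 := h.ind hi h2 hv'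
    rw [inv_mul_eq_one] at h3
    calc v * y = (y * v * y⁻¹) * y := by rw [← h3]
      _ = y * v := by group
  · push Not at h'
    refine ⟨⊥, fun v hv _ => ?_, ?_⟩
    · rwa [Vd_bot h'] at hv
    · rw [card_bot, Vd_bot h', card_bot]; norm_num

end fam

end Cfsg.Agent.OddHalf.SpN.OutGrd
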