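import Mathlib
import Cfsg.Agent.OddHalf.SpN.OutEq
import Cfsg.Agent.OddHalf.SpN.OutGrd

/-!
# Patterns `{l}` and `{s}` with an outer 2-part, `q ≥ 4` (helper200)

`DL.out`, `DS.out` : `t` is not in the commutator subgroup of `G`, for a 2-group `T` as in `Frame.OutT`.
-/

set_option autoImplicit false
set_option maxHeartbeats 400000

namespace Cfsg.Agent.OddHalf.SpN

open Cfsg.Agent.OddHalf.F4.EndO Cfsg.Agent.OddHalf.F4 Subgroup
open scoped commutatorElement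

variable {n : ℕ} {F : Type*} [Field F] {G : Type*} [Group G] [CharP F 2] {R : Frame n F G}

theorem XP_dgC {p q : PP n} (hp : 0 < dN dgC p) (hpq : dN dgC p = dN dgC q) : R.XP p = R.XP q := by
  have h1 := dN_pos.1 hp
  have h2 := dN_pos.1 (hpq ▸ hp)
  rcases uniqC (p := p) (q := q) h1 (by rw [← dN_cast h1, ← dN_cast h2, hpq]) with rfl | rfl
  · rfl
  · exact R.XP_symm _ _

namespace Frame

variable (R)

/-- fixed points on `X_ij` -/
theorem card_xs [Finite F] [Finite G] {i j : Ix n} (hij : Dj i j) {y : G} {σ : F ≃+* F} {lam : Fin n → Fˣ}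
    (A : R.Sem y σ lam) (hσ : ∃ a, σ a ≠ a) :
    Nat.card (R.xs i j ⊓ centralizer {y} : Subgroup G) ^ 2 ≤ Nat.card (R.xs i j) :=
  OutGrd.card_single (Y := R.x i j) (fun _ => Iff.rfl) (fun _ _ => R.x_inj hij) hσ
    (fun a => A.yx i j hij a)

theorem card_ys [Finite F] [Finite G] {i : Ix n} {y : G} {σ : F ≃+* F} {lam : Fin n → Fˣ}
    (A : R.Sem y σ lam) (hσ : ∃ a, σ a ≠ a) :
    Nat.card (R.ys i ⊓ centralizer {y} : Subgroup G) ^ 2 ≤ Nat.card (R.ys i) :=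
  OutGrd.card_single (Y := R.y i) (fun _ => Iff.rfl) (fun _ _ => R.y_inj) hσ
    (fun a => A.yy i a)

theorem sem_xs {i j : Ix n} (hij : Dj i j) {y : G} {σ : F ≃+* F} {lam : Fin n → Fˣ} (A : R.Sem y σ lam) {v : G}
    (hv : v ∈ R.xs i j) : y * v * y⁻¹ ∈ R.xs i j := by
  obtain ⟨a, rfl⟩ := hv
  exact ⟨_, A.yx i j hij a⟩

theorem sem_ys {i : Ix n} {y : G} {σ : F ≃+* F} {lam : Fin n → Fˣ} (A : R.Sem y σ lam) {v : G}
    (hv : v ∈ R.ys i) : y * v * y⁻¹ ∈ R.ys i := by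
  obtain ⟨a, rfl⟩ := hv
  exact ⟨_, A.yy i a⟩

end Frame

/-- `γ = 1` if short root elements are not moved -/
theorem DL.gamma_eq_one [Finite F] (hn : 3 ≤ n) {γ : F} (D : DL R γ)
    (nm : ∀ i j a, Dj i j → a ≠ 0 → ¬ IsConj R.t (R.t * R.x i j a)) : γ = 1 := by
  have h := D.dataO hn nm
  let i : Ix n := Sum.inl ⟨0, by omega⟩
  obtain ⟨j, hij, -⟩ := exists_dj hn i i
  obtain ⟨w, hw, hwt⟩ := D.onto i 1
  have h1 := h.wy hij hw (b := 1) (by rw [one_pow]; exact hwt) 1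
  have h2 := D.par i j hij w hw 1 (by rw [one_pow]; exact hwt) 1
  rw [one_pow, mul_one] at h1
  rw [one_pow, mul_one, mul_one] at h2
  have hx : Commute w (R.x i j 1) := h.Wx i j hij w hw 1
  have h3 : w * R.y j 1 * w⁻¹ = R.x i j 1 * R.y j 1 := by
    have h4 : R.y j 1 * w = w * R.x i j 1 * R.y j 1 := by
      rw [← h1, mul_assoc _ (R.y j 1) (R.y j 1), R.y_sq, mul_one]
    -- `y w = w x y`
    have h5 : R.y j 1 = R.x i j 1 * (w * R.y j 1 * w⁻¹) := by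
      calc R.y j 1 = (R.y j 1 * w) * w⁻¹ := by group
        _ = R.x i j 1 * (w * R.y j 1 * w⁻¹) := by rw [h4, hx.eq]; group
    calc w * R.y j 1 * w⁻¹ = R.x i j 1 * (R.x i j 1 * (w * R.y j 1 * w⁻¹)) := by
          rw [← mul_assoc (R.x i j 1) (R.x i j 1), R.x_sq, one_mul]
      _ = _ := by rw [← h5]
  rw [commutatorElement_def, h3] at h2
  have h4 : R.x i j 1 = R.x i j γ := by rw [← h2]; group
  exact (R.x_inj hij h4).symm

/-- **pattern `{l}`, outer 2-part** -/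
theorem DL.out [Finite F] [Finite G] (hn : 3 ≤ n) (hq : 3 ≤ Nat.card F) {γ : F} (D : DL R γ)
    (nm : ∀ i j a, Dj i j → a ≠ 0 → ¬ IsConj R.t (R.t * R.x i j a)) {T : Subgroup G} (hT : R.OutT T) :
    R.t ∉ _root_.commutator G := by
  have hγ := D.gamma_eq_one hn nm
  subst hγ
  have hF : ∃ μ : Fˣ, (μ : F) ≠ 1 := by
    have := Fintype.ofFinite F
    classical
    obtain ⟨b', hb'⟩ := Finset.exists_mem_notMem_of_card_lt_card (s := ({0, 1} : Finset F)) (t := Finset.univ) (by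
      refine lt_of_le_of_lt Finset.card_le_two ?_
      rw [Finset.card_univ, ← Nat.card_eq_fintype_card]; omega)
    have h2 := hb'.2
    rw [Finset.mem_insert, Finset.mem_singleton, not_or] at h2
    exact ⟨Units.mk0 b' h2.1, h2.2⟩
  have h := D.dataO hn nm
  have he : ∀ i, ∀ w ∈ D.V i, w * w = 1 := h.elem (fun i w hw w' hw' => D.comm i w hw w' hw') (by
    intro b hb
    have := Fintype.ofFinite F
    classical
    obtain ⟨b', hb'⟩ := Finset.exists_mem_notMem_of_card_lt_card (s := ({0, b} : Finset F)) (t := Finset.univ) (by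
      refine lt_of_le_of_lt Finset.card_le_two ?_
      rw [Finset.card_univ, ← Nat.card_eq_fintype_card]; omega)
    have h2 := hb'.2
    rw [Finset.mem_insert, Finset.mem_singleton, not_or] at h2
    refine ⟨b', h2.1, fun e => h2.2 ?_⟩
    have : b' = -b := by linear_combination e
    rw [this, CharTwo.neg_eq])
  have hg := h.grdL hn he
  have hNX : N (GradeOf.Vd (dN dgB) R.XP) 1 = R.Up := R.N_XP_B.trans (UpP_eq R)
  have hV : ∀ p q : PP n, 0 < dN dgB p → dN dgB p = dN dgB q → VL R D.V p = VL R D.V q := by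
    intro p q hp hpq
    have h1 := dN_pos.1 hp
    have h2 := dN_pos.1 (hpq ▸ hp)
    rcases uniqB (p := p) (q := q) h1 (by rw [← dN_cast h1, ← dN_cast h2, hpq]) with rfl | rfl
    · rfl
    · exact VL_symm R D.V _ _
  have hX : ∀ p q : PP n, 0 < dN dgB p → dN dgB p = dN dgB q → R.XP p = R.XP q :=
    fun p q hp hpq => DataO.XP_dgB hp hpq
  -- the elements of `D` normalise the levels
  have hyV : ∀ y σ lam, R.Sem y σ lam → ∀ p : PP n, 0 < dN dgB p → ∀ v ∈ VL R D.V p, y * v * y⁻¹ ∈ VL R D.V p := by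
    rintro y σ lam A ⟨i, j⟩ hp v hv
    by_cases hij : i = j
    · subst hij
      rw [VL_ii] at hv ⊢
      exact D.sem_mem hn hF A (map_one σ) hv
    · rw [VL_ij R D.V hij] at hv ⊢
      exact R.sem_xs (dj_of_dgB hij (dN_pos.1 hp)) A hv
  have hyN : ∀ y σ lam, R.Sem y σ lam → ∀ i, ∀ v ∈ N (GradeOf.Vd (dN dgB) (VL R D.V)) i,
      y * v * y⁻¹ ∈ N (GradeOf.Vd (dN dgB) (VL R D.V)) i :=
    fun y σ lam A i v hv => OutGrd.hDN_of hV (hyV y σ lam A) hv
  have hUN : R.Up ≤ N (GradeOf.Vd (dN dgB) (VL R D.V)) 1 := by rw [← hNX]; exact hg.NX_le 1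
  have hfr : Out.Exclude.Fr R.t T (N (GradeOf.Vd (dN dgB) R.XP) 1) (N (GradeOf.Vd (dN dgB) (VL R D.V)) 1) := by
    rw [hNX]
    refine hT.fr hg.isPGroup (hT.norm_of hUN fun y _ σ lam A w hw => hyN y σ lam A 1 w hw) fun w => ⟨fun hw =>
      ⟨hUN hw, (Frame.Up_comm_t hw).eq⟩, fun hw => ?_⟩
    rw [← hNX]
    refine hg.mem_NX le_rfl hw.1 ?_
    rw [← hw.2, mul_assoc, R.tt, mul_one]
  have ht : R.t ∉ N (GradeOf.Vd (dN dgB) R.XP) 1 := fun ht => R.t_notMem_K (R.N_XP_le_K dgB ht)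
  -- a marked level
  let k0 : Ix n := Sum.inl ⟨0, by omega⟩
  let k1 : Ix n := Sum.inl ⟨1, by omega⟩
  have h01 : Dj k0 k1 := by
    refine ⟨fun e => ?_, fun e => ?_⟩
    · have := congrArg ex e
      have e0 : ex k0 = n := rfl
      have e1 : ex k1 = n - 1 := rfl
      omega
    · have := congrArg ex e
      rw [ex_neg] at this
      have e0 : ex k0 = n := rfl
      have e1 : ex k1 = n - 1 := rfl
      omega
  have h5n := pow_pos (show (0 : ℤ) < 5 by norm_num) n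
  have h5n' := pow_pos (show (0 : ℤ) < 5 by norm_num) (n - 1)
  have d0 : dgB k0 k1 = 5 ^ n + 5 ^ (n - 1) := dgB_ij h01.1
  have p0 : 0 < dN dgB (k0, k1) := by
    rw [dN_pos]
    simp only
    omega
  have hcard : Nat.card (N (GradeOf.Vd (dN dgB) (VL R D.V)) 1) < Nat.card (N (GradeOf.Vd (dN dgB) R.XP) 1) ^ 2 := by
    refine OutGrd.card_lt hg (k0 := dN dgB (k0, k1)) p0 ⟨(k0, k1), p0, rfl, h01.1⟩ ?_
    rw [GradeOf.Vd_eq hX p0, R.XP_ij h01.1]
    intro hbot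
    have h1 : R.x k0 k1 1 ∈ R.xs k0 k1 := ⟨1, rfl⟩
    rw [hbot, mem_bot] at h1
    exact one_ne_zero (R.x_eq_one h01 h1)
  refine EndOut.end_out hg hfr ht hcard (Frame.D R T) Frame.D_le ?_ ?_ ?_
    (fun d hd hld hR x hx hx1 => DataO.pushL hn d hd hld hR x hx hx1) (h.nmL hn)
  · intro v hv
    obtain ⟨y, hy, u, hu, e⟩ := hT.exists_D hv
    exact ⟨y, hy, u, by rw [hNX]; exact hu, e⟩
  · rintro y ⟨-, σ, lam, A⟩ i _ v hv
    exact hyN y σ lam A i v hv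
  · rintro y ⟨hyT, σ, lam, A⟩ h2 h3 h4 i hi
    rw [hNX] at h2 h3 h4
    obtain ⟨-, hσ⟩ := hT.field (by omega) hyT A h2 h3 h4
    refine OutGrd.hfld_of hg hV (hyV y σ lam A) ?_ hi
    rintro ⟨i, j⟩ hp
    by_cases hij : i = j
    · subst hij
      rw [VL_ii]
      exact OutGrd.card_double (Y := R.y i) (fun a b => R.y_add i a b) (fun _ _ => R.y_inj) (D.y_mem i)
        (D.ht i) (D.onto i) (D.ker i) (fun a => R.t_of_comm (R.y_t i a)) (D.cy i) R.tt A.yt hσ (fun a => A.yy i a)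
    · rw [VL_ij R D.V hij]
      exact R.card_xs (dj_of_dgB hij (dN_pos.1 hp)) A hσ

/-- **pattern `{s}`, outer 2-part** -/
theorem DS.out [Finite F] [Finite G] (hn : 3 ≤ n) (hF : ∃ μ : Fˣ, (μ : F) ≠ 1) {δ : F} (D : DS R δ)
    (nm : ∀ i a, a ≠ 0 → ¬ IsConj R.t (R.t * R.y i a)) {T : Subgroup G} (hT : R.OutT T) :
    R.t ∉ _root_.commutator G := by
  obtain ⟨j, hj, -⟩ := exists_dj hn (Sum.inl ⟨0, by omega⟩ : Ix n) (Sum.inl ⟨0, by omega⟩)
  have hδ := D.delta_eq_one hj nm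
  subst hδ
  have h := D.dataSE hn hF nm
  have hg := h.grdS
  have hNX : N (GradeOf.Vd (dN dgC) R.XP) 1 = R.Up := R.N_XP_C.trans (UpP_eq R)
  have hV : ∀ p q : PP n, 0 < dN dgC p → dN dgC p = dN dgC q → VS R D.W p = VS R D.W q := by
    intro p q hp hpq
    have h1 := dN_pos.1 hp
    have h2 := dN_pos.1 (hpq ▸ hp)
    rcases uniqC (p := p) (q := q) h1 (by rw [← dN_cast h1, ← dN_cast h2, hpq]) with rfl | rfl
    · rfl
    · exact h.VS_symm _ _
  have hX : ∀ p q : PP n, 0 < dN dgC p → dN dgC p = dN dgC q → R.XP p = R.XP q :=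
    fun p q hp hpq => XP_dgC hp hpq
  -- the elements of `D` normalise the levels
  have hyV : ∀ y σ lam, R.Sem y σ lam → ∀ p : PP n, 0 < dN dgC p → ∀ v ∈ VS R D.W p, y * v * y⁻¹ ∈ VS R D.W p := by
    rintro y σ lam A ⟨i, j⟩ hp v hv
    by_cases hij : i = j
    · subst hij
      rw [VS_ii] at hv ⊢
      exact R.sem_ys A hv
    · rw [VS_ij R D.W hij] at hv ⊢
      exact D.sem_mem hn hF A (dj_of_dgC hij (dN_pos.1 hp)) hv
  have hyN : ∀ y σ lam, R.Sem y σ lam → ∀ i, ∀ v ∈ N (GradeOf.Vd (dN dgC) (VS R D.W)) i,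
      y * v * y⁻¹ ∈ N (GradeOf.Vd (dN dgC) (VS R D.W)) i :=
    fun y σ lam A i v hv => OutGrd.hDN_of hV (hyV y σ lam A) hv
  have hUN : R.Up ≤ N (GradeOf.Vd (dN dgC) (VS R D.W)) 1 := by rw [← hNX]; exact hg.NX_le 1
  have hfr : Out.Exclude.Fr R.t T (N (GradeOf.Vd (dN dgC) R.XP) 1) (N (GradeOf.Vd (dN dgC) (VS R D.W)) 1) := by
    rw [hNX]
    refine hT.fr hg.isPGroup (hT.norm_of hUN fun y _ σ lam A w hw => hyN y σ lam A 1 w hw) fun w => ⟨fun hw =>
      ⟨hUN hw, (Frame.Up_comm_t hw).eq⟩, fun hw => ?_⟩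
    rw [← hNX]
    refine hg.mem_NX le_rfl hw.1 ?_
    rw [← hw.2, mul_assoc, R.tt, mul_one]
  have ht : R.t ∉ N (GradeOf.Vd (dN dgC) R.XP) 1 := fun ht => R.t_notMem_K (R.N_XP_le_K dgC ht)
  -- a marked level
  let k0 : Ix n := Sum.inl ⟨0, by omega⟩
  have h5n := pow_pos (show (0 : ℤ) < 5 by norm_num) n
  have d0 : Fd k0 = 5 ^ n := rfl
  have p0 : 0 < dN dgC (k0, k0) := by
    rw [dN_pos]
    show 0 < Fd k0 + Fd k0
    omega
  have hcard : Nat.card (N (GradeOf.Vd (dN dgC) (VS R D.W)) 1) < Nat.card (N (GradeOf.Vd (dN dgC) R.XP) 1) ^ 2 := by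
    refine OutGrd.card_lt hg (k0 := dN dgC (k0, k0)) p0 ⟨(k0, k0), p0, rfl, rfl⟩ ?_
    rw [GradeOf.Vd_eq hX p0, R.XP_ii]
    intro hbot
    have h1 : R.y k0 1 ∈ R.ys k0 := ⟨1, rfl⟩
    rw [hbot, mem_bot] at h1
    exact one_ne_zero (R.y_eq_one h1)
  refine EndOut.end_out' hg hfr ht hcard (Frame.D R T) Frame.D_le ?_ ?_ ?_ fun l hl hl1 _ _ => h.nm_Lg hl hl1
  · intro v hv
    obtain ⟨y, hy, u, hu, e⟩ := hT.exists_D hv
    exact ⟨y, hy, u, by rw [hNX]; exact hu, e⟩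
  · rintro y ⟨-, σ, lam, A⟩ i _ v hv
    exact hyN y σ lam A i v hv
  · rintro y ⟨hyT, σ, lam, A⟩ h2 h3 h4 i hi
    rw [hNX] at h2 h3 h4
    obtain ⟨-, hσ⟩ := hT.field (by omega) hyT A h2 h3 h4
    refine OutGrd.hfld_of hg hV (hyV y σ lam A) ?_ hi
    rintro ⟨i, j⟩ hp
    by_cases hij : i = j
    · subst hij
      rw [VS_ii]
      exact R.card_ys A hσ
    · have hd := dj_of_dgC hij (dN_pos.1 hp)
      rw [VS_ij R D.W hij]
      exact OutGrd.card_double (Y := R.x i j) (fun a b => R.x_add i j a b) (fun _ _ => R.x_inj hd) (D.x_mem i j)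
        (D.ht i j hd) (D.onto i j hd) (D.ker i j hd) (fun a => R.t_of_comm (R.x_t i j a))
        (fun g hg a => D.comm i j hd g hg _ (D.x_mem i j a)) R.tt A.yt hσ (fun a => A.yx i j hd a)

end Cfsg.Agent.OddHalf.SpN
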