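import Mathlib
import Cfsg.Agent.OddHalf.SpN.StartClean
import Cfsg.Agent.OddHalf.SpN.OutDefs

/-!
# ODD D7, `K = Sp_2n(q)`, `q` even, `q ≥ 4`, `n ≥ 3`: section 1 with outer part (helper583)

`h : R.OutT T` (`OutDefs.lean`): `T` a maximal 2-subgroup of `C(t)`. `a, b, c : Fin n` with values `0, 1, 2`.

* `OutT.ot : StartB.OT T R.T1 …`, `OutT.nconj`, `OutT.front : Defs.Fr R.t R.t R.K R.Up (R.Z1 a b) T`, `OutT.sinp`;
* `OutT.norm_T1'` : `N(T) ≤ N(T₁)`;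
* `OutT.start`, `movesY`, `movesX`, `short_of`, `long_of`, `mixed_of` : as in `StartClean.lean`.
-/

set_option autoImplicit false

namespace Cfsg.Agent.OddHalf.SpN.Frame.OutT

open Cfsg Cfsg.Agent.ClassicalGeometry.SympBasic Cfsg.Agent.ClassicalGeometry.SympAutSemi
open Cfsg.Agent.OddHalf.SpN
open scoped Matrix commutatorElement
open Subgroup TU StartB WExist

variable {n : ℕ} {F : Type*} [Field F] {G : Type*} [Group G] {R : Frame n F G} {T : Subgroup G}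

/-- a 2-subgroup of `C(t)` is conjugate in `C(t)` into `T` -/
theorem exists_conj_le [Finite G] (h : R.OutT T) {V : Subgroup G} (hV : IsPGroup 2 V)
    (hVt : ∀ x ∈ V, x * R.t = R.t * x) : ∃ c : G, c * R.t = R.t * c ∧ ∀ x ∈ V, c * x * c⁻¹ ∈ T := by
  set C := centralizer ({R.t} : Set G) with hC
  have hTC : T ≤ C := fun x hx => mem_centralizer_singleton_iff.2 (h.Tc x hx)
  have hVC : V ≤ C := fun x hx => mem_centralizer_singleton_iff.2 (hVt x hx)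
  let S1 : Sylow 2 C := ⟨T.subgroupOf C, h.T2.comap_of_injective C.subtype C.subtype_injective, by
    intro Q hQ hle
    apply le_antisymm _ hle
    have h1 : Q.map C.subtype ≤ T := by
      apply h.Tmax _ (hQ.map C.subtype)
      · intro y hy
        exact ⟨⟨y, hTC hy⟩, hle (by exact hy), rfl⟩
      · rintro _ ⟨y, -, rfl⟩
        exact mem_centralizer_singleton_iff.1 y.2
    intro y hy
    exact h1 ⟨y, hy, rfl⟩⟩
  obtain ⟨S2, hS2⟩ := (hV.comap_of_injective C.subtype C.subtype_injective).exists_le_sylow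
  obtain ⟨c, hc⟩ := MulAction.exists_smul_eq C S2 S1
  refine ⟨c, mem_centralizer_singleton_iff.1 c.2, fun x hx => ?_⟩
  have h1 : (⟨x, hVC hx⟩ : C) ∈ (S2 : Subgroup C) := hS2 (by exact hx)
  have h2 : c * ⟨x, hVC hx⟩ * c⁻¹ ∈ (S1 : Subgroup C) := by
    rw [← hc]
    exact ⟨_, h1, rfl⟩
  exact h2

variable [CharP F 2] [Finite F]

theorem T1_le (h : R.OutT T) : R.T1 ≤ T := by
  rw [R.T1_eq_sup]
  exact sup_le h.UT (zpowers_le.2 h.tT)

theorem norm_Up (h : R.OutT T) {g : G} (hg : g ∈ T) : g ∈ normalizer (R.Up : Set G) := by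
  have key : ∀ g ∈ T, ∀ u ∈ R.Up, g * u * g⁻¹ ∈ R.Up := by
    intro g hg u hu
    have h1 := h.ab g hg u (h.UT hu)
    have e : g * u * g⁻¹ = g * u * g⁻¹ * u⁻¹ * u := by group
    rw [e]
    exact mul_mem h1 hu
  rw [mem_normalizer_iff]
  intro x
  refine ⟨key g hg x, fun hx => ?_⟩
  have := key g⁻¹ (inv_mem hg) _ hx
  have e : g⁻¹ * (g * x * g⁻¹) * g⁻¹⁻¹ = x := by group
  rwa [e] at this

theorem norm_T1 (h : R.OutT T) {g : G} (hg : g ∈ T) : g ∈ normalizer (R.T1 : Set G) := by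
  have key : ∀ g ∈ T, ∀ u ∈ R.T1, g * u * g⁻¹ ∈ R.T1 := by
    intro g hg u hu
    have hgt := h.Tc g hg
    obtain ⟨A, hA, rfl | rfl⟩ := hu
    · exact R.Up_le_T1 ((mem_normalizer_iff.1 (h.norm_Up hg) _).1 (by rw [R.Up_eq]; exact ⟨A, hA, rfl⟩))
    · have h1 := R.Up_le_T1 ((mem_normalizer_iff.1 (h.norm_Up hg) (R.ι A)).1 (by rw [R.Up_eq]; exact ⟨A, hA, rfl⟩))
      have e : g * (R.t * R.ι A) * g⁻¹ = R.t * (g * R.ι A * g⁻¹) := by
        calc g * (R.t * R.ι A) * g⁻¹ = (g * R.t) * R.ι A * g⁻¹ := by group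
          _ = _ := by rw [hgt]; group
      rw [e]
      exact mul_mem R.t_mem_T1 h1
  rw [mem_normalizer_iff]
  intro x
  refine ⟨key g hg x, fun hx => ?_⟩
  have := key g⁻¹ (inv_mem hg) _ hx
  have e : g⁻¹ * (g * x * g⁻¹) * g⁻¹⁻¹ = x := by group
  rwa [e] at this

/-- an element with `Sem y σ lam` and `c σ(s) = s` for all `s` is in `T₁` -/
theorem mem_T1_of_sem (h : R.OutT T) {y : G} (hy : y ∈ T) {σ : F ≃+* F} {lam : Fin n → Fˣ} (hs : R.Sem y σ lam)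
    {c : F} (hc : ∀ s, c * σ s = s) : y ∈ R.T1 := by
  have h1 := hc 1
  rw [map_one, mul_one] at h1
  subst h1
  have h2 : σ = 1 := by
    ext s
    have := hc s
    rw [one_mul] at this
    exact this
  subst h2
  rcases h.lin y hy lam hs with h3 | h3
  · exact R.Up_le_T1 h3
  · have h4 := mul_mem R.t_mem_T1 (R.Up_le_T1 h3)
    rwa [← mul_assoc, R.tt, one_mul] at h4

theorem bact (h : R.OutT T) {a b : Fin n} (ha : a.val = 0) (hb : b.val = 1) {g : G} (hg : g ∈ T)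
    (hc : ∀ s, g * R.x (Sum.inl a) (Sum.inl b) s = R.x (Sum.inl a) (Sum.inl b) s * g) : g ∈ R.T1 := by
  have nab : a ≠ b := by rintro rfl; omega
  obtain ⟨y, hy, u, hu, rfl, σ, lam, hs⟩ := h.dec g hg
  refine mul_mem (h.mem_T1_of_sem hy hs (c := ev lam (Sum.inl a) * ev lam (Sum.inl b)) fun s => ?_)
    (R.Up_le_T1 hu)
  have h1 := hs.yx _ _ (dj_inl nab) s
  have h2 := R.T1_x (i := Sum.inl a) (j := Sum.inl b) (by rw [pos_inl]; exact ha) (by rw [pos_inl]; exact hb)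
    (dj_inl nab) u (R.Up_le_T1 hu) s
  have h3 : y * R.x (Sum.inl a) (Sum.inl b) s * y⁻¹ = R.x (Sum.inl a) (Sum.inl b) s := by
    have h4 := hc s
    rw [mul_assoc, h2, ← mul_assoc, ← mul_assoc] at h4
    rw [mul_right_cancel h4]; group
  rw [h3] at h1
  exact (R.x_inj (dj_inl nab) h1).symm

theorem ract (h : R.OutT T) (hq : ∃ s : F, s ≠ 0 ∧ s ≠ 1) {a b c : Fin n} (ha : a.val = 0) (hb : b.val = 1)
    (hc : c.val = 2) {g : G} (hg : g ∈ T)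
    (hr : ∀ u ∈ R.T1, R.rr (Sum.inl b) (Sum.inl c) (g * u * g⁻¹) = R.rr (Sum.inl b) (Sum.inl c) u) : g ∈ R.T1 := by
  have D := R.tu hq ha hb hc
  have nbc : b ≠ c := by rintro rfl; omega
  have hbc : b < c := by rw [Fin.lt_def]; omega
  obtain ⟨y, hy, w, hw, rfl, σ, lam, hs⟩ := h.dec g hg
  have hw1 := R.Up_le_T1 hw
  refine mul_mem (h.mem_T1_of_sem hy hs (c := ev lam (Sum.inl b) * ev lam (Sum.inr c)) fun s => ?_) hw1
  set u := R.x (Sum.inl b) (Sum.inr c) s with hu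
  have hrx : ∀ s : F, R.rr (Sum.inl b) (Sum.inl c) (R.x (Sum.inl b) (Sum.inr c) s) = s := by
    intro s
    rw [Frame.x, R.rr_ι, ent_sx (dj_inl_inr nbc)]
    simp [nbc]
  have hu1 : u ∈ R.T1 := R.ι_mem_T1 (sx_inl_inr_mem hbc s)
  have r1 : R.rr (Sum.inl b) (Sum.inl c) (1 : G) = 0 := by
    have := D.r_mul 1 (one_mem _) 1 (one_mem _)
    rw [mul_one] at this
    exact (left_eq_add.1 this)
  have rinv : R.rr (Sum.inl b) (Sum.inl c) w⁻¹ + R.rr (Sum.inl b) (Sum.inl c) w = 0 := by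
    rw [← D.r_mul _ (inv_mem hw1) _ hw1, inv_mul_cancel, r1]
  have h1 := hr (w⁻¹ * u * w) (mul_mem (mul_mem (inv_mem hw1) hu1) hw1)
  have e : y * w * (w⁻¹ * u * w) * (y * w)⁻¹ = y * u * y⁻¹ := by group
  rw [e, D.r_mul _ (mul_mem (inv_mem hw1) hu1) _ hw1, D.r_mul _ (inv_mem hw1) _ hu1, hu,
    hs.yx _ _ (dj_inl_inr nbc), hrx, hrx] at h1
  rw [h1]
  linear_combination rinv

/-- `StartB.OT` -/
theorem ot (h : R.OutT T) (hq : ∃ s : F, s ≠ 0 ∧ s ≠ 1) {a b c : Fin n} (ha : a.val = 0) (hb : b.val = 1)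
    (hc : c.val = 2) :
    OT T R.T1 (R.y (Sum.inl a)) (R.x (Sum.inl a) (Sum.inl b)) (R.x (Sum.inl a) (Sum.inl c))
      (R.y (Sum.inl b)) (R.rr (Sum.inl b) (Sum.inl c)) (R.rr (Sum.inl a) (Sum.inl b)) :=
  { R.tu hq ha hb hc with
    T1T := h.T1_le
    nT1 := fun g hg => h.norm_T1 hg
    ract := fun g hg hr => h.ract hq ha hb hc hg hr
    bact := fun g hg hr => h.bact ha hb hg hr }

/-- `t` is not conjugate into `X_12 Y_1` -/
theorem nconj [Finite G] (h : R.OutT T) {a b c : Fin n} (ha : a.val = 0) (hb : b.val = 1) (hc : c.val = 2) {z : G}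
    (hz : z ∈ R.Z1 a b) (g : G) : g * R.t * g⁻¹ ≠ z := by
  intro hg
  set U := (Uu n F).map R.ι with hU
  set V := U.map (MulAut.conj g⁻¹).toMonoidHom with hV
  have hV2 : IsPGroup 2 V := (Uu_isPGroup.map R.ι).map _
  have hVt : ∀ x ∈ V, x * R.t = R.t * x := by
    rintro _ ⟨u, ⟨A, hA, rfl⟩, rfl⟩
    change g⁻¹ * R.ι A * g⁻¹⁻¹ * R.t = R.t * (g⁻¹ * R.ι A * g⁻¹⁻¹)
    have hc1 := R.Z1_comm ha hb hz _ (R.ι_mem_T1 hA)
    rw [← hg] at hc1
    calc g⁻¹ * R.ι A * g⁻¹⁻¹ * R.t = g⁻¹ * (R.ι A * (g * R.t * g⁻¹)) * g := by group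
      _ = R.t * (g⁻¹ * R.ι A * g⁻¹⁻¹) := by rw [hc1]; group
  obtain ⟨c', hct, hcV⟩ := h.exists_conj_le hV2 hVt
  have h2 : R.t ∈ ⁅V, V⁆ := by
    rw [hV, ← map_commutator]
    refine ⟨z, ?_, ?_⟩
    · have := R.Z1_le ha hb hc hz
      rwa [map_commutator] at this
    · change g⁻¹ * z * g⁻¹⁻¹ = R.t
      rw [← hg]; group
  have h3 : ⁅V, V⁆ ≤ R.Up.comap (MulAut.conj c').toMonoidHom := by
    rw [commutator_le]
    intro x hx y hy
    change c' * ⁅x, y⁆ * c'⁻¹ ∈ R.Up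
    have e : c' * ⁅x, y⁆ * c'⁻¹ = (c' * x * c'⁻¹) * (c' * y * c'⁻¹) * (c' * x * c'⁻¹)⁻¹ * (c' * y * c'⁻¹)⁻¹ := by
      rw [commutatorElement_def]; group
    rw [e]
    exact h.ab _ (hcV x hx) _ (hcV y hy)
  have h4 : c' * R.t * c'⁻¹ ∈ R.Up := h3 h2
  rw [hct, mul_inv_cancel_right] at h4
  exact R.t_notMem_K (R.Up_le h4)

/-- **the frame of the front** -/
theorem front [Finite G] (h : R.OutT T) {a b c : Fin n} (ha : a.val = 0) (hb : b.val = 1) (hc : c.val = 2) :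
    D7Out.Defs.Fr R.t R.t R.K R.Up (R.Z1 a b) T where
  tt := R.tt
  t1 := R.t1
  pR := R.zpowers_pgroup
  tR := mem_zpowers _
  nK := fun g hg => R.norm_K hg
  vK := by
    rintro _ ⟨k, rfl⟩
    exact (R.comm k).eq
  cK := fun c hct hcK => by
    rcases R.cK c hct (fun k => (hcK _ ⟨k, rfl⟩).symm) with rfl | rfl
    · exact one_mem _
    · exact mem_zpowers _
  KR := by
    rintro _ ⟨k, rfl⟩ hk
    exact (R.zpowers_t hk).resolve_right (R.tK k)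
  pT := h.T2
  vT := h.tT
  tc := h.Tc
  max := h.Tmax
  U_eq := by
    apply le_antisymm (le_inf h.UT R.Up_le)
    rintro _ ⟨hg, A, rfl⟩
    exact h.TK A hg
  ZU := by
    rw [R.Up_eq]
    exact (R.Z1_le ha hb hc).trans (map_mono (Subgroup.commutator_le_self _))
  Zc := fun z hz u hu => R.Z1_comm ha hb hz u (R.Up_le_T1 hu)
  Zsq := fun z hz => R.Z1_sq hz
  Z1 := by
    intro h
    have h1 : R.y (Sum.inl a) 1 ∈ R.Z1 a b := ⟨0, 1, by rw [R.x_zero, one_mul]⟩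
    rw [h, mem_bot] at h1
    exact one_ne_zero (R.y_eq_one h1)
  cU := fun x hx hxU => by
    have hx1 : x ∈ R.T1 := h.bact ha hb hx fun s => hxU _ (by
      rw [R.Up_eq]; exact ⟨_, sx_inl_inl_mem _ _ _, rfl⟩)
    obtain ⟨s, s', h1⟩ := R.center_T1 ha hb hx1 (fun A hA => hxU _ (by rw [R.Up_eq]; exact ⟨A, hA, rfl⟩))
    rcases h1 with h1 | h1
    · exact ⟨1, one_mem _, _, ⟨s, s', rfl⟩, by rw [one_mul]; exact h1⟩
    · exact ⟨R.t, mem_zpowers _, _, ⟨s, s', rfl⟩, h1⟩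
  nconj := fun z hz g => h.nconj ha hb hc hz g

/-- the input of section 1 -/
theorem sinp [Finite G] (h : R.OutT T) (hq : ∃ s : F, s ≠ 0 ∧ s ≠ 1) {a b c : Fin n} (ha : a.val = 0)
    (hb : b.val = 1) (hc : c.val = 2) :
    SInp R.t R.t R.K R.Up (R.Z1 a b) T R.T1 (R.A1 a) (R.B1 a b) R.h.range (R.y (Sum.inl a))
      (R.x (Sum.inl a) (Sum.inl b)) (R.x (Sum.inl a) (Sum.inl c)) (R.y (Sum.inl b))
      (R.rr (Sum.inl b) (Sum.inl c)) (R.rr (Sum.inl a) (Sum.inl b)) where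
  fr := h.front ha hb hc
  ot := h.ot hq ha hb hc
  hA := fun g => by rw [R.mem_A1]; exact ⟨fun ⟨s, e⟩ => ⟨s, e.symm⟩, fun ⟨s, e⟩ => ⟨s, e.symm⟩⟩
  hB := fun g => by rw [R.mem_B1]; exact ⟨fun ⟨s, e⟩ => ⟨s, e.symm⟩, fun ⟨s, e⟩ => ⟨s, e.symm⟩⟩
  hZ := fun z hz => hz
  Ht := by
    rintro _ ⟨lam, rfl⟩
    exact (R.h_t lam).eq
  HT1 := by
    rintro _ ⟨lam, rfl⟩
    exact R.h_T1 lam
  tr := fun s s' p p' hs hs' hp hp' => R.tor_trans (dj_inl (by rintro rfl; omega)) hs hs' hp hp'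

variable [Finite G]

/-- `N(T) ≤ N(T₁)` -/
theorem norm_T1' (h : R.OutT T) (hq : ∃ s : F, s ≠ 0 ∧ s ≠ 1) {a b c : Fin n} (ha : a.val = 0)
    (hb : b.val = 1) (hc : c.val = 2) {g : G} (hg : g ∈ normalizer (T : Set G)) : g ∈ normalizer (R.T1 : Set G) :=
  (h.ot hq ha hb hc).norm_T1 h.T2 hg

/-- the long root elements are moved inside `N(T₁)` if one of them is moved -/
theorem movesY (h : R.OutT T) (hq : ∃ s : F, s ≠ 0 ∧ s ≠ 1) {a b c : Fin n} (ha : a.val = 0) (hb : b.val = 1)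
    (hc : c.val = 2) {s : F} (hs : s ≠ 0) (h' : IsConj R.t (R.t * R.y (Sum.inl a) s)) :
    ∀ u, ∃ g ∈ normalizer (R.T1 : Set G), Mv R.t (R.y (Sum.inl a)) R.h (chiy (Sum.inl a)) g u :=
  R.mvY (by omega) hq (by rw [pos_inl]; exact ha)
    (fus_coord (fun _ => Iff.rfl) ((h.sinp hq ha hb hc).fusA hs h'))

/-- the short root elements are moved inside `N(T₁)` if one of them is moved -/
theorem movesX (h : R.OutT T) (hq : ∃ s : F, s ≠ 0 ∧ s ≠ 1) {a b c : Fin n} (ha : a.val = 0) (hb : b.val = 1)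
    (hc : c.val = 2) {s : F} (hs : s ≠ 0) (h' : IsConj R.t (R.t * R.x (Sum.inl a) (Sum.inl b) s)) :
    ∀ u, ∃ g ∈ normalizer (R.T1 : Set G), Mv R.t (R.x (Sum.inl a) (Sum.inl b)) R.h
      (chix (Sum.inl a) (Sum.inl b)) g u :=
  R.mvX (by omega) hq (by rw [pos_inl]; exact ha) (by rw [pos_inl]; exact hb)
    (fus_coord (fun _ => Iff.rfl) ((h.sinp hq ha hb hc).fusB hs h'))

/-- **Section 1 with outer part.** -/
theorem start (h : R.OutT T) (hq : ∃ s : F, s ≠ 0 ∧ s ≠ 1) {a b c : Fin n} (ha : a.val = 0) (hb : b.val = 1)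
    (hc : c.val = 2) (hni : ¬ D7Out.Defs.Iso R.t T) :
    (∃ s : F, s ≠ 0 ∧ IsConj R.t (R.t * R.y (Sum.inl a) s)) ∨
      ∃ s : F, s ≠ 0 ∧ IsConj R.t (R.t * R.x (Sum.inl a) (Sum.inl b) s) := by
  rcases (h.sinp hq ha hb hc).start hni with h1 | h1
  · left
    obtain ⟨g, -, -, h2⟩ := h1 (R.y (Sum.inl a) 1) ⟨1, rfl⟩
    exact ⟨1, one_ne_zero, isConj_iff.2 ⟨g, h2⟩⟩
  · right
    obtain ⟨g, -, -, h2⟩ := h1 (R.x (Sum.inl a) (Sum.inl b) 1) ⟨1, rfl⟩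
    exact ⟨1, one_ne_zero, isConj_iff.2 ⟨g, h2⟩⟩

/-- long and mixed moved: short moved -/
theorem short_of (h : R.OutT T) (hq : ∃ s : F, s ≠ 0 ∧ s ≠ 1) {a b c : Fin n} (ha : a.val = 0) (hb : b.val = 1)
    (hc : c.val = 2) {s : F} (hs : s ≠ 0) (h1 : IsConj R.t (R.t * R.y (Sum.inl a) s)) {p p' : F} (hp : p ≠ 0)
    (h' : IsConj R.t (R.t * (R.x (Sum.inl a) (Sum.inl b) p * R.y (Sum.inl a) p'))) :
    ∃ s : F, s ≠ 0 ∧ IsConj R.t (R.t * R.x (Sum.inl a) (Sum.inl b) s) :=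
  (h.sinp hq ha hb hc).short_of_mixed ((h.sinp hq ha hb hc).fusA hs h1) hp h'

/-- short and mixed moved: long moved -/
theorem long_of (h : R.OutT T) (hq : ∃ s : F, s ≠ 0 ∧ s ≠ 1) {a b c : Fin n} (ha : a.val = 0) (hb : b.val = 1)
    (hc : c.val = 2) {s : F} (hs : s ≠ 0) (h1 : IsConj R.t (R.t * R.x (Sum.inl a) (Sum.inl b) s)) {p p' : F}
    (hp' : p' ≠ 0) (h' : IsConj R.t (R.t * (R.x (Sum.inl a) (Sum.inl b) p * R.y (Sum.inl a) p'))) :
    ∃ s : F, s ≠ 0 ∧ IsConj R.t (R.t * R.y (Sum.inl a) s) :=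
  (h.sinp hq ha hb hc).long_of_mixed ((h.sinp hq ha hb hc).fusB hs h1) hp' h'

/-- long and short moved: mixed moved -/
theorem mixed_of (h : R.OutT T) (hq : ∃ s : F, s ≠ 0 ∧ s ≠ 1) {a b c : Fin n} (ha : a.val = 0) (hb : b.val = 1)
    (hc : c.val = 2) {s s' : F} (hs : s ≠ 0) (h1 : IsConj R.t (R.t * R.y (Sum.inl a) s)) (hs' : s' ≠ 0)
    (h' : IsConj R.t (R.t * R.x (Sum.inl a) (Sum.inl b) s')) (p p' : F) :
    IsConj R.t (R.t * (R.x (Sum.inl a) (Sum.inl b) p * R.y (Sum.inl a) p')) :=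
  (h.sinp hq ha hb hc).mixed_of ((h.sinp hq ha hb hc).fusA hs h1) ((h.sinp hq ha hb hc).fusB hs' h') p p'

end Cfsg.Agent.OddHalf.SpN.Frame.OutT
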