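import Mathlib
import Cfsg.Agent.OddHalf.SpN.Main
import Cfsg.Agent.OddHalf.SpN.COneOut
import Cfsg.Agent.OddHalf.SpN.OutStart
import Cfsg.Agent.OddHalf.SpN.OutLS
import Cfsg.Agent.OddHalf.SpN.OutT3

/-!
# ODD D7, `K = Sp_2n(q)`, `n ≥ 3`, `q ≥ 4` even, with an outer 2-part: the master (helper859)

* `toCOne_semC` : the semilinear elements normalise the doubles of pattern (C,O);
* `CC.out_none` : the end of pattern (C,C) if `T / U` has no outer involution;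
* `OutT.core` : all the patterns, the end of (C,C) being a hypothesis.
-/

set_option autoImplicit false

namespace Cfsg.Agent.OddHalf.Out.FreeEnd

open Subgroup Exclude

/-- **The end** if `T / U` has no outer involution -/
theorem not_mem_commutator_none {G : Type*} [Group G] {t : G} {T U Us : Subgroup G} [Finite G] (F : Fr t T U Us)
    (htU : t ∉ Us)
    (hcl : ∀ u : G, u * u = 1 → t * u ∈ Us → ∃ k ∈ Us, u = k * t * k⁻¹)
    (hd : ∀ d ∈ T, d * d ∈ U → d ∈ U ∨ t * d ∈ U) : t ∉ _root_.commutator G := by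
  have huu : ∀ g : G, g⁻¹ * t * g * (g⁻¹ * t * g) = 1 := by
    intro g
    calc g⁻¹ * t * g * (g⁻¹ * t * g) = g⁻¹ * (t * t) * g := by group
      _ = 1 := by rw [F.tt]; group
  refine F4.EndOut.not_mem_commutator F htU ?_ 1 (one_mem _) (by rwa [mul_one]) ?_
  · intro g hg htu
    obtain ⟨k, hk, e⟩ := hcl (g⁻¹ * t * g) (huu g) htu
    exact ⟨k, F.Us_le hk, e⟩
  · intro g hg
    obtain ⟨d, hdT, w, hw, e⟩ := F.mem_S.1 (hg t F.tT)
    have hdd : d * d ∈ U := by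
      refine (F.hU _).2 ⟨?_, F.Tc _ (mul_mem hdT hdT)⟩
      have h3 : d * w * (d * w) = 1 := by rw [← e]; exact huu g
      have h4 : d * d = (d * w * d⁻¹)⁻¹ * (d * w * (d * w)) * w⁻¹ := by group
      rw [h4, h3, mul_one]
      exact mul_mem (inv_mem (F.norm d hdT w hw)) (inv_mem hw)
    rcases hd d hdT hdd with h | h
    · right; left
      rw [e]; exact mul_mem (F.le h) hw
    · left
      rw [e, ← mul_assoc]; exact mul_mem (F.le h) hw

end Cfsg.Agent.OddHalf.Out.FreeEnd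

namespace Cfsg.Agent.OddHalf.SpN

open Cfsg.Agent.OddHalf.F4.EndO Cfsg.Agent.OddHalf.F4 Subgroup Cfsg.Agent.ClassicalGeometry.SympBasic WExist

variable {n : ℕ} {F : Type*} [Field F] [CharP F 2] [Finite F] {G : Type*} [Group G] {R : Frame n F G}

/-- the semilinear elements normalise the doubles -/
theorem toCOne_semC (D : DS R (1 : F)) (V : DL R (0 : F)) (hn : 3 ≤ n) (hF : ∃ a : F, a ≠ 0 ∧ a ≠ 1) :
    (toCOne D V hn hF).SemC where
  wx := fun y σ lam A i j hij u => by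
    have h1 := D.sem_mem hn (exists_unit_neB hF) A hij (D.ws_mem hij u)
    obtain ⟨c, hc⟩ := D.ht i j hij _ h1
    obtain ⟨e, he⟩ := D.eq_ws hij h1 hc
    exact ⟨c, e, he⟩
  wy := fun y σ lam A i u => by
    have h1 := V.sem_mem hn (exists_unit_neB hF) A (map_zero σ) (V.wl_mem i u)
    obtain ⟨c, hc⟩ := V.ht i _ h1
    obtain ⟨e, he⟩ := V.eq_wl i h1 hc
    exact ⟨c, e, he⟩

/-- **pattern (C,C)**, no outer involution in `T / U` -/
theorem CC.out_none [Finite G] (C : CC R) (hn : 3 ≤ n) (hF : ∃ μ : Fˣ, (μ : F) ≠ 1) {T : Subgroup G}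
    (hT : R.OutT T) (hd : ∀ d ∈ T, d * d ∈ R.Up → d ∈ R.Up ∨ R.t * d ∈ R.Up) : R.t ∉ _root_.commutator G := by
  have hg := C.grdC hn hF
  have hNX : N (GradeOf.Vd (dN dgC) R.XP) 1 = R.Up := R.N_XP_C.trans (UpP_eq R)
  have hV : ∀ p q : PP n, 0 < dN dgC p → dN dgC p = dN dgC q → C.VC p = C.VC q := by
    intro p q hp hpq
    have h1 := dN_pos.1 hp
    have h2 := dN_pos.1 (hpq ▸ hp)
    rcases uniqC (p := p) (q := q) h1 (by rw [← dN_cast h1, ← dN_cast h2, hpq]) with rfl | rfl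
    · rfl
    · exact C.VC_symm _ _
  -- the elements of `D` normalise the levels
  have hyV : ∀ y σ lam, R.Sem y σ lam → ∀ p : PP n, 0 < dN dgC p → ∀ v ∈ C.VC p, y * v * y⁻¹ ∈ C.VC p := by
    rintro y σ lam A ⟨i, j⟩ hp v hv
    by_cases hij : i = j
    · subst hij
      rw [C.VC_ii] at hv ⊢
      exact C.L.sem_mem hn hF A (map_zero σ) hv
    · rw [C.VC_ij hij] at hv ⊢
      exact C.D.sem_mem hn hF A (dj_of_dgC hij (dN_pos.1 hp)) hv
  have hyN : ∀ y σ lam, R.Sem y σ lam → ∀ i, ∀ v ∈ N (GradeOf.Vd (dN dgC) C.VC) i,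
      y * v * y⁻¹ ∈ N (GradeOf.Vd (dN dgC) C.VC) i :=
    fun y σ lam A i v hv => OutGrd.hDN_of hV (hyV y σ lam A) hv
  have hUN : R.Up ≤ N (GradeOf.Vd (dN dgC) C.VC) 1 := by rw [← hNX]; exact hg.NX_le 1
  have hfr : Out.Exclude.Fr R.t T R.Up (N (GradeOf.Vd (dN dgC) C.VC) 1) := by
    refine hT.fr hg.isPGroup (hT.norm_of hUN fun y _ σ lam A w hw => hyN y σ lam A 1 w hw) fun w => ⟨fun hw =>
      ⟨hUN hw, (Frame.Up_comm_t hw).eq⟩, fun hw => ?_⟩
    rw [← hNX]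
    refine hg.mem_NX le_rfl hw.1 ?_
    rw [← hw.2, mul_assoc, R.tt, mul_one]
  have htX : R.t ∉ N (GradeOf.Vd (dN dgC) R.XP) 1 := fun ht => R.t_notMem_K (R.N_XP_le_K dgC ht)
  have ht : R.t ∉ N (GradeOf.Vd (dN dgC) C.VC) 1 := fun h' => htX (hg.mem_NX le_rfl h' (by rw [R.tt, one_mul]))
  refine Out.FreeEnd.not_mem_commutator_none hfr ht (fun u huu htu => ?_) hd
  have htu' : R.t * (R.t * u) = u := by rw [← mul_assoc, R.tt, one_mul]
  obtain ⟨w, hw, l, hl, he⟩ := hg.exists_conj htu (by rw [htu']; exact huu)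
  rw [htu'] at he
  have hl1 : l = 1 := by
    have : Lg (GradeOf.Vd (dN dgC) R.XP) (GradeOf.lgd (dN dgC) fun _ : PP n => False) 1 ≤ ⊥ :=
      Lg_le fun i _ hi => by obtain ⟨_, _, _, h⟩ := hi; exact h.elim
    exact Subgroup.mem_bot.1 (this hl)
  rw [hl1, mul_one] at he
  exact ⟨w, hw, by rw [← he]; group⟩

namespace Frame

/-- **All the patterns**, the end of (C,C) being a hypothesis -/
theorem OutT.core [Finite G] {T : Subgroup G} (hT : R.OutT T) (hn : 3 ≤ n) (hq : ∃ a : F, a ≠ 0 ∧ a ≠ 1)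
    (hni : ¬ D7Out.Defs.Iso R.t T)
    (hcc : CC R → (∃ a b : Fin n, a.val = 0 ∧ b.val = 1 ∧
      (∃ s : F, s ≠ 0 ∧ IsConj R.t (R.t * R.y (Sum.inl a) s)) ∧
      ∃ s : F, s ≠ 0 ∧ IsConj R.t (R.t * R.x (Sum.inl a) (Sum.inl b) s)) → R.t ∉ _root_.commutator G) :
    R.t ∉ _root_.commutator G := by
  obtain ⟨a, ha⟩ : ∃ a : Fin n, a = ⟨0, by omega⟩ := ⟨⟨0, by omega⟩, rfl⟩
  obtain ⟨b, hb⟩ : ∃ a : Fin n, a.val = 1 := ⟨⟨1, by omega⟩, rfl⟩
  obtain ⟨c, hc⟩ : ∃ a : Fin n, a.val = 2 := ⟨⟨2, by omega⟩, rfl⟩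
  have ha0 : a.val = 0 := by rw [ha]
  have hab : a ≠ b := by rintro rfl; omega
  have hd : Dj (Sum.inl a : Ix n) (Sum.inl b) := ⟨fun e => hab (Sum.inl_injective e), fun e => by cases e⟩
  have L : ∀ (i : Ix n) (s : F), s ≠ 0 → IsConj R.t (R.t * R.y i s) → ∃ γ : F, Nonempty (DL R γ) :=
    fun i s hs h => by
      have h1 := hT.movesY hq ha0 hb hc hs (R.conj_y_all h _)
      rw [ha] at h1
      exact R.exists_DL hn hq (fus_of_mv h1)
  have S : ∀ (i j : Ix n) (s : F), Dj i j → s ≠ 0 → IsConj R.t (R.t * R.x i j s) →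
      ∃ δ : F, Nonempty (DS R δ) :=
    fun i j s hij hs h => by
      obtain ⟨δ, D, -⟩ := R.exists_DS hn hq ha0 hb (hT.movesX hq ha0 hb hc hs (R.conj_x_all hij h hd))
      exact ⟨δ, ⟨D⟩⟩
  have hF := exists_unit_neB hq
  by_cases hl : ∃ (i : Ix n) (s : F), s ≠ 0 ∧ IsConj R.t (R.t * R.y i s)
  · obtain ⟨i, s, hs, h⟩ := hl
    obtain ⟨γ, ⟨V⟩⟩ := L i s hs h
    by_cases hsh : ∃ (i j : Ix n) (s : F), Dj i j ∧ s ≠ 0 ∧ IsConj R.t (R.t * R.x i j s)
    · obtain ⟨i', j', s', hij', hs', h'⟩ := hsh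
      obtain ⟨δ, ⟨D⟩⟩ := S i' j' s' hij' hs' h'
      have I : Inp D V := Inp.of D V hn hq
      obtain ⟨rfl, h0 | h1⟩ := I.gamma_delta
      · subst h0
        exact hcc (toCC D V hn hq) ⟨a, b, ha0, hb, ⟨s, hs, R.conj_y_all h _⟩, s', hs', R.conj_x_all hij' h' hd⟩
      · subst h1
        obtain ⟨μ, hμ⟩ := hF
        exact (toCOne D V hn hq).out (toCOne_semC D V hn hq) hn (μ := μ) (fun e => hμ (by rw [e]; rfl)) hT
    · push Not at hsh
      refine V.out hn ?_ (fun i j s hij hs h => hsh i j s hij hs h) hT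
      obtain ⟨x, h0, h1⟩ := hq
      have := Fintype.ofFinite F
      classical
      rw [Nat.card_eq_fintype_card, ← Finset.card_univ]
      have h3 : ({0, 1, x} : Finset F).card = 3 := by
        rw [Finset.card_eq_three]
        exact ⟨0, 1, x, zero_ne_one, h0.symm, h1.symm, rfl⟩
      rw [← h3]
      exact Finset.card_le_card (Finset.subset_univ _)
  · push Not at hl
    rcases hT.start hq ha0 hb hc hni with ⟨s, hs, h⟩ | ⟨s, hs, h⟩
    · exact absurd h (hl _ s hs)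
    · obtain ⟨δ, ⟨D⟩⟩ := S _ _ s hd hs h
      exact D.out hn hF (fun i s hs h => hl i s hs h) hT

end Frame

end Cfsg.Agent.OddHalf.SpN
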