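import Mathlib
import Cfsg.Agent.OddHalf.SpN.OutTri
import Cfsg.Agent.OddHalf.SpN.OutDefs
import Cfsg.Agent.LieRecognition.FieldSemilinear

/-!
# D7, `K = Sp_2n(q)`, `q` even: the outer 2-group of a frame (helper979)

* `Up_eq_Uu`: `Up n F = Uu n F`;
* `Dat.exists_T`: a Sylow 2-subgroup `T` of `C(t)` with `T ∩ K = ι(Up)`;
* `Frame.dat`, `Frame.exists_DatT`, `outT`, `Frame.exists_OutT`: `R.OutT T`.
-/

set_option autoImplicit false

namespace Cfsg.Agent.OddHalf.SpN.Out

open Cfsg Cfsg.Agent.ClassicalGeometry.SympBasic Cfsg.Agent.ClassicalGeometry.SympAutSemi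
open Cfsg.Agent.OddHalf.SpN Cfsg.Agent.OddHalf.SpN.TU
open scoped Matrix commutatorElement

variable {n : ℕ} {F : Type*} [Field F] [Finite F] [CharP F 2]

/-- the two definitions of the positive unipotent group agree -/
theorem Up_eq_Uu : Up n F = Uu n F := by
  apply le_antisymm
  · intro A hA
    rw [mem_Uu]
    have h1 : ∀ B ∈ Up n F, ∀ i j : Fin n, (i : ℕ) ≤ j → ent B (Sum.inl j) (Sum.inl i) = if j = i then 1 else 0 := by
      intro B hB i j hij
      by_cases h : j = i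
      · subst h; rw [if_pos rfl]; exact hB.dg j
      · rw [if_neg h]
        have hne : (i : ℕ) ≠ j := fun e => h (Fin.ext e.symm)
        exact hB.up i j (show (i : ℕ) < j by omega)
    intro l k hlk
    rcases l with l | l <;> rcases k with k | k
    · rw [h1 A hA k l hlk]; simp
    · exfalso
      rw [pos_inr, pos_inl] at hlk
      omega
    · rw [if_neg (by simp)]
      exact hA.lo k l
    · have h2 := ent_inv A⁻¹ (Sum.inr l) (Sum.inr k)
      rw [inv_inv, neg_inr, neg_inr] at h2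
      rw [pos_inr, pos_inr] at hlk
      rw [h2, h1 _ (inv_mem hA) l k (by omega)]
      simp only [Sum.inr.injEq, eq_comm]
  · intro A hA
    refine ⟨fun i => Uu_diag hA _, fun i j hij => Uu_zero hA (by rw [pos_inl, pos_inl]; exact hij), fun i j =>
      Uu_zero hA (by rw [pos_inl, pos_inr]; omega)⟩

section

variable {G : Type*} [Group G] {ι : Sy n F →* G} {t v : G}

/-- a Sylow 2-subgroup of `C(t)` containing `U` -/
theorem Dat.exists_T [Finite G] (D : Dat ι t v) : ∃ T : Subgroup G, DatT ι t v T := by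
  set U₀ : Subgroup G := (Up n F).map ι with hU₀
  have hU : IsPGroup 2 ↥U₀ := isPGroup_Up.map ι
  have hUK : U₀ ≤ ι.range := Subgroup.map_le_range ι _
  have hUm : ∀ P : Subgroup G, IsPGroup 2 ↥P → U₀ ≤ P → P ≤ ι.range → P ≤ U₀ := by
    intro P hP hle hPK
    have h1 : P.comap ι ≤ Up n F := by
      apply Up_max
      · exact hP.comap_of_injective ι D.inj
      · exact Subgroup.map_le_iff_le_comap.1 hle
    rw [← Subgroup.map_comap_eq_self hPK]
    exact Subgroup.map_mono h1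
  set C : Subgroup G := Subgroup.centralizer ({t} : Set G) with hC
  have hUC : U₀ ≤ C := by
    rintro _ ⟨A, -, rfl⟩
    exact D.mem_C A
  obtain ⟨P, hP⟩ := (hU.comap_of_injective C.subtype C.subtype_injective).exists_le_sylow
  set T : Subgroup G := (P : Subgroup ↥C).map C.subtype with hT
  have pT : IsPGroup 2 ↥T := P.isPGroup'.map _
  have tc : ∀ x ∈ T, x * t = t * x := by
    rintro _ ⟨y, -, rfl⟩
    exact Subgroup.mem_centralizer_singleton_iff.1 y.2
  have max : ∀ Q : Subgroup G, IsPGroup 2 ↥Q → T ≤ Q → (∀ x ∈ Q, x * t = t * x) → Q ≤ T := by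
    intro Q hQ hle hQt
    have hQC : Q ≤ C := fun x hx => Subgroup.mem_centralizer_singleton_iff.2 (hQt x hx)
    have h1 := P.is_maximal' (hQ.comap_of_injective C.subtype C.subtype_injective) (by
      intro y hy
      exact hle ⟨y, hy, rfl⟩)
    intro x hx
    have h2 : (⟨x, hQC hx⟩ : ↥C) ∈ Q.comap C.subtype := hx
    rw [h1] at h2
    exact ⟨⟨x, hQC hx⟩, h2, rfl⟩
  have hUT : U₀ ≤ T := fun x hx => ⟨⟨x, hUC hx⟩, hP (by exact hx), rfl⟩
  refine ⟨T, { D with pT := pT, vT := ?_, tc := tc, max := max, U_eq := ?_ }⟩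
  · have hRC : ∀ x ∈ Subgroup.zpowers v, x * t = t * x := fun x hx => D.Qt hx
    have hle : T ≤ Subgroup.normalizer ((Subgroup.zpowers v : Subgroup G) : Set G) := by
      intro x hx
      have hxt := tc x hx
      have key : ∀ y : G, y * t = t * y → y * v * y⁻¹ ∈ Subgroup.zpowers v := by
        intro y hy
        apply D.cK
        · have hvt := hRC v (Subgroup.mem_zpowers v)
          have hyt : y⁻¹ * t = t * y⁻¹ := by
            rw [inv_mul_eq_iff_eq_mul, ← mul_assoc, hy, mul_inv_cancel_right]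
          calc y * v * y⁻¹ * t = y * v * (y⁻¹ * t) := by group
            _ = y * (v * t) * y⁻¹ := by rw [hyt]; group
            _ = y * t * v * y⁻¹ := by rw [hvt]; group
            _ = t * (y * v * y⁻¹) := by rw [hy]; group
        · intro A
          have hyN := D.nK y hy
          have h1 : y⁻¹ * ι A * y ∈ ι.range := by
            apply (Subgroup.mem_normalizer_iff.1 hyN (y⁻¹ * ι A * y)).2
            have e : y * (y⁻¹ * ι A * y) * y⁻¹ = ι A := by group
            rw [e]; exact ⟨A, rfl⟩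
          obtain ⟨B, hB⟩ := h1
          have h2 := D.qK B
          rw [hB] at h2
          calc ι A * (y * v * y⁻¹) = y * (y⁻¹ * ι A * y * v) * y⁻¹ := by group
            _ = y * (v * (y⁻¹ * ι A * y)) * y⁻¹ := by rw [h2]
            _ = y * v * y⁻¹ * ι A := by group
      have key2 : ∀ y : G, y * t = t * y → ∀ r ∈ Subgroup.zpowers v, y * r * y⁻¹ ∈ Subgroup.zpowers v := by
        intro y hy r hr
        obtain ⟨j, rfl⟩ := Subgroup.mem_zpowers_iff.1 hr
        have e : y * v ^ j * y⁻¹ = (y * v * y⁻¹) ^ j := by rw [conj_zpow]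
        rw [e]
        exact zpow_mem (key y hy) j
      rw [Subgroup.mem_normalizer_iff]
      intro r
      constructor
      · exact key2 x hxt r
      · intro hr
        have hxt' : x⁻¹ * t = t * x⁻¹ := by
          rw [inv_mul_eq_iff_eq_mul, ← mul_assoc, hxt, mul_inv_cancel_right]
        have h3 := key2 x⁻¹ hxt' _ hr
        have e : x⁻¹ * (x * r * x⁻¹) * x⁻¹⁻¹ = r := by group
        rwa [e] at h3
    have h1 : IsPGroup 2 ((T ⊔ Subgroup.zpowers v : Subgroup G)) := pT.to_sup_of_normal_right' D.pQ hle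
    have h2 : ∀ x ∈ T ⊔ Subgroup.zpowers v, x * t = t * x := by
      have : T ⊔ Subgroup.zpowers v ≤ C := by
        rw [sup_le_iff]
        exact ⟨fun x hx => Subgroup.mem_centralizer_singleton_iff.2 (tc x hx), fun x hx =>
          Subgroup.mem_centralizer_singleton_iff.2 (hRC x hx)⟩
      intro x hx
      exact Subgroup.mem_centralizer_singleton_iff.1 (this hx)
    exact max _ h1 le_sup_left h2 ((le_sup_right : Subgroup.zpowers v ≤ _) (Subgroup.mem_zpowers v))
  · apply le_antisymm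
    · exact le_inf hUT hUK
    · exact hUm _ (pT.to_le inf_le_left) (le_inf hUT hUK) inf_le_right


/-- every element of `T` is `diag ∘ σ` times an element of `U` -/
theorem DatT.exists_diag {T : Subgroup G} (D : DatT ι t v T) (hn : 3 ≤ n) {z : G} (hz : z ∈ T) :
    ∃ A ∈ Up n F, ∃ k : Fin n → Fˣ, Acts ι (z * ι A) (rho n F (sh k) * fa n (D.lf hn ⟨z, D.hT hz⟩)) := by
  obtain ⟨d, hd⟩ := D.tri hn hz
  have hs := D.si hn ⟨z, D.hT hz⟩
  obtain ⟨hi, h0⟩ := Tri.inv hs hd
  set φ := D.lf hn ⟨z, D.hT hz⟩ with hφ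
  set k : Fin n → Fˣ := fun i => Units.mk0 (d i) (h0 i) with hk
  have hg : SI (rho n F (sh k) * fa n φ) φ := by
    have h := (SI.of_rho (sh k)).mul' (SI.of_fa φ)
    rwa [one_mul] at h
  have hgt : Tri (rho n F (sh k) * fa n φ) d := by
    have h := Tri.mul (SI.of_rho (sh k)) (tri_sh k) (tri_fa φ)
    convert h using 1
    funext i
    rw [Pi.one_apply, map_one, mul_one]; rfl
  have h6 := hs.inv'.mul' hg
  rw [inv_mul_cancel] at h6
  obtain ⟨A, hA⟩ := h6.exists_rho
  refine ⟨A, ?_, k, ?_⟩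
  · rw [mem_Up, hA]
    have h8 := Tri.mul hs.inv' hi hgt
    convert h8 using 1
    funext i
    rw [← map_mul, inv_mul_cancel₀ (h0 i), map_one]; rfl
  · have h9 := (D.acts hn ⟨z, D.hT hz⟩).mul (Acts.iota (ι := ι) A)
    have e : D.sH hn ⟨z, D.hT hz⟩ * rho n F A = rho n F (sh k) * fa n φ := by rw [hA]; group
    rwa [e] at h9

/-- `T / U` is abelian if `v` is central in `T` -/
theorem DatT.comm_mem {T : Subgroup G} (D : DatT ι t v T) (hn : 3 ≤ n) (hv : ∀ x ∈ T, x * v = v * x) {a b : G}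
    (ha : a ∈ T) (hb : b ∈ T) : a * b * a⁻¹ * b⁻¹ ∈ (Up n F).map ι := by
  have hc : IsCyclic (F ≃+* F) := Cfsg.Agent.LieRecognition.FieldSemilinear.isCyclic_ringAut F
  let f : ↥T →* (F ≃+* F) := (D.lf hn).comp (Subgroup.inclusion D.hT)
  obtain ⟨⟨g, ⟨s, rfl⟩⟩, hg⟩ := IsCyclic.exists_generator (α := f.range)
  set N : Subgroup ↥T := ((Up n F).map ι).subgroupOf T with hN
  have hNn : N.Normal := by
    refine ⟨fun u hu x => ?_⟩
    rw [hN, Subgroup.mem_subgroupOf] at hu ⊢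
    obtain ⟨B, hB, e⟩ := hu
    obtain ⟨A, hA, e'⟩ := D.conj_U x.2 hB
    refine ⟨A, hA, ?_⟩
    show ι A = (x : G) * u * (x : G)⁻¹
    rw [← e', e]
  have hRT : ∀ r ∈ Subgroup.zpowers v, r ∈ T := fun r hr => D.RT hr
  have key : ∀ x : ↥T, ∃ (r : ↥T) (k : ℤ), (r : G) ∈ Subgroup.zpowers v ∧
      (QuotientGroup.mk x : ↥T ⧸ N) = QuotientGroup.mk r * QuotientGroup.mk s ^ k := by
    intro x
    obtain ⟨k, hk⟩ := Subgroup.mem_zpowers_iff.1 (hg ⟨f x, x, rfl⟩)
    have hk' : (f s) ^ k = f x := congrArg Subtype.val hk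
    have hx : ((x * (s ^ k)⁻¹ : ↥T) : G) ∈ T := (x * (s ^ k)⁻¹).2
    have hl : D.lf hn ⟨((x * (s ^ k)⁻¹ : ↥T) : G), D.hT hx⟩ = 1 := by
      have e : f (x * (s ^ k)⁻¹) = 1 := by rw [map_mul, map_inv, map_zpow, hk', mul_inv_cancel]
      exact e
    obtain ⟨A, hA, r, hr, e, -⟩ := D.mem_UR hn hx hl
    refine ⟨⟨r, hRT r hr⟩, k, hr, ?_⟩
    have e2 : x = ⟨r, hRT r hr⟩ * (⟨ι A, D.iota_mem.2 hA⟩ : ↥T) * s ^ k := by
      have e3 : x * (s ^ k)⁻¹ = ⟨r, hRT r hr⟩ * (⟨ι A, D.iota_mem.2 hA⟩ : ↥T) := by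
        apply Subtype.ext
        show ((x * (s ^ k)⁻¹ : ↥T) : G) = r * ι A
        rw [e, D.QK hr]
      rw [← e3]; group
    have e4 : (QuotientGroup.mk (⟨ι A, D.iota_mem.2 hA⟩ : ↥T) : ↥T ⧸ N) = 1 := by
      rw [QuotientGroup.eq_one_iff, hN, Subgroup.mem_subgroupOf]
      exact ⟨A, hA, rfl⟩
    conv_lhs => rw [e2]
    rw [QuotientGroup.mk_mul, QuotientGroup.mk_mul, e4, mul_one, QuotientGroup.mk_zpow]
  have hcs : ∀ r : ↥T, (r : G) ∈ Subgroup.zpowers v → ∀ x : ↥T,
      Commute (QuotientGroup.mk r : ↥T ⧸ N) (QuotientGroup.mk x) := by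
    intro r hr x
    have h1 : Commute (x : G) (r : G) := by
      obtain ⟨k, hk⟩ := Subgroup.mem_zpowers_iff.1 hr
      rw [← hk]
      exact (show Commute (x : G) v from hv x x.2).zpow_right k
    show (QuotientGroup.mk r : ↥T ⧸ N) * QuotientGroup.mk x = QuotientGroup.mk x * QuotientGroup.mk r
    rw [← QuotientGroup.mk_mul, ← QuotientGroup.mk_mul]
    congr 1
    exact Subtype.ext h1.symm.eq
  obtain ⟨r, k, hr, er⟩ := key ⟨a, ha⟩
  obtain ⟨r', l, hr', er'⟩ := key ⟨b, hb⟩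
  have hcomm : Commute (QuotientGroup.mk (⟨a, ha⟩ : ↥T) : ↥T ⧸ N) (QuotientGroup.mk ⟨b, hb⟩) := by
    rw [er, er']
    have c1 := hcs r hr s
    have c2 := hcs r' hr' s
    have c3 := hcs r hr r'
    exact ((c3.mul_right (c1.zpow_right l))).mul_left
      (((c2.symm.zpow_left k)).mul_right ((Commute.refl _).zpow_zpow k l))
  have h1 : (QuotientGroup.mk ((⟨a, ha⟩ : ↥T) * ⟨b, hb⟩ * (⟨a, ha⟩)⁻¹ * (⟨b, hb⟩)⁻¹) : ↥T ⧸ N) = 1 := by
    rw [QuotientGroup.mk_mul, QuotientGroup.mk_mul, QuotientGroup.mk_mul, QuotientGroup.mk_inv,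
      QuotientGroup.mk_inv, hcomm.eq]
    group
  rw [QuotientGroup.eq_one_iff, hN, Subgroup.mem_subgroupOf] at h1
  exact h1

end

section frame

variable {G : Type*} [Group G]

omit [Finite F] [CharP F 2] in
theorem mem_zpowers_t {R : Frame n F G} {r : G} (hr : r ∈ Subgroup.zpowers R.t) : r = 1 ∨ r = R.t := by
  obtain ⟨k, rfl⟩ := Subgroup.mem_zpowers_iff.1 hr
  have h2 : R.t ^ (2 : ℤ) = 1 := by
    rw [show (2 : ℤ) = ((2 : ℕ) : ℤ) from rfl, zpow_natCast, pow_two, R.tt]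
  rcases Int.even_or_odd' k with ⟨m, rfl | rfl⟩
  · left; rw [zpow_mul, h2, one_zpow]
  · right; rw [zpow_add, zpow_mul, h2, one_zpow, one_mul, zpow_one]

omit [Finite F] [CharP F 2] in
theorem dat_of_frame (R : Frame n F G) : Dat R.ι R.t R.t where
  inj := R.inj
  tt := R.tt
  t1 := R.t1
  tQ := Subgroup.mem_zpowers _
  pQ := by
    rintro ⟨x, hx⟩
    refine ⟨1, Subtype.ext ?_⟩
    show x ^ 2 ^ 1 = 1
    rw [pow_one, pow_two]
    rcases mem_zpowers_t hx with rfl | rfl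
    · exact one_mul 1
    · exact R.tt
  qK := fun A => (R.comm A).eq
  nK := by
    have key : ∀ g : G, g * R.t = R.t * g → ∀ x ∈ R.ι.range, g * x * g⁻¹ ∈ R.ι.range := by
      rintro g hg _ ⟨A, rfl⟩
      obtain ⟨B, hB⟩ := R.nK g hg A
      exact ⟨B, hB.symm⟩
    intro g hg
    rw [Subgroup.mem_normalizer_iff]
    intro x
    refine ⟨key g hg x, fun hx => ?_⟩
    have hg' : g⁻¹ * R.t = R.t * g⁻¹ := by
      rw [inv_mul_eq_iff_eq_mul, ← mul_assoc, hg, mul_inv_cancel_right]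
    have h1 := key g⁻¹ hg' _ hx
    have e : g⁻¹ * (g * x * g⁻¹) * g⁻¹⁻¹ = x := by group
    rwa [e] at h1
  cK := by
    intro c hc h
    rcases R.cK c hc fun k => (h k).symm with rfl | rfl
    · exact one_mem _
    · exact Subgroup.mem_zpowers _

omit [Finite F] in
/-- the semilinear elements -/
theorem sem_of_acts {R : Frame n F G} {y : G} {φ : F ≃+* F} {k : Fin n → Fˣ} (hy : Commute y R.t)
    (h : Acts R.ι y (rho n F (sh k) * fa n φ)) : R.Sem y φ k where
  yt := hy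
  yx := fun i j _ a => by
    refine h.eq ?_
    rw [← sh_sx, map_mul, map_mul, fa_sx, map_inv]
    group
  yy := fun i a => by
    refine h.eq ?_
    rw [← sh_sy, map_mul, map_mul, fa_sy, map_inv]
    group
  yh := fun mu => by
    refine h.eq ?_
    have h1 : rho n F (sh (fm φ mu)) = fa n φ * rho n F (sh mu) * (fa n φ)⁻¹ := by
      rw [eq_mul_inv_iff_mul_eq]
      ext u l
      rw [Equiv.Perm.mul_apply, Equiv.Perm.mul_apply, rho_sh, fa_apply, fa_apply, rho_sh, map_mul, ev_fm]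
    have h2 : sh k * sh (fm φ mu) * (sh k)⁻¹ = (sh (fm φ mu) : Sy n F) := by
      rw [← map_mul, mul_comm k, map_mul, mul_inv_cancel_right]
    rw [← h2, map_mul, map_mul, h1, map_inv]
    group

/-- **`R.OutT T`** -/
theorem outT {R : Frame n F G} {T : Subgroup G} (D : DatT R.ι R.t R.t T) (hn : 3 ≤ n) : R.OutT T where
  T2 := D.pT
  tT := D.vT
  Tc := D.tc
  Tmax := D.max
  UT := by
    rw [R.Up_eq, ← Up_eq_Uu]
    rintro _ ⟨A, hA, rfl⟩
    exact D.iota_mem.2 hA
  TK := fun A hA => by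
    rw [R.Up_eq, ← Up_eq_Uu]
    exact ⟨A, D.iota_mem.1 hA, rfl⟩
  ab := fun a ha b hb => by
    rw [R.Up_eq, ← Up_eq_Uu]
    exact D.comm_mem hn D.tc ha hb
  dec := fun z hz => by
    obtain ⟨A, hA, k, h⟩ := D.exists_diag hn hz
    have hy : z * R.ι A ∈ T := mul_mem hz (D.iota_mem.2 hA)
    refine ⟨z * R.ι A, hy, R.ι A⁻¹, ?_, ?_, _, k, sem_of_acts (D.tc _ hy) h⟩
    · rw [R.Up_eq, ← Up_eq_Uu]
      exact ⟨A⁻¹, inv_mem hA, rfl⟩
    · rw [map_inv]; group
  lin := fun y hy lam hs => by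
    have hl : D.lf hn ⟨y, D.hT hy⟩ = 1 := by
      obtain ⟨d, hd⟩ := D.tri hn hy
      have key : ∀ b, d (c0 hn) ^ 2 * D.lf hn ⟨y, D.hT hy⟩ b = (ev lam (Sum.inl (c0 hn)) : F) ^ 2 * b := by
        intro b
        have h1 := (D.acts hn ⟨y, D.hT hy⟩).eq (hd.conj_zz hn (D.si hn _) 0 b)
        have h2 := hs.yy (Sum.inl (c0 hn)) b
        have e : R.y (Sum.inl (c0 hn)) b = R.ι (zz hn 0 b) := by rw [zz, sx_zero, one_mul]; rfl
        rw [e] at h2
        have h3 := h1.symm.trans h2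
        rw [map_zero, mul_zero, Frame.y] at h3
        have h4 := R.inj h3
        rw [zz, sx_zero, one_mul] at h4
        exact sy_inj h4
      have h1 := key 1
      rw [map_one, mul_one, mul_one] at h1
      ext b
      have h2 := key b
      rw [h1] at h2
      exact mul_left_cancel₀ (pow_ne_zero 2 (ev lam (Sum.inl (c0 hn))).ne_zero) h2
    obtain ⟨A, hA, r, hr, e, -⟩ := D.mem_UR hn hy hl
    rw [R.Up_eq, ← Up_eq_Uu]
    rcases mem_zpowers_t hr with rfl | rfl
    · left; rw [e, mul_one]; exact ⟨A, hA, rfl⟩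
    · right
      rw [e, (R.comm A).eq, ← mul_assoc, R.tt, one_mul]
      exact ⟨A, hA, rfl⟩

/-- **existence of the outer 2-group** -/
theorem exists_OutT [Finite G] (R : Frame n F G) (hn : 3 ≤ n) :
    ∃ T : Subgroup G, DatT R.ι R.t R.t T ∧ R.OutT T := by
  obtain ⟨T, D⟩ := (dat_of_frame R).exists_T
  exact ⟨T, D, outT D hn⟩

end frame

end Cfsg.Agent.OddHalf.SpN.Out
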