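import Cfsg.Agent.OddHalf.SpN.Inst
import Cfsg.Agent.OddHalf.SpN.OutTOf
import Cfsg.Agent.OddHalf.D7.Cases

/-!
# D7, row `K = Sp_2n(2^a)`: the glue (helper866)

`node_of` : `Node @FamSp'` from

* `Main` : for `q ≥ 4`, `n ≥ 3`: `t ∉ G'` for a frame `R` and a maximal 2-subgroup `T` of `C(t)` such that `t` is not
  isolated in `Z(T)` (helper859, `OutMain.lean`);
* `Two` : the row for `q = 2`, `n ≥ 4` (helper529).
-/

set_option autoImplicit false

namespace Cfsg.Agent.OddHalf.SpN.Row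

open Cfsg Cfsg.Agent.OddHalf.Iface Cfsg.Agent.OddHalf.D7.Cases Cfsg.Agent.OddHalf.D7Out

universe u

/-- the row for `q ≥ 4`, inside `G` -/
def Main : Prop :=
  ∀ (n : ℕ) (F : Type) [Field F] [Finite F] [CharP F 2] (G : Type u) [Group G] [Finite G] (R : Frame n F G),
    3 ≤ n → (∃ a : F, a ≠ 0 ∧ a ≠ 1) → ∀ T : Subgroup G, R.OutT T → ¬ Defs.Iso R.t T → R.t ∉ commutator G

/-- the row for `q = 2` -/
def Two : Prop :=
  ∀ (G : Type u) [Group G], Ctx G → ∀ K : Subgroup G, Std G K → Cyc K → ∀ (F : Type) [Field F] [Fintype F] (m : ℕ),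
    Fintype.card F = 2 → 4 ≤ m → Nonempty (↥K ≃* PSp m F) → False

theorem charP_two {F : Type} [Field F] [Fintype F] {a : ℕ} (hF : Fintype.card F = 2 ^ a) : CharP F 2 := by
  obtain ⟨p, hp⟩ := CharP.exists F
  obtain ⟨k, hk, hc⟩ := FiniteField.card F p
  rw [hF] at hc
  have h1 : p ∣ 2 ^ a := by rw [hc]; exact dvd_pow_self p k.pos.ne'
  have h2 := (Nat.prime_dvd_prime_iff_eq hk Nat.prime_two).1 (hk.dvd_of_dvd_pow h1)
  rwa [h2] at hp

/-- **The row.** -/
theorem node_of (hM : Main.{u}) (h2 : Two.{u}) : Node.{u} @FamSp'.{u} := by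
  rintro G _ C K S hc ⟨F, _, _, a, m, ha, hF, hm, h3, ⟨e⟩⟩
  rcases Nat.lt_or_ge a 2 with h4 | h4
  · have ha1 : a = 1 := by omega
    subst ha1
    exact h2 G C K S hc F m (by simpa using hF) (by
      rcases Nat.lt_or_ge m 4 with h5 | h5
      · have : m = 3 := by omega
        have := h3 this
        omega
      · exact h5) ⟨e⟩
  · have := C.fin
    have := charP_two hF
    have hq : ∃ c : F, c ≠ 0 ∧ c ≠ 1 := by
      by_contra hcon
      push Not at hcon
      have h5 : Fintype.card F ≤ 2 := by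
        classical
        have h6 : (Finset.univ : Finset F) ⊆ {0, 1} := by
          intro c _
          by_cases h0 : c = 0
          · simp [h0]
          · simp [hcon c h0]
        exact (Finset.card_le_card h6).trans Finset.card_le_two
      have h6 : 2 ^ 2 ≤ 2 ^ a := Nat.pow_le_pow_right (by norm_num) h4
      rw [hF] at h5
      omega
    obtain ⟨R, T, -, h⟩ := Inst.exists_fro_ctx C S hc e hm hq
    have h7 := hM m F G R hm hq T (Out.outT h.dat hm) h.ni
    rw [Cfsg.Agent.OddHalf.Front.FE.commutator_eq_top C] at h7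
    exact h7 (Subgroup.mem_top _)

end Cfsg.Agent.OddHalf.SpN.Row
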