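import Mathlib
import Cfsg.Agent.OddHalf.SpN.OutMain
import Cfsg.Agent.OddHalf.SpN.OutCC
import Cfsg.Agent.OddHalf.SpN.Row

/-!
# ODD D7, `K = Sp_2n(q)`, `n ≥ 3`, `q ≥ 4` even: the end (helper859)

`Frame.OutT.not_mem_commutator`, `Row.main`.
-/

set_option autoImplicit false

namespace Cfsg.Agent.OddHalf.SpN

variable {n : ℕ} {F : Type*} [Field F] [CharP F 2] [Finite F] {G : Type*} [Group G] {R : Frame n F G}

theorem Frame.OutT.not_mem_commutator [Finite G] {T : Subgroup G} (hT : R.OutT T) (hn : 3 ≤ n)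
    (hq : ∃ a : F, a ≠ 0 ∧ a ≠ 1) (hni : ¬ D7Out.Defs.Iso R.t T) : R.t ∉ _root_.commutator G := by
  rcases hT.dich (by omega) with h | ⟨R', s, σ, ht, hK, hU, hT', hsT, hss, hs, h2, h1, hsU, htsU, inv⟩
  · exact hT.core hn hq hni fun C _ => C.out_none hn (exists_unit_neB hq) hT h
  · rw [← ht] at hni ⊢
    rw [← hU] at hsU
    rw [← ht, ← hU] at htsU inv
    exact hT'.core hn hq hni fun C _ => C.out_pure hn (exists_unit_neB hq) hT' hsT hss hs h2 h1 hsU htsU inv

/-- the row for `q ≥ 4` -/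
theorem Row.main : Row.Main := by
  intro n F _ _ _ G _ _ R hn hq T hT hni
  exact hT.not_mem_commutator hn hq hni

end Cfsg.Agent.OddHalf.SpN
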