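import Cfsg.Agent.OddHalf.SpN.BothFrame

/-!
# ODD D7, `K = Sp_2n(q)`, pattern ALL: section 8 in terms of `DS`, `DL` (helper780)

`I : Inp D V` = `3 ≤ n`, `F ≠ F_2`, `W_ij` elementary, `[V_i, V_j] ≤ X_ij`. Results:
* `Inp.gamma_delta` : `γ = 0 ∧ (δ = 0 ∨ δ = 1)`
* `Inp.comm45`, `Inp.comm45'`, `Inp.comm90` : `W_ij` commutes with `V_k`, `k ∉ {-i, -j}`
* `Inp.sq` : `g ^ 2 = y_i(δ u)` for `g ∈ V_i` of height `u`
* `Inp.ll` : `[V_i, V_j]` : `x_ij(δ √(uv))`
* `Inp.conj_x` (8.2), `Inp.conj_y` (8.3).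
-/

set_option autoImplicit false

namespace Cfsg.Agent.OddHalf.SpN

open scoped commutatorElement

section kill

variable {F : Type*} [Field F] {G : Type*} [Group G] {T : Type*} [CommGroup T] {hT : T →* G} {χ : T →* Fˣ}
  {t : G} {X : F → G} {W : Subgroup G}

/-- equivariance + additivity kill the `t`- and the `X'`-part -/
theorem Ln.kill (L : Ln hT χ t X W) (two : (2 : F) = 0) (ht : ∀ g ∈ W, ∃ u, t * g * t = g * X u)
    (onto : ∀ u, ∃ g ∈ W, t * g * t = g * X u) {g' : G} {X' : F → G} {H : T} (hH : (χ H : F) ≠ 1)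
    (Hg' : Commute (hT H) g') (HX' : ∀ b, Commute (hT H) (X' b)) (X'W : ∀ g ∈ W, ∀ b, Commute g (X' b))
    (Xg' : ∀ a, Commute (X a) g') (X'X' : ∀ b, X' b * X' b = 1) (tX : ∀ a, Commute t (X a)) (tX' : ∀ a, Commute t (X' a))
    (main : ∀ g ∈ W, ∃ a b, g * g' = g' * g * (X a * X' b) ∨ g * g' = g' * g * (t * (X a * X' b))) :
    ∀ g ∈ W, ∃ a, g * g' = g' * g * X a := by
  intro g hg
  obtain ⟨u, hu⟩ := ht g hg
  set ν : F := (χ H : F) with hν
  have h1 : 1 + ν ≠ 0 := fun h => hH (by linear_combination h - two)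
  set u1 := (1 + ν)⁻¹ * u with hu1
  have hu1' : u1 + ν * u1 = u := by rw [hu1]; field_simp
  obtain ⟨g1, hg1, ht1⟩ := onto u1
  set g1H := hT H * g1 * (hT H)⁻¹ with hg1H
  have hg1H' : g1H ∈ W := L.torus _ hg1 _
  have ht1H : t * g1H * t = g1H * X (ν * u1) := by
    have c := L.t_h H
    calc t * g1H * t = (t * hT H) * g1 * ((hT H)⁻¹ * t) := by rw [hg1H]; group
      _ = (hT H * t) * g1 * (t * (hT H)⁻¹) := by rw [c.eq, c.inv_left.eq]
      _ = hT H * (t * g1 * t) * (hT H)⁻¹ := by group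
      _ = g1H * (hT H * X u1 * (hT H)⁻¹) := by rw [ht1, hg1H]; group
      _ = _ := by rw [L.h_X]
  have ht2 := L.t_mul hg1 hg1H' ht1 ht1H
  rw [hu1'] at ht2
  obtain ⟨a', ha'⟩ := L.eq_mul g (g1 * g1H) hg (mul_mem hg1 hg1H') hu ht2
  have cX : ∀ g ∈ W, ∀ a, Commute g (X a) := fun g hg a => L.comm g hg _ (L.X_mem a)
  have XX : ∀ a b, Commute (X a) (X' b) := fun a b => X'W _ (L.X_mem a) b
  -- it is enough to treat `g1 * g1H`
  suffices hs : ∃ a, (g1 * g1H) * g' = g' * (g1 * g1H) * X a by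
    obtain ⟨a, ha⟩ := hs
    refine ⟨a, ?_⟩
    rw [ha']
    calc g1 * g1H * X a' * g' = (g1 * g1H * g') * X a' := by rw [mul_assoc _ (X a'), (Xg' a').eq]; group
      _ = g' * (g1 * g1H) * (X a' * X a) := by rw [ha, ((cX _ (L.X_mem a') a)).eq]; group
      _ = _ := by group
  have cH : ∀ x, (hT H * g' = g' * hT H) → hT H * (g' * x) * (hT H)⁻¹ = g' * (hT H * x * (hT H)⁻¹) := fun x e => by
    calc hT H * (g' * x) * (hT H)⁻¹ = (hT H * g') * x * (hT H)⁻¹ := by group
      _ = _ := by rw [e]; group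
  have hx : ∀ a, hT H * X a * (hT H)⁻¹ = X (ν * a) := fun a => L.h_X H a
  obtain ⟨a, b, h | h⟩ := main g1 hg1
  · have hc : g1H * g' = g' * g1H * (X (ν * a) * X' b) := by
      have e1 : hT H * (g1 * g') * (hT H)⁻¹ = g1H * g' := by
        calc hT H * (g1 * g') * (hT H)⁻¹ = hT H * g1 * (g' * (hT H)⁻¹) := by group
          _ = _ := by rw [← (Hg'.inv_left).eq, hg1H]; group
      have e2 : hT H * (X a * X' b) * (hT H)⁻¹ = X (ν * a) * X' b := by
        calc hT H * (X a * X' b) * (hT H)⁻¹ = (hT H * X a * (hT H)⁻¹) * (hT H * X' b) * (hT H)⁻¹ := by group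
          _ = _ := by rw [hx a, (HX' b).eq, mul_assoc, mul_assoc, mul_inv_cancel, mul_one]
      rw [← e1, h, mul_assoc g', cH _ Hg'.eq]
      calc g' * (hT H * (g1 * (X a * X' b)) * (hT H)⁻¹) =
          g' * (hT H * g1 * (hT H)⁻¹) * (hT H * (X a * X' b) * (hT H)⁻¹) := by group
        _ = _ := by rw [e2]
    refine ⟨a + ν * a, ?_⟩
    have c1 : Commute (X a * X' b) g1H := (cX _ hg1H' a).symm.mul_left (X'W _ hg1H' b).symm
    calc g1 * g1H * g' = g1 * g' * g1H * (X (ν * a) * X' b) := by rw [mul_assoc g1, hc]; group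
      _ = g' * g1 * ((X a * X' b) * g1H) * (X (ν * a) * X' b) := by rw [h]; group
      _ = g' * (g1 * g1H) * (X a * (X' b * X (ν * a)) * X' b) := by rw [c1.eq]; group
      _ = g' * (g1 * g1H) * (X a * X (ν * a) * (X' b * X' b)) := by rw [← (XX _ b).eq]; group
      _ = _ := by rw [X'X', mul_one, ← L.X_add]
  · have hc : g1H * g' = g' * g1H * (t * (X (ν * a) * X' b)) := by
      have e1 : hT H * (g1 * g') * (hT H)⁻¹ = g1H * g' := by
        calc hT H * (g1 * g') * (hT H)⁻¹ = hT H * g1 * (g' * (hT H)⁻¹) := by group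
          _ = _ := by rw [← (Hg'.inv_left).eq, hg1H]; group
      have e2 : hT H * (t * (X a * X' b)) * (hT H)⁻¹ = t * (X (ν * a) * X' b) := by
        calc hT H * (t * (X a * X' b)) * (hT H)⁻¹ =
            (hT H * t) * (hT H)⁻¹ * ((hT H * X a * (hT H)⁻¹) * (hT H * X' b) * (hT H)⁻¹) := by group
          _ = _ := by
            rw [hx a, (HX' b).eq, (L.t_h H).eq, mul_inv_cancel_right, mul_assoc (X (ν * a)), mul_inv_cancel_right]
      rw [← e1, h, mul_assoc g', cH _ Hg'.eq]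
      calc g' * (hT H * (g1 * (t * (X a * X' b))) * (hT H)⁻¹) =
          g' * (hT H * g1 * (hT H)⁻¹) * (hT H * (t * (X a * X' b)) * (hT H)⁻¹) := by group
        _ = _ := by rw [e2]
    refine ⟨ν * u1 + a + ν * a, ?_⟩
    have c1 : Commute (X a * X' b) g1H := (cX _ hg1H' a).symm.mul_left (X'W _ hg1H' b).symm
    have c2 : Commute t (X a * X' b) := (tX a).mul_right (tX' b)
    have e3 : t * (X a * X' b) * g1H = g1H * X (ν * u1) * (X a * X' b) * t := by
      calc t * (X a * X' b) * g1H = t * ((X a * X' b) * g1H) := mul_assoc _ _ _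
        _ = (t * g1H * t) * (t * (X a * X' b)) := by
            rw [c1.eq]
            calc t * (g1H * (X a * X' b)) = t * g1H * 1 * (X a * X' b) := by group
              _ = _ := by rw [← L.tt]; group
        _ = _ := by rw [ht1H, c2.eq]; group
    calc g1 * g1H * g' = g1 * g' * g1H * (t * (X (ν * a) * X' b)) := by rw [mul_assoc g1, hc]; group
      _ = g' * g1 * (t * (X a * X' b) * g1H) * (t * (X (ν * a) * X' b)) := by rw [h]; group
      _ = g' * (g1 * g1H) * (X (ν * u1) * (X a * X' b) * (t * t) * (X (ν * a) * X' b)) := by rw [e3]; group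
      _ = g' * (g1 * g1H) * (X (ν * u1) * X a * (X' b * X (ν * a)) * X' b) := by rw [L.tt]; group
      _ = g' * (g1 * g1H) * (X (ν * u1) * X a * X (ν * a) * (X' b * X' b)) := by rw [← (XX _ b).eq]; group
      _ = _ := by rw [X'X', mul_one, ← L.X_add, ← L.X_add]

end kill

section main

variable {n : ℕ} {F : Type*} [Field F] [CharP F 2] [Finite F] {G : Type*} [Group G] {R : Frame n F G} {δ γ : F}
  {D : DS R δ} {V : DL R γ}

omit [Finite F] in
theorem DS.eq_ws (D : DS R δ) {i j : Ix n} (h : Dj i j) {g : G} (hg : g ∈ D.W i j) {u : F}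
    (hu : R.t * g * R.t = g * R.x i j u) : ∃ a, g = D.ws i j u * R.x i j a :=
  D.eq_mul h hg (D.ws_mem h u) hu (D.ws_t h u)

theorem DL.eq_wl (V : DL R γ) (i : Ix n) {g : G} (hg : g ∈ V.V i) {u : F}
    (hu : R.t * g * R.t = g * R.y i u) : ∃ a, g = V.wl i u * R.y i a :=
  V.eq_mul i hg (V.wl_mem i u) hu (V.wl_t i u)

theorem DL.eq_w2 (V : DL R γ) {i j : Ix n} (h : Dj i j) {g : G} (hg : g ∈ V.V j) {u : F}
    (hu : R.t * g * R.t = g * R.y j u) : ∃ a, g = V.w2 h u * R.y j a :=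
  V.eq_mul j hg (V.w2_mem h u) hu (V.w2_t h u)

namespace Inp

variable (I : Inp D V)
include I

/-- **(8.1)** 45 degrees -/
theorem comm45 {i j : Ix n} (h : Dj i j) {g g' : G} (hg : g ∈ D.W i j) (hg' : g' ∈ V.V j) : Commute g g' := by
  obtain ⟨u, hu⟩ := D.ht i j h g hg
  obtain ⟨v, hv⟩ := V.ht j g' hg'
  obtain ⟨a, ha⟩ := D.eq_ws h hg hu
  obtain ⟨b, hb⟩ := V.eq_w2 h hg' hv
  have c1 : Commute (D.ws i j u) (V.w2 h v) := (frame I h).ws_w2 u v
  have c2 : Commute (D.ws i j u) (R.y j b) := D.cy i j h _ (D.ws_mem h u) j b (neg_ne_of_dj h) (ne_neg j)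
  have c3 : Commute (V.w2 h v) (R.x i j a) := V.cx j _ (V.w2_mem h v) i j a h.2 (ne_neg j)
  have c4 : Commute (R.x i j a) (R.y j b) := (R.y_x_comm h.2 (ne_neg j) b a).symm
  rw [ha, hb]
  exact (c1.mul_right c2).mul_left (c3.symm.mul_right c4)

theorem comm45' {i j : Ix n} (h : Dj i j) {g g' : G} (hg : g ∈ D.W i j) (hg' : g' ∈ V.V i) : Commute g g' :=
  I.comm45 h.symm (by rwa [D.symm j i]) hg'

/-- **the parameters** -/
theorem gamma_delta : γ = 0 ∧ (δ = 0 ∨ δ = 1) := by
  have hn := I.hn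
  set i : Ix n := Sum.inl ⟨0, by omega⟩ with hi
  set j : Ix n := Sum.inl ⟨1, by omega⟩ with hj
  have h : Dj i j := ⟨by simp [hi, hj], by simp [hi, hj]⟩
  exact (frame I h).gamma_delta fun u v =>
    I.comm45' (dj_neg_right.mpr h) (D.ws_mem (dj_neg_right.mpr h) u) (V.wl_mem i v)

theorem gamma : γ = 0 := I.gamma_delta.1

omit I in
theorem exists_dj' (hn : 3 ≤ n) (i : Ix n) : ∃ j, Dj i j := by
  obtain ⟨k, hk, -⟩ := exists_dj hn i i
  exact ⟨k, hk⟩

/-- **squares** -/
theorem sq {i : Ix n} {g : G} (hg : g ∈ V.V i) {u : F} (hu : R.t * g * R.t = g * R.y i u) :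
    g * g = R.y i (δ * u) := by
  obtain ⟨j, h⟩ := exists_dj' I.hn i
  obtain ⟨a, ha⟩ := V.eq_wl i hg hu
  have h1 : V.wl i u * V.wl i u = V.wl i (u + u) * R.y i ((frame I h).κ u u) := (frame I h).w1_mul u u
  have h2 : (frame I h).κ u u = δ * (1 + γ) * rtF F (u * u) := (frame I h).main_conj.1 u u
  have h3 : δ * (1 + γ) * rtF F (u * u) = δ * u := by rw [I.gamma, rt_mul_self, add_zero, mul_one]
  rw [CharTwo.add_self_eq_zero, V.wl_zero, one_mul, h2, h3] at h1
  have c : Commute (V.wl i u) (R.y i a) := V.cy i _ (V.wl_mem i u) a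
  rw [ha]
  calc V.wl i u * R.y i a * (V.wl i u * R.y i a) = V.wl i u * (R.y i a * V.wl i u) * R.y i a := by group
    _ = (V.wl i u * V.wl i u) * (R.y i a * R.y i a) := by rw [← c.eq]; group
    _ = _ := by rw [h1, R.y_sq, mul_one]

/-- `V_i` commutes with `Y_k`, `k ≠ -i` -/
theorem cy' {i k : Ix n} (hk : k ≠ neg i) {g : G} (hg : g ∈ V.V i) (a : F) : Commute g (R.y k a) := by
  by_cases e : k = i
  · rw [e]; exact V.cy i g hg a
  have h : Dj i k := ⟨fun e' => e e'.symm, fun e' => hk (by rw [e', neg_neg])⟩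
  obtain ⟨u, hu⟩ := V.ht i g hg
  have := V.par_rt h hg hu a
  rwa [I.gamma, zero_mul, R.x_zero, mul_one] at this

/-- **long-long** -/
theorem ll {i j : Ix n} (h : Dj i j) {g g' : G} (hg : g ∈ V.V i) (hg' : g' ∈ V.V j) {u v : F}
    (hu : R.t * g * R.t = g * R.y i u) (hv : R.t * g' * R.t = g' * R.y j v) :
    g * g' = g' * g * R.x i j (δ * rtF F (u * v)) := by
  obtain ⟨a, ha⟩ := V.eq_wl i hg hu
  obtain ⟨b, hb⟩ := V.eq_w2 h hg' hv
  have h1 : V.wl i u * V.w2 h v = V.w2 h v * V.wl i u * R.x i j ((frame I h).ε * rtF F (u * v)) := (frame I h).w1_w2 u v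
  have h2 : (frame I h).ε = δ * (1 + γ) := (frame I h).main_eps.2.1
  have h3 : (frame I h).ε = δ := by rw [h2, I.gamma, add_zero, mul_one]
  rw [h3] at h1
  have hij : j ≠ neg i := neg_ne_of_dj h
  have c1 : Commute (V.wl i u) (R.y j b) := I.cy' hij (V.wl_mem i u) b
  have c2 : Commute (V.w2 h v) (R.y i a) := I.cy' h.2 (V.w2_mem h v) a
  have c3 : Commute (R.y i a) (R.y j b) := R.y_comm hij a b
  have c4 : ∀ c, Commute (R.y i a * R.y j b) (R.x i j c) := fun c =>
    (R.y_x_comm (ne_neg i) hij a c).mul_left (R.y_x_comm h.2 (ne_neg j) b c)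
  rw [ha, hb]
  calc V.wl i u * R.y i a * (V.w2 h v * R.y j b) = V.wl i u * (R.y i a * V.w2 h v) * R.y j b := by group
    _ = (V.wl i u * V.w2 h v) * (R.y i a * R.y j b) := by rw [← c2.eq]; group
    _ = V.w2 h v * V.wl i u * ((R.y i a * R.y j b) * R.x i j (δ * rtF F (u * v))) := by
        rw [h1, (c4 _).eq]; simp only [mul_assoc]
    _ = V.w2 h v * (V.wl i u * R.y j b) * R.y i a * R.x i j (δ * rtF F (u * v)) := by
        rw [c3.eq]; simp only [mul_assoc]
    _ = _ := by rw [c1.eq]; simp only [mul_assoc]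

/-- **(8.1)** 90 degrees -/
theorem comm90 {i j k : Ix n} (hij : Dj i j) (hik : Dj i k) (hjk : Dj j k) {g g' : G} (hg : g ∈ D.W i j)
    (hg' : g' ∈ V.V k) : Commute g g' := by
  have two : (2 : F) = 0 := CharTwo.two_eq_zero
  obtain ⟨μ, hμ0, hμ1⟩ := I.hF
  set m : Fˣ := Units.mk0 μ hμ0 with hm
  have hm1 : (m : F) ≠ 1 := by rw [hm]; exact hμ1
  have sqne : ∀ x : F, x ≠ 1 → x ^ 2 ≠ 1 := fun x hx e => hx (by
    have : (x - 1) ^ 2 = 0 := by linear_combination e - (x - 1) * two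
    have := pow_eq_zero_iff (two_ne_zero) |>.1 this
    linear_combination this)
  have hm2 : ((m⁻¹ : Fˣ) : F) ≠ 1 := fun e => hm1 (by
    have : m⁻¹ = 1 := Units.ext e
    rw [inv_eq_one] at this; rw [this]; rfl)
  -- the three nonopposite conditions
  have n1 := neg_ne_of_dj hik.symm
  have n2 := neg_ne_of_dj hjk.symm
  -- main decomposition
  have main : ∀ g ∈ D.W i j, ∀ g' ∈ V.V k, ∃ a b, g * g' = g' * g * (R.x i j a * R.y k b) ∨
      g * g' = g' * g * (R.t * (R.x i j a * R.y k b)) := by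
    intro g hg g' hg'
    obtain ⟨u, hu⟩ := D.ht i j hij g hg
    obtain ⟨v, hv⟩ := V.ht k g' hg'
    set c := (g' * g)⁻¹ * (g * g') with hc
    have hgg : g * g' = g' * g * c := by rw [hc, mul_inv_cancel_left]
    have c1 : Commute g (R.y k v) := D.cy i j hij g hg k v (neg_ne_of_dj hik) (neg_ne_of_dj hjk)
    have c2 : Commute g' (R.x i j u) := V.cx k g' hg' i j u n1 n2
    have c3 : Commute (R.x i j u) (R.y k v) := (R.y_x_comm n1 n2 v u).symm
    have ct : Commute c R.t := by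
      have e1 : R.t * (g * g') * R.t = (g * g') * (R.x i j u * R.y k v) := by
        rw [Both.conj2 R.tt, hu, hv]
        calc g * R.x i j u * (g' * R.y k v) = g * (R.x i j u * g') * R.y k v := by group
          _ = _ := by rw [← c2.eq]; group
      have e2 : R.t * (g' * g) * R.t = (g' * g) * (R.x i j u * R.y k v) := by
        rw [Both.conj2 R.tt, hu, hv]
        calc g' * R.y k v * (g * R.x i j u) = g' * (R.y k v * g) * R.x i j u := by group
          _ = g' * g * (R.y k v * R.x i j u) := by rw [← c1.eq]; group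
          _ = _ := by rw [← c3.eq]
      refine Both.comm_t_of R.tt e2 e1 ?_
      exact Both.comm_gen hgg (D.comm i j hij g hg _ (D.x_mem i j u)) (Commute.one_right _) (Commute.one_right _)
          (by rw [mul_one]; exact c2.eq) |>.mul_right
        (Both.comm_gen hgg c1 (Commute.one_right _) (Commute.one_right _) (by rw [mul_one]; exact V.cy k g' hg' v))
    have cy : ∀ l, l ≠ neg i → l ≠ neg j → l ≠ neg k → ∀ b, Commute c (R.y l b) := fun l l1 l2 l3 b =>
      Both.comm_gen hgg (D.cy i j hij g hg l b l1 l2) (Commute.one_right _) (Commute.one_right _)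
        (by rw [mul_one]; exact (I.cy' l3 hg' b).eq)
    obtain ⟨a, b, d, e, f, f', hcf, hlam⟩ := R.FU3 I.hn hij hik hjk ct cy
    -- a torus element
    set lam := hp i j m m⁻¹ with hlamd
    have l1 : ev lam i = m := ev_hp_i hij _ _
    have l2 : ev lam j = m⁻¹ := ev_hp_j hij _ _
    have l3 : ev lam k = 1 := ev_hp_k hik hjk _ _
    have cg : Commute (R.h lam) g := D.torus_one i j hij g hg lam (by rw [l1, l2, mul_inv_cancel])
    have cg' : Commute (R.h lam) g' := V.torus_one k g' hg' lam l3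
    have cc : Commute c (R.h lam) := by
      rw [hc]; exact (((cg'.mul_right cg).inv_right).mul_right (cg.mul_right cg')).symm
    obtain ⟨k1, k2, -, -, k5, k6⟩ := hlam lam cc
    rw [l1] at k1 k5
    rw [l2] at k2 k6
    rw [l3, Units.val_one, mul_one] at k5 k6
    have z : ∀ x y : F, x ≠ 1 → x * y = y → y = 0 := fun x y hx e => by
      have : (x - 1) * y = 0 := by linear_combination e
      rcases mul_eq_zero.mp this with h | h
      · exact absurd (by linear_combination h) hx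
      · exact h
    have a0 : a = 0 := z _ _ (sqne _ hm1) k1
    have b0 : b = 0 := z _ _ (sqne _ hm2) k2
    have f0 : f = 0 := z _ _ hm1 k5
    have f0' : f' = 0 := z _ _ hm2 k6
    rw [a0, b0, f0, f0', R.y_zero, R.y_zero, R.x_zero, R.x_zero, one_mul, one_mul, mul_one, mul_one] at hcf
    refine ⟨e, d, ?_⟩
    have c5 : Commute (R.y k d) (R.x i j e) := R.y_x_comm n1 n2 d e
    rw [c5.eq] at hcf
    rcases hcf with hcf | hcf
    · left; rw [hgg, hcf]
    · right; rw [hgg, hcf]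
  -- kill `Y_k`
  have k1 : ∀ g ∈ D.W i j, ∀ g' ∈ V.V k, ∃ a, g * g' = g' * g * R.x i j a := by
    intro g hg g' hg'
    set lam := hp i j m 1 with hlamd
    have l1 : ev lam i = m := ev_hp_i hij _ _
    have l2 : ev lam j = 1 := ev_hp_j hij _ _
    have l3 : ev lam k = 1 := ev_hp_k hik hjk _ _
    refine (D.ln hij).kill two (D.ht i j hij) (D.onto i j hij) (g' := g') (X' := R.y k) (H := lam) ?_ ?_ ?_ ?_ ?_ ?_ ?_ ?_
      (fun g hg => main g hg g' hg') g hg
    · rw [chs_apply, l1, l2, mul_one]; exact hm1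
    · exact V.torus_one k g' hg' lam l3
    · intro b
      have e := R.h_y lam k b
      rw [l3, Units.val_one, one_pow, one_mul] at e
      exact mul_inv_eq_iff_eq_mul.mp e
    · exact fun g hg b => D.cy i j hij g hg k b (neg_ne_of_dj hik) (neg_ne_of_dj hjk)
    · exact fun a => (show Commute _ _ from V.cx k g' hg' i j a n1 n2).symm
    · exact fun b => R.y_sq k b
    · exact fun a => (R.x_t i j a).symm
    · exact fun b => (R.y_t k b).symm
  -- kill `X_ij`
  have k2 : ∀ g ∈ D.W i j, ∀ g' ∈ V.V k, ∃ b, g' * g = g * g' * R.y k b := by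
    intro g hg g' hg'
    set lam := hi k m with hlamd
    have l1 : ev lam i = 1 := ev_hi_of hik.symm m
    have l2 : ev lam j = 1 := ev_hi_of hjk.symm m
    have l3 : ev lam k = m := ev_hi_self k m
    refine (V.ln k).kill two (V.ht k) (V.onto k) (g' := g) (X' := R.x i j) (H := lam) ?_ ?_ ?_ ?_ ?_ ?_ ?_ ?_
      (fun g' hg' => ?_) g' hg'
    · rw [chs_apply, l3, Units.val_mul, ← pow_two]; exact sqne _ hm1
    · exact D.torus_one i j hij g hg lam (by rw [l1, l2, one_mul])
    · intro b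
      have e := R.h_x lam i j b
      rw [l1, l2, Units.val_one, one_mul, one_mul] at e
      exact mul_inv_eq_iff_eq_mul.mp e
    · exact fun g' hg' b => V.cx k g' hg' i j b n1 n2
    · exact fun a => (show Commute _ _ from D.cy i j hij g hg k a (neg_ne_of_dj hik) (neg_ne_of_dj hjk)).symm
    · exact fun b => R.x_sq i j b
    · exact fun a => (R.y_t k a).symm
    · exact fun b => (R.x_t i j b).symm
    · obtain ⟨a, ha⟩ := k1 g hg g' hg'
      refine ⟨0, a, Or.inl ?_⟩
      rw [R.y_zero, one_mul, ha, mul_assoc (g' * g), R.x_sq, mul_one]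
  obtain ⟨a, ha⟩ := k1 g hg g' hg'
  obtain ⟨b, hb⟩ := k2 g hg g' hg'
  have e1 : R.y k b * R.x i j a = 1 := by
    have e2 : g * g' = g * g' * (R.y k b * R.x i j a) := by
      calc g * g' = g' * g * R.x i j a := ha
        _ = _ := by rw [hb, mul_assoc]
    exact left_eq_mul.mp e2
  have c5 : Commute (R.x i j a) (R.x i j a * R.y k b) :=
    (Commute.refl _).mul_right (R.y_x_comm n1 n2 b a).symm
  have e3 : R.y k b = R.x i j a := by
    have := eq_inv_of_mul_eq_one_left e1
    rwa [R.x_inv] at this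
  -- a torus element moving `Y_k` and not `X_ij`
  set lam := hi k m with hlamd
  have l1 : ev lam i = 1 := ev_hi_of hik.symm m
  have l2 : ev lam j = 1 := ev_hi_of hjk.symm m
  have l3 : ev lam k = m := ev_hi_self k m
  have e4 := R.h_x lam i j a
  rw [← e3, R.h_y, l1, l2, l3, Units.val_one, one_mul, one_mul, ← e3] at e4
  have e5 := R.y_inj e4
  have b0 : b = 0 := by
    have : ((m : F) ^ 2 - 1) * b = 0 := by linear_combination e5
    rcases mul_eq_zero.mp this with h | h
    · exact absurd (by linear_combination h) (sqne _ hm1)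
    · exact h
  rw [b0, R.y_zero, mul_one] at hb
  exact hb.symm

/-- **(8.2)** for the sections -/
theorem conj_wl {i j : Ix n} (h : Dj i j) (u b : F) : ∃ c d,
    R.x (neg i) j b * V.wl i u * R.x (neg i) j b =
      V.wl i u * V.wl j (u * b ^ 2) * D.ws i j (u * b) * R.x i j c * R.y j d := by
  obtain ⟨-, -, c3, hc⟩ := (frame I h).main_eps
  have h1 : R.x (neg i) j b * V.wl i u * R.x (neg i) j b =
      V.wl i u * (V.w2 h (u * (b * b)) * D.ws i j ((1 + γ) * (u * b)) *
        (R.y i 0 * R.y j 0 * R.x i j (c3 * (u * b)))) := hc u b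
  have h2 : (1 + γ) * (u * b) = u * b := by rw [I.gamma, add_zero, one_mul]
  rw [h2, R.y_zero, R.y_zero, one_mul, one_mul, ← pow_two] at h1
  obtain ⟨e, he⟩ := V.eq_wl j (V.w2_mem h (u * b ^ 2)) (V.w2_t h _)
  refine ⟨c3 * (u * b), e, ?_⟩
  have c1 : Commute (D.ws i j (u * b)) (R.y j e) := D.cy i j h _ (D.ws_mem h _) j e (neg_ne_of_dj h) (ne_neg j)
  have c2 : Commute (R.x i j (c3 * (u * b))) (R.y j e) := (R.y_x_comm h.2 (ne_neg j) e _).symm
  rw [h1, he]
  calc V.wl i u * (V.wl j (u * b ^ 2) * R.y j e * D.ws i j (u * b) * R.x i j (c3 * (u * b)))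
      = V.wl i u * V.wl j (u * b ^ 2) * (R.y j e * D.ws i j (u * b)) * R.x i j (c3 * (u * b)) := by
        simp only [mul_assoc]
    _ = V.wl i u * V.wl j (u * b ^ 2) * D.ws i j (u * b) * (R.y j e * R.x i j (c3 * (u * b))) := by
        rw [← c1.eq]; simp only [mul_assoc]
    _ = _ := by rw [← c2.eq]; simp only [mul_assoc]

/-- **(8.2)** -/
theorem conj_x {i j : Ix n} (h : Dj i j) {g : G} (hg : g ∈ V.V i) {u : F} (hu : R.t * g * R.t = g * R.y i u) (b : F) :
    ∃ g' ∈ V.V j, ∃ g'' ∈ D.W i j, R.t * g' * R.t = g' * R.y j (u * b ^ 2) ∧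
      R.t * g'' * R.t = g'' * R.x i j (u * b) ∧ R.x (neg i) j b * g * R.x (neg i) j b = g * g' * g'' := by
  obtain ⟨a, ha⟩ := V.eq_wl i hg hu
  obtain ⟨c, d, hcd⟩ := I.conj_wl h u b
  have hl := V.ln j
  have hs := D.ln h
  refine ⟨V.wl j (u * b ^ 2) * R.y j (d + a * b ^ 2), mul_mem (V.wl_mem j _) (V.y_mem j _),
    D.ws i j (u * b) * R.x i j (c + a * b), mul_mem (D.ws_mem h _) (D.x_mem i j _), ?_, ?_, ?_⟩
  · have := hl.t_mul (V.wl_mem j (u * b ^ 2)) (V.y_mem j (d + a * b ^ 2)) (V.wl_t j _)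
      (v := 0) (by rw [R.y_zero, mul_one, Both.conj_of_comm R.tt (R.y_t j _).symm])
    rwa [add_zero] at this
  · have := hs.t_mul (D.ws_mem h (u * b)) (D.x_mem i j (c + a * b)) (D.ws_t h _)
      (v := 0) (by rw [R.x_zero, mul_one, Both.conj_of_comm R.tt (R.x_t i j _).symm])
    rwa [add_zero] at this
  · have e1 := R.rels.sl i j a b h
    have hij := neg_ne_of_dj h
    have c1 : ∀ r, Commute (R.y i a) (R.y j r) := fun r => R.y_comm hij a r
    have c2 : ∀ r, Commute (R.y i a) (R.x i j r) := fun r => R.y_x_comm (ne_neg i) hij a r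
    have c3 : Commute (V.wl j (u * b ^ 2)) (R.y i a) := I.cy' h.2 (V.wl_mem j _) a
    have c4 : Commute (D.ws i j (u * b)) (R.y i a) := D.cy i j h _ (D.ws_mem h _) i a (ne_neg i) h.2
    have c5 : ∀ r s, Commute (R.x i j r) (R.y j s) := fun r s => (R.y_x_comm h.2 (ne_neg j) s r).symm
    have c6 : ∀ r, Commute (D.ws i j (u * b)) (R.y j r) := fun r =>
      D.cy i j h _ (D.ws_mem h _) j r hij (ne_neg j)
    rw [ha, Both.conj2 (R.x_sq (neg i) j b), hcd, e1, R.y_add, R.x_add]
    calc V.wl i u * V.wl j (u * b ^ 2) * D.ws i j (u * b) * R.x i j c * R.y j d *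
          (R.y i a * R.x i j (a * b) * R.y j (a * b ^ 2))
        = V.wl i u * V.wl j (u * b ^ 2) * D.ws i j (u * b) * R.x i j c * (R.y j d *
          R.y i a) * R.x i j (a * b) * R.y j (a * b ^ 2) := by simp only [mul_assoc]
      _ = V.wl i u * V.wl j (u * b ^ 2) * D.ws i j (u * b) * (R.x i j c * R.y i a) * (R.y j d *
          R.x i j (a * b)) * R.y j (a * b ^ 2) := by rw [← (c1 d).eq]; simp only [mul_assoc]
      _ = V.wl i u * V.wl j (u * b ^ 2) * (D.ws i j (u * b) * R.y i a) * R.x i j c * (R.x i j (a * b) * R.y j d) *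
          R.y j (a * b ^ 2) := by rw [← (c2 c).eq, ← (c5 (a * b) d).eq]; simp only [mul_assoc]
      _ = V.wl i u * (V.wl j (u * b ^ 2) * R.y i a) * D.ws i j (u * b) * ((R.x i j c * R.x i j (a * b)) *
          (R.y j d * R.y j (a * b ^ 2))) := by rw [c4.eq]; simp only [mul_assoc]
      _ = V.wl i u * R.y i a * V.wl j (u * b ^ 2) * (D.ws i j (u * b) * (R.y j d * R.y j (a * b ^ 2))) *
          (R.x i j c * R.x i j (a * b)) := by
          rw [c3.eq, ← R.x_add, ← R.y_add, (c5 _ _).eq]; simp only [mul_assoc]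
      _ = _ := by rw [← R.y_add, (c6 _).eq]; simp only [mul_assoc]

/-- **(8.3)** for the sections -/
theorem conj_ws {i j : Ix n} (h : Dj i j) (u v : F) : ∃ c d,
    R.y j v * D.ws i (neg j) u * R.y j v =
      D.ws i (neg j) u * D.ws i j (u * v) * V.wl i ((1 + δ) * (u ^ 2 * v)) * R.x i j c * R.y i d := by
  obtain ⟨-, -, c1, c2, hc⟩ := (frame I h).main_short
  have h1 : R.y j v * D.ws i (neg j) u * R.y j v =
      D.ws i (neg j) u * (D.ws i j (u * v) * V.wl i ((1 + δ) * (u * u * v)) *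
        (R.y i (c1 * (u * u * v)) * R.x i j (c2 * (u * v)) * R.x i (neg j) 0)) := hc u v
  rw [R.x_zero, mul_one, ← pow_two, ((R.y_x_comm (ne_neg i) (neg_ne_of_dj h) _ _)).eq] at h1
  exact ⟨c2 * (u * v), c1 * (u ^ 2 * v), h1.trans (by simp only [mul_assoc])⟩

/-- **(8.3)** -/
theorem conj_y {i j : Ix n} (h : Dj i j) {g : G} (hg : g ∈ D.W i (neg j)) {u : F}
    (hu : R.t * g * R.t = g * R.x i (neg j) u) (v : F) :
    ∃ g' ∈ D.W i j, ∃ g'' ∈ V.V i, R.t * g' * R.t = g' * R.x i j (u * v) ∧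
      R.t * g'' * R.t = g'' * R.y i ((1 + δ) * (u ^ 2 * v)) ∧ R.y j v * g * R.y j v = g * g' * g'' := by
  have h' : Dj i (neg j) := dj_neg_right.mpr h
  obtain ⟨a, ha⟩ := D.eq_ws h' hg hu
  obtain ⟨c, d, hcd⟩ := I.conj_ws h u v
  have hl := V.ln i
  have hs := D.ln h
  set d' := d + a * a * v + δ * (u * v * a) with hd'
  refine ⟨D.ws i j (u * v) * R.x i j (c + a * v), mul_mem (D.ws_mem h _) (D.x_mem i j _),
    V.wl i ((1 + δ) * (u ^ 2 * v)) * R.y i d', mul_mem (V.wl_mem i _) (V.y_mem i _), ?_, ?_, ?_⟩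
  · have := hs.t_mul (D.ws_mem h (u * v)) (D.x_mem i j (c + a * v)) (D.ws_t h _)
      (v := 0) (by rw [R.x_zero, mul_one, Both.conj_of_comm R.tt (R.x_t i j _).symm])
    rwa [add_zero] at this
  · have := hl.t_mul (V.wl_mem i ((1 + δ) * (u ^ 2 * v))) (V.y_mem i d') (V.wl_t i _)
      (v := 0) (by rw [R.y_zero, mul_one, Both.conj_of_comm R.tt (R.y_t i _).symm])
    rwa [add_zero] at this
  · have hij := neg_ne_of_dj h
    have e1 : R.y j v * R.x i (neg j) a * R.y j v = R.y i (a * a * v) * R.x i j (a * v) * R.x i (neg j) a :=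
      (frame I h).d_conj_x2 a v
    have e2 : D.ws i j (u * v) * R.x i (neg j) a = R.x i (neg j) a * D.ws i j (u * v) * R.y i (δ * (u * v * a)) :=
      D.ws_par h (u * v) a
    -- `y_i` is central in everything here
    have c1 : ∀ r s, Commute (R.y i r) (R.x i j s) := fun r s => R.y_x_comm (ne_neg i) hij r s
    have c2 : ∀ r s, Commute (R.y i r) (R.x i (neg j) s) := fun r s =>
      R.y_x_comm (ne_neg i) (fun e => h.1 (neg_inj.mp e).symm) r s
    have hWm := V.wl_mem i ((1 + δ) * (u ^ 2 * v))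
    generalize V.wl i ((1 + δ) * (u ^ 2 * v)) = W at hcd hWm ⊢
    have c3 : ∀ s, Commute W (R.y i s) := fun s => V.cy i _ hWm s
    have c4 : ∀ s, Commute W (R.x i (neg j) s) := fun s =>
      V.cx i _ hWm i (neg j) s (ne_neg i) (fun e => h.1 (neg_inj.mp e).symm)
    have c5 : ∀ s, Commute W (R.x i j s) := fun s => V.cx i _ hWm i j s (ne_neg i) hij
    have c6 : ∀ r s, Commute (R.x i (neg j) r) (R.x i j s) := (frame I h).d_s
    rw [ha, Both.conj2 (R.y_sq j v), hcd, e1]
    have e3 : R.y i d * (R.y i (a * a * v) * R.x i j (a * v) * R.x i (neg j) a) =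
        R.x i (neg j) a * (R.x i j (a * v) * R.y i (d + a * a * v)) := by
      calc R.y i d * (R.y i (a * a * v) * R.x i j (a * v) * R.x i (neg j) a)
          = (R.y i d * R.y i (a * a * v)) * (R.x i j (a * v) * R.x i (neg j) a) := by simp only [mul_assoc]
        _ = R.x i (neg j) a * R.x i j (a * v) * R.y i (d + a * a * v) := by
            rw [← R.y_add, ← (c6 _ _).eq, ((c2 _ _).mul_right (c1 _ _)).eq]
        _ = _ := by simp only [mul_assoc]
    calc D.ws i (neg j) u * D.ws i j (u * v) * W * R.x i j c * R.y i d *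
          (R.y i (a * a * v) * R.x i j (a * v) * R.x i (neg j) a)
        = D.ws i (neg j) u * D.ws i j (u * v) * W * R.x i j c * (R.y i d *
          (R.y i (a * a * v) * R.x i j (a * v) * R.x i (neg j) a)) := by simp only [mul_assoc]
      _ = D.ws i (neg j) u * D.ws i j (u * v) * W * (R.x i j c * R.x i (neg j) a) *
          (R.x i j (a * v) * R.y i (d + a * a * v)) := by rw [e3]; simp only [mul_assoc]
      _ = D.ws i (neg j) u * D.ws i j (u * v) * (W * R.x i (neg j) a) * (R.x i j c *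
          R.x i j (a * v) * R.y i (d + a * a * v)) := by rw [← (c6 _ _).eq]; simp only [mul_assoc]
      _ = D.ws i (neg j) u * (D.ws i j (u * v) * R.x i (neg j) a) * W * (R.x i j (c + a * v) *
          R.y i (d + a * a * v)) := by rw [(c4 _).eq, ← R.x_add]; simp only [mul_assoc]
      _ = D.ws i (neg j) u * R.x i (neg j) a * D.ws i j (u * v) * (R.y i (δ * (u * v * a)) * W) *
          (R.x i j (c + a * v) * R.y i (d + a * a * v)) := by rw [e2]; simp only [mul_assoc]
      _ = D.ws i (neg j) u * R.x i (neg j) a * D.ws i j (u * v) * W * ((R.y i (δ * (u * v * a)) *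
          R.x i j (c + a * v)) * R.y i (d + a * a * v)) := by rw [← (c3 _).eq]; simp only [mul_assoc]
      _ = D.ws i (neg j) u * R.x i (neg j) a * D.ws i j (u * v) * (W * R.x i j (c + a * v)) *
          (R.y i (δ * (u * v * a)) * R.y i (d + a * a * v)) := by rw [(c1 _ _).eq]; simp only [mul_assoc]
      _ = _ := by
          rw [(c5 _).eq, ← R.y_add, hd', add_comm (δ * (u * v * a))]; simp only [mul_assoc]

end Inp

end main

end Cfsg.Agent.OddHalf.SpN
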