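import Cfsg.Agent.OddHalf.SpN.BothInst

/-!
# ODD D7, `K = Sp_2n(q)`, pattern ALL: the frame `P2` of a pair (helper780)
-/

set_option autoImplicit false

namespace Cfsg.Agent.OddHalf.SpN

open scoped commutatorElement

variable {n : ℕ} {F : Type*} [Field F] [CharP F 2] {G : Type*} [Group G]

/-- the inputs of section 8 beyond `DS` and `DL` -/
structure Inp {R : Frame n F G} {δ γ : F} (D : DS R δ) (V : DL R γ) : Prop where
  hn : 3 ≤ n
  hF : ∃ a : F, a ≠ 0 ∧ a ≠ 1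
  /-- (6.1) -/
  el : ∀ i j, Dj i j → ∀ g ∈ D.W i j, g * g = 1
  /-- section 4 -/
  h4 : ∀ i j, Dj i j → ∀ g ∈ V.V i, ∀ g' ∈ V.V j, ∃ a, g * g' = g' * g * R.x i j a

theorem neg_ne_of_dj {i j : Ix n} (h : Dj i j) : j ≠ neg i := fun e => h.2 (by rw [e, neg_neg])

variable {R : Frame n F G} {δ γ : F} {D : DS R δ} {V : DL R γ}

/-- independence of `Y_i, Y_j, X_ij, X_{i,-j}` -/
theorem ind4 (R : Frame n F G) {i j : Ix n} (h : Dj i j) {a b c e : F}
    (h1 : R.y i a * R.y j b * R.x i j c * R.x i (neg j) e = 1) : a = 0 ∧ b = 0 ∧ c = 0 ∧ e = 0 := by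
  have hr := R.rels
  have e1 : R.x i (neg j) e = R.y i a * R.y j b * R.x i j c := by
    have := eq_inv_of_mul_eq_one_right h1
    rw [this, inv_eq_iff_mul_eq_one]
    exact hr.z_sq h a b c
  have c1 : Commute (R.x i (neg j) e) (R.y j 1) := by
    rw [e1]
    exact ((R.y_comm (neg_ne_of_dj h) _ _).mul_left (R.y_comm (ne_neg j) _ _)).mul_left
      (hr.x_yj h _ _)
  have e2 := hr.sl j i 1 e h.symm
  rw [R.x_symm (neg j) i, c1.eq, mul_assoc, R.x_sq, mul_one, mul_assoc] at e2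
  have e3 := left_eq_mul.mp e2
  rw [one_mul, one_mul, R.x_symm j i] at e3
  have e4 := hr.ind i j (e ^ 2) 0 e h (by
    rw [R.y_zero, mul_one, ← (hr.x_yi h e (e ^ 2)).eq]; exact e3)
  have he : e = 0 := e4.2.2
  rw [he, R.x_zero, mul_one] at h1
  obtain ⟨h2, h3, h4⟩ := hr.ind i j a b c h h1
  exact ⟨h2, h3, h4, he⟩

omit [CharP F 2] in
theorem t_ind4 (R : Frame n F G) {i j : Ix n} (a b c e : F) :
    R.t ≠ R.y i a * R.y j b * R.x i j c * R.x i (neg j) e := fun h =>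
  R.t_notMem_K (h ▸ mul_mem (mul_mem (mul_mem (R.y_mem_K _ _) (R.y_mem_K _ _)) (R.x_mem_K _ _ _)) (R.x_mem_K _ _ _))

section

omit [CharP F 2] in
/-- a torus element trivial on the indices `i`, `j` only -/
theorem exists_lam_off {μ : Fˣ} (hμ : μ ≠ 1) (i j : Ix n) : ∃ lam : Fin n → Fˣ,
    ev lam i = 1 ∧ ev lam j = 1 ∧ ∀ k, Dj i k → Dj j k → ev lam k ≠ 1 := by
  classical
  refine ⟨fun k => if Dj i (Sum.inl k) ∧ Dj j (Sum.inl k) then μ else 1, ?_, ?_, ?_⟩
  · rcases i with i | i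
    · have : ¬ Dj (Sum.inl i) (Sum.inl i : Ix n) := fun h => h.1 rfl
      simp [ev, this]
    · have : ¬ Dj (Sum.inr i) (Sum.inl i : Ix n) := fun h => h.2 rfl
      simp [ev, this]
  · rcases j with j | j
    · have : ¬ Dj (Sum.inl j) (Sum.inl j : Ix n) := fun h => h.1 rfl
      simp [ev, this]
    · have : ¬ Dj (Sum.inr j) (Sum.inl j : Ix n) := fun h => h.2 rfl
      simp [ev, this]
  · rintro (k | k) h1 h2
    · simpa [ev, h1, h2] using hμ
    · have h1' : Dj i (Sum.inl k) := by rw [← dj_neg_right]; exact h1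
      have h2' : Dj j (Sum.inl k) := by rw [← dj_neg_right]; exact h2
      simpa [ev, h1', h2'] using hμ

variable [Finite F]

omit [Finite F] in
theorem DL.w2_mul' (V : DL R γ) {i j : Ix n} (h : Dj i j) {u v c : F} (e : V.wl i u * V.wl i v = V.wl i (u + v) * R.y i c) :
    V.w2 h u * V.w2 h v = V.w2 h (u + v) * R.y j c := by
  have n2 : ∀ g, R.N h * (R.N h * g) = g := fun g => by rw [← mul_assoc, NN R h, one_mul]
  have e2 := N_y R h i c
  rw [tr_i h] at e2
  rw [← e2]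
  calc V.w2 h u * V.w2 h v = R.N h * (V.wl i u * V.wl i v) * R.N h := by
        simp only [DL.w2, mul_assoc, n2]
    _ = _ := by rw [e]; simp only [DL.w2, mul_assoc, n2]

/-- the frame of the pair `(i, j)` -/
noncomputable def frame (I : Inp D V) {i j : Ix n} (h : Dj i j) : Both.P2 F G {k : Ix n // Dj i k ∧ Dj j k} where
  t := R.t
  x1 := R.y i
  x2 := R.y j
  s := R.x i j
  d := R.x i (neg j)
  d' := R.x (neg i) j
  w1 := V.wl i
  w2 := V.w2 h
  ws := D.ws i j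
  wd := D.ws i (neg j)
  h := fun l m => R.h (hp i j l m)
  P := fun k => R.x i k.1
  P' := fun k => R.x j k.1
  Y := fun k => R.y k.1
  Z := ∅
  Hr := {g | ∃ lam, ev lam i = 1 ∧ ev lam j = 1 ∧ g = R.h lam}
  rt := rtF F
  γ := γ
  δ := δ
  ε := Classical.choose (V.exists_eps I.h4 h)
  κ := fun u v => Classical.choose (V.wl_mul i u v)
  two := CharTwo.two_eq_zero
  rt_sq := rt_sq F
  big := I.hF
  tt := R.tt
  x1_add := R.y_add i
  x2_add := R.y_add j
  s_add := R.x_add i j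
  d_add := R.x_add i (neg j)
  d'_add := R.x_add (neg i) j
  t_x1 := fun u => (R.y_t i u).symm
  t_x2 := fun u => (R.y_t j u).symm
  t_s := fun u => (R.x_t i j u).symm
  t_d := fun u => (R.x_t i (neg j) u).symm
  t_d' := fun u => (R.x_t (neg i) j u).symm
  x1_x2 := fun u v => R.y_comm (neg_ne_of_dj h) u v
  x1_s := fun u v => R.y_x_comm (ne_neg i) (neg_ne_of_dj h) u v
  x2_s := fun u v => R.y_x_comm h.2 (ne_neg j) u v
  d_x1 := fun u v => (R.y_x_comm (ne_neg i) (fun e => h.1 (neg_inj.mp e).symm) v u).symm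
  d_s := fun u v => by
    have := R.x_comm' (i := neg j) (j := i) u v
    rwa [neg_neg, R.x_symm (neg j) i, R.x_symm j i] at this
  d'_x2 := fun u v => (R.y_x_comm (fun e => h.1 (neg_inj.mp e)) (ne_neg j) v u).symm
  d'_s := fun u v => by
    have := R.x_comm' (i := neg i) (j := j) u v
    rwa [neg_neg] at this
  d_x2 := fun u v => by
    have := R.rels.sl j i v u h.symm
    rw [R.x_symm (neg j) i, R.x_symm j i] at this
    rw [this, mul_comm v u, pow_two, mul_comm v (u * u)]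
  d'_x1 := fun u v => by
    have := R.rels.sl i j v u h
    rw [this, mul_comm v u, pow_two, mul_comm v (u * u)]
  ind := fun a b c e h1 => ind4 R h h1
  t_ind := fun a b c e => t_ind4 R a b c e
  w1_zero := V.wl_zero i
  w1_t := V.wl_t i
  ws_t := D.ws_t h
  wd_t := D.ws_t (dj_neg_right.mpr h)
  w1_mul := fun u v => Classical.choose_spec (V.wl_mul i u v)
  w2_def := fun u => by rw [N_eq R h, DL.w2]
  nn := by rw [N_eq R h, NN]
  d'_n := fun u => by
    rw [N_eq R h, N_x]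
    have hn : tr j i (neg i) = neg (tr j i i) := tr_mem h.symm i
    rw [hn, tr_i h, tr_j h, R.x_symm]
  w2_t := V.w2_t h
  w2_mul := fun u v => V.w2_mul' h (Classical.choose_spec (V.wl_mul i u v))
  ws_add := D.ws_add I.el h
  wd_add := D.ws_add I.el (dj_neg_right.mpr h)
  w1_x1 := fun u v => V.cy i _ (V.wl_mem i u) v
  w1_s := fun u v => V.cx i _ (V.wl_mem i u) i j v (ne_neg i) (neg_ne_of_dj h)
  w1_d := fun u v => V.cx i _ (V.wl_mem i u) i (neg j) v (ne_neg i) (fun e => h.1 (neg_inj.mp e).symm)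
  w1_x2 := fun u v => V.par_rt h (V.wl_mem i u) (V.wl_t i u) v
  w2_x2 := fun u v => V.cy j _ (V.w2_mem h u) v
  w2_s := fun u v => V.cx j _ (V.w2_mem h u) i j v h.2 (ne_neg j)
  w2_d' := fun u v => V.cx j _ (V.w2_mem h u) (neg i) j v (fun e => h.1 (neg_inj.mp e)) (ne_neg j)
  w2_x1 := fun u v => by
    have := V.par_rt h.symm (V.w2_mem h u) (V.w2_t h u) v
    rwa [R.x_symm j i] at this
  ws_x1 := fun u v => D.cy i j h _ (D.ws_mem h u) i v (ne_neg i) h.2
  ws_x2 := fun u v => D.cy i j h _ (D.ws_mem h u) j v (neg_ne_of_dj h) (ne_neg j)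
  ws_s := fun u v => D.comm i j h _ (D.ws_mem h u) _ (D.x_mem i j v)
  ws_d := fun u v => D.ws_par h u v
  ws_d' := fun u v => by
    have := D.ws_par h.symm u v
    rwa [D.ws_symm j i, R.x_symm j (neg i)] at this
  wd_x1 := fun u v => D.cy i (neg j) (dj_neg_right.mpr h) _ (D.ws_mem (dj_neg_right.mpr h) u) i v (ne_neg i)
    (by rw [neg_neg]; exact h.1)
  wd_d := fun u v => D.comm i (neg j) (dj_neg_right.mpr h) _ (D.ws_mem (dj_neg_right.mpr h) u) _ (D.x_mem i (neg j) v)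
  wd_s := fun u v => by
    have := D.ws_par (dj_neg_right.mpr h) u v
    rwa [neg_neg] at this
  w1_w2 := fun u v => Classical.choose_spec (V.exists_eps I.h4 h) u v
  h_x1 := fun l m u => by rw [R.h_y, ev_hp_i h, pow_two]
  h_x2 := fun l m u => by rw [R.h_y, ev_hp_j h, pow_two]
  h_s := fun l m u => by rw [R.h_x, ev_hp_i h, ev_hp_j h]
  h_d := fun l m u => by rw [R.h_x, ev_neg, ev_hp_i h, ev_hp_j h]
  h_d' := fun l m u => by rw [R.h_x, ev_neg, ev_hp_i h, ev_hp_j h]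
  h_w1 := fun l m u => by rw [V.h_wl, ev_hp_i h]
  h_w2 := fun l m u => V.h_w2 h l m u
  h_ws := fun l m u => by rw [D.h_ws h, ev_hp_i h, ev_hp_j h]
  h_wd := fun l m u => by rw [D.h_ws (dj_neg_right.mpr h), ev_neg, ev_hp_i h, ev_hp_j h]
  h_t := fun l m => R.h_t _
  P_x1 := fun k a u => (R.y_x_comm (ne_neg i) (neg_ne_of_dj k.2.1) u a).symm
  P_x2 := fun k a u => (R.y_x_comm h.2 (neg_ne_of_dj k.2.2) u a).symm
  P_s := fun k a u => R.x_comm (ne_neg i) k.2.1.2 (neg_ne_of_dj h) k.2.2.2 a u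
  P_d := fun k a u => R.x_comm (ne_neg i) k.2.1.2 (fun e => h.1 (neg_inj.mp e).symm) (fun e => k.2.2.1 (neg_inj.mp e)) a u
  P_d' := fun k a u => by
    have := R.rels.ss k.1 i j a u k.2.1.symm h k.2.2.symm
    rwa [R.x_symm k.1 i, R.x_symm k.1 j] at this
  P'_x1 := fun k a u => (R.y_x_comm (neg_ne_of_dj h) (neg_ne_of_dj k.2.1) u a).symm
  P'_x2 := fun k a u => (R.y_x_comm (ne_neg j) (neg_ne_of_dj k.2.2) u a).symm
  P'_s := fun k a u => R.x_comm h.2 k.2.1.2 (ne_neg j) k.2.2.2 a u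
  P'_d' := fun k a u => R.x_comm (fun e => h.1 (neg_inj.mp e)) (fun e => k.2.1.1 (neg_inj.mp e)) (ne_neg j) k.2.2.2 a u
  P_w1 := fun k a u => (show Commute _ _ from V.cx i _ (V.wl_mem i u) i k.1 a (ne_neg i) (neg_ne_of_dj k.2.1)).symm
  P_w2 := fun k a u => (show Commute _ _ from V.cx j _ (V.w2_mem h u) i k.1 a h.2 (neg_ne_of_dj k.2.2)).symm
  P_ws := fun k a u => (show Commute _ _ from D.cx i j h _ (D.ws_mem h u) i k.1 a (ne_neg i) h.2
    (neg_ne_of_dj k.2.1) (neg_ne_of_dj k.2.2)).symm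
  P_wd := fun k a u => (show Commute _ _ from D.cx i (neg j) (dj_neg_right.mpr h) _ (D.ws_mem (dj_neg_right.mpr h) u) i k.1 a
    (ne_neg i) (by rw [neg_neg]; exact h.1) (neg_ne_of_dj k.2.1) (by rw [neg_neg]; exact k.2.2.1.symm)).symm
  P'_w1 := fun k a u => (show Commute _ _ from V.cx i _ (V.wl_mem i u) j k.1 a (neg_ne_of_dj h) (neg_ne_of_dj k.2.1)).symm
  P'_w2 := fun k a u => (show Commute _ _ from V.cx j _ (V.w2_mem h u) j k.1 a (ne_neg j) (neg_ne_of_dj k.2.2)).symm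
  P'_ws := fun k a u => (show Commute _ _ from D.cx i j h _ (D.ws_mem h u) j k.1 a (neg_ne_of_dj h) (ne_neg j)
    (neg_ne_of_dj k.2.1) (neg_ne_of_dj k.2.2)).symm
  Y_x1 := fun k a u => R.y_comm (neg_ne_of_dj k.2.1.symm) a u
  Y_x2 := fun k a u => R.y_comm (neg_ne_of_dj k.2.2.symm) a u
  Y_s := fun k a u => R.y_x_comm (neg_ne_of_dj k.2.1.symm) (neg_ne_of_dj k.2.2.symm) a u
  Y_d' := fun k a u => R.y_x_comm (fun e => k.2.1.1 (neg_inj.mp e)) (neg_ne_of_dj k.2.2.symm) a u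
  Y_ws := fun k a u => (show Commute _ _ from D.cy i j h _ (D.ws_mem h u) k.1 a (neg_ne_of_dj k.2.1)
    (neg_ne_of_dj k.2.2)).symm
  Y_w1 := fun k a u => V.par_rt k.2.1 (V.wl_mem i u) (V.wl_t i u) a
  Y_w2 := fun k a u => V.par_rt k.2.2 (V.w2_mem h u) (V.w2_t h u) a
  Z_x := fun z hz => hz.elim
  Z_w := fun z hz => hz.elim
  Hr_x := fun z ⟨lam, h1, h2, h3⟩ u => by
    have e := R.h_y lam j u
    rw [h2, Units.val_one, one_pow, one_mul] at e
    rw [h3]
    exact mul_inv_eq_iff_eq_mul.mp e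
  Hr_w := fun z ⟨lam, h1, h2, h3⟩ u => by
    rw [h3]
    refine ⟨V.torus_one i _ (V.wl_mem i u) lam h1, D.torus_one i j h _ (D.ws_mem h u) lam (by rw [h1, h2, one_mul]),
      D.torus_one i (neg j) (dj_neg_right.mpr h) _ (D.ws_mem (dj_neg_right.mpr h) u) lam
        (by rw [ev_neg, h1, h2, one_mul, inv_one])⟩
  centA := fun g gt g1 g2 gs gP gP' gY _ => by
    obtain ⟨a, b, d, hc, -⟩ := R.FU2 I.hn h gt (fun k k1 k2 b => by
      rcases cases5 i j k with rfl | rfl | rfl | rfl | hk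
      · exact g1 b
      · exact g2 b
      · exact absurd rfl k1
      · exact absurd rfl k2
      · exact gY ⟨k, hk⟩ b)
    exact ⟨a, b, d, hc⟩
  centQ := fun g gt g1 gs gd gP gH => by
    obtain ⟨a, ha0, ha1⟩ := I.hF
    obtain ⟨lam, l1, l2, l3⟩ := exists_lam_off (μ := Units.mk0 a ha0)
      (fun e => ha1 (by have := congrArg Units.val e; simpa using this)) i j
    exact R.FQ I.hn h gt g1 (fun k hk b => by
      rcases cases5 i j k with rfl | rfl | rfl | rfl | hk'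
      · exact absurd rfl hk.1
      · exact gs b
      · exact absurd rfl (neg_ne_of_dj hk)
      · exact gd b
      · exact gP ⟨k, hk'⟩ b) (gH _ ⟨lam, l1, l2, rfl⟩) (by rw [l1, Units.val_one])
        (fun k hk hk' e => l3 k hk hk' (Units.ext (by rw [e, Units.val_one])))

end

end Cfsg.Agent.OddHalf.SpN
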