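import Cfsg.Agent.OddHalf.SpN.BothPair

/-!
# ODD D7, `K = Sp_2n(q)`, pattern ALL: (8.2) (helper780)
-/

set_option autoImplicit false

namespace Cfsg.Agent.OddHalf.SpN.Both.P2

variable {F G J : Type*} [Field F] [Group G] (B : P2 F G J)

/-- `w₂(b) w_s(c) x₁(p) x₂(q) s(r)` -/
def M (b c p q r : F) : G := B.w2 b * B.ws c * B.A p q r

theorem M_mul (b c p q r b' c' p' q' r' : F) : B.M b c p q r * B.M b' c' p' q' r' =
    B.M (b + b') (c + c') (p + p') (q + q' + B.κ b b') (r + r' + B.γ * B.rt (b' * p)) := by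
  unfold M
  calc B.w2 b * B.ws c * B.A p q r * (B.w2 b' * B.ws c' * B.A p' q' r')
      = B.w2 b * B.ws c * (B.A p q r * (B.w2 b' * (B.ws c' * B.A p' q' r'))) := by simp only [mul_assoc]
    _ = B.w2 b * (B.ws c * B.w2 b') * B.ws c' *
          (B.A p q (r + B.γ * B.rt (b' * p)) * B.A p' q' r') := by rw [A_w2', A_ws']; simp only [mul_assoc]
    _ = (B.w2 b * B.w2 b') * (B.ws c * B.ws c') *
          (B.A (p + p') (q + q') (r + B.γ * B.rt (b' * p) + r')) := by
        rw [(B.ws_w2 c b').eq, A_mul]; simp only [mul_assoc]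
    _ = B.w2 (b + b') * (B.x2 (B.κ b b') * B.ws (c + c')) *
          (B.A (p + p') (q + q') (r + B.γ * B.rt (b' * p) + r')) := by
        rw [B.w2_mul, B.ws_add]; simp only [mul_assoc]
    _ = _ := by
        rw [x2_eq, A_ws]; simp only [mul_assoc]; rw [A_mul]
        exact congrArg _ (congrArg _ (B.A_congr (by ring) (by ring) (by ring)))

theorem kappa_zero : B.κ 0 0 = 0 := by
  have h := B.w2_mul 0 0
  rw [add_zero, w2_zero, one_mul, one_mul, x2_eq] at h
  exact (B.A_inj h.symm).2.1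

theorem M_zero : B.M 0 0 0 0 0 = 1 := by rw [M, w2_zero, ws_zero, A_zero, mul_one, mul_one]

theorem M_one (p q r : F) : B.M 0 0 p q r = B.A p q r := by rw [M, w2_zero, ws_zero, one_mul, one_mul]

/-- the subgroup of the `M b c p q r` -/
def Q2 : Subgroup G where
  carrier := {g | ∃ b c p q r, g = B.M b c p q r}
  one_mem' := ⟨0, 0, 0, 0, 0, B.M_zero.symm⟩
  mul_mem' := by
    rintro x y ⟨b, c, p, q, r, rfl⟩ ⟨b', c', p', q', r', rfl⟩
    exact ⟨_, _, _, _, _, B.M_mul ..⟩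
  inv_mem' := by
    rintro x ⟨b, c, p, q, r, rfl⟩
    refine ⟨b, c, p, q + B.κ b b, r + B.γ * B.rt (b * p), ?_⟩
    rw [inv_eq_iff_mul_eq_one, M_mul, B.add_self, B.add_self, B.add_self]
    have e1 : q + (q + B.κ b b) + B.κ b b = 0 := by rw [B.add_self_left, B.add_self]
    have e2 : r + (r + B.γ * B.rt (b * p)) + B.γ * B.rt (b * p) = 0 := by rw [B.add_self_left, B.add_self]
    rw [e1, e2, M_zero]

theorem mem_Q2 (b c p q r : F) : B.M b c p q r ∈ B.Q2 := ⟨b, c, p, q, r, rfl⟩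

theorem A_mem_Q2 (p q r : F) : B.A p q r ∈ B.Q2 := by rw [← M_one]; exact B.mem_Q2 ..

theorem w2_mem_Q2 (b : F) : B.w2 b ∈ B.Q2 := ⟨b, 0, 0, 0, 0, by rw [M, ws_zero, A_zero, mul_one, mul_one]⟩

theorem ws_mem_Q2 (b : F) : B.ws b ∈ B.Q2 := ⟨0, b, 0, 0, 0, by rw [M, w2_zero, A_zero, one_mul, mul_one]⟩

theorem M_t (b c p q r : F) : B.t * B.M b c p q r * B.t = B.M b c p (q + b) (r + c) := by
  unfold M
  rw [conj3 B.tt, B.w2_t, B.ws_t, conj_of_comm B.tt (B.t_A p q r), x2_eq, s_eq]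
  calc B.w2 b * B.A 0 b 0 * (B.ws c * B.A 0 0 c) * B.A p q r
      = B.w2 b * (B.A 0 b 0 * (B.ws c * (B.A 0 0 c * B.A p q r))) := by simp only [mul_assoc]
    _ = B.w2 b * B.ws c * (B.A 0 b 0 * (B.A 0 0 c * B.A p q r)) := by rw [A_ws']; simp only [mul_assoc]
    _ = _ := by
        rw [A_mul, A_mul]
        exact congrArg _ (B.A_congr (by ring) (by ring) (by ring))

theorem M_d' (b c p q r β : F) : B.d' β * B.M b c p q r * B.d' β =
    B.M b c p (q + B.δ * (c * β) + β * β * p) (r + β * p) := by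
  unfold M
  rw [conj3 (B.ff B.d'_add β), conj_of_comm (B.ff B.d'_add β) (B.w2_d' b β).symm, ws_conj_d', A_d']
  simp only [mul_assoc, A_mul]
  exact congrArg _ (congrArg _ (B.A_congr (by ring) (by ring) (by ring)))

theorem t_not_mem_Q2 : B.t ∉ B.Q2 := by
  rintro ⟨b, c, p, q, r, h⟩
  have h1 := congrArg (fun g => B.t * g * B.t) h
  simp only [M_t, B.tt, one_mul] at h1
  rw [h] at h1
  unfold M at h1
  have h2 := B.A_ext (mul_left_cancel h1)
  have hb : b = 0 := left_eq_add.mp h2.2.1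
  have hc : c = 0 := left_eq_add.mp h2.2.2
  rw [hb, hc, M_one] at h
  exact B.t_ne _ _ _ h

theorem t_conj_mem_Q2 {g : G} (h : g ∈ B.Q2) : B.t * g * B.t ∈ B.Q2 := by
  obtain ⟨b, c, p, q, r, rfl⟩ := h
  rw [M_t]; exact B.mem_Q2 ..

theorem d'_conj_mem_Q2 {g : G} (h : g ∈ B.Q2) (β : F) : B.d' β * g * B.d' β ∈ B.Q2 := by
  obtain ⟨b, c, p, q, r, rfl⟩ := h
  rw [M_d']; exact B.mem_Q2 ..

theorem rt_mul_self (a : F) : B.rt (a * a) = a := by
  rw [map_mul, B.rt_sq]

/-- first form of (8.2) -/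
theorem conj_w1 (u b : F) : ∃ p q r,
    B.d' b * B.w1 u * B.d' b = B.w1 u * B.M (u * (b * b)) ((1 + B.γ) * (u * b)) p q r ∨
    B.d' b * B.w1 u * B.d' b = B.w1 u * (B.w2 (u * (b * b)) * B.ws ((1 + B.γ) * (u * b)) * (B.t * B.A p q r)) := by
  set y := u * (b * b) with hy
  set z := (1 + B.γ) * (u * b) with hz
  set g := B.w1 u * B.w2 y * B.ws z with hg
  set g1 := B.d' b * B.w1 u * B.d' b with hg1
  have dd := B.ff B.d'_add b
  have dd' : ∀ x, B.d' b * (B.d' b * x) = x := B.ff' B.d'_add b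
  have rty : ∀ a, B.rt (y * a) = b * B.rt (u * a) := fun a => by
    rw [hy, map_mul, map_mul, B.rt_mul_self, map_mul]; ring
  -- the generators
  have gx1 : ∀ a, g * B.x1 a = (B.x1 a * B.s (B.γ * B.rt (y * a))) * g := fun a => by
    calc g * B.x1 a = B.w1 u * B.w2 y * (B.ws z * B.x1 a) := by rw [hg]; simp only [mul_assoc]
      _ = B.w1 u * (B.w2 y * B.x1 a) * B.ws z := by rw [(B.ws_x1 z a).eq]; simp only [mul_assoc]
      _ = (B.w1 u * B.x1 a) * (B.w2 y * B.s (B.γ * B.rt (y * a))) * B.ws z := by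
          rw [B.w2_x1]; simp only [mul_assoc]
      _ = B.x1 a * (B.w1 u * B.s (B.γ * B.rt (y * a))) * B.w2 y * B.ws z := by
          rw [(B.w1_x1 u a).eq, (B.w2_s y _).eq]; simp only [mul_assoc]
      _ = _ := by rw [(B.w1_s u _).eq, hg]; simp only [mul_assoc]
  have g1x1 : ∀ a, g1 * B.x1 a = (B.x1 a * B.s (B.γ * B.rt (y * a))) * g1 := fun a => by
    have e1 : B.d' b * B.x1 a = B.x1 a * B.s (b * a) * B.x2 (b * b * a) * B.d' b := by
      rw [← B.d'_x1]; simp only [mul_assoc, dd, mul_one]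
    have e2 : B.d' b * (B.x1 a * B.s (b * a) * B.x2 (b * b * a)) = B.x1 a * B.d' b := by
      rw [← B.d'_x1, ← mul_assoc, ← mul_assoc, dd, one_mul]
    calc g1 * B.x1 a = B.d' b * B.w1 u * (B.d' b * B.x1 a) := by rw [hg1]; simp only [mul_assoc]
      _ = B.d' b * (B.w1 u * B.x1 a) * B.s (b * a) * B.x2 (b * b * a) * B.d' b := by
          rw [e1]; simp only [mul_assoc]
      _ = B.d' b * B.x1 a * (B.w1 u * B.s (b * a)) * B.x2 (b * b * a) * B.d' b := by
          rw [(B.w1_x1 u a).eq]; simp only [mul_assoc]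
      _ = B.d' b * B.x1 a * B.s (b * a) * (B.w1 u * B.x2 (b * b * a)) * B.d' b := by
          rw [(B.w1_s u _).eq]; simp only [mul_assoc]
      _ = (B.d' b * (B.x1 a * B.s (b * a) * B.x2 (b * b * a))) * (B.w1 u * (B.s (B.γ * B.rt (u * (b * b * a))) *
            B.d' b)) := by
          rw [B.w1_x2]; simp only [mul_assoc]
      _ = B.x1 a * B.d' b * (B.w1 u * (B.d' b * B.s (B.γ * B.rt (u * (b * b * a))))) := by
          rw [e2, ← (B.d'_s b _).eq]
      _ = B.x1 a * (g1 * B.s (B.γ * B.rt (u * (b * b * a)))) := by rw [hg1]; simp only [mul_assoc]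
      _ = _ := by
          have e3 : B.rt (u * (b * b * a)) = B.rt (y * a) := by rw [hy]; congr 1; ring
          have e4 : Commute g1 (B.s (B.γ * B.rt (y * a))) := by
            rw [hg1]; exact ((B.d'_s b _).mul_left (B.w1_s u _)).mul_left (B.d'_s b _)
          rw [e3, e4.eq, ← mul_assoc]
  have gx2 : ∀ a, g * B.x2 a = (B.x2 a * B.s (B.γ * B.rt (u * a))) * g := fun a => by
    calc g * B.x2 a = B.w1 u * B.w2 y * (B.ws z * B.x2 a) := by rw [hg]; simp only [mul_assoc]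
      _ = B.w1 u * (B.w2 y * B.x2 a) * B.ws z := by rw [(B.ws_x2 z a).eq]; simp only [mul_assoc]
      _ = (B.w1 u * B.x2 a) * B.w2 y * B.ws z := by
          rw [(B.w2_x2 y a).eq]; simp only [mul_assoc]
      _ = B.x2 a * (B.w1 u * B.s (B.γ * B.rt (u * a))) * B.w2 y * B.ws z := by
          rw [B.w1_x2]; simp only [mul_assoc]
      _ = _ := by rw [(B.w1_s u _).eq, hg]; simp only [mul_assoc]
  have g1x2 : ∀ a, g1 * B.x2 a = (B.x2 a * B.s (B.γ * B.rt (u * a))) * g1 := fun a => by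
    calc g1 * B.x2 a = B.d' b * B.w1 u * (B.d' b * B.x2 a) := by rw [hg1]; simp only [mul_assoc]
      _ = B.d' b * (B.w1 u * B.x2 a) * B.d' b := by rw [(B.d'_x2 b a).eq]; simp only [mul_assoc]
      _ = (B.d' b * B.x2 a) * (B.w1 u * B.s (B.γ * B.rt (u * a))) * B.d' b := by
          rw [B.w1_x2]; simp only [mul_assoc]
      _ = B.x2 a * (B.d' b * B.s (B.γ * B.rt (u * a))) * B.w1 u * B.d' b := by
          rw [(B.d'_x2 b a).eq, (B.w1_s u _).eq]; simp only [mul_assoc]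
      _ = _ := by rw [(B.d'_s b _).eq, hg1]; simp only [mul_assoc]
  have cx1 : ∀ a, Commute (g⁻¹ * g1) (B.x1 a) := fun a => comm_of_eq (gx1 a) (g1x1 a)
  have cx2 : ∀ a, Commute (g⁻¹ * g1) (B.x2 a) := fun a => comm_of_eq (gx2 a) (g1x2 a)
  have cs : ∀ a, Commute (g⁻¹ * g1) (B.s a) := fun a => by
    refine Commute.mul_left (Commute.inv_left ?_) ?_
    · exact ((B.w1_s u a).mul_left (B.w2_s y a)).mul_left (B.ws_s z a)
    · exact ((B.d'_s b _).mul_left (B.w1_s u _)).mul_left (B.d'_s b _)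
  obtain ⟨p, q, r, hk⟩ := B.centA (g⁻¹ * g1) (by
      apply comm_t_of B.tt (X := B.A u y (u * b)) _ _ (B.comm_A cx1 cx2 cs _ _ _)
      · rw [hg, conj3 B.tt, B.w1_t, B.w2_t, B.ws_t, x1_eq, x2_eq, s_eq]
        have e3 : B.rt (y * u) = u * b := by rw [rty, B.rt_mul_self]; ring
        calc B.w1 u * B.A u 0 0 * (B.w2 y * B.A 0 y 0) * (B.ws z * B.A 0 0 z)
            = B.w1 u * (B.A u 0 0 * (B.w2 y * (B.A 0 y 0 * (B.ws z * B.A 0 0 z)))) := by simp only [mul_assoc]
          _ = B.w1 u * B.w2 y * B.ws z * (B.A u 0 (0 + B.γ * B.rt (y * u)) * (B.A 0 y 0 * B.A 0 0 z)) := by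
              rw [A_w2', A_ws', A_ws']; simp only [mul_assoc]
          _ = _ := by
              rw [A_mul, A_mul]
              refine congrArg _ (B.A_congr (by ring) (by ring) ?_)
              rw [e3, hz]; linear_combination B.γ * (u * b) * B.two
      · rw [hg1, conj3 B.tt, B.w1_t, conj_of_comm B.tt (B.t_d' b), x1_eq]
        have e := B.A_d' u 0 0 b
        calc B.d' b * (B.w1 u * B.A u 0 0) * B.d' b
            = B.d' b * B.w1 u * B.d' b * (B.d' b * B.A u 0 0 * B.d' b) := by simp only [mul_assoc, dd']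
          _ = _ := by
              rw [e]
              exact congrArg _ (B.A_congr rfl (by rw [hy]; ring) (by ring)))
    cx1 cx2 cs
    (fun j a => comm_of_eq (x' := B.P j a)
      (by
        have : Commute g (B.P j a) := by
          rw [hg]; exact ((B.P_w1 j a u).symm.mul_left (B.P_w2 j a y).symm).mul_left (B.P_ws j a z).symm
        exact this.eq)
      (by
        have e1 : B.d' b * B.P j a = B.P j a * B.P' j (a * b) * B.d' b := by
          rw [← B.P_d']; simp only [mul_assoc, dd, mul_one]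
        have e2 : B.d' b * (B.P j a * B.P' j (a * b)) = B.P j a * B.d' b := by
          rw [← B.P_d', ← mul_assoc, ← mul_assoc, dd, one_mul]
        calc g1 * B.P j a = B.d' b * B.w1 u * (B.d' b * B.P j a) := by rw [hg1]; simp only [mul_assoc]
          _ = B.d' b * (B.w1 u * B.P j a) * B.P' j (a * b) * B.d' b := by rw [e1]; simp only [mul_assoc]
          _ = B.d' b * B.P j a * (B.w1 u * B.P' j (a * b)) * B.d' b := by
              rw [← (B.P_w1 j a u).eq]; simp only [mul_assoc]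
          _ = (B.d' b * (B.P j a * B.P' j (a * b))) * B.w1 u * B.d' b := by
              rw [← (B.P'_w1 j _ u).eq]; simp only [mul_assoc]
          _ = _ := by rw [e2, hg1]; simp only [mul_assoc]))
    (fun j a => Commute.mul_left (Commute.inv_left
        (((B.P'_w1 j a u).symm.mul_left (B.P'_w2 j a y).symm).mul_left (B.P'_ws j a z).symm))
        (((B.P'_d' j a b).symm.mul_left (B.P'_w1 j a u).symm).mul_left (B.P'_d' j a b).symm))
    (fun j a => comm_of_eq (x' := B.Y j a * (B.P j (B.γ * B.rt (u * a)) * B.P' j (B.γ * B.rt (y * a))))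
      (by
        calc g * B.Y j a = B.w1 u * B.w2 y * (B.ws z * B.Y j a) := by rw [hg]; simp only [mul_assoc]
          _ = B.w1 u * (B.w2 y * B.Y j a) * B.ws z := by rw [← (B.Y_ws j a z).eq]; simp only [mul_assoc]
          _ = (B.w1 u * B.Y j a) * (B.w2 y * B.P' j (B.γ * B.rt (y * a))) * B.ws z := by
              rw [B.Y_w2]; simp only [mul_assoc]
          _ = B.Y j a * (B.w1 u * B.P j (B.γ * B.rt (u * a))) * B.P' j (B.γ * B.rt (y * a)) * B.w2 y * B.ws z := by
              rw [B.Y_w1, ← (B.P'_w2 j _ y).eq]; simp only [mul_assoc]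
          _ = B.Y j a * B.P j (B.γ * B.rt (u * a)) * (B.w1 u * B.P' j (B.γ * B.rt (y * a))) * B.w2 y * B.ws z := by
              rw [← (B.P_w1 j _ u).eq]; simp only [mul_assoc]
          _ = _ := by rw [← (B.P'_w1 j _ u).eq, hg]; simp only [mul_assoc])
      (by
        have e1 : B.d' b * B.P j (B.γ * B.rt (u * a)) =
            B.P j (B.γ * B.rt (u * a)) * B.P' j (B.γ * B.rt (y * a)) * B.d' b := by
          have e0 := B.P_d' j (B.γ * B.rt (u * a)) b
          have e3 : B.γ * B.rt (u * a) * b = B.γ * B.rt (y * a) := by rw [rty]; ring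
          rw [e3] at e0
          rw [← e0]; simp only [mul_assoc, dd, mul_one]
        calc g1 * B.Y j a = B.d' b * B.w1 u * (B.d' b * B.Y j a) := by rw [hg1]; simp only [mul_assoc]
          _ = B.d' b * (B.w1 u * B.Y j a) * B.d' b := by rw [← (B.Y_d' j a b).eq]; simp only [mul_assoc]
          _ = (B.d' b * B.Y j a) * (B.w1 u * B.P j (B.γ * B.rt (u * a))) * B.d' b := by
              rw [B.Y_w1]; simp only [mul_assoc]
          _ = B.Y j a * (B.d' b * B.P j (B.γ * B.rt (u * a))) * B.w1 u * B.d' b := by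
              rw [← (B.Y_d' j a b).eq, ← (B.P_w1 j _ u).eq]; simp only [mul_assoc]
          _ = _ := by rw [e1, hg1]; simp only [mul_assoc]))
    (fun x hx => Commute.mul_left (Commute.inv_left
        (((B.Z_w x hx u).1.symm.mul_left (B.Z_w x hx y).2.1.symm).mul_left (B.Z_w x hx z).2.2.symm))
        (((B.Z_x x hx b).2.2.2.symm.mul_left (B.Z_w x hx u).1.symm).mul_left (B.Z_x x hx b).2.2.2.symm))
  refine ⟨p, q, r, ?_⟩
  have e : g1 = g * (g⁻¹ * g1) := by rw [mul_inv_cancel_left]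
  rcases hk with hk | hk
  · left; rw [e, hk, hg, M, A]; simp only [mul_assoc]
  · right; rw [e, hk, hg, A]; simp only [mul_assoc]

/-- `T` is trivial -/
theorem conj_w1' (u b : F) : ∃ p q r,
    B.d' b * B.w1 u * B.d' b = B.w1 u * B.M (u * (b * b)) ((1 + B.γ) * (u * b)) p q r := by
  obtain ⟨p, q, r, h | h⟩ := B.conj_w1 u b
  · exact ⟨p, q, r, h⟩
  exfalso
  -- torus
  have hh : ∀ m : Fˣ, ∃ x ∈ B.Q2, B.d' (m * b) * B.w1 u * B.d' (m * b) = B.w1 u * (B.t * x) := fun m => by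
    have e := congrArg (fun g => B.h 1 m * g * (B.h 1 m)⁻¹) h
    have c : ∀ x y, B.h 1 m * (x * y) * (B.h 1 m)⁻¹ = (B.h 1 m * x * (B.h 1 m)⁻¹) * (B.h 1 m * y * (B.h 1 m)⁻¹) :=
      fun x y => by group
    have ct : B.h 1 m * B.t * (B.h 1 m)⁻¹ = B.t := by rw [(B.h_t 1 m).eq, mul_inv_cancel_right]
    simp only [c, B.h_ws, B.h_w1, B.h_w2, B.h_d', B.A_h, ct, Units.val_one, mul_one, one_mul, inv_one] at e
    refine ⟨B.t * (B.w2 (m * m * (u * (b * b))) * B.ws (m * ((1 + B.γ) * (u * b)))) * B.t *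
      B.A p (m * m * q) (m * r), mul_mem (B.t_conj_mem_Q2 (mul_mem (B.w2_mem_Q2 _) (B.ws_mem_Q2 _)))
      (B.A_mem_Q2 _ _ _), ?_⟩
    rw [e]
    simp only [mul_assoc, B.tt']
  obtain ⟨a, ha0, ha1⟩ := B.big
  obtain ⟨x, hx, hx'⟩ := hh 1
  obtain ⟨y, hy, hy'⟩ := hh (Units.mk0 a ha0)
  have hs : 1 + a ≠ 0 := fun h0 => ha1 (B.add_eq_zero_iff' h0).symm
  obtain ⟨z, hz, hz'⟩ := hh (Units.mk0 (1 + a) hs)
  simp only [Units.val_mk0, Units.val_one, one_mul] at hx' hy' hz'
  have dd' : ∀ x, B.d' b * (B.d' b * x) = x := B.ff' B.d'_add b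
  have hab : (1 + a) * b = b + a * b := by ring
  rw [hab] at hz'
  have e : B.d' (b + a * b) * B.w1 u * B.d' (b + a * b) = B.w1 u * (B.t * x) * (B.t * (B.d' b * y * B.d' b)) := by
    have e1 : B.d' (b + a * b) * B.w1 u * B.d' (b + a * b) =
        B.d' b * (B.d' (a * b) * B.w1 u * B.d' (a * b)) * B.d' b := by
      nth_rw 2 [add_comm]
      rw [B.d'_add, B.d'_add]; simp only [mul_assoc]
    have e2 : B.d' b * B.t = B.t * B.d' b := (B.t_d' b).eq.symm
    rw [e1, hy']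
    calc B.d' b * (B.w1 u * (B.t * y)) * B.d' b
        = (B.d' b * B.w1 u * B.d' b) * (B.d' b * B.t) * y * B.d' b := by simp only [mul_assoc, dd']
      _ = _ := by rw [hx', e2]; simp only [mul_assoc]
  rw [e, mul_assoc] at hz'
  have h3 := mul_left_cancel hz'
  apply B.t_not_mem_Q2
  have h4 : B.t = (B.t * x * B.t) * (B.d' b * y * B.d' b) * z⁻¹ := by
    rw [eq_mul_inv_iff_mul_eq, ← h3]; simp only [mul_assoc]
  rw [h4]
  exact mul_mem (mul_mem (B.t_conj_mem_Q2 hx) (B.d'_conj_mem_Q2 hy b)) (inv_mem hz)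

theorem kappa_zero_left (v : F) : B.κ 0 v = 0 := by
  have h := B.w2_mul 0 v
  rw [zero_add, w2_zero, one_mul, x2_eq] at h
  exact (B.A_inj (left_eq_mul.mp h)).2.1

theorem M_ext {b c p q r p' q' r' : F} (h : B.M b c p q r = B.M b c p' q' r') : p = p' ∧ q = q' ∧ r = r' :=
  B.A_ext (mul_left_cancel h)

/-- **(8.2)**, first part -/
theorem main_conj : (∀ u v, B.κ u v = B.δ * (1 + B.γ) * B.rt (u * v)) ∧ ∃ c2 c3 : F, ∀ u b,
    B.d' b * B.w1 u * B.d' b = B.w1 u * B.M (u * (b * b)) ((1 + B.γ) * (u * b)) 0 (c2 * (u * (b * b))) (c3 * (u * b)) := by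
  choose p q r h using B.conj_w1'
  -- torus
  have hh : ∀ (l m : Fˣ) (u b : F), p (l * l * u) ((l⁻¹ : Fˣ) * m * b) = l * l * p u b ∧
      q (l * l * u) ((l⁻¹ : Fˣ) * m * b) = m * m * q u b ∧ r (l * l * u) ((l⁻¹ : Fˣ) * m * b) = l * m * r u b := fun l m u b => by
    have e := congrArg (fun g => B.h l m * g * (B.h l m)⁻¹) (h u b)
    have c : ∀ x y, B.h l m * (x * y) * (B.h l m)⁻¹ = (B.h l m * x * (B.h l m)⁻¹) * (B.h l m * y * (B.h l m)⁻¹) :=
      fun x y => by group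
    simp only [c, M, B.h_ws, B.h_w1, B.h_w2, B.h_d', B.A_h] at e
    rw [h] at e
    have e := mul_left_cancel e
    have l0 : (l : F) ≠ 0 := l.ne_zero
    have e1 : (l : F) * l * u * ((l⁻¹ : Fˣ) * m * b * ((l⁻¹ : Fˣ) * m * b)) = m * m * (u * (b * b)) := by
      rw [Units.val_inv_eq_inv_val]; field_simp
    have e2 : (1 + B.γ) * ((l : F) * l * u * ((l⁻¹ : Fˣ) * m * b)) = l * m * ((1 + B.γ) * (u * b)) := by
      rw [Units.val_inv_eq_inv_val]; field_simp
    rw [e1, e2] at e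
    exact B.M_ext e
  -- additivity in `b`
  have hadd : ∀ u b b', p u (b + b') = p u b + p u b' ∧
      q u (b + b') = q u b + q u b' + B.δ * ((1 + B.γ) * (u * b') * b) + b * b * p u b' +
        B.κ (u * (b * b)) (u * (b' * b')) ∧
      r u (b + b') = r u b + r u b' + b * p u b' + B.γ * B.rt (u * (b' * b') * p u b) := fun u b b' => by
    have dd' : ∀ x, B.d' b * (B.d' b * x) = x := B.ff' B.d'_add b
    have e1 : B.d' (b + b') * B.w1 u * B.d' (b + b') =
        B.d' b * (B.d' b' * B.w1 u * B.d' b') * B.d' b := by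
      nth_rw 2 [add_comm]
      rw [B.d'_add, B.d'_add]; simp only [mul_assoc]
    rw [h u b', conj2 (B.ff B.d'_add b), h u b, M_d', mul_assoc (B.w1 u), M_mul, h] at e1
    have e2 := mul_left_cancel e1
    have i1 : u * ((b + b') * (b + b')) = u * (b * b) + u * (b' * b') := by linear_combination (u * b * b') * B.two
    have i2 : (1 + B.γ) * (u * (b + b')) = (1 + B.γ) * (u * b) + (1 + B.γ) * (u * b') := by ring
    rw [i1, i2] at e2
    obtain ⟨j1, j2, j3⟩ := B.M_ext e2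
    refine ⟨j1, ?_, ?_⟩
    · rw [j2]; ring
    · rw [j3]; ring
  have hp : ∀ u b, p u b = 0 := fun u b => by
    refine eq_zero_of_inv B.big (fun b => p u b) (fun b b' => (hadd u b b').1) (fun a ha b => ?_) b
    have := (hh 1 (Units.mk0 a ha) u b).1
    simpa using this
  simp only [hp, mul_zero, add_zero, map_zero] at hadd
  have h0 : ∀ u, q u 0 = 0 ∧ r u 0 = 0 := fun u => by
    have h1 := h u 0
    simp only [f0 B.d'_add, one_mul, mul_one, mul_zero, hp] at h1
    have h2 := left_eq_mul.mp h1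
    rw [M_one] at h2
    exact (B.A_inj h2).2
  have hq : ∀ u b, q u b = b * b * q u 1 := fun u b => by
    by_cases hb : b = 0
    · rw [hb, (h0 u).1]; ring
    · have := (hh 1 (Units.mk0 b hb) u 1).2.1
      simpa using this
  have hκ : ∀ u v, B.κ u v = B.δ * (1 + B.γ) * B.rt (u * v) := fun u v => by
    have h1 := (hadd 1 (B.rt u) (B.rt v)).2.1
    rw [hq 1 (B.rt u + B.rt v), hq 1 (B.rt u), hq 1 (B.rt v), B.rt_sq, B.rt_sq] at h1
    simp only [one_mul] at h1
    rw [map_mul]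
    have h2 := B.rt_sq u
    have h3 := B.rt_sq v
    linear_combination -h1 + (B.rt u * B.rt v) * (q 1 1 - B.δ * (1 + B.γ)) * B.two + q 1 1 * h2 + q 1 1 * h3
  refine ⟨hκ, q 1 1, r 1 1, fun u b => ?_⟩
  rw [h u b, hp]
  refine congrArg _ ?_
  by_cases hu : u = 0
  · subst hu
    have h1 := h 0 b
    simp only [B.w1_zero, mul_one, B.ff B.d'_add, one_mul, hp, zero_mul, mul_zero] at h1
    rw [M_one] at h1
    have h2 := (B.A_inj h1.symm).2
    rw [h2.1, h2.2]; simp
  · have hl : B.rt u ≠ 0 := fun h0 => hu (by rw [← B.rt_sq u, h0, zero_mul])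
    have h1 := (hh (Units.mk0 (B.rt u) hl) 1 1 (B.rt u * b)).2
    have h2 := (hh 1 (Units.mk0 (B.rt u) hl) 1 b).2
    simp only [Units.val_mk0, Units.val_one, mul_one, one_mul, inv_one, Units.val_inv_eq_inv_val,
      inv_mul_cancel_left₀ hl, B.rt_sq] at h1 h2
    have hr1 : r 1 b = b * r 1 1 := by
      by_cases hb : b = 0
      · rw [hb, (h0 1).2, zero_mul]
      · have := (hh 1 (Units.mk0 b hb) 1 1).2.2
        simpa using this
    have e1 : q u b = q 1 1 * (u * (b * b)) := by rw [h1.1, h2.1, hq 1 b]; ring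
    have e2 : r u b = r 1 1 * (u * b) := by
      rw [h1.2, h2.2, hr1]
      linear_combination (b * r 1 1) * B.rt_sq u
    rw [e1, e2]

theorem main_eps : (∀ u v, B.κ u v = B.δ * (1 + B.γ) * B.rt (u * v)) ∧ B.ε = B.δ * (1 + B.γ) ∧ ∃ c3 : F, ∀ u b,
    B.d' b * B.w1 u * B.d' b = B.w1 u * B.M (u * (b * b)) ((1 + B.γ) * (u * b)) 0 0 (c3 * (u * b)) := by
  obtain ⟨hκ, c2, c3, h⟩ := B.main_conj
  set n := B.d' 1 * B.d 1 * B.d' 1 with hn
  have cn : ∀ x y, n * (x * y) * n = (n * x * n) * (n * y * n) := fun x y => conj2 B.nn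
  have key : ∀ u, c2 * u = 0 ∧ B.ε * u + B.δ * ((1 + B.γ) * u) = 0 := fun u => by
    set z := (1 + B.γ) * u with hz
    have h1 : B.d' 1 * B.w1 u * B.d' 1 = B.w1 u * (B.w2 u * B.ws z * B.A 0 (c2 * u) (c3 * u)) := by
      have := h u 1
      simpa only [mul_one, M] using this
    have h2 : B.d 1 * B.w2 u * B.d 1 = B.w2 u * (B.w1 u * (B.ws z * B.A 0 0 (B.δ * z)) * B.A (c2 * u) 0 (c3 * u)) := by
      have e := congrArg (fun g => n * g * n) h1
      simp only [cn] at e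
      rw [hn, B.d'_n, ← B.w2_def, B.w2_n, B.ws_n, B.A_n] at e
      exact e
    have h3 : B.w1 u * B.w2 u * B.w1 u = B.w2 u * B.A (B.δ * z) 0 (B.ε * u) := by
      have e : B.w1 u * B.w1 u = B.A (B.δ * z) 0 0 := by
        rw [B.w1_mul, B.add_self, B.w1_zero, one_mul, hκ, B.rt_mul_self, x1_eq, hz]
        exact B.A_congr (by ring) rfl rfl
      rw [B.w1_w2, B.rt_mul_self, mul_assoc, ← (B.w1_s u _).eq, mul_assoc, ← mul_assoc (B.w1 u), e, s_eq, A_mul]
      exact congrArg _ (B.A_congr (by ring) (by ring) (by ring))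
    have ww : B.ws z * B.ws z = 1 := B.ff B.ws_add z
    have h4 : B.d 1 * (B.d' 1 * B.w1 u * B.d' 1) * B.d 1 =
        B.w2 u * B.A 0 (c2 * u) (B.ε * u + B.δ * z + c2 * u) := by
      rw [h1, conj2 (B.ff B.d_add 1), conj3 (B.ff B.d_add 1), h2, ws_conj_d, A_d,
        conj_of_comm (B.ff B.d_add 1) (B.w1_d u 1).symm]
      calc B.w1 u * (B.w2 u * (B.w1 u * (B.ws z * B.A 0 0 (B.δ * z)) * B.A (c2 * u) 0 (c3 * u)) *
              (B.ws z * B.A (B.δ * (z * 1)) 0 0) *
            B.A (0 + 1 * 1 * (c2 * u)) (c2 * u) (c3 * u + 1 * (c2 * u)))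
          = (B.w1 u * B.w2 u * B.w1 u) * (B.ws z * (B.A 0 0 (B.δ * z) * (B.A (c2 * u) 0 (c3 * u) *
              (B.ws z * (B.A (B.δ * (z * 1)) 0 0 * B.A (0 + 1 * 1 * (c2 * u)) (c2 * u) (c3 * u + 1 * (c2 * u))))))) := by
            simp only [mul_assoc]
        _ = (B.w1 u * B.w2 u * B.w1 u) * ((B.ws z * B.ws z) * (B.A 0 0 (B.δ * z) * (B.A (c2 * u) 0 (c3 * u) *
              (B.A (B.δ * (z * 1)) 0 0 * B.A (0 + 1 * 1 * (c2 * u)) (c2 * u) (c3 * u + 1 * (c2 * u)))))) := by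
            rw [A_ws', A_ws']; simp only [mul_assoc]
        _ = _ := by
            rw [ww, one_mul, h3, mul_assoc, A_mul, A_mul, A_mul, A_mul]
            refine congrArg _ (B.A_congr ?_ ?_ ?_)
            · linear_combination (B.δ * z + c2 * u) * B.two
            · ring
            · linear_combination (c3 * u) * B.two
    have e : n * B.w1 u * n = B.d' 1 * (B.d 1 * (B.d' 1 * B.w1 u * B.d' 1) * B.d 1) * B.d' 1 := by
      rw [hn]; simp only [mul_assoc]
    have e2 := B.w2_def u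
    rw [← hn, e, h4, conj2 (B.ff B.d'_add 1), A_d', conj_of_comm (B.ff B.d'_add 1) (B.w2_d' u 1).symm] at e2
    obtain ⟨-, e3, e4⟩ := B.A_inj (left_eq_mul.mp e2)
    simp only [mul_zero, add_zero] at e3 e4
    rw [e3, add_zero] at e4
    exact ⟨e3, e4⟩
  obtain ⟨k1, k2⟩ := key 1
  simp only [mul_one] at k1 k2
  refine ⟨hκ, B.add_eq_zero_iff' k2, c3, fun u b => ?_⟩
  rw [h u b, k1, zero_mul]

end Cfsg.Agent.OddHalf.SpN.Both.P2
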