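import Mathlib

/-!
# ODD D7, `K = Sp_2n(q)`, `n ≥ 3`, `q ≥ 4` even, pattern ALL: the frame of one pair (helper780)

Section 8 of `blueprints/ODD-D7-Sp-helper297.md` for one pair `(1, 2)` of indices; `P2` collects the root elements
`x1, x2, s, d, d'` of the roots `2e₁, 2e₂, e₁+e₂, e₁-e₂, e₂-e₁`, the doubled root elements `w1, w2, ws, wd`
(`w2 = w1 ^ n`, `n = d'(1) d(1) d'(1)`), the torus of the two indices, generators with a third index
(`P j = x_{1j}`, `P' j = x_{2j}`, `Y j = y_j`, `Z`: the rest) and the two facts F3.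

Result: `P2.gamma_eq_zero`, `P2.kappa_eq`, `P2.epsilon_eq`, `P2.delta_cases`, `P2.ws_w2`, `P2.conj_d'`, `P2.conj_x2`.
-/

set_option autoImplicit false

namespace Cfsg.Agent.OddHalf.SpN.Both

/-- One pair of indices. All characteristic two; `rt` = square root. -/
structure P2 (F G J : Type*) [Field F] [Group G] where
  t : G
  x1 : F → G
  x2 : F → G
  s : F → G
  d : F → G
  d' : F → G
  w1 : F → G
  w2 : F → G
  ws : F → G
  wd : F → G
  h : Fˣ → Fˣ → G
  P : J → F → G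
  P' : J → F → G
  Y : J → F → G
  Z : Set G
  Hr : Set G
  rt : F →+* F
  γ : F
  δ : F
  ε : F
  κ : F → F → F
  -- the field
  two : (2 : F) = 0
  rt_sq : ∀ a, rt a * rt a = a
  /-- `q ≥ 4` -/
  big : ∃ a : F, a ≠ 0 ∧ a ≠ 1
  -- root elements
  tt : t * t = 1
  x1_add : ∀ u v, x1 (u + v) = x1 u * x1 v
  x2_add : ∀ u v, x2 (u + v) = x2 u * x2 v
  s_add : ∀ u v, s (u + v) = s u * s v
  d_add : ∀ u v, d (u + v) = d u * d v
  d'_add : ∀ u v, d' (u + v) = d' u * d' v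
  t_x1 : ∀ u, Commute t (x1 u)
  t_x2 : ∀ u, Commute t (x2 u)
  t_s : ∀ u, Commute t (s u)
  t_d : ∀ u, Commute t (d u)
  t_d' : ∀ u, Commute t (d' u)
  x1_x2 : ∀ u v, Commute (x1 u) (x2 v)
  x1_s : ∀ u v, Commute (x1 u) (s v)
  x2_s : ∀ u v, Commute (x2 u) (s v)
  d_x1 : ∀ u v, Commute (d u) (x1 v)
  d_s : ∀ u v, Commute (d u) (s v)
  d'_x2 : ∀ u v, Commute (d' u) (x2 v)
  d'_s : ∀ u v, Commute (d' u) (s v)
  /-- `x₂(v)^{d(u)} = x₂(v) s(uv) x₁(u²v)` -/
  d_x2 : ∀ u v, d u * x2 v * d u = x2 v * s (u * v) * x1 (u * u * v)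
  d'_x1 : ∀ u v, d' u * x1 v * d' u = x1 v * s (u * v) * x2 (u * u * v)
  ind : ∀ a b c e, x1 a * x2 b * s c * d e = 1 → a = 0 ∧ b = 0 ∧ c = 0 ∧ e = 0
  t_ind : ∀ a b c e, t ≠ x1 a * x2 b * s c * d e
  -- doubled root elements: section 2
  w1_zero : w1 0 = 1
  w1_t : ∀ u, t * w1 u * t = w1 u * x1 u
  ws_t : ∀ u, t * ws u * t = ws u * s u
  wd_t : ∀ u, t * wd u * t = wd u * d u
  w1_mul : ∀ u v, w1 u * w1 v = w1 (u + v) * x1 (κ u v)
  /-- `w₂ = w₁ ^ n` -/
  w2_def : ∀ u, w2 u = (d' 1 * d 1 * d' 1) * w1 u * (d' 1 * d 1 * d' 1)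
  nn : (d' 1 * d 1 * d' 1) * (d' 1 * d 1 * d' 1) = 1
  d'_n : ∀ u, (d' 1 * d 1 * d' 1) * d' u * (d' 1 * d 1 * d' 1) = d u
  w2_t : ∀ u, t * w2 u * t = w2 u * x2 u
  w2_mul : ∀ u v, w2 u * w2 v = w2 (u + v) * x2 (κ u v)
  ws_add : ∀ u v, ws (u + v) = ws u * ws v
  wd_add : ∀ u v, wd (u + v) = wd u * wd v
  -- section 3, long
  w1_x1 : ∀ u v, Commute (w1 u) (x1 v)
  w1_s : ∀ u v, Commute (w1 u) (s v)
  w1_d : ∀ u v, Commute (w1 u) (d v)
  w1_x2 : ∀ u v, w1 u * x2 v = x2 v * w1 u * s (γ * rt (u * v))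
  w2_x2 : ∀ u v, Commute (w2 u) (x2 v)
  w2_s : ∀ u v, Commute (w2 u) (s v)
  w2_d' : ∀ u v, Commute (w2 u) (d' v)
  w2_x1 : ∀ u v, w2 u * x1 v = x1 v * w2 u * s (γ * rt (u * v))
  -- section 3, short
  ws_x1 : ∀ u v, Commute (ws u) (x1 v)
  ws_x2 : ∀ u v, Commute (ws u) (x2 v)
  ws_s : ∀ u v, Commute (ws u) (s v)
  ws_d : ∀ u v, ws u * d v = d v * ws u * x1 (δ * (u * v))
  ws_d' : ∀ u v, ws u * d' v = d' v * ws u * x2 (δ * (u * v))
  wd_x1 : ∀ u v, Commute (wd u) (x1 v)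
  wd_d : ∀ u v, Commute (wd u) (d v)
  wd_s : ∀ u v, wd u * s v = s v * wd u * x1 (δ * (u * v))
  -- section 4
  w1_w2 : ∀ u v, w1 u * w2 v = w2 v * w1 u * s (ε * rt (u * v))
  -- torus
  h_x1 : ∀ l m u, h l m * x1 u * (h l m)⁻¹ = x1 (l * l * u)
  h_x2 : ∀ l m u, h l m * x2 u * (h l m)⁻¹ = x2 (m * m * u)
  h_s : ∀ l m u, h l m * s u * (h l m)⁻¹ = s (l * m * u)
  h_d : ∀ l m u, h l m * d u * (h l m)⁻¹ = d (l * (m⁻¹ : Fˣ) * u)
  h_d' : ∀ l m u, h l m * d' u * (h l m)⁻¹ = d' ((l⁻¹ : Fˣ) * m * u)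
  h_w1 : ∀ l m u, h l m * w1 u * (h l m)⁻¹ = w1 (l * l * u)
  h_w2 : ∀ l m u, h l m * w2 u * (h l m)⁻¹ = w2 (m * m * u)
  h_ws : ∀ l m u, h l m * ws u * (h l m)⁻¹ = ws (l * m * u)
  h_wd : ∀ l m u, h l m * wd u * (h l m)⁻¹ = wd (l * (m⁻¹ : Fˣ) * u)
  h_t : ∀ l m, Commute (h l m) t
  -- generators with a third index
  P_x1 : ∀ j a u, Commute (P j a) (x1 u)
  P_x2 : ∀ j a u, Commute (P j a) (x2 u)
  P_s : ∀ j a u, Commute (P j a) (s u)
  P_d : ∀ j a u, Commute (P j a) (d u)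
  P_d' : ∀ j a u, d' u * P j a * d' u = P j a * P' j (a * u)
  P'_x1 : ∀ j a u, Commute (P' j a) (x1 u)
  P'_x2 : ∀ j a u, Commute (P' j a) (x2 u)
  P'_s : ∀ j a u, Commute (P' j a) (s u)
  P'_d' : ∀ j a u, Commute (P' j a) (d' u)
  P_w1 : ∀ j a u, Commute (P j a) (w1 u)
  P_w2 : ∀ j a u, Commute (P j a) (w2 u)
  P_ws : ∀ j a u, Commute (P j a) (ws u)
  P_wd : ∀ j a u, Commute (P j a) (wd u)
  P'_w1 : ∀ j a u, Commute (P' j a) (w1 u)
  P'_w2 : ∀ j a u, Commute (P' j a) (w2 u)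
  P'_ws : ∀ j a u, Commute (P' j a) (ws u)
  Y_x1 : ∀ j a u, Commute (Y j a) (x1 u)
  Y_x2 : ∀ j a u, Commute (Y j a) (x2 u)
  Y_s : ∀ j a u, Commute (Y j a) (s u)
  Y_d' : ∀ j a u, Commute (Y j a) (d' u)
  Y_ws : ∀ j a u, Commute (Y j a) (ws u)
  Y_w1 : ∀ j a u, w1 u * Y j a = Y j a * w1 u * P j (γ * rt (u * a))
  Y_w2 : ∀ j a u, w2 u * Y j a = Y j a * w2 u * P' j (γ * rt (u * a))
  Z_x : ∀ z ∈ Z, ∀ u, Commute z (x1 u) ∧ Commute z (x2 u) ∧ Commute z (s u) ∧ Commute z (d' u)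
  Z_w : ∀ z ∈ Z, ∀ u, Commute z (w1 u) ∧ Commute z (w2 u) ∧ Commute z (ws u)
  Hr_x : ∀ z ∈ Hr, ∀ u, Commute z (x2 u)
  Hr_w : ∀ z ∈ Hr, ∀ u, Commute z (w1 u) ∧ Commute z (ws u) ∧ Commute z (wd u)
  -- the facts F3
  centA : ∀ g, Commute g t → (∀ u, Commute g (x1 u)) → (∀ u, Commute g (x2 u)) → (∀ u, Commute g (s u)) →
    (∀ j a, Commute g (P j a)) → (∀ j a, Commute g (P' j a)) → (∀ j a, Commute g (Y j a)) → (∀ z ∈ Z, Commute g z) →
    ∃ a b c, g = x1 a * x2 b * s c ∨ g = t * (x1 a * x2 b * s c)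
  centQ : ∀ g, Commute g t → (∀ u, Commute g (x1 u)) → (∀ u, Commute g (s u)) → (∀ u, Commute g (d u)) →
    (∀ j a, Commute g (P j a)) → (∀ z ∈ Hr, Commute g z) →
    ∃ a b c, g = x1 a * s b * d c ∨ g = t * (x1 a * s b * d c)


section gen

variable {F G : Type*} [Field F] [Group G]

/-- an additive function invariant under all scalars is zero -/
theorem eq_zero_of_inv (hbig : ∃ a : F, a ≠ 0 ∧ a ≠ 1) (f : F → F) (ha : ∀ u v, f (u + v) = f u + f v)
    (hi : ∀ a, a ≠ 0 → ∀ u, f (a * u) = f u) (u : F) : f u = 0 := by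
  obtain ⟨a, h0, h1⟩ := hbig
  have e : f (-a * u + u) = f ((1 - a) * u) := by ring_nf
  rw [ha, hi _ (neg_ne_zero.mpr h0), hi _ (sub_ne_zero.mpr h1.symm)] at e
  simpa using e

theorem comm_of_eq {g g1 x x' : G} (h : g * x = x' * g) (h1 : g1 * x = x' * g1) : Commute (g⁻¹ * g1) x := by
  show g⁻¹ * g1 * x = x * (g⁻¹ * g1)
  have e : g⁻¹ * x' = x * g⁻¹ := by
    rw [inv_mul_eq_iff_eq_mul, ← mul_assoc, h, mul_assoc, mul_inv_cancel, mul_one]
  rw [mul_assoc, h1, ← mul_assoc, e, mul_assoc]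

theorem comm_gen {a b c g g' : G} (h : a * b = b * a * c) (ag : Commute a g) (ag' : Commute a g') (bg' : Commute b g')
    (hb : b * g = g * b * g') : Commute c g := by
  have hc : c = (b * a)⁻¹ * (a * b) := by rw [h, inv_mul_cancel_left]
  rw [hc]
  apply comm_of_eq (x' := g * g')
  · calc b * a * g = b * (a * g) := mul_assoc _ _ _
      _ = (b * g) * a := by rw [ag.eq, mul_assoc]
      _ = g * (b * g') * a := by rw [hb, mul_assoc g]
      _ = _ := by rw [bg'.eq]; simp only [mul_assoc]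
  · calc a * b * g = a * (b * g) := mul_assoc _ _ _
      _ = a * g * (b * g') := by rw [hb]; simp only [mul_assoc]
      _ = g * (a * g') * b := by rw [ag.eq, bg'.eq]; simp only [mul_assoc]
      _ = _ := by rw [ag'.eq]; simp only [mul_assoc]

theorem comm_t_of {t g g1 X : G} (ht : t * t = 1) (h : t * g * t = g * X) (h1 : t * g1 * t = g1 * X)
    (hc : Commute (g⁻¹ * g1) X) : Commute (g⁻¹ * g1) t := by
  have ti : t⁻¹ = t := inv_eq_of_mul_eq_one_right ht
  have t2 : ∀ x, t * (t * x) = x := fun x => by rw [← mul_assoc, ht, one_mul]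
  have e3 : t * (g⁻¹ * g1) * t = g⁻¹ * g1 := by
    calc t * (g⁻¹ * g1) * t = (t * g * t)⁻¹ * (t * g1 * t) := by simp only [mul_inv_rev, mul_assoc, ti, t2]
      _ = X⁻¹ * ((g⁻¹ * g1) * X) := by rw [h, h1, mul_inv_rev]; simp only [mul_assoc]
      _ = _ := by rw [hc.eq, inv_mul_cancel_left]
  show (g⁻¹ * g1) * t = t * (g⁻¹ * g1)
  calc (g⁻¹ * g1) * t = t * (t * (g⁻¹ * g1) * t) := by simp only [mul_assoc, t2]
    _ = _ := by rw [e3]

/-- conjugation by an involution -/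
theorem conj3 {a x y z : G} (ha : a * a = 1) : a * (x * y * z) * a = (a * x * a) * (a * y * a) * (a * z * a) := by
  have : ∀ g, a * (a * g) = g := fun g => by rw [← mul_assoc, ha, one_mul]
  simp only [mul_assoc, this]

theorem conj2 {a x y : G} (ha : a * a = 1) : a * (x * y) * a = (a * x * a) * (a * y * a) := by
  have : ∀ g, a * (a * g) = g := fun g => by rw [← mul_assoc, ha, one_mul]
  simp only [mul_assoc, this]

theorem conj_of_comm {a x : G} (ha : a * a = 1) (h : Commute a x) : a * x * a = x := by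
  rw [h.eq, mul_assoc, ha, mul_one]

end gen

namespace P2

variable {F G J : Type*} [Field F] [Group G] (B : P2 F G J)

include B in
theorem add_self (a : F) : a + a = 0 := by rw [← two_mul, B.two, zero_mul]

include B in
theorem add_self_left (a b : F) : a + (a + b) = b := by rw [← add_assoc, B.add_self, zero_add]

theorem tt' (g : G) : B.t * (B.t * g) = g := by rw [← mul_assoc, B.tt, one_mul]

section root
variable {f : F → G} (hf : ∀ u v, f (u + v) = f u * f v)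
include hf
theorem f0 : f 0 = 1 := by have := hf 0 0; rw [add_zero] at this; exact left_eq_mul.mp this
theorem fc (u v : F) : Commute (f u) (f v) := by
  show f u * f v = f v * f u
  rw [← hf, ← hf, add_comm]
end root

include B in
theorem ff {f : F → G} (hf : ∀ u v, f (u + v) = f u * f v) (u : F) : f u * f u = 1 := by
  rw [← hf, B.add_self, f0 hf]

include B in
theorem ff' {f : F → G} (hf : ∀ u v, f (u + v) = f u * f v) (u : F) (g : G) : f u * (f u * g) = g := by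
  rw [← mul_assoc, B.ff hf, one_mul]

/-- `x₁(p) x₂(q) s(r)` -/
def A (p q r : F) : G := B.x1 p * B.x2 q * B.s r

theorem A_congr {p q r p' q' r' : F} (h1 : p = p') (h2 : q = q') (h3 : r = r') : B.A p q r = B.A p' q' r' := by
  rw [h1, h2, h3]

theorem A_mul (p q r p' q' r' : F) : B.A p q r * B.A p' q' r' = B.A (p + p') (q + q') (r + r') := by
  unfold A
  rw [B.x1_add, B.x2_add, B.s_add]
  have h1 := (B.x1_x2 p' q).eq
  have h2 := (B.x1_s p' r).eq
  have h3 := (B.x2_s q' r).eq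
  calc B.x1 p * B.x2 q * B.s r * (B.x1 p' * B.x2 q' * B.s r')
      = B.x1 p * B.x2 q * (B.s r * B.x1 p') * B.x2 q' * B.s r' := by simp only [mul_assoc]
    _ = B.x1 p * (B.x2 q * B.x1 p') * (B.s r * B.x2 q') * B.s r' := by rw [← h2]; simp only [mul_assoc]
    _ = B.x1 p * B.x1 p' * (B.x2 q * B.x2 q') * (B.s r * B.s r') := by rw [← h1, ← h3]; simp only [mul_assoc]
    _ = _ := by simp only [mul_assoc]

theorem A_mul' (p q r p' q' r' : F) (g : G) :
    B.A p q r * (B.A p' q' r' * g) = B.A (p + p') (q + q') (r + r') * g := by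
  rw [← mul_assoc, A_mul]

theorem x1_eq (p : F) : B.x1 p = B.A p 0 0 := by simp [A, f0 B.x2_add, f0 B.s_add]
theorem x2_eq (p : F) : B.x2 p = B.A 0 p 0 := by simp [A, f0 B.x1_add, f0 B.s_add]
theorem s_eq (p : F) : B.s p = B.A 0 0 p := by simp [A, f0 B.x1_add, f0 B.x2_add]
theorem A_zero : B.A 0 0 0 = 1 := by simp [A, f0 B.x1_add, f0 B.x2_add, f0 B.s_add]

theorem A_inj {p q r : F} (h : B.A p q r = 1) : p = 0 ∧ q = 0 ∧ r = 0 := by
  have := B.ind p q r 0 (by rw [f0 B.d_add, mul_one]; exact h)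
  exact ⟨this.1, this.2.1, this.2.2.1⟩

theorem A_ext {p q r p' q' r' : F} (h : B.A p q r = B.A p' q' r') : p = p' ∧ q = q' ∧ r = r' := by
  have e : B.A (p + p') (q + q') (r + r') = 1 := by
    rw [← A_mul, h, A_mul, B.add_self, B.add_self, B.add_self, A_zero]
  obtain ⟨h1, h2, h3⟩ := B.A_inj e
  have hn : ∀ a b : F, a + b = 0 → a = b := fun a b hab => by
    have := B.add_self_left a b
    rw [hab, add_zero] at this; exact this
  exact ⟨hn _ _ h1, hn _ _ h2, hn _ _ h3⟩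

theorem t_ne (p q r : F) : B.t ≠ B.A p q r := by
  have := B.t_ind p q r 0
  rwa [f0 B.d_add, mul_one] at this

theorem A_comm (p q r p' q' r' : F) : Commute (B.A p q r) (B.A p' q' r') := by
  show _ * _ = _ * _
  rw [A_mul, A_mul, add_comm p, add_comm q, add_comm r]

/-- elements commuting with `x₁, x₂, s` -/
theorem comm_A {g : G} (h1 : ∀ u, Commute g (B.x1 u)) (h2 : ∀ u, Commute g (B.x2 u)) (h3 : ∀ u, Commute g (B.s u))
    (p q r : F) : Commute g (B.A p q r) := ((h1 p).mul_right (h2 q)).mul_right (h3 r)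

theorem t_A (p q r : F) : Commute B.t (B.A p q r) := B.comm_A B.t_x1 B.t_x2 B.t_s p q r

theorem ws_A (c p q r : F) : Commute (B.ws c) (B.A p q r) := B.comm_A (B.ws_x1 c) (B.ws_x2 c) (B.ws_s c) p q r

theorem A_w2 (p q r b : F) : B.A p q r * B.w2 b = B.w2 b * B.A p q (r + B.γ * B.rt (b * p)) := by
  have h := B.w2_x1 b p
  have e : B.x1 p * B.w2 b = B.w2 b * (B.x1 p * B.s (B.γ * B.rt (b * p))) := by
    rw [← mul_assoc, h, mul_assoc, B.ff B.s_add, mul_one]
  unfold A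
  rw [mul_assoc, mul_assoc, ← (B.w2_s b r).eq, ← mul_assoc (B.x2 q), ← (B.w2_x2 b q).eq, mul_assoc (B.w2 b),
    ← mul_assoc (B.x1 p), e]
  simp only [mul_assoc]
  rw [← mul_assoc (B.s _) (B.x2 q), ← (B.x2_s q _).eq, mul_assoc, ← B.s_add, add_comm]

theorem A_w2' (p q r b : F) (g : G) :
    B.A p q r * (B.w2 b * g) = B.w2 b * (B.A p q (r + B.γ * B.rt (b * p)) * g) := by
  rw [← mul_assoc, A_w2, mul_assoc]

theorem A_w1 (p q r b : F) : B.A p q r * B.w1 b = B.w1 b * B.A p q (r + B.γ * B.rt (b * q)) := by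
  have h := B.w1_x2 b q
  have e : B.x2 q * B.w1 b = B.w1 b * (B.x2 q * B.s (B.γ * B.rt (b * q))) := by
    rw [← mul_assoc, h, mul_assoc, B.ff B.s_add, mul_one]
  unfold A
  rw [mul_assoc, mul_assoc, ← (B.w1_s b r).eq, ← mul_assoc (B.x2 q), e, mul_assoc (B.w1 b), ← mul_assoc (B.x1 p),
    ← (B.w1_x1 b p).eq]
  simp only [mul_assoc]
  rw [← B.s_add, add_comm]

theorem A_w1' (p q r b : F) (g : G) :
    B.A p q r * (B.w1 b * g) = B.w1 b * (B.A p q (r + B.γ * B.rt (b * q)) * g) := by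
  rw [← mul_assoc, A_w1, mul_assoc]

theorem A_ws (p q r b : F) : B.A p q r * B.ws b = B.ws b * B.A p q r := (B.ws_A b p q r).eq.symm

theorem A_ws' (p q r b : F) (g : G) : B.A p q r * (B.ws b * g) = B.ws b * (B.A p q r * g) := by
  rw [← mul_assoc, A_ws, mul_assoc]

theorem A_t (p q r : F) : B.A p q r * B.t = B.t * B.A p q r := (B.t_A p q r).eq.symm

theorem A_t' (p q r : F) (g : G) : B.A p q r * (B.t * g) = B.t * (B.A p q r * g) := by
  rw [← mul_assoc, A_t, mul_assoc]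

/-- conjugation by `d'` -/
theorem A_d' (p q r β : F) : B.d' β * B.A p q r * B.d' β = B.A p (q + β * β * p) (r + β * p) := by
  have e1 : B.d' β * B.x1 p * B.d' β = B.A p (β * β * p) (β * p) := by
    rw [B.d'_x1, A, mul_assoc, mul_assoc (B.x1 p), (B.x2_s _ _).eq]
  rw [A, conj3 (B.ff B.d'_add β), e1, conj_of_comm (B.ff B.d'_add β) (B.d'_x2 β q),
    conj_of_comm (B.ff B.d'_add β) (B.d'_s β r), x2_eq, s_eq, A_mul, A_mul]
  congr 1 <;> ring

/-- conjugation by `d` -/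
theorem A_d (p q r β : F) : B.d β * B.A p q r * B.d β = B.A (p + β * β * q) q (r + β * q) := by
  have e1 : B.d β * B.x2 q * B.d β = B.A (β * β * q) q (β * q) := by
    rw [B.d_x2, A, mul_assoc, ← (B.x1_s _ _).eq, ← mul_assoc, (B.x1_x2 _ _).eq]
  rw [A, conj3 (B.ff B.d_add β), e1, conj_of_comm (B.ff B.d_add β) (B.d_x1 β p),
    conj_of_comm (B.ff B.d_add β) (B.d_s β r), x1_eq, s_eq, A_mul, A_mul]
  congr 1 <;> ring

/-- torus -/
theorem A_h (p q r : F) (l m : Fˣ) : B.h l m * B.A p q r * (B.h l m)⁻¹ = B.A (l * l * p) (m * m * q) (l * m * r) := by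
  unfold A
  rw [← B.h_x1 l m, ← B.h_x2 l m, ← B.h_s l m]
  group

/-- conjugation by `n` -/
theorem A_n (p q r : F) : (B.d' 1 * B.d 1 * B.d' 1) * B.A p q r * (B.d' 1 * B.d 1 * B.d' 1) = B.A q p r := by
  have e : (B.d' 1 * B.d 1 * B.d' 1) * B.A p q r * (B.d' 1 * B.d 1 * B.d' 1) =
      B.d' 1 * (B.d 1 * (B.d' 1 * B.A p q r * B.d' 1) * B.d 1) * B.d' 1 := by simp only [mul_assoc]
  rw [e, A_d', A_d, A_d']
  congr 1
  · linear_combination p * B.two
  · linear_combination (q + p) * B.two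
  · linear_combination (2 * p + q) * B.two

theorem ws_conj_d' (c β : F) : B.d' β * B.ws c * B.d' β = B.ws c * B.A 0 (B.δ * (c * β)) 0 := by
  rw [mul_assoc, B.ws_d', ← x2_eq, mul_assoc, B.ff' B.d'_add]

theorem ws_conj_d (c β : F) : B.d β * B.ws c * B.d β = B.ws c * B.A (B.δ * (c * β)) 0 0 := by
  rw [mul_assoc, B.ws_d, ← x1_eq, mul_assoc, B.ff' B.d_add]

theorem ws_n (c : F) : (B.d' 1 * B.d 1 * B.d' 1) * B.ws c * (B.d' 1 * B.d 1 * B.d' 1) = B.ws c * B.A 0 0 (B.δ * c) := by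
  have e : (B.d' 1 * B.d 1 * B.d' 1) * B.ws c * (B.d' 1 * B.d 1 * B.d' 1) =
      B.d' 1 * (B.d 1 * (B.d' 1 * B.ws c * B.d' 1) * B.d 1) * B.d' 1 := by simp only [mul_assoc]
  rw [e, ws_conj_d', conj2 (B.ff B.d_add 1), ws_conj_d, A_d, mul_assoc (B.ws c), A_mul, conj2 (B.ff B.d'_add 1),
    ws_conj_d', A_d', mul_assoc (B.ws c), A_mul]
  congr 2
  · linear_combination B.δ * c * B.two
  · linear_combination 2 * B.δ * c * B.two
  · linear_combination B.δ * c * B.two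

theorem w2_n (u : F) : (B.d' 1 * B.d 1 * B.d' 1) * B.w2 u * (B.d' 1 * B.d 1 * B.d' 1) = B.w1 u := by
  have : ∀ g, (B.d' 1 * B.d 1 * B.d' 1) * ((B.d' 1 * B.d 1 * B.d' 1) * g) = g := fun g => by
    rw [← mul_assoc, B.nn, one_mul]
  rw [B.w2_def]
  simp only [mul_assoc] at this ⊢
  rw [this]
  have h2 := B.nn
  simp only [mul_assoc] at h2
  rw [h2, mul_one]

theorem w2_zero : B.w2 0 = 1 := by rw [B.w2_def, B.w1_zero, mul_one, B.nn]

theorem ws_zero : B.ws 0 = 1 := f0 B.ws_add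

theorem wd_zero : B.wd 0 = 1 := f0 B.wd_add

/-! ### (8.1) -/

/-- the commutator `[ws, w2]` is in `⟨t⟩ A` -/
theorem comm_ws_w2 (u v : F) : ∃ p q r, B.ws u * B.w2 v = B.w2 v * B.ws u * B.A p q r ∨
    B.ws u * B.w2 v = B.w2 v * B.ws u * (B.t * B.A p q r) := by
  set c := (B.w2 v * B.ws u)⁻¹ * (B.ws u * B.w2 v) with hc
  have h : B.ws u * B.w2 v = B.w2 v * B.ws u * c := by rw [hc, mul_inv_cancel_left]
  have cx1 : ∀ a, Commute c (B.x1 a) := fun a =>
    comm_gen h (B.ws_x1 u a) (B.ws_s u _) (B.w2_s v _) (B.w2_x1 v a)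
  have cx2 : ∀ a, Commute c (B.x2 a) := fun a =>
    comm_gen h (B.ws_x2 u a) (Commute.one_right _) (Commute.one_right _) (by rw [mul_one]; exact (B.w2_x2 v a).eq)
  have cs : ∀ a, Commute c (B.s a) := fun a =>
    comm_gen h (B.ws_s u a) (Commute.one_right _) (Commute.one_right _) (by rw [mul_one]; exact (B.w2_s v a).eq)
  obtain ⟨p, q, r, hk⟩ := B.centA c (by
      apply comm_t_of B.tt (X := B.A 0 v u) _ _ (B.comm_A cx1 cx2 cs 0 v u)
      · rw [conj2 B.tt, B.ws_t, B.w2_t, s_eq, x2_eq, ← mul_assoc, mul_assoc (B.w2 v), A_ws]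
        simp only [mul_assoc, A_mul]
        congr 3 <;> simp
      · rw [conj2 B.tt, B.ws_t, B.w2_t, s_eq, x2_eq, ← mul_assoc, mul_assoc (B.ws u), A_w2]
        simp only [mul_assoc, A_mul]
        congr 3 <;> simp)
    cx1 cx2 cs
    (fun j a => comm_gen h (B.P_ws j a u).symm (Commute.one_right _) (Commute.one_right _)
      (by rw [mul_one]; exact (B.P_w2 j a v).eq.symm))
    (fun j a => comm_gen h (B.P'_ws j a u).symm (Commute.one_right _) (Commute.one_right _)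
      (by rw [mul_one]; exact (B.P'_w2 j a v).eq.symm))
    (fun j a => comm_gen h (B.Y_ws j a u).symm (B.P'_ws j _ u).symm (B.P'_w2 j _ v).symm (B.Y_w2 j a v))
    (fun z hz => comm_gen h (B.Z_w z hz u).2.2.symm (Commute.one_right _) (Commute.one_right _)
      (by rw [mul_one]; exact (B.Z_w z hz v).2.1.eq.symm))
  refine ⟨p, q, r, ?_⟩
  rcases hk with hk | hk
  · left; rw [h, hk]; rfl
  · right; rw [h, hk]; rfl

include B in
theorem add_eq_zero_iff' {a b : F} (h : a + b = 0) : a = b := by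
  have := B.add_self_left a b
  rw [h, add_zero] at this; exact this

theorem ws_tt (u : F) : B.t * (B.ws u * B.t) = B.ws u * B.A 0 0 u := by
  rw [← mul_assoc, B.ws_t, s_eq]

theorem comm_ws_w2' (u v : F) : ∃ p q r, B.ws u * B.w2 v = B.w2 v * B.ws u * B.A p q r := by
  obtain ⟨p, q, r, h | h⟩ := B.comm_ws_w2 u v
  · exact ⟨p, q, r, h⟩
  exfalso
  have hh : ∀ l : Fˣ, ∃ p q r, B.ws (l * u) * B.w2 v = B.w2 v * B.ws (l * u) * (B.t * B.A p q r) := fun l => by
    have e := congrArg (fun g => B.h l 1 * g * (B.h l 1)⁻¹) h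
    have c : ∀ x y, B.h l 1 * (x * y) * (B.h l 1)⁻¹ = (B.h l 1 * x * (B.h l 1)⁻¹) * (B.h l 1 * y * (B.h l 1)⁻¹) :=
      fun x y => by group
    have ct : B.h l 1 * B.t * (B.h l 1)⁻¹ = B.t := by rw [(B.h_t l 1).eq, mul_inv_cancel_right]
    simp only [c, B.h_ws, B.h_w2, B.A_h, ct, Units.val_one, mul_one, one_mul] at e
    exact ⟨_, _, _, e⟩
  obtain ⟨a, ha0, ha1⟩ := B.big
  obtain ⟨p1, q1, r1, h1⟩ := hh (Units.mk0 a ha0)
  have hs : 1 + a ≠ 0 := fun h0 => ha1 (B.add_eq_zero_iff' h0).symm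
  obtain ⟨p2, q2, r2, h2⟩ := hh (Units.mk0 (1 + a) hs)
  simp only [Units.val_mk0] at h1 h2
  have e : B.ws ((1 + a) * u) = B.ws u * B.ws (a * u) := by rw [← B.ws_add]; congr 1; ring
  rw [e, mul_assoc, h1] at h2
  have e2 : B.ws u * (B.w2 v * B.ws (a * u) * (B.t * B.A p1 q1 r1)) =
      B.w2 v * (B.ws u * B.ws (a * u)) * (B.A (p + p1) (q + q1) (a * u + r + r1)) := by
    calc B.ws u * (B.w2 v * B.ws (a * u) * (B.t * B.A p1 q1 r1))
        = (B.ws u * B.w2 v) * (B.ws (a * u) * (B.t * B.A p1 q1 r1)) := by simp only [mul_assoc]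
      _ = B.w2 v * (B.ws u * (B.t * (B.A p q r * (B.ws (a * u) * (B.t * B.A p1 q1 r1))))) := by
          rw [h]; simp only [mul_assoc]
      _ = B.w2 v * (B.ws u * ((B.t * (B.ws (a * u) * B.t)) * (B.A p q r * B.A p1 q1 r1))) := by
          rw [A_ws', A_t']; simp only [mul_assoc]
      _ = _ := by
          rw [ws_tt, A_mul]; simp only [mul_assoc]; rw [A_mul]
          congr 4 <;> ring
  rw [e2] at h2
  have h3 := mul_left_cancel h2
  apply B.t_ne (p + p1 + p2) (q + q1 + q2) (a * u + r + r1 + r2)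
  have e3 : B.A (p + p1 + p2) (q + q1 + q2) (a * u + r + r1 + r2) =
      B.A (p + p1) (q + q1) (a * u + r + r1) * B.A p2 q2 r2 := by rw [A_mul]
  rw [e3, h3, mul_assoc, A_mul, B.add_self, B.add_self, B.add_self, A_zero, mul_one]

/-- **(8.1)**, 45 degrees -/
theorem ws_w2 (u v : F) : Commute (B.ws u) (B.w2 v) := by
  choose p q r h using B.comm_ws_w2'
  -- torus
  have hh : ∀ (l m : Fˣ) (u v : F), p (l * m * u) (m * m * v) = l * l * p u v ∧
      q (l * m * u) (m * m * v) = m * m * q u v ∧ r (l * m * u) (m * m * v) = l * m * r u v := fun l m u v => by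
    have e := congrArg (fun g => B.h l m * g * (B.h l m)⁻¹) (h u v)
    have c : ∀ x y, B.h l m * (x * y) * (B.h l m)⁻¹ = (B.h l m * x * (B.h l m)⁻¹) * (B.h l m * y * (B.h l m)⁻¹) :=
      fun x y => by group
    simp only [c, B.h_ws, B.h_w2, B.A_h] at e
    rw [h] at e
    exact B.A_ext (mul_left_cancel e)
  -- additivity in `u`
  have hu : ∀ u u' v, q (u + u') v = q u v + q u' v := fun u u' v => by
    have e := h (u + u') v
    rw [B.ws_add, mul_assoc, h u' v, ← mul_assoc, ← mul_assoc, h u v] at e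
    simp only [mul_assoc] at e
    have e := mul_left_cancel e
    rw [A_ws'] at e
    have e := mul_left_cancel (mul_left_cancel e)
    rw [A_mul] at e
    exact (B.A_ext e).2.1.symm
  have hq : ∀ u v, q u v = 0 := fun u v => by
    refine eq_zero_of_inv B.big (fun u => q u v) (fun u u' => hu u u' v) (fun a ha u => ?_) u
    have := (hh (Units.mk0 a ha) 1 u v).2.1
    simpa using this
  -- conjugation with `d'`
  have hp : ∀ u v, p u v = 0 := fun u v => by
    have e := congrArg (fun g => B.d' 1 * g * B.d' 1) (h u v)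
    simp only [conj3 (B.ff B.d'_add 1), conj2 (B.ff B.d'_add 1), ws_conj_d', A_d',
      conj_of_comm (B.ff B.d'_add 1) (B.w2_d' v 1).symm] at e
    rw [mul_assoc, A_w2, ← mul_assoc, h u v] at e
    simp only [mul_assoc, A_mul] at e
    have e := B.A_ext (mul_left_cancel (mul_left_cancel e))
    have e3 := e.2.2
    simp only [mul_zero, map_zero, one_mul, add_zero, zero_add] at e3
    exact left_eq_add.mp e3
  -- additivity in `v`
  have hv : ∀ u v v', r u (v + v') = r u v + r u v' := fun u v v' => by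
    have e1 : B.ws u * (B.w2 v * B.w2 v') = B.w2 v * (B.w2 v' * (B.ws u * B.A 0 0 (r u v + r u v'))) := by
      rw [← mul_assoc, h u v, hp, hq, mul_assoc, A_w2, ← mul_assoc, mul_assoc (B.w2 v), h u v', hp, hq]
      simp only [mul_assoc, A_mul]
      exact congrArg _ (congrArg _ (congrArg _ (B.A_congr (by simp) (by simp) (by simp [add_comm]))))
    rw [B.w2_mul, ← mul_assoc, h u (v + v'), hp, hq, ← mul_assoc (B.w2 v), B.w2_mul, x2_eq] at e1
    simp only [mul_assoc, A_mul] at e1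
    rw [A_ws'] at e1
    simp only [A_mul] at e1
    have e2 := B.A_ext (mul_left_cancel (mul_left_cancel e1))
    simpa using e2.2.2
  have hr : ∀ u v, r u v = 0 := fun u v => by
    refine eq_zero_of_inv B.big (fun v => r u v) (fun v v' => hv u v v') (fun a ha v => ?_) v
    have hb : B.rt a ≠ 0 := fun h0 => ha (by rw [← B.rt_sq a, h0, zero_mul])
    have := (hh (Units.mk0 (B.rt a) hb)⁻¹ (Units.mk0 (B.rt a) hb) u v).2.2
    simpa [B.rt_sq, inv_mul_cancel₀ hb] using this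
  show _ = _
  rw [h u v, hp, hq, hr, A_zero, mul_one]

end P2

end Cfsg.Agent.OddHalf.SpN.Both
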