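import Cfsg.Agent.OddHalf.SpN.BothLong

/-!
# ODD D7, `K = Sp_2n(q)`, pattern ALL: (8.3), (8.4) (helper780)
-/

set_option autoImplicit false

namespace Cfsg.Agent.OddHalf.SpN.Both.P2

variable {F G J : Type*} [Field F] [Group G] (B : P2 F G J)

/-- (8.1), the other long root -/
theorem ws_w1 (u v : F) : Commute (B.ws u) (B.w1 v) := by
  set n := B.d' 1 * B.d 1 * B.d' 1 with hn
  have cn : ∀ x y, n * (x * y) * n = (n * x * n) * (n * y * n) := fun x y => conj2 B.nn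
  have e := congrArg (fun g => n * g * n) (B.ws_w2 u v).eq
  simp only [cn] at e
  rw [hn, B.ws_n, B.w2_n] at e
  have e1 : B.A 0 0 (B.δ * u) * B.w1 v = B.w1 v * B.A 0 0 (B.δ * u) := by
    rw [A_w1]; simp
  rw [mul_assoc, e1, ← mul_assoc, ← mul_assoc] at e
  exact mul_right_cancel e

/-- `x₁(p) s(q) d(r)` -/
def E (p q r : F) : G := B.x1 p * B.s q * B.d r

theorem E_mul (p q r p' q' r' : F) : B.E p q r * B.E p' q' r' = B.E (p + p') (q + q') (r + r') := by
  unfold E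
  rw [B.x1_add, B.s_add, B.d_add]
  have h1 := (B.x1_s p' q).eq
  have h2 := (B.d_x1 r p').eq
  have h3 := (B.d_s r q').eq
  calc B.x1 p * B.s q * B.d r * (B.x1 p' * B.s q' * B.d r')
      = B.x1 p * B.s q * (B.d r * B.x1 p') * B.s q' * B.d r' := by simp only [mul_assoc]
    _ = B.x1 p * (B.s q * B.x1 p') * (B.d r * B.s q') * B.d r' := by rw [h2]; simp only [mul_assoc]
    _ = B.x1 p * B.x1 p' * (B.s q * B.s q') * (B.d r * B.d r') := by rw [← h1, h3]; simp only [mul_assoc]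
    _ = _ := by simp only [mul_assoc]

theorem E_congr {p q r p' q' r' : F} (h1 : p = p') (h2 : q = q') (h3 : r = r') : B.E p q r = B.E p' q' r' := by
  rw [h1, h2, h3]

theorem x1_eq' (p : F) : B.x1 p = B.E p 0 0 := by simp [E, f0 B.d_add, f0 B.s_add]
theorem s_eq' (p : F) : B.s p = B.E 0 p 0 := by simp [E, f0 B.x1_add, f0 B.d_add]
theorem d_eq' (p : F) : B.d p = B.E 0 0 p := by simp [E, f0 B.x1_add, f0 B.s_add]
theorem E_zero : B.E 0 0 0 = 1 := by simp [E, f0 B.x1_add, f0 B.d_add, f0 B.s_add]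

theorem E_inj {p q r : F} (h : B.E p q r = 1) : p = 0 ∧ q = 0 ∧ r = 0 := by
  have := B.ind p 0 q r (by rw [f0 B.x2_add, mul_one]; exact h)
  exact ⟨this.1, this.2.2.1, this.2.2.2⟩

theorem E_ext {p q r p' q' r' : F} (h : B.E p q r = B.E p' q' r') : p = p' ∧ q = q' ∧ r = r' := by
  have e : B.E (p + p') (q + q') (r + r') = 1 := by
    rw [← E_mul, h, E_mul, B.add_self, B.add_self, B.add_self, E_zero]
  obtain ⟨h1, h2, h3⟩ := B.E_inj e
  exact ⟨B.add_eq_zero_iff' h1, B.add_eq_zero_iff' h2, B.add_eq_zero_iff' h3⟩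

theorem t_ne' (p q r : F) : B.t ≠ B.E p q r := by
  have := B.t_ind p 0 q r
  rwa [f0 B.x2_add, mul_one] at this

theorem comm_E {g : G} (h1 : ∀ u, Commute g (B.x1 u)) (h2 : ∀ u, Commute g (B.s u)) (h3 : ∀ u, Commute g (B.d u))
    (p q r : F) : Commute g (B.E p q r) := ((h1 p).mul_right (h2 q)).mul_right (h3 r)

theorem t_E (p q r : F) : Commute B.t (B.E p q r) := B.comm_E B.t_x1 B.t_s B.t_d p q r

theorem w1_E (c p q r : F) : Commute (B.w1 c) (B.E p q r) := B.comm_E (B.w1_x1 c) (B.w1_s c) (B.w1_d c) p q r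

theorem E_ws (p q r b : F) : B.E p q r * B.ws b = B.ws b * B.E (p + B.δ * (b * r)) q r := by
  have e : B.d r * B.ws b = B.ws b * (B.d r * B.x1 (B.δ * (b * r))) := by
    rw [← mul_assoc, B.ws_d, mul_assoc, B.ff B.x1_add, mul_one]
  unfold E
  calc B.x1 p * B.s q * B.d r * B.ws b = B.x1 p * B.s q * (B.d r * B.ws b) := mul_assoc _ _ _
    _ = B.x1 p * (B.s q * B.ws b) * B.d r * B.x1 (B.δ * (b * r)) := by rw [e]; simp only [mul_assoc]
    _ = (B.x1 p * B.ws b) * B.s q * (B.d r * B.x1 (B.δ * (b * r))) := by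
        rw [← (B.ws_s b q).eq]; simp only [mul_assoc]
    _ = B.ws b * B.x1 p * (B.s q * B.x1 (B.δ * (b * r))) * B.d r := by
        rw [← (B.ws_x1 b p).eq, (B.d_x1 r _).eq]; simp only [mul_assoc]
    _ = B.ws b * (B.x1 p * B.x1 (B.δ * (b * r))) * B.s q * B.d r := by
        rw [← (B.x1_s _ q).eq]; simp only [mul_assoc]
    _ = _ := by rw [← B.x1_add]; simp only [mul_assoc]

theorem E_ws' (p q r b : F) (g : G) :
    B.E p q r * (B.ws b * g) = B.ws b * (B.E (p + B.δ * (b * r)) q r * g) := by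
  rw [← mul_assoc, E_ws, mul_assoc]

theorem E_w1 (p q r b : F) : B.E p q r * B.w1 b = B.w1 b * B.E p q r := (B.w1_E b p q r).eq.symm

theorem E_w1' (p q r b : F) (g : G) : B.E p q r * (B.w1 b * g) = B.w1 b * (B.E p q r * g) := by
  rw [← mul_assoc, E_w1, mul_assoc]

theorem d_conj_x2 (r v : F) : B.x2 v * B.d r * B.x2 v = B.E (r * r * v) (r * v) r := by
  have h := B.d_x2 r v
  have e : B.x2 v * B.d r * B.x2 v * B.d r = B.s (r * v) * B.x1 (r * r * v) := by
    calc B.x2 v * B.d r * B.x2 v * B.d r = B.x2 v * (B.d r * B.x2 v * B.d r) := by simp only [mul_assoc]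
      _ = _ := by rw [h]; simp only [mul_assoc]; rw [B.ff' B.x2_add]
  calc B.x2 v * B.d r * B.x2 v = (B.x2 v * B.d r * B.x2 v * B.d r) * B.d r := by
        simp only [mul_assoc]; rw [B.ff B.d_add, mul_one]
    _ = _ := by rw [e, ← (B.x1_s _ _).eq, E]

theorem E_x2 (p q r v : F) : B.x2 v * B.E p q r * B.x2 v = B.E (p + r * r * v) (q + r * v) r := by
  rw [E, conj3 (B.ff B.x2_add v), d_conj_x2, conj_of_comm (B.ff B.x2_add v) (B.x1_x2 p v).symm,
    conj_of_comm (B.ff B.x2_add v) (B.x2_s v q), x1_eq', s_eq', E_mul, E_mul]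
  congr 1 <;> ring

theorem E_h (p q r : F) (l m : Fˣ) :
    B.h l m * B.E p q r * (B.h l m)⁻¹ = B.E (l * l * p) (l * m * q) (l * (m⁻¹ : Fˣ) * r) := by
  unfold E
  rw [← B.h_x1 l m, ← B.h_s l m, ← B.h_d l m]
  group

/-- `w_s(b) w₁(c) x₁(p) s(q) d(r)` -/
def N (b c p q r : F) : G := B.ws b * B.w1 c * B.E p q r

theorem N_mul (b c p q r b' c' p' q' r' : F) : B.N b c p q r * B.N b' c' p' q' r' =
    B.N (b + b') (c + c') (p + p' + B.κ c c' + B.δ * (b' * r)) (q + q') (r + r') := by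
  unfold N
  calc B.ws b * B.w1 c * B.E p q r * (B.ws b' * B.w1 c' * B.E p' q' r')
      = B.ws b * B.w1 c * (B.E p q r * (B.ws b' * (B.w1 c' * B.E p' q' r'))) := by simp only [mul_assoc]
    _ = B.ws b * (B.w1 c * B.ws b') * B.w1 c' *
          (B.E (p + B.δ * (b' * r)) q r * B.E p' q' r') := by rw [E_ws', E_w1']; simp only [mul_assoc]
    _ = (B.ws b * B.ws b') * (B.w1 c * B.w1 c') *
          (B.E (p + B.δ * (b' * r) + p') (q + q') (r + r')) := by
        rw [← (B.ws_w1 b' c).eq, E_mul]; simp only [mul_assoc]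
    _ = B.ws (b + b') * (B.w1 (c + c') * (B.x1 (B.κ c c') *
          (B.E (p + B.δ * (b' * r) + p') (q + q') (r + r')))) := by
        rw [B.w1_mul, B.ws_add]; simp only [mul_assoc]
    _ = _ := by
        rw [x1_eq', E_mul]; simp only [mul_assoc]
        exact congrArg _ (congrArg _ (B.E_congr (by ring) (by ring) (by ring)))

theorem N_zero : B.N 0 0 0 0 0 = 1 := by rw [N, B.w1_zero, ws_zero, E_zero, mul_one, mul_one]

theorem N_one (p q r : F) : B.N 0 0 p q r = B.E p q r := by rw [N, B.w1_zero, ws_zero, one_mul, one_mul]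

theorem N_ext {b c p q r p' q' r' : F} (h : B.N b c p q r = B.N b c p' q' r') : p = p' ∧ q = q' ∧ r = r' :=
  B.E_ext (mul_left_cancel h)

/-- the subgroup of the `N b c p q r` -/
def Q3 : Subgroup G where
  carrier := {g | ∃ b c p q r, g = B.N b c p q r}
  one_mem' := ⟨0, 0, 0, 0, 0, B.N_zero.symm⟩
  mul_mem' := by
    rintro x y ⟨b, c, p, q, r, rfl⟩ ⟨b', c', p', q', r', rfl⟩
    exact ⟨_, _, _, _, _, B.N_mul ..⟩
  inv_mem' := by
    rintro x ⟨b, c, p, q, r, rfl⟩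
    refine ⟨b, c, p + (B.κ c c + B.δ * (b * r)), q, r, ?_⟩
    rw [inv_eq_iff_mul_eq_one, N_mul, B.add_self, B.add_self, B.add_self, B.add_self]
    have e1 : p + (p + (B.κ c c + B.δ * (b * r))) + B.κ c c + B.δ * (b * r) = 0 := by
      linear_combination (p + B.κ c c + B.δ * (b * r)) * B.two
    rw [e1, N_zero]

theorem mem_Q3 (b c p q r : F) : B.N b c p q r ∈ B.Q3 := ⟨b, c, p, q, r, rfl⟩

theorem E_mem_Q3 (p q r : F) : B.E p q r ∈ B.Q3 := by rw [← N_one]; exact B.mem_Q3 ..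

theorem w1_mem_Q3 (b : F) : B.w1 b ∈ B.Q3 := ⟨0, b, 0, 0, 0, by rw [N, ws_zero, E_zero, mul_one, one_mul]⟩

theorem ws_mem_Q3 (b : F) : B.ws b ∈ B.Q3 := ⟨b, 0, 0, 0, 0, by rw [N, B.w1_zero, E_zero, mul_one, mul_one]⟩

theorem N_t (b c p q r : F) : B.t * B.N b c p q r * B.t = B.N b c (p + c) (q + b) r := by
  unfold N
  rw [conj3 B.tt, B.w1_t, B.ws_t, conj_of_comm B.tt (B.t_E p q r), x1_eq', s_eq']
  calc B.ws b * B.E 0 b 0 * (B.w1 c * B.E c 0 0) * B.E p q r
      = B.ws b * (B.E 0 b 0 * (B.w1 c * (B.E c 0 0 * B.E p q r))) := by simp only [mul_assoc]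
    _ = B.ws b * B.w1 c * (B.E 0 b 0 * (B.E c 0 0 * B.E p q r)) := by rw [E_w1']; simp only [mul_assoc]
    _ = _ := by
        rw [E_mul, E_mul]
        exact congrArg _ (B.E_congr (by ring) (by ring) (by ring))

theorem w1_conj_x2 (c v : F) : B.x2 v * B.w1 c * B.x2 v = B.w1 c * B.E 0 (B.γ * B.rt (c * v)) 0 := by
  rw [mul_assoc, B.w1_x2, ← s_eq', mul_assoc, B.ff' B.x2_add]

theorem N_x2 (b c p q r v : F) : B.x2 v * B.N b c p q r * B.x2 v =
    B.N b c (p + r * r * v) (q + B.γ * B.rt (c * v) + r * v) r := by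
  unfold N
  rw [conj3 (B.ff B.x2_add v), conj_of_comm (B.ff B.x2_add v) (B.ws_x2 b v).symm, w1_conj_x2, E_x2]
  simp only [mul_assoc, E_mul]
  exact congrArg _ (congrArg _ (B.E_congr (by ring) (by ring) (by ring)))

theorem t_not_mem_Q3 : B.t ∉ B.Q3 := by
  rintro ⟨b, c, p, q, r, h⟩
  have h1 := congrArg (fun g => B.t * g * B.t) h
  simp only [N_t, B.tt, one_mul] at h1
  rw [h] at h1
  have h2 := B.N_ext h1
  have hc : c = 0 := left_eq_add.mp h2.1
  have hb : b = 0 := left_eq_add.mp h2.2.1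
  rw [hb, hc, N_one] at h
  exact B.t_ne' _ _ _ h

theorem t_conj_mem_Q3 {g : G} (h : g ∈ B.Q3) : B.t * g * B.t ∈ B.Q3 := by
  obtain ⟨b, c, p, q, r, rfl⟩ := h
  rw [N_t]; exact B.mem_Q3 ..

theorem x2_conj_mem_Q3 {g : G} (h : g ∈ B.Q3) (v : F) : B.x2 v * g * B.x2 v ∈ B.Q3 := by
  obtain ⟨b, c, p, q, r, rfl⟩ := h
  rw [N_x2]; exact B.mem_Q3 ..

/-- first form of (8.3) -/
theorem conj_wd (u v : F) : ∃ p q r,
    B.x2 v * B.wd u * B.x2 v = B.wd u * B.N (u * v) ((1 + B.δ) * (u * u * v)) p q r ∨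
    B.x2 v * B.wd u * B.x2 v = B.wd u * (B.ws (u * v) * B.w1 ((1 + B.δ) * (u * u * v)) * (B.t * B.E p q r)) := by
  set y := u * v with hy
  set z := (1 + B.δ) * (u * u * v) with hz
  set g := B.wd u * B.ws y * B.w1 z with hg
  set g1 := B.x2 v * B.wd u * B.x2 v with hg1
  have xx := B.ff B.x2_add v
  have xx' : ∀ x, B.x2 v * (B.x2 v * x) = x := B.ff' B.x2_add v
  have cx1 : ∀ a, Commute (g⁻¹ * g1) (B.x1 a) := fun a => by
    refine Commute.mul_left (Commute.inv_left ?_) ?_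
    · exact ((B.wd_x1 u a).mul_left (B.ws_x1 y a)).mul_left (B.w1_x1 z a)
    · exact (((B.x1_x2 a v).symm).mul_left (B.wd_x1 u a)).mul_left (B.x1_x2 a v).symm
  have cs : ∀ a, Commute (g⁻¹ * g1) (B.s a) := fun a => comm_of_eq (x' := B.s a * B.x1 (B.δ * (u * a)))
    (by
      calc g * B.s a = B.wd u * B.ws y * (B.w1 z * B.s a) := by rw [hg]; simp only [mul_assoc]
        _ = B.wd u * (B.ws y * B.s a) * B.w1 z := by rw [(B.w1_s z a).eq]; simp only [mul_assoc]
        _ = (B.wd u * B.s a) * B.ws y * B.w1 z := by rw [(B.ws_s y a).eq]; simp only [mul_assoc]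
        _ = B.s a * (B.wd u * B.x1 (B.δ * (u * a))) * B.ws y * B.w1 z := by rw [B.wd_s]; simp only [mul_assoc]
        _ = _ := by rw [(B.wd_x1 u _).eq, hg]; simp only [mul_assoc])
    (by
      calc g1 * B.s a = B.x2 v * B.wd u * (B.x2 v * B.s a) := by rw [hg1]; simp only [mul_assoc]
        _ = B.x2 v * (B.wd u * B.s a) * B.x2 v := by rw [(B.x2_s v a).eq]; simp only [mul_assoc]
        _ = (B.x2 v * B.s a) * (B.wd u * B.x1 (B.δ * (u * a))) * B.x2 v := by rw [B.wd_s]; simp only [mul_assoc]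
        _ = B.s a * (B.x2 v * B.x1 (B.δ * (u * a))) * B.wd u * B.x2 v := by
            rw [(B.x2_s v a).eq, (B.wd_x1 u _).eq]; simp only [mul_assoc]
        _ = _ := by rw [← (B.x1_x2 _ v).eq, hg1]; simp only [mul_assoc])
  have cd : ∀ a, Commute (g⁻¹ * g1) (B.d a) := fun a => comm_of_eq (x' := B.d a * B.x1 (B.δ * (y * a)))
    (by
      calc g * B.d a = B.wd u * B.ws y * (B.w1 z * B.d a) := by rw [hg]; simp only [mul_assoc]
        _ = B.wd u * (B.ws y * B.d a) * B.w1 z := by rw [(B.w1_d z a).eq]; simp only [mul_assoc]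
        _ = (B.wd u * B.d a) * (B.ws y * B.x1 (B.δ * (y * a))) * B.w1 z := by rw [B.ws_d]; simp only [mul_assoc]
        _ = B.d a * (B.wd u * B.x1 (B.δ * (y * a))) * B.ws y * B.w1 z := by
            rw [(B.wd_d u a).eq, (B.ws_x1 y _).eq]; simp only [mul_assoc]
        _ = _ := by rw [(B.wd_x1 u _).eq, hg]; simp only [mul_assoc])
    (by
      have h1 := B.d_conj_x2 a v
      have e1 : B.x2 v * B.d a = B.E (a * a * v) (a * v) a * B.x2 v := by
        rw [← h1]; simp only [mul_assoc, xx, mul_one]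
      have e2 : B.x2 v * B.E (a * a * v) (a * v) a = B.d a * B.x2 v := by
        rw [← h1]; simp only [mul_assoc, xx']
      have e3 : B.wd u * B.E (a * a * v) (a * v) a = B.E (a * a * v) (a * v) a * (B.wd u * B.x1 (B.δ * (y * a))) := by
        unfold E
        calc B.wd u * (B.x1 (a * a * v) * B.s (a * v) * B.d a)
            = (B.wd u * B.x1 (a * a * v)) * B.s (a * v) * B.d a := by simp only [mul_assoc]
          _ = B.x1 (a * a * v) * (B.wd u * B.s (a * v)) * B.d a := by rw [(B.wd_x1 u _).eq]; simp only [mul_assoc]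
          _ = B.x1 (a * a * v) * B.s (a * v) * B.wd u * (B.x1 (B.δ * (u * (a * v))) * B.d a) := by
              rw [B.wd_s]; simp only [mul_assoc]
          _ = B.x1 (a * a * v) * B.s (a * v) * (B.wd u * B.d a) * B.x1 (B.δ * (u * (a * v))) := by
              rw [← (B.d_x1 a _).eq]; simp only [mul_assoc]
          _ = _ := by
              have e4 : u * (a * v) = y * a := by rw [hy]; ring
              rw [(B.wd_d u a).eq, e4]; simp only [mul_assoc]
      calc g1 * B.d a = B.x2 v * B.wd u * (B.x2 v * B.d a) := by rw [hg1]; simp only [mul_assoc]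
        _ = B.x2 v * (B.wd u * B.E (a * a * v) (a * v) a) * B.x2 v := by rw [e1]; simp only [mul_assoc]
        _ = (B.x2 v * B.E (a * a * v) (a * v) a) * (B.wd u * B.x1 (B.δ * (y * a))) * B.x2 v := by
            rw [e3]; simp only [mul_assoc]
        _ = B.d a * (B.x2 v * B.x1 (B.δ * (y * a))) * B.wd u * B.x2 v := by
            rw [e2, (B.wd_x1 u _).eq]; simp only [mul_assoc]
        _ = _ := by rw [← (B.x1_x2 _ v).eq, hg1]; simp only [mul_assoc])
  obtain ⟨p, q, r, hk⟩ := B.centQ (g⁻¹ * g1) (by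
      apply comm_t_of B.tt (X := B.E (u * u * v) (u * v) u) _ _ (B.comm_E cx1 cs cd _ _ _)
      · rw [hg, conj3 B.tt, B.wd_t, B.ws_t, B.w1_t, d_eq', s_eq', x1_eq']
        calc B.wd u * B.E 0 0 u * (B.ws y * B.E 0 y 0) * (B.w1 z * B.E z 0 0)
            = B.wd u * (B.E 0 0 u * (B.ws y * (B.E 0 y 0 * (B.w1 z * B.E z 0 0)))) := by simp only [mul_assoc]
          _ = B.wd u * B.ws y * B.w1 z * (B.E (0 + B.δ * (y * u)) 0 u * (B.E 0 y 0 * B.E z 0 0)) := by
              rw [E_ws', E_w1', E_w1']; simp only [mul_assoc]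
          _ = _ := by
              rw [E_mul, E_mul]
              refine congrArg _ (B.E_congr ?_ (by rw [hy]; ring) (by ring))
              rw [hz, hy]; linear_combination B.δ * (u * u * v) * B.two
      · rw [hg1, conj3 B.tt, B.wd_t, conj_of_comm B.tt (B.t_x2 v)]
        calc B.x2 v * (B.wd u * B.d u) * B.x2 v
            = B.x2 v * B.wd u * B.x2 v * (B.x2 v * B.d u * B.x2 v) := by simp only [mul_assoc, xx']
          _ = _ := by rw [d_conj_x2])
    cx1 cs cd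
    (fun j a => by
      refine Commute.mul_left (Commute.inv_left ?_) ?_
      · exact ((B.P_wd j a u).symm.mul_left (B.P_ws j a y).symm).mul_left (B.P_w1 j a z).symm
      · exact ((B.P_x2 j a v).symm.mul_left (B.P_wd j a u).symm).mul_left (B.P_x2 j a v).symm)
    (fun x hx => by
      refine Commute.mul_left (Commute.inv_left ?_) ?_
      · exact ((B.Hr_w x hx u).2.2.symm.mul_left (B.Hr_w x hx y).2.1.symm).mul_left (B.Hr_w x hx z).1.symm
      · exact ((B.Hr_x x hx v).symm.mul_left (B.Hr_w x hx u).2.2.symm).mul_left (B.Hr_x x hx v).symm)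
  refine ⟨p, q, r, ?_⟩
  have e : g1 = g * (g⁻¹ * g1) := by rw [mul_inv_cancel_left]
  rcases hk with hk | hk
  · left; rw [e, hk, hg, N, E]; simp only [mul_assoc]
  · right; rw [e, hk, hg, E]; simp only [mul_assoc]

/-- `T` is trivial -/
theorem conj_wd' (u v : F) : ∃ p q r,
    B.x2 v * B.wd u * B.x2 v = B.wd u * B.N (u * v) ((1 + B.δ) * (u * u * v)) p q r := by
  obtain ⟨p, q, r, h | h⟩ := B.conj_wd u v
  · exact ⟨p, q, r, h⟩
  exfalso
  -- torus
  have hh : ∀ a : F, a ≠ 0 → ∃ x ∈ B.Q3, B.x2 (a * v) * B.wd u * B.x2 (a * v) = B.wd u * (B.t * x) := fun a ha => by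
    have hb : B.rt a ≠ 0 := fun h0 => ha (by rw [← B.rt_sq a, h0, zero_mul])
    set m := Units.mk0 (B.rt a) hb with hm
    have e := congrArg (fun g => B.h m m * g * (B.h m m)⁻¹) h
    have c : ∀ x y, B.h m m * (x * y) * (B.h m m)⁻¹ = (B.h m m * x * (B.h m m)⁻¹) * (B.h m m * y * (B.h m m)⁻¹) :=
      fun x y => by group
    have ct : B.h m m * B.t * (B.h m m)⁻¹ = B.t := by rw [(B.h_t m m).eq, mul_inv_cancel_right]
    have mm : (m : F) * m = a := by rw [hm, Units.val_mk0, B.rt_sq]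
    have mi : (m : F) * (m⁻¹ : Fˣ) = 1 := Units.mul_inv m
    simp only [c, B.h_ws, B.h_w1, B.h_x2, B.h_wd, B.E_h, ct, mm, mi, one_mul] at e
    refine ⟨B.t * (B.ws (a * (u * v)) * B.w1 (a * ((1 + B.δ) * (u * u * v)))) * B.t *
      B.E (a * p) (a * q) r, mul_mem (B.t_conj_mem_Q3 (mul_mem (B.ws_mem_Q3 _) (B.w1_mem_Q3 _)))
      (B.E_mem_Q3 _ _ _), ?_⟩
    rw [e]
    simp only [mul_assoc, B.tt']
  obtain ⟨a, ha0, ha1⟩ := B.big
  obtain ⟨x, hx, hx'⟩ := hh 1 one_ne_zero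
  obtain ⟨y, hy, hy'⟩ := hh a ha0
  have hs : 1 + a ≠ 0 := fun h0 => ha1 (B.add_eq_zero_iff' h0).symm
  obtain ⟨z, hz, hz'⟩ := hh (1 + a) hs
  simp only [one_mul] at hx'
  have dd' : ∀ x, B.x2 v * (B.x2 v * x) = x := B.ff' B.x2_add v
  have hab : (1 + a) * v = v + a * v := by ring
  rw [hab] at hz'
  have e : B.x2 (v + a * v) * B.wd u * B.x2 (v + a * v) = B.wd u * (B.t * x) * (B.t * (B.x2 v * y * B.x2 v)) := by
    have e1 : B.x2 (v + a * v) * B.wd u * B.x2 (v + a * v) =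
        B.x2 v * (B.x2 (a * v) * B.wd u * B.x2 (a * v)) * B.x2 v := by
      nth_rw 2 [add_comm]
      rw [B.x2_add, B.x2_add]; simp only [mul_assoc]
    have e2 : B.x2 v * B.t = B.t * B.x2 v := (B.t_x2 v).eq.symm
    rw [e1, hy']
    calc B.x2 v * (B.wd u * (B.t * y)) * B.x2 v
        = (B.x2 v * B.wd u * B.x2 v) * (B.x2 v * B.t) * y * B.x2 v := by simp only [mul_assoc, dd']
      _ = _ := by rw [hx', e2]; simp only [mul_assoc]
  rw [e, mul_assoc] at hz'
  have h3 := mul_left_cancel hz'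
  apply B.t_not_mem_Q3
  have h4 : B.t = (B.t * x * B.t) * (B.x2 v * y * B.x2 v) * z⁻¹ := by
    rw [eq_mul_inv_iff_mul_eq, ← h3]; simp only [mul_assoc]
  rw [h4]
  exact mul_mem (mul_mem (B.t_conj_mem_Q3 hx) (B.x2_conj_mem_Q3 hy v)) (inv_mem hz)

/-- **(8.3)** -/
theorem main_short : B.γ * (1 + B.δ) = 0 ∧ B.δ * (1 + B.γ) * (1 + B.δ) = 0 ∧ ∃ c1 c2 : F, ∀ u v,
    B.x2 v * B.wd u * B.x2 v = B.wd u * B.N (u * v) ((1 + B.δ) * (u * u * v)) (c1 * (u * u * v)) (c2 * (u * v)) 0 := by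
  obtain ⟨hκ, -⟩ := B.main_conj
  choose p q r h using B.conj_wd'
  -- torus
  have hh : ∀ (l m : Fˣ) (u v : F), p (l * (m⁻¹ : Fˣ) * u) (m * m * v) = l * l * p u v ∧
      q (l * (m⁻¹ : Fˣ) * u) (m * m * v) = l * m * q u v ∧
      r (l * (m⁻¹ : Fˣ) * u) (m * m * v) = l * (m⁻¹ : Fˣ) * r u v := fun l m u v => by
    have e := congrArg (fun g => B.h l m * g * (B.h l m)⁻¹) (h u v)
    have c : ∀ x y, B.h l m * (x * y) * (B.h l m)⁻¹ = (B.h l m * x * (B.h l m)⁻¹) * (B.h l m * y * (B.h l m)⁻¹) :=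
      fun x y => by group
    simp only [c, N, B.h_ws, B.h_w1, B.h_wd, B.h_x2, B.E_h] at e
    rw [h] at e
    have e := mul_left_cancel e
    have m0 : (m : F) ≠ 0 := m.ne_zero
    have e1 : (l : F) * (m⁻¹ : Fˣ) * u * (m * m * v) = l * m * (u * v) := by
      rw [Units.val_inv_eq_inv_val]; field_simp
    have e2 : (1 + B.δ) * ((l : F) * (m⁻¹ : Fˣ) * u * (l * (m⁻¹ : Fˣ) * u) * (m * m * v)) =
        l * l * ((1 + B.δ) * (u * u * v)) := by
      rw [Units.val_inv_eq_inv_val]; field_simp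
    rw [e1, e2] at e
    exact B.N_ext e
  -- additivity in `v`
  have hadd : ∀ u v v', r u (v + v') = r u v + r u v' ∧
      q u (v + v') = q u v + q u v' + B.γ * B.rt ((1 + B.δ) * (u * u * v') * v) + r u v' * v ∧
      p u (v + v') = p u v + p u v' + r u v' * r u v' * v + B.κ ((1 + B.δ) * (u * u * v)) ((1 + B.δ) * (u * u * v')) +
        B.δ * (u * v' * r u v) := fun u v v' => by
    have e1 : B.x2 (v + v') * B.wd u * B.x2 (v + v') =
        B.x2 v * (B.x2 v' * B.wd u * B.x2 v') * B.x2 v := by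
      nth_rw 2 [add_comm]
      rw [B.x2_add, B.x2_add]; simp only [mul_assoc]
    rw [h u v', conj2 (B.ff B.x2_add v), h u v, N_x2, mul_assoc (B.wd u), N_mul, h] at e1
    have e2 := mul_left_cancel e1
    have i1 : u * (v + v') = u * v + u * v' := by ring
    have i2 : (1 + B.δ) * (u * u * (v + v')) = (1 + B.δ) * (u * u * v) + (1 + B.δ) * (u * u * v') := by ring
    rw [i1, i2] at e2
    obtain ⟨j1, j2, j3⟩ := B.N_ext e2
    refine ⟨j3, ?_, ?_⟩
    · rw [j2]; ring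
    · rw [j1]; ring
  have hh1 : ∀ a : F, a ≠ 0 → ∀ u v, p u (a * v) = a * p u v ∧ q u (a * v) = a * q u v ∧ r u (a * v) = r u v :=
    fun a ha u v => by
      have hb : B.rt a ≠ 0 := fun h0 => ha (by rw [← B.rt_sq a, h0, zero_mul])
      have := hh (Units.mk0 (B.rt a) hb) (Units.mk0 (B.rt a) hb) u v
      rw [Units.mul_inv, Units.val_mk0, B.rt_sq, one_mul, one_mul] at this
      exact this
  have hr : ∀ u v, r u v = 0 := fun u v =>
    eq_zero_of_inv B.big (fun v => r u v) (fun v v' => (hadd u v v').1) (fun a ha v => (hh1 a ha u v).2.2) v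
  simp only [hr, mul_zero, zero_mul, add_zero] at hadd
  have h0 : ∀ u, p u 0 = 0 ∧ q u 0 = 0 := fun u => by
    have h1 := h u 0
    simp only [f0 B.x2_add, one_mul, mul_one, mul_zero, hr] at h1
    have h2 := left_eq_mul.mp h1
    rw [N_one] at h2
    exact ⟨(B.E_inj h2).1, (B.E_inj h2).2.1⟩
  have hpq : ∀ u v, p u v = v * p u 1 ∧ q u v = v * q u 1 := fun u v => by
    by_cases hv : v = 0
    · rw [hv, (h0 u).1, (h0 u).2]; simp
    · have := hh1 v hv u 1
      rw [mul_one] at this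
      exact ⟨this.1, this.2.1⟩
  have h1 := hadd 1 1 1
  rw [(hpq 1 (1 + 1)).1, (hpq 1 (1 + 1)).2, hκ, mul_one, mul_one, mul_one] at h1
  rw [B.rt_mul_self] at h1
  simp only [mul_one] at h1
  have k1 : B.γ * B.rt (1 + B.δ) = 0 := by linear_combination -h1.2.1
  have k2 : B.δ * (1 + B.γ) * (1 + B.δ) = 0 := by linear_combination -h1.2.2
  have k1' : B.γ * (1 + B.δ) = 0 := by
    rw [← B.rt_sq (1 + B.δ), ← mul_assoc, k1, zero_mul]
  refine ⟨k1', k2, p 1 1, q 1 1, fun u v => ?_⟩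
  rw [h u v, hr]
  refine congrArg _ ?_
  by_cases hu : u = 0
  · subst hu
    have h1 := h 0 v
    simp only [wd_zero, mul_one, B.ff B.x2_add, one_mul, hr, zero_mul, mul_zero] at h1
    rw [N_one] at h1
    have h2 := B.E_inj h1.symm
    rw [h2.1, h2.2.1]; simp
  · have h1 := hh (Units.mk0 u hu) 1 1 1
    simp only [Units.val_mk0, Units.val_one, mul_one, inv_one] at h1
    have e1 : p u v = p 1 1 * (u * u * v) := by rw [(hpq u v).1, h1.1]; ring
    have e2 : q u v = q 1 1 * (u * v) := by rw [(hpq u v).2, h1.2.1]; ring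
    rw [e1, e2]

/-- **(8.4)** and the conclusion of section 8: `γ = 0`, `δ ∈ {0, 1}` -/
theorem gamma_delta (hwd : ∀ u v, Commute (B.wd u) (B.w1 v)) : B.γ = 0 ∧ (B.δ = 0 ∨ B.δ = 1) := by
  obtain ⟨hκ, -⟩ := B.main_conj
  obtain ⟨k1, k2, c1, c2, h⟩ := B.main_short
  have e := congrArg (fun g => B.x2 1 * g * B.x2 1) (hwd 1 1).eq
  simp only [conj2 (B.ff B.x2_add 1), h, w1_conj_x2] at e
  have w11 : ∀ u v, Commute (B.w1 u) (B.w1 v) := fun u v => by
    show _ = _
    rw [B.w1_mul, B.w1_mul, hκ, hκ, add_comm, mul_comm u v]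
  have cN : ∀ b c p q, Commute (B.N b c p q 0) (B.w1 1) := fun b c p q =>
    ((B.ws_w1 b 1).mul_left (w11 c 1)).mul_left (B.w1_E 1 p q 0).symm
  have cN2 : ∀ b c p q a, Commute (B.N b c p q 0) (B.E 0 a 0) := fun b c p q a => by
    refine Commute.mul_left (Commute.mul_left ?_ (B.w1_E c _ _ _)) ?_
    · rw [← s_eq']; exact B.ws_s b a
    · show _ = _
      rw [E_mul, E_mul, add_comm p, add_comm q, add_comm (0 : F) 0]
  rw [mul_assoc (B.wd 1), ← mul_assoc _ (B.w1 1), (cN _ _ _ _).eq, mul_assoc (B.w1 1), (cN2 _ _ _ _ _).eq,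
    ← mul_assoc (B.wd 1), (hwd 1 1).eq] at e
  simp only [mul_assoc] at e
  have e := mul_left_cancel e
  rw [← mul_assoc, ← mul_assoc (B.E _ _ _)] at e
  have e := mul_right_cancel e
  rw [← s_eq', B.wd_s] at e
  have e := mul_eq_left.mp e
  rw [x1_eq'] at e
  have k3 := (B.E_inj e).1
  simp only [one_mul, mul_one, map_one] at k3
  have hγ : B.γ = 0 := by linear_combination k1 - k3
  refine ⟨hγ, ?_⟩
  rw [hγ, add_zero, mul_one] at k2
  rcases mul_eq_zero.mp k2 with h0 | h0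
  · exact Or.inl h0
  · exact Or.inr (B.add_eq_zero_iff' h0).symm

end Cfsg.Agent.OddHalf.SpN.Both.P2
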