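import Mathlib
import Cfsg.Agent.OddHalf.SpN.OutPar
import Cfsg.Agent.Lib.LocalCore

/-!
# D7, `K = Sp_2n(q)`, `q` even, `q ≥ 4`: `O_2` of the perfect groups `pA`, `pB`, `pM` (helper979)

`pA = C(Y_1)^∞`, `pB = C(X_12)^∞`, `pM = C(X_12 Y_1)^∞` (in `Sp`).

* `OO_pA_comm`: `O_2(pA)` is abelian; `exists_noncomm_pB`: `O_2(pB)` is not;
* `comm_OO_pM`: `O_2(pM)' = X_12`.
-/

set_option autoImplicit false

namespace Cfsg.Agent.OddHalf.SpN.Out

open Cfsg Cfsg.Agent.ClassicalGeometry.SympBasic Cfsg.Agent.ClassicalGeometry.SympAutSemi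
open Cfsg.Agent.OddHalf.SpN Cfsg.Agent.OddHalf.SpN.Start Cfsg.Agent.Lib
open scoped Matrix commutatorElement

/-! ### `O_2` of a subgroup -/

section OO

variable {G : Type*} [Group G]

/-- `O_2(P)` -/
noncomputable def OO (P : Subgroup G) : Subgroup G := (pCore 2 P).map P.subtype

theorem OO_le (P : Subgroup G) : OO P ≤ P := Subgroup.map_subtype_le _

theorem isPGroup_OO (P : Subgroup G) : IsPGroup 2 (OO P) := LocalCore.isPGroup_map_pCore 2 P

theorem le_OO {P K : Subgroup G} (hK : K ≤ P) (h2 : IsPGroup 2 K) (hn : ∀ x ∈ P, ∀ k ∈ K, x * k * x⁻¹ ∈ K) :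
    K ≤ OO P := by
  refine LocalCore.le_map_pCore hK h2 fun x hx => ?_
  rw [Subgroup.mem_normalizer_iff]
  intro k
  refine ⟨hn x hx k, fun h => ?_⟩
  have := hn x⁻¹ (inv_mem hx) _ h
  have e : x⁻¹ * (x * k * x⁻¹) * x⁻¹⁻¹ = k := by group
  rwa [e] at this

theorem OO_conj {P : Subgroup G} {x k : G} (hx : x ∈ P) (hk : k ∈ OO P) : x * k * x⁻¹ ∈ OO P :=
  (Subgroup.mem_normalizer_iff.1 (LocalCore.le_normalizer_map_pCore 2 P hx) k).1 hk

theorem OO_map_le {P P' : Subgroup G} {g : G} (h : P.map (MulAut.conj g).toMonoidHom = P') :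
    (OO P).map (MulAut.conj g).toMonoidHom ≤ OO P' := by
  apply le_OO
  · rw [← h]; exact Subgroup.map_mono (OO_le P)
  · exact (isPGroup_OO P).map _
  · rintro x hx _ ⟨r, hr, rfl⟩
    rw [← h] at hx
    obtain ⟨p, hp, rfl⟩ := hx
    refine ⟨p * r * p⁻¹, OO_conj hp hr, ?_⟩
    show g * (p * r * p⁻¹) * g⁻¹ = g * p * g⁻¹ * (g * r * g⁻¹) * (g * p * g⁻¹)⁻¹
    group

theorem norm_OO {P : Subgroup G} {g : G} (h : ∀ x, x ∈ P ↔ g * x * g⁻¹ ∈ P) : ∀ x, x ∈ OO P ↔ g * x * g⁻¹ ∈ OO P := by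
  have h1 : P.map (MulAut.conj g).toMonoidHom = P := by
    ext x
    rw [Subgroup.mem_map_equiv, MulAut.conj_symm_apply, h]
    have e : g * (g⁻¹ * x * g) * g⁻¹ = x := by group
    rw [e]
  have h2 : P.map (MulAut.conj g⁻¹).toMonoidHom = P := by
    ext x
    rw [Subgroup.mem_map_equiv, MulAut.conj_symm_apply, inv_inv, ← h]
  intro x
  constructor
  · intro hx
    exact OO_map_le h1 ⟨x, hx, rfl⟩
  · intro hx
    have h3 := OO_map_le h2 ⟨_, hx, rfl⟩
    have e : (MulAut.conj g⁻¹).toMonoidHom (g * x * g⁻¹) = x := by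
      show g⁻¹ * (g * x * g⁻¹) * g⁻¹⁻¹ = x
      group
    rwa [e] at h3

end OO

variable {n : ℕ} {F : Type*} [Field F] [CharP F 2]

/-! ### the radicals -/

/-- the sign change of the index `j` -/
noncomputable def wj (j : Fin n) : Sy n F := sy (Sum.inl j) 1 * sy (Sum.inr j) 1 * sy (Sum.inl j) 1

theorem wj_eq (j : Fin n) : (wj j : Sy n F) = sw ⟨sg (Sum.inl j), sg_mem _⟩ := (sw_sg (Sum.inl j)).symm

theorem rho_wj (j : Fin n) (v : Ix n → F) (k : Ix n) : rho n F (wj j) v k = v (sg (Sum.inl j) k) := by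
  rw [wj_eq, rho_sw]
  show v ((sg (Sum.inl j))⁻¹ k) = _
  rw [sg, Equiv.swap_inv]

theorem sg_inl (j : Fin n) : sg (Sum.inl j : Ix n) (Sum.inl j) = Sum.inr j := Equiv.swap_apply_left _ _

theorem sg_inr (j : Fin n) : sg (Sum.inl j : Ix n) (Sum.inr j) = Sum.inl j := Equiv.swap_apply_right _ _

theorem sg_of_ne {j l : Fin n} (h : l ≠ j) : sg (Sum.inl j : Ix n) (Sum.inl l) = Sum.inl l ∧
    sg (Sum.inl j : Ix n) (Sum.inr l) = Sum.inr l :=
  ⟨Equiv.swap_apply_of_ne_of_ne (by simpa using h) (by simp),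
    Equiv.swap_apply_of_ne_of_ne (by simp) (by simpa using h)⟩

theorem wj_sq (j : Fin n) : (wj j : Sy n F) * wj j = 1 := by
  rw [wj_eq, ← map_mul]
  have : (⟨sg (Sum.inl j), sg_mem _⟩ : W n) * ⟨sg (Sum.inl j), sg_mem _⟩ = 1 :=
    Subtype.ext (Equiv.swap_mul_self _ _)
  rw [this, map_one]

theorem wj_be (j : Fin n) : rho n F (wj j) (be n F (Sum.inl j)) = be n F (Sum.inr j) := by
  ext k
  rw [rho_wj, be_apply, be_apply]
  have h : sg (Sum.inl j : Ix n) k = Sum.inl j ↔ k = Sum.inr j := by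
    constructor
    · intro h
      apply (sg (Sum.inl j : Ix n)).injective
      rw [h, sg_inr]
    · rintro rfl; exact sg_inr j
  simp only [h]

section rad

variable [Finite F]

/-- the image of `e_{-j}` -/
theorem inr_of_wj {A : Sy n F} {j : Fin n} (hw : wj j * A * wj j ∈ Up n F) :
    (∀ l, rho n F A (be n F (Sum.inr j)) (Sum.inr l) = be n F (Sum.inr j) (Sum.inr l)) ∧
      ∀ l, j ≤ l → rho n F A (be n F (Sum.inr j)) (Sum.inl l) = 0 := by
  have key : ∀ k, rho n F A (be n F (Sum.inr j)) k =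
      rho n F (wj j * A * wj j) (be n F (Sum.inl j)) (sg (Sum.inl j) k) := by
    intro k
    rw [map_mul, map_mul, Equiv.Perm.mul_apply, Equiv.Perm.mul_apply, wj_be, rho_wj, sg, Equiv.swap_apply_self]
  constructor
  · intro l
    rw [key, be_apply]
    by_cases hl : l = j
    · subst hl
      rw [sg_inr, hw.dg, if_pos rfl]; rfl
    · rw [(sg_of_ne hl).2, hw.lo, if_neg (fun e => hl (Sum.inr_injective e))]
  · intro l hl
    rw [key]
    by_cases hl' : l = j
    · subst hl'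
      rw [sg_inl, hw.lo]
    · rw [(sg_of_ne hl').1, hw.up _ _ (lt_of_le_of_ne hl (Ne.symm hl'))]

/-- `U ∩ U^w` -/
theorem rad_of_wj {A : Sy n F} (hA : A ∈ Up n F) {m : ℕ} (hw : ∀ j : Fin n, m ≤ j.1 → wj j * A * wj j ∈ Up n F)
    {i : Fin n} (hi : m ≤ i.1) :
    (∀ k, (∀ l : Fin n, l.1 < m → k ≠ Sum.inl l) → rho n F A (be n F (Sum.inl i)) k = be n F (Sum.inl i) k) ∧
      ∀ k, (∀ l : Fin n, l.1 < m → k ≠ Sum.inl l) → rho n F A (be n F (Sum.inr i)) k = be n F (Sum.inr i) k := by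
  -- pairing with `e_{-j}`
  have key : ∀ (u : Ix n → F) (j : Fin n), m ≤ j.1 → (∀ l, l < j → rho n F A u (Sum.inr l) = 0) →
      rho n F A u (Sum.inl j) = sympForm n F u (be n F (Sum.inr j)) := by
    intro u j hj hu
    have h1 : be n F (Sum.inr j) = rho n F A (be n F (Sum.inr j)) +
        ∑ l : Fin n, (rho n F A (be n F (Sum.inr j)) (Sum.inl l)) • be n F (Sum.inl l) := by
      ext k
      rw [Pi.add_apply, Finset.sum_apply]
      rcases k with k | k
      · rw [be_apply, if_neg (by simp), Finset.sum_eq_single k]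
        · rw [Pi.smul_apply, be_apply, if_pos rfl, smul_eq_mul, mul_one, CharTwo.add_self_eq_zero]
        · intro l _ hl
          rw [Pi.smul_apply, be_apply, if_neg (fun e => hl (Sum.inl_injective e).symm), smul_zero]
        · simp
      · rw [(inr_of_wj (hw j hj)).1, Finset.sum_eq_zero, add_zero]
        intro l _
        rw [Pi.smul_apply, be_apply, if_neg (by simp), smul_zero]
    have h2 : rho n F A u (Sum.inl j) = sympForm n F (rho n F A u) (be n F (Sum.inr j)) := by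
      rw [form_be]; rfl
    rw [h2, h1, sympForm_add_right, sympForm_rho, ← h1, add_eq_left]
    have h3 : ∀ (s : Finset (Fin n)) (f : Fin n → Ix n → F),
        sympForm n F (rho n F A u) (∑ l ∈ s, f l) = ∑ l ∈ s, sympForm n F (rho n F A u) (f l) := by
      intro s f
      classical
      induction s using Finset.induction_on with
      | empty => rw [Finset.sum_empty, Finset.sum_empty, sympForm_zero_right]
      | insert a s ha ih => rw [Finset.sum_insert ha, Finset.sum_insert ha, sympForm_add_right, ih]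
    rw [h3]
    refine Finset.sum_eq_zero fun l _ => ?_
    rw [sympForm_smul_right, form_be, neg_inl]
    by_cases hl : j ≤ l
    · rw [(inr_of_wj (hw j hj)).2 l hl, zero_mul]
    · rw [hu l (not_le.1 hl), mul_zero]
  constructor
  · intro k hk
    rcases k with j | j
    · have hj : m ≤ j.1 := by
        by_contra h
        exact hk j (by omega) rfl
      rw [key _ j hj fun l _ => hA.lo i l, form_be]; rfl
    · rw [hA.lo, be_apply, if_neg (by simp)]
  · intro k hk
    rcases k with j | j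
    · have hj : m ≤ j.1 := by
        by_contra h
        exact hk j (by omega) rfl
      by_cases hij : i ≤ j
      · rw [(inr_of_wj (hw i hi)).2 j hij, be_apply, if_neg (by simp)]
      · rw [key _ j hj, form_be]
        · rfl
        · intro l hl
          rw [(inr_of_wj (hw i hi)).1, be_apply, if_neg]
          intro e
          rw [Sum.inr_injective e] at hl
          exact hij hl.le
    · exact (inr_of_wj (hw i hi)).1 j

end rad

/-! ### the radicals `Q_1`, `Q_12` -/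

omit [CharP F 2] in
/-- the displacement -/
theorem disp (A : Sy n F) (u : Ix n → F) (k : Ix n) :
    rho n F A u k + u k = ∑ l, u l * (rho n F A (be n F l) k + be n F l k) := by
  have h1 : u k = ∑ l, u l * be n F l k := by
    conv_lhs => rw [expand u]
    rw [Finset.sum_apply]
    rfl
  rw [(SI.of_rho A).exp]
  conv_lhs => rw [h1]
  rw [← Finset.sum_add_distrib]
  exact Finset.sum_congr rfl fun l _ => by rw [mul_add]; rfl

/-- pairing of `A e_{-j}` with a fixed `e_i` -/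
theorem inr_coord {A : Sy n F} {i : Fin n} (hi : rho n F A (be n F (Sum.inl i)) = be n F (Sum.inl i)) (u : Ix n → F) :
    rho n F A u (Sum.inr i) = u (Sum.inr i) := by
  have h := sympForm_rho A u (be n F (Sum.inl i))
  rw [hi, form_be, form_be] at h
  exact h

theorem add_add_self (x y : Ix n → F) : x + (x + y) = y := by
  ext k
  rw [Pi.add_apply, Pi.add_apply, ← add_assoc, CharTwo.add_self_eq_zero, zero_add]

/-- elements of `Q_1` commute -/
theorem comm_Q1 {i : Fin n} {A B : Sy n F} (hA0 : rho n F A (be n F (Sum.inl i)) = be n F (Sum.inl i))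
    (hB0 : rho n F B (be n F (Sum.inl i)) = be n F (Sum.inl i))
    (hA : ∀ u : Ix n → F, u (Sum.inr i) = 0 → ∃ a : F, rho n F A u = u + a • be n F (Sum.inl i))
    (hB : ∀ u : Ix n → F, u (Sum.inr i) = 0 → ∃ a : F, rho n F B u = u + a • be n F (Sum.inl i)) :
    Commute A B := by
  have act : ∀ (A : Sy n F), rho n F A (be n F (Sum.inl i)) = be n F (Sum.inl i) → ∀ (u : Ix n → F) (a : F),
      rho n F A (u + a • be n F (Sum.inl i)) = rho n F A u + a • be n F (Sum.inl i) := by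
    intro A h u a
    rw [(SI.of_rho A).add, (SI.of_rho A).smul, h]; rfl
  apply rho_injective
  rw [map_mul, map_mul]
  refine SI.ext (φ := 1) ((SI.of_rho A).mul' (SI.of_rho B)) ((SI.of_rho B).mul' (SI.of_rho A)) fun k => ?_
  rw [Equiv.Perm.mul_apply, Equiv.Perm.mul_apply]
  by_cases hk : k = Sum.inr i
  · subst hk
    -- `u_A`, `u_B`
    obtain ⟨uA, huA⟩ : ∃ uA, rho n F A (be n F (Sum.inr i)) = be n F (Sum.inr i) + uA :=
      ⟨_, (add_add_self (be n F (Sum.inr i)) (rho n F A (be n F (Sum.inr i)))).symm⟩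
    obtain ⟨uB, huB⟩ : ∃ uB, rho n F B (be n F (Sum.inr i)) = be n F (Sum.inr i) + uB :=
      ⟨_, (add_add_self (be n F (Sum.inr i)) (rho n F B (be n F (Sum.inr i)))).symm⟩
    have zA : uA (Sum.inr i) = 0 := by
      have h := inr_coord hA0 (be n F (Sum.inr i))
      rw [huA, Pi.add_apply, add_eq_left] at h
      exact h
    have zB : uB (Sum.inr i) = 0 := by
      have h := inr_coord hB0 (be n F (Sum.inr i))
      rw [huB, Pi.add_apply, add_eq_left] at h
      exact h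
    have key : ∀ (A : Sy n F) (u w : Ix n → F) (a : F), rho n F A (be n F (Sum.inr i)) = be n F (Sum.inr i) + u →
        u (Sum.inr i) = 0 → rho n F A w = w + a • be n F (Sum.inl i) → a = sympForm n F w u := by
      intro A u w a h1 h2 h3
      have h4 := sympForm_rho A w (be n F (Sum.inr i))
      rw [h1, h3, sympForm_add_left, sympForm_add_right, sympForm_add_right, sympForm_smul_left, sympForm_smul_left,
        form_be_left, form_be_left, neg_inl, h2, be_apply, if_pos rfl] at h4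
      linear_combination h4 - sympForm n F w u * (two0 : (2 : F) = 0)
    obtain ⟨a, ha⟩ := hA uB zB
    obtain ⟨b, hb⟩ := hB uA zA
    have e1 := key A uA uB a huA zA ha
    have e2 := key B uB uA b huB zB hb
    have e3 : a = b := by
      rw [e1, e2, sympForm_swap, CharTwo.neg_eq]
    rw [huB, huA, (SI.of_rho A).add, (SI.of_rho B).add, huA, huB, ha, hb, e3]
    abel
  · have h1 : be n F k (Sum.inr i) = 0 := by rw [be_apply, if_neg (Ne.symm hk)]
    obtain ⟨a, ha⟩ := hA _ h1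
    obtain ⟨b, hb⟩ := hB _ h1
    rw [ha, hb, act A hA0, act B hB0, ha, hb]
    abel

/-- `⟨e_1, e_2⟩` -/
def W2 (F : Type*) [Field F] (hn : 3 ≤ n) : Submodule F (Ix n → F) :=
  Submodule.span F {be n F (Sum.inl (c0 hn)), be n F (Sum.inl (c1 hn))}

omit [CharP F 2] in
theorem mem_W2 (hn : 3 ≤ n) {w : Ix n → F} :
    w ∈ W2 F hn ↔ ∃ a b : F, w = a • be n F (Sum.inl (c0 hn)) + b • be n F (Sum.inl (c1 hn)) := by
  rw [W2, Submodule.mem_span_pair]
  constructor
  · rintro ⟨a, b, h⟩; exact ⟨a, b, h.symm⟩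
  · rintro ⟨a, b, h⟩; exact ⟨a, b, h.symm⟩

omit [CharP F 2] in
theorem mem_W2_of (hn : 3 ≤ n) {w : Ix n → F} (h : ∀ k, k ≠ Sum.inl (c0 hn) → k ≠ Sum.inl (c1 hn) → w k = 0) :
    w ∈ W2 F hn := by
  rw [mem_W2]
  refine ⟨w (Sum.inl (c0 hn)), w (Sum.inl (c1 hn)), ?_⟩
  ext k
  have e := c01 hn
  by_cases h0 : k = Sum.inl (c0 hn)
  · subst h0; simp [be_apply, e]
  by_cases h1 : k = Sum.inl (c1 hn)
  · subst h1; simp [be_apply, e.symm]
  · rw [h k h0 h1]; simp [be_apply, h0, h1]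

omit [CharP F 2] in
theorem W2_coord (hn : 3 ≤ n) {w : Ix n → F} (h : w ∈ W2 F hn) {k : Ix n} (h0 : k ≠ Sum.inl (c0 hn))
    (h1 : k ≠ Sum.inl (c1 hn)) : w k = 0 := by
  obtain ⟨a, b, rfl⟩ := (mem_W2 hn).1 h
  simp [be_apply, h0, h1]

omit [CharP F 2] in
theorem be0_mem (hn : 3 ≤ n) : be n F (Sum.inl (c0 hn)) ∈ W2 F hn := Submodule.subset_span (Or.inl rfl)

omit [CharP F 2] in
theorem be1_mem (hn : 3 ≤ n) : be n F (Sum.inl (c1 hn)) ∈ W2 F hn := Submodule.subset_span (Or.inr rfl)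

/-- `u ⊥ ⟨e_1, e_2⟩` -/
def Pp (hn : 3 ≤ n) (u : Ix n → F) : Prop := u (Sum.inr (c0 hn)) = 0 ∧ u (Sum.inr (c1 hn)) = 0

omit [CharP F 2] in
theorem pp_of_W2 (hn : 3 ≤ n) {w : Ix n → F} (h : w ∈ W2 F hn) : Pp hn w :=
  ⟨W2_coord hn h (by simp) (by simp), W2_coord hn h (by simp) (by simp)⟩

/-- `Q_12` -/
def Q12 (F : Type*) [Field F] (hn : 3 ≤ n) : Subgroup (Sy n F) where
  carrier := {A | (∀ w ∈ W2 F hn, rho n F A w = w) ∧ ∀ u, Pp hn u → rho n F A u - u ∈ W2 F hn}
  mul_mem' := by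
    rintro A B ⟨hA1, hA2⟩ ⟨hB1, hB2⟩
    refine ⟨fun w hw => ?_, fun u hu => ?_⟩
    · rw [map_mul, Equiv.Perm.mul_apply, hB1 w hw, hA1 w hw]
    · rw [map_mul, Equiv.Perm.mul_apply]
      have h1 := hA1 _ (hB2 u hu)
      rw [(SI.of_rho A).sub] at h1
      have h2 : rho n F A (rho n F B u) - u = (rho n F B u - u) + (rho n F A u - u) := by
        rw [← h1]; abel
      rw [h2]
      exact add_mem (hB2 u hu) (hA2 u hu)
  one_mem' := ⟨fun w _ => by rw [map_one]; rfl, fun u _ => by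
    rw [map_one, Equiv.Perm.one_apply, sub_self]; exact zero_mem _⟩
  inv_mem' := by
    rintro A ⟨hA1, hA2⟩
    refine ⟨fun w hw => ?_, fun u hu => ?_⟩
    · rw [map_inv]
      conv_lhs => rw [← hA1 w hw]
      exact perm_inv_apply_self _ _
    · rw [map_inv]
      have h1 : rho n F A ((rho n F A)⁻¹ u - u) = u - rho n F A u := by
        rw [(SI.of_rho A).sub, perm_apply_inv_self]
      have h2 : u - rho n F A u ∈ W2 F hn := by
        have := neg_mem (hA2 u hu)
        rwa [neg_sub] at this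
      have h3 : (rho n F A)⁻¹ u - u = u - rho n F A u := by
        apply (rho n F A).injective
        rw [h1, hA1 _ h2]
      rw [h3]; exact h2

omit [CharP F 2] in
theorem Q12_le [Finite F] (hn : 3 ≤ n) : Q12 F hn ≤ Up n F := by
  rintro A ⟨hA1, hA2⟩
  have key : ∀ i : Fin n, rho n F A (be n F (Sum.inl i)) - be n F (Sum.inl i) ∈ W2 F hn := fun i =>
    hA2 _ ⟨by rw [be_apply, if_neg (by simp)], by rw [be_apply, if_neg (by simp)]⟩
  have h0 := hA1 _ (be0_mem hn)
  have h1 := hA1 _ (be1_mem hn)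
  have c : ∀ (i : Fin n) (k : Ix n), k ≠ Sum.inl (c0 hn) → k ≠ Sum.inl (c1 hn) →
      rho n F A (be n F (Sum.inl i)) k = be n F (Sum.inl i) k := by
    intro i k hk0 hk1
    have := W2_coord hn (key i) hk0 hk1
    exact sub_eq_zero.1 this
  have c' : ∀ (i j : Fin n), i ≤ j → rho n F A (be n F (Sum.inl i)) (Sum.inl j) = be n F (Sum.inl i) (Sum.inl j) := by
    intro i j hij
    by_cases hi0 : i = c0 hn
    · rw [hi0, h0]
    by_cases hi1 : i = c1 hn
    · rw [hi1, h1]
    have a0 : i.1 ≠ 0 := fun e => hi0 (Fin.ext e)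
    have a1 : i.1 ≠ 1 := fun e => hi1 (Fin.ext e)
    have a2 : i.1 ≤ j.1 := hij
    refine c i _ (fun e => ?_) fun e => ?_
    · have := congrArg Fin.val (Sum.inl_injective e)
      have e2 : (c0 hn).1 = 0 := rfl
      omega
    · have := congrArg Fin.val (Sum.inl_injective e)
      have e2 : (c1 hn).1 = 1 := rfl
      omega
  refine ⟨fun i => ?_, fun i j hij => ?_, fun i j => ?_⟩
  · rw [c' i i le_rfl, be_apply, if_pos rfl]; rfl
  · rw [c' i j hij.le, be_apply, if_neg (fun e => hij.ne' (Sum.inl_injective e))]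
  · rw [c i _ (by simp) (by simp), be_apply, if_neg (by simp)]

/-- root elements of `Q_12` -/
theorem sx_mem_Q12 (hn : 3 ≤ n) {i k : Ix n} (hd : Dj i k) (hi : i = Sum.inl (c0 hn) ∨ i = Sum.inl (c1 hn))
    (hk : PM hn k) (a : F) : sx i k a ∈ Q12 F hn := by
  have hiW : be n F i ∈ W2 F hn := by
    rcases hi with rfl | rfl
    · exact be0_mem hn
    · exact be1_mem hn
  have hk0 : neg k ≠ Sum.inl (c0 hn) := fun e => hk.1 (by rw [neg_eq_iff] at e; exact e)
  have hk1 : neg k ≠ Sum.inl (c1 hn) := fun e => hk.2 (by rw [neg_eq_iff] at e; exact e)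
  refine ⟨fun w hw => ?_, fun u hu => ?_⟩
  · have h1 : w (neg k) = 0 := W2_coord hn hw hk0 hk1
    have h2 : w (neg i) = 0 := by
      rcases hi with rfl | rfl
      · exact (pp_of_W2 hn hw).1
      · exact (pp_of_W2 hn hw).2
    rw [rho_sx hd, h1, h2, mul_zero, zero_smul, zero_smul, add_zero, add_zero]
  · have h2 : u (neg i) = 0 := by
      rcases hi with rfl | rfl
      · exact hu.1
      · exact hu.2
    rw [rho_sx hd, h2, mul_zero, zero_smul, add_zero, add_sub_cancel_left]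
    exact Submodule.smul_mem _ _ hiW

/-- **`Q_12' = X_12`** -/
theorem comm_Q12 (hn : 3 ≤ n) {A B : Sy n F} (hA : A ∈ Q12 F hn) (hB : B ∈ Q12 F hn) :
    ∃ c : F, A * B = zz hn c 0 * (B * A) := by
  obtain ⟨hA1, hA2⟩ := hA
  obtain ⟨hB1, hB2⟩ := hB
  have ex : ∀ (A : Sy n F), (∀ w ∈ W2 F hn, rho n F A w = w) → ∀ j : Fin n, ∃ x, rho n F A (be n F (Sum.inr j)) =
      be n F (Sum.inr j) + x ∧ Pp hn x := by
    intro A hA1 j
    refine ⟨_, (add_add_self (be n F (Sum.inr j)) (rho n F A (be n F (Sum.inr j)))).symm, ?_, ?_⟩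
    · rw [Pi.add_apply, inr_coord (hA1 _ (be0_mem hn)), CharTwo.add_self_eq_zero]
    · rw [Pi.add_apply, inr_coord (hA1 _ (be1_mem hn)), CharTwo.add_self_eq_zero]
  have form0 : ∀ x w : Ix n → F, Pp hn x → w ∈ W2 F hn → sympForm n F w x = 0 := by
    intro x w hx hw
    obtain ⟨a, b, rfl⟩ := (mem_W2 hn).1 hw
    rw [sympForm_add_left, sympForm_smul_left, sympForm_smul_left, form_be_left, form_be_left, neg_inl, neg_inl, hx.1,
      hx.2, mul_zero, mul_zero, add_zero]
  -- the coordinate of the displacement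
  have key : ∀ (A : Sy n F) (j : Fin n) (x u w : Ix n → F), rho n F A (be n F (Sum.inr j)) = be n F (Sum.inr j) + x →
      Pp hn x → rho n F A u = u + w → w ∈ W2 F hn → w (Sum.inl j) = sympForm n F u x := by
    intro A j x u w h1 h2 h3 h4
    have h5 := sympForm_rho A u (be n F (Sum.inr j))
    rw [h1, h3, sympForm_add_left, sympForm_add_right, sympForm_add_right, form0 x w h2 h4, form_be w, neg_inr] at h5
    linear_combination h5 - sympForm n F u x * (two0 : (2 : F) = 0)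
  have dsp : ∀ (A : Sy n F), (∀ u, Pp hn u → rho n F A u - u ∈ W2 F hn) → ∀ u, Pp hn u →
      ∃ w ∈ W2 F hn, rho n F A u = u + w := fun A h u hu => ⟨_, h u hu, (add_sub_cancel _ _).symm⟩
  -- the action of `A B` and `B A` on `e_{-j}`
  have main : ∀ j : Fin n, ∃ w ∈ W2 F hn, w (Sum.inl j) = 0 ∧
      rho n F (A * B) (be n F (Sum.inr j)) = rho n F (B * A) (be n F (Sum.inr j)) + w := by
    intro j
    obtain ⟨x, hx, px⟩ := ex A hA1 j
    obtain ⟨y, hy, py⟩ := ex B hB1 j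
    obtain ⟨α, hα, eα⟩ := dsp A hA2 y py
    obtain ⟨β, hβ, eβ⟩ := dsp B hB2 x px
    have k1 := key A j x y α hx px eα hα
    have k2 := key B j y x β hy py eβ hβ
    refine ⟨α + β, add_mem hα hβ, ?_, ?_⟩
    · rw [Pi.add_apply, k1, k2, sympForm_swap, CharTwo.neg_eq, CharTwo.add_self_eq_zero]
    · rw [map_mul, map_mul, Equiv.Perm.mul_apply, Equiv.Perm.mul_apply, hy, hx, (SI.of_rho A).add,
        (SI.of_rho B).add, hx, hy, eα, eβ]
      have h2 : β + (α + β) = α := by rw [add_comm α, add_add_self]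
      calc be n F (Sum.inr j) + x + (y + α) = be n F (Sum.inr j) + y + x + α := by abel
        _ = be n F (Sum.inr j) + y + x + (β + (α + β)) := by rw [h2]
        _ = be n F (Sum.inr j) + y + (x + β) + (α + β) := by abel
  obtain ⟨w0, hw0, z0, e0⟩ := main (c0 hn)
  obtain ⟨w1, hw1, z1, e1⟩ := main (c1 hn)
  obtain ⟨a0, b0, rfl⟩ := (mem_W2 hn).1 hw0
  obtain ⟨a1, b1, rfl⟩ := (mem_W2 hn).1 hw1
  have h01 := c01 hn
  have ha0 : a0 = 0 := by simpa [be_apply, h01, h01.symm] using z0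
  have hb1 : b1 = 0 := by simpa [be_apply, h01, h01.symm] using z1
  subst ha0
  subst hb1
  rw [zero_smul, zero_add] at e0
  rw [zero_smul, add_zero] at e1
  have fixBA : ∀ w ∈ W2 F hn, rho n F (B * A) w = w := fun w hw => by
    rw [map_mul, Equiv.Perm.mul_apply, hA1 w hw, hB1 w hw]
  have ic0 : ∀ u, rho n F (B * A) u (Sum.inr (c0 hn)) = u (Sum.inr (c0 hn)) := inr_coord (fixBA _ (be0_mem hn))
  have ic1 : ∀ u, rho n F (B * A) u (Sum.inr (c1 hn)) = u (Sum.inr (c1 hn)) := inr_coord (fixBA _ (be1_mem hn))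
  have hab : a1 = b0 := by
    have h := sympForm_rho (A * B) (be n F (Sum.inr (c0 hn))) (be n F (Sum.inr (c1 hn)))
    rw [e0, e1, sympForm_add_left, sympForm_add_right, sympForm_add_right, sympForm_smul_left, sympForm_smul_left,
      sympForm_smul_right, sympForm_rho, form_be_left (rho n F (B * A) (be n F (Sum.inr (c1 hn)))),
      form_be (rho n F (B * A) (be n F (Sum.inr (c0 hn)))), neg_inl, neg_inl, ic0, ic1] at h
    have h2 : sympForm n F (be n F (Sum.inl (c1 hn))) (a1 • be n F (Sum.inl (c0 hn))) = 0 := by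
      rw [sympForm_smul_right, form_be, be_apply, if_neg (by simp), mul_zero]
    rw [h2, be_apply, be_apply, if_pos rfl, if_pos rfl] at h
    linear_combination h - b0 * (two0 : (2 : F) = 0)
  refine ⟨b0, ?_⟩
  apply rho_injective
  rw [map_mul (rho n F) (zz hn b0 0)]
  refine SI.ext (SI.of_rho _) ((SI.of_rho _).mul' (SI.of_rho _)) fun k => ?_
  rw [Equiv.Perm.mul_apply, rho_zz, ic0, ic1]
  by_cases k0 : k = Sum.inr (c0 hn)
  · subst k0
    rw [e0]
    simp [be_apply, h01.symm]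
  by_cases k1 : k = Sum.inr (c1 hn)
  · subst k1
    rw [e1, hab]
    simp [be_apply, h01]
  · have hp : Pp hn (be n F k) := ⟨by rw [be_apply, if_neg (Ne.symm k0)], by rw [be_apply, if_neg (Ne.symm k1)]⟩
    obtain ⟨α, hα, eα⟩ := dsp A hA2 _ hp
    obtain ⟨β, hβ, eβ⟩ := dsp B hB2 _ hp
    rw [hp.1, hp.2, map_mul, map_mul, Equiv.Perm.mul_apply, Equiv.Perm.mul_apply, eα, eβ, (SI.of_rho A).add,
      (SI.of_rho B).add, eα, eβ, hA1 _ hβ, hB1 _ hα]
    simp only [mul_zero, add_zero, zero_smul]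
    abel

/-! ### the perfect groups -/

/-- `C(Y_1)^∞` -/
noncomputable def pA (F : Type*) [Field F] [CharP F 2] (hn : 3 ≤ n) : Subgroup (Sy n F) :=
  perf (Subgroup.centralizer {zz hn (0 : F) 1})

/-- `C(X_12)^∞` -/
noncomputable def pB (F : Type*) [Field F] [CharP F 2] (hn : 3 ≤ n) : Subgroup (Sy n F) :=
  perf (Subgroup.centralizer {zz hn (1 : F) 0})

/-- `C(X_12 Y_1)^∞` -/
noncomputable def pM (F : Type*) [Field F] [CharP F 2] (hn : 3 ≤ n) : Subgroup (Sy n F) :=
  perf (Subgroup.centralizer {zz hn (1 : F) 1})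

theorem LA_le_pA (hn : 3 ≤ n) (hq : ∃ c : F, c ≠ 0 ∧ c ≠ 1) : LA F hn ≤ pA F hn :=
  le_perf (fun _ hA => Subgroup.mem_centralizer_singleton_iff.2 (LA_comm hn hA 1).eq) (LA_perfect hn hq)

theorem LB_le_pB (hn : 3 ≤ n) (hq : ∃ c : F, c ≠ 0 ∧ c ≠ 1) : LB F hn ≤ pB F hn :=
  le_perf (fun _ hA => Subgroup.mem_centralizer_singleton_iff.2 (LB_comm hn hA 1).eq) (LB_perfect hn hq)

theorem LM_le_pM (hn : 3 ≤ n) (hq : ∃ c : F, c ≠ 0 ∧ c ≠ 1) : LM F hn ≤ pM F hn :=
  le_perf (fun _ hA => Subgroup.mem_centralizer_singleton_iff.2 (LM_comm hn hA 1 1).eq) (LM_perfect hn hq)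

theorem perf_norm {G : Type*} [Group G] {C : Subgroup G} {s : G} (hs : s ∈ C) (x : G) :
    x ∈ perf C ↔ s * x * s⁻¹ ∈ perf C := by
  have h1 : C.map (MulAut.conj s).toMonoidHom = C := by
    ext y
    rw [Subgroup.mem_map_equiv, MulAut.conj_symm_apply]
    constructor
    · intro h
      have := mul_mem (mul_mem hs h) (inv_mem hs)
      have e : s * (s⁻¹ * y * s) * s⁻¹ = y := by group
      rwa [e] at this
    · intro h
      exact mul_mem (mul_mem (inv_mem hs) h) hs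
  have h2 := map_perf (MulAut.conj s) C
  rw [h1] at h2
  have h3 : s * x * s⁻¹ ∈ (perf C).map (MulAut.conj s).toMonoidHom ↔ x ∈ perf C := by
    rw [Subgroup.mem_map_equiv, MulAut.conj_symm_apply]
    have e : s⁻¹ * (s * x * s⁻¹) * s = x := by group
    rw [e]
  rw [← h3, h2]

/-- `O_2` of the perfect residual of the centralizer of a central element is in `Up` -/
theorem OO_le_Up [Finite F] {z : Sy n F} (hz : ∀ A ∈ Up n F, Commute A z) :
    OO (perf (Subgroup.centralizer {z})) ≤ Up n F := by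
  set R := OO (perf (Subgroup.centralizer {z})) with hR
  have hle : Up n F ≤ Subgroup.normalizer (R : Set (Sy n F)) := by
    intro A hA
    rw [Subgroup.mem_normalizer_iff]
    exact norm_OO (perf_norm (Subgroup.mem_centralizer_singleton_iff.2 (hz A hA).eq))
  have h1 : IsPGroup 2 ((Up n F ⊔ R : Subgroup (Sy n F))) := isPGroup_Up.to_sup_of_normal_right' (isPGroup_OO _) hle
  exact le_sup_right.trans (Up_max h1 le_sup_left)

theorem OO_pA_le [Finite F] (hn : 3 ≤ n) : OO (pA F hn) ≤ Up n F := OO_le_Up fun _ hA => comm_Z hn hA 0 1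

theorem OO_pM_le [Finite F] (hn : 3 ≤ n) : OO (pM F hn) ≤ Up n F := OO_le_Up fun _ hA => comm_Z hn hA 1 1

theorem wj_inv (j : Fin n) : (wj j : Sy n F)⁻¹ = wj j := inv_eq_of_mul_eq_one_left (wj_sq j)

/-- **`O_2(pA)` is abelian** -/
theorem OO_pA_comm [Finite F] (hn : 3 ≤ n) (hq : ∃ c : F, c ≠ 0 ∧ c ≠ 1) {A B : Sy n F} (hA : A ∈ OO (pA F hn))
    (hB : B ∈ OO (pA F hn)) : Commute A B := by
  have fix : ∀ A ∈ OO (pA F hn), rho n F A (be n F (Sum.inl (c0 hn))) = be n F (Sum.inl (c0 hn)) := by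
    intro A hA
    have h := perf_le _ (OO_le _ hA)
    rw [Subgroup.mem_centralizer_singleton_iff] at h
    exact (comm_b_iff hn one_ne_zero).1 h
  have act : ∀ A ∈ OO (pA F hn), ∀ u : Ix n → F, u (Sum.inr (c0 hn)) = 0 →
      ∃ a : F, rho n F A u = u + a • be n F (Sum.inl (c0 hn)) := by
    intro A hA u hu
    have hAU := OO_pA_le hn hA
    have hw : ∀ j : Fin n, 1 ≤ j.1 → wj j * A * wj j ∈ Up n F := by
      intro j hj
      have hj0 : j ≠ c0 hn := fun e => by rw [e] at hj; exact absurd hj (by show ¬ 1 ≤ 0; omega)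
      have h1 : wj j ∈ pA F hn := LA_le_pA hn hq (mul_mem (mul_mem (sy_mem (by simp [PA]) 1)
        (sy_mem (by simpa [PA] using hj0) 1)) (sy_mem (by simp [PA]) 1))
      have h2 := OO_conj h1 hA
      rw [wj_inv] at h2
      exact OO_pA_le hn h2
    have key : ∀ k, k ≠ Sum.inl (c0 hn) → rho n F A u k + u k = 0 := by
      intro k hk
      rw [disp]
      refine Finset.sum_eq_zero fun l _ => ?_
      have hk' : ∀ l : Fin n, l.1 < 1 → k ≠ Sum.inl l := by
        intro l hl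
        have : l = c0 hn := Fin.ext (by show l.1 = 0; omega)
        rw [this]; exact hk
      rcases l with l | l
      · by_cases hl : l = c0 hn
        · rw [hl, fix A hA, CharTwo.add_self_eq_zero, mul_zero]
        · have hl1 : 1 ≤ l.1 := by
            have : l.1 ≠ 0 := fun e => hl (Fin.ext e)
            omega
          rw [(rad_of_wj hAU hw hl1).1 k hk', CharTwo.add_self_eq_zero, mul_zero]
      · by_cases hl : l = c0 hn
        · rw [hl, hu, zero_mul]
        · have hl1 : 1 ≤ l.1 := by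
            have : l.1 ≠ 0 := fun e => hl (Fin.ext e)
            omega
          rw [(rad_of_wj hAU hw hl1).2 k hk', CharTwo.add_self_eq_zero, mul_zero]
    refine ⟨rho n F A u (Sum.inl (c0 hn)) + u (Sum.inl (c0 hn)), ?_⟩
    ext k
    rw [Pi.add_apply, Pi.smul_apply, be_apply, smul_eq_mul]
    by_cases hk : k = Sum.inl (c0 hn)
    · subst hk
      rw [if_pos rfl, mul_one, add_comm (rho n F A u _), ← add_assoc, CharTwo.add_self_eq_zero, zero_add]
    · rw [if_neg hk, mul_zero, add_zero]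
      have h := key k hk
      rw [add_eq_zero_iff_eq_neg, CharTwo.neg_eq] at h
      exact h
  exact comm_Q1 (fix A hA) (fix B hB) (act A hA) (act B hB)

/-- `C(X_12)` preserves `⟨e_1, e_2⟩` and its orthogonal space -/
theorem pres_W2 (hn : 3 ≤ n) {s : Sy n F} (hs : Commute s (zz hn (1 : F) 0)) :
    (∀ w ∈ W2 F hn, rho n F s w ∈ W2 F hn) ∧ ∀ u, Pp hn u → Pp hn (rho n F s u) := by
  have hD : ∀ u : Ix n → F, rho n F s (u (Sum.inr (c1 hn)) • be n F (Sum.inl (c0 hn)) +
      u (Sum.inr (c0 hn)) • be n F (Sum.inl (c1 hn))) =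
      rho n F s u (Sum.inr (c1 hn)) • be n F (Sum.inl (c0 hn)) +
        rho n F s u (Sum.inr (c0 hn)) • be n F (Sum.inl (c1 hn)) := by
    intro u
    have h1 : rho n F s (rho n F (zz hn 1 0) u) = rho n F (zz hn 1 0) (rho n F s u) := by
      rw [← Equiv.Perm.mul_apply, ← Equiv.Perm.mul_apply, ← map_mul, ← map_mul, hs.eq]
    rw [rho_zz, rho_zz, zero_mul, zero_mul, add_zero, add_zero, one_mul, one_mul, one_mul, one_mul, add_assoc,
      (SI.of_rho s).add, add_assoc] at h1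
    exact add_left_cancel h1
  have h01 := c01 hn
  constructor
  · intro w hw
    obtain ⟨a, b, rfl⟩ := (mem_W2 hn).1 hw
    have e : a • be n F (Sum.inl (c0 hn)) + b • be n F (Sum.inl (c1 hn)) =
        (a • be n F (Sum.inr (c1 hn)) + b • be n F (Sum.inr (c0 hn))) (Sum.inr (c1 hn)) • be n F (Sum.inl (c0 hn)) +
        (a • be n F (Sum.inr (c1 hn)) + b • be n F (Sum.inr (c0 hn))) (Sum.inr (c0 hn)) • be n F (Sum.inl (c1 hn)) := by
      simp [be_apply, h01, h01.symm]
    rw [e, hD, mem_W2]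
    exact ⟨_, _, rfl⟩
  · intro u hu
    have h1 := hD u
    rw [hu.1, hu.2, zero_smul, zero_smul, add_zero, (SI.of_rho s).zero] at h1
    have g0 := congrFun h1 (Sum.inl (c0 hn))
    have g1 := congrFun h1 (Sum.inl (c1 hn))
    simp only [Pi.zero_apply, Pi.add_apply, Pi.smul_apply, be_apply, smul_eq_mul, if_true, mul_one, Sum.inl.injEq, h01,
      h01.symm, if_false, mul_zero, add_zero, zero_add] at g0 g1
    exact ⟨g1.symm, g0.symm⟩

/-- `C(X_12)` normalises `Q_12` -/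
theorem norm_Q12 (hn : 3 ≤ n) {s A : Sy n F} (hs : Commute s (zz hn (1 : F) 0)) (hA : A ∈ Q12 F hn) :
    s * A * s⁻¹ ∈ Q12 F hn := by
  obtain ⟨hA1, hA2⟩ := hA
  obtain ⟨p1, p2⟩ := pres_W2 hn hs
  obtain ⟨q1, q2⟩ := pres_W2 hn hs.inv_left
  refine ⟨fun w hw => ?_, fun u hu => ?_⟩
  · rw [map_mul, map_mul, Equiv.Perm.mul_apply, Equiv.Perm.mul_apply, hA1 _ (q1 w hw), map_inv, perm_apply_inv_self]
  · rw [map_mul, map_mul, Equiv.Perm.mul_apply, Equiv.Perm.mul_apply]
    have h1 := p1 _ (hA2 _ (q2 u hu))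
    rw [(SI.of_rho s).sub] at h1
    have h2 : rho n F s (rho n F s⁻¹ u) = u := by rw [map_inv, perm_apply_inv_self]
    rwa [h2] at h1

/-- `Q_12 ∩ P ≤ O_2(P)`, `P ≤ C(X_12)` -/
theorem Q12_le_OO [Finite F] (hn : 3 ≤ n) {P : Subgroup (Sy n F)} (hP : ∀ s ∈ P, Commute s (zz hn (1 : F) 0)) :
    Q12 F hn ⊓ P ≤ OO P := by
  apply le_OO inf_le_right
  · exact isPGroup_Up.to_le (inf_le_left.trans (Q12_le hn))
  · intro x hx k hk
    exact ⟨norm_Q12 hn (hP x hx) hk.1, P.mul_mem (P.mul_mem hx hk.2) (P.inv_mem hx)⟩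

theorem comm_pB (hn : 3 ≤ n) {s : Sy n F} (hs : s ∈ pB F hn) : Commute s (zz hn (1 : F) 0) :=
  Subgroup.mem_centralizer_singleton_iff.1 (perf_le _ hs)

theorem comm_pM [Finite F] (hn : 3 ≤ n) {s : Sy n F} (hs : s ∈ pM F hn) :
    Commute s (zz hn (1 : F) 0) ∧ Commute s (zz hn (0 : F) 1) :=
  (comm_ab_iff hn one_ne_zero one_ne_zero).1 (Subgroup.mem_centralizer_singleton_iff.1 (perf_le _ hs))

/-- `X_12 = [X_13, X_{-3,2}]` -/
theorem comm_x12 (hn : 3 ≤ n) (a : F) :
    ⁅sx (Sum.inl (c0 hn)) (Sum.inl (c2 hn)) a, sx (Sum.inl (c1 hn)) (Sum.inr (c2 hn)) (1 : F)⁆ = zz hn a 0 := by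
  have e1 := sx_rel (i := Sum.inl (c0 hn)) (j := Sum.inl (c2 hn)) (k := Sum.inl (c1 hn)) (dj_ll (c02 hn))
    (dj_ll (c12 hn).symm) (dj_ll (c01 hn)) a (1 : F)
  rw [neg_inl, sx_symm (Sum.inr (c2 hn)), mul_one] at e1
  rw [commutatorElement_def, e1, zz_a]; group

theorem x13_mem (hn : 3 ≤ n) (a : F) : sx (Sum.inl (c0 hn)) (Sum.inl (c2 hn)) a ∈ Q12 F hn ⊓ LM F hn :=
  ⟨sx_mem_Q12 hn (dj_ll (c02 hn)) (Or.inl rfl) (by simp [PM]) a,
    sx_mem (P := PM hn) (Q := QM hn) ⟨by simp [PM], by simp [PM]⟩ a⟩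

theorem x23_mem (hn : 3 ≤ n) (a : F) : sx (Sum.inl (c1 hn)) (Sum.inr (c2 hn)) a ∈ Q12 F hn ⊓ LM F hn := by
  have h : PM hn (Sum.inr (c2 hn) : Ix n) := ⟨by simpa using (c02 hn).symm, by simpa using (c12 hn).symm⟩
  exact ⟨sx_mem_Q12 hn (dj_lr (c12 hn)) (Or.inr rfl) h a, sx_mem (P := PM hn) (Q := QM hn) ⟨by simp [PM], h⟩ a⟩

/-- **`O_2(pB)` is not abelian** -/
theorem exists_noncomm_pB [Finite F] (hn : 3 ≤ n) (hq : ∃ c : F, c ≠ 0 ∧ c ≠ 1) :
    ∃ A ∈ OO (pB F hn), ∃ B ∈ OO (pB F hn), ¬ Commute A B := by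
  have h : Q12 F hn ⊓ LM F hn ≤ OO (pB F hn) :=
    (inf_le_inf_left _ ((LM_le_LB hn).trans (LB_le_pB hn hq))).trans (Q12_le_OO hn fun s hs => comm_pB hn hs)
  refine ⟨_, h (x13_mem hn 1), _, h (x23_mem hn 1), fun hc => ?_⟩
  have h1 := comm_x12 hn (1 : F)
  rw [commutatorElement_eq_one_iff_commute.2 hc, ← zz_zero hn] at h1
  exact zero_ne_one (zz_inj hn h1).1

/-- `pM` fixes `e_2` -/
theorem fix_pM [Finite F] (hn : 3 ≤ n) {A : Sy n F} (hA : A ∈ pM F hn) :
    rho n F A (be n F (Sum.inl (c0 hn))) = be n F (Sum.inl (c0 hn)) ∧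
      rho n F A (be n F (Sum.inl (c1 hn))) = be n F (Sum.inl (c1 hn)) := by
  have f0 : ∀ A ∈ pM F hn, rho n F A (be n F (Sum.inl (c0 hn))) = be n F (Sum.inl (c0 hn)) := fun A hA =>
    (comm_b_iff hn one_ne_zero).1 (comm_pM hn hA).2
  have f1 : ∀ A ∈ pM F hn, ∃ μ : F, ∀ a : F,
      rho n F A (be n F (Sum.inl (c1 hn)) + a • be n F (Sum.inl (c0 hn))) =
        be n F (Sum.inl (c1 hn)) + (a + μ) • be n F (Sum.inl (c0 hn)) := by
    intro A hA
    obtain ⟨a, b, h⟩ := (mem_W2 hn).1 ((pres_W2 hn (comm_pM hn hA).1).1 _ (be1_mem hn))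
    have hb : b = 1 := by
      -- `b = ⟨A e_2, e_{-2}⟩`: use `e_2 = D e_{-1}`
      have h1 : rho n F A (rho n F (zz hn 1 0) (be n F (Sum.inr (c0 hn)))) =
          rho n F (zz hn 1 0) (rho n F A (be n F (Sum.inr (c0 hn)))) := by
        rw [← Equiv.Perm.mul_apply, ← Equiv.Perm.mul_apply, ← map_mul, ← map_mul, (comm_pM hn hA).1.eq]
      have h01 := c01 hn
      have h2 : rho n F (zz hn 1 0) (be n F (Sum.inr (c0 hn))) =
          be n F (Sum.inr (c0 hn)) + be n F (Sum.inl (c1 hn)) := by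
        rw [rho_zz]
        simp [be_apply, h01.symm]
      rw [h2, (SI.of_rho A).add, h, rho_zz, zero_mul, add_zero, one_mul, one_mul, inr_coord (f0 A hA)] at h1
      have h3 := congrFun h1 (Sum.inl (c1 hn))
      simp only [Pi.add_apply, Pi.smul_apply, be_apply, smul_eq_mul, if_true, mul_one, Sum.inl.injEq, h01.symm,
        if_false, mul_zero, zero_add, add_zero] at h3
      exact add_left_cancel h3
    refine ⟨a, fun c => ?_⟩
    rw [(SI.of_rho A).add, (SI.of_rho A).smul, f0 A hA, h, hb, one_smul]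
    have e : (1 : F ≃+* F) c = c := rfl
    rw [e, add_smul]; abel
  refine ⟨f0 A hA, ?_⟩
  let St : Subgroup (Sy n F) :=
    { carrier := {A | rho n F A (be n F (Sum.inl (c1 hn))) = be n F (Sum.inl (c1 hn))}
      mul_mem' := fun {A B} hA hB => by
        show rho n F (A * B) _ = _
        rw [map_mul, Equiv.Perm.mul_apply, hB, hA]
      one_mem' := by
        show rho n F 1 _ = _
        rw [map_one]; rfl
      inv_mem' := fun {A} hA => by
        show rho n F A⁻¹ _ = _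
        rw [map_inv]
        conv_lhs => rw [← hA]
        exact perm_inv_apply_self _ _ }
  have h1 : pM F hn ≤ St := by
    have hp : ⁅pM F hn, pM F hn⁆ = pM F hn := perf_perfect _
    rw [← hp, Subgroup.commutator_le]
    intro A hA B hB
    obtain ⟨μ, hμ⟩ := f1 A hA
    obtain ⟨ν, hν⟩ := f1 B hB
    obtain ⟨μ', hμ'⟩ := f1 A⁻¹ ((pM F hn).inv_mem hA)
    obtain ⟨ν', hν'⟩ := f1 B⁻¹ ((pM F hn).inv_mem hB)
    have e1 : μ = μ' := by
      have h2 := hμ' 0
      have h3 := hμ (0 + μ')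
      rw [← h2] at h3
      rw [map_inv, perm_apply_inv_self, zero_add] at h3
      have h4 := congrFun h3 (Sum.inl (c0 hn))
      simp only [Pi.add_apply, Pi.smul_apply, be_apply, smul_eq_mul, if_true, mul_one] at h4
      have h5 : (0 : F) = μ' + μ := add_left_cancel (a := _) h4
      rw [eq_comm, add_eq_zero_iff_eq_neg, CharTwo.neg_eq] at h5
      exact h5.symm
    have e2 : ν = ν' := by
      have h2 := hν' 0
      have h3 := hν (0 + ν')
      rw [← h2] at h3
      rw [map_inv, perm_apply_inv_self, zero_add] at h3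
      have h4 := congrFun h3 (Sum.inl (c0 hn))
      simp only [Pi.add_apply, Pi.smul_apply, be_apply, smul_eq_mul, if_true, mul_one] at h4
      have h5 : (0 : F) = ν' + ν := add_left_cancel (a := _) h4
      rw [eq_comm, add_eq_zero_iff_eq_neg, CharTwo.neg_eq] at h5
      exact h5.symm
    show rho n F ⁅A, B⁆ (be n F (Sum.inl (c1 hn))) = be n F (Sum.inl (c1 hn))
    have h0 : (be n F (Sum.inl (c1 hn)) : Ix n → F) = be n F (Sum.inl (c1 hn)) + (0 : F) • be n F (Sum.inl (c0 hn)) := by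
      rw [zero_smul, add_zero]
    rw [commutatorElement_def, map_mul, map_mul, map_mul, Equiv.Perm.mul_apply, Equiv.Perm.mul_apply,
      Equiv.Perm.mul_apply]
    conv_lhs => rw [h0]
    rw [hν', hμ', hν, hμ, ← e1, ← e2]
    conv_rhs => rw [h0]
    congr 2
    linear_combination (μ + ν) * (two0 : (2 : F) = 0)
  exact h1 hA

/-- `O_2(pM) ≤ Q_12` -/
theorem OO_pM_le_Q12 [Finite F] (hn : 3 ≤ n) (hq : ∃ c : F, c ≠ 0 ∧ c ≠ 1) : OO (pM F hn) ≤ Q12 F hn := by
  intro A hA
  have hAU := OO_pM_le hn hA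
  obtain ⟨f0, f1⟩ := fix_pM hn (OO_le _ hA)
  have hw : ∀ j : Fin n, 2 ≤ j.1 → wj j * A * wj j ∈ Up n F := by
    intro j hj
    have hj0 : j ≠ c0 hn := fun e => by rw [e] at hj; exact absurd hj (by show ¬ 2 ≤ 0; omega)
    have hj1 : j ≠ c1 hn := fun e => by rw [e] at hj; exact absurd hj (by show ¬ 2 ≤ 1; omega)
    have h1 : wj j ∈ pM F hn := LM_le_pM hn hq (mul_mem (mul_mem (sy_mem (by simp [PM]) 1)
      (sy_mem (⟨by simpa using hj0, by simpa using hj1⟩) 1)) (sy_mem (by simp [PM]) 1))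
    have h2 := OO_conj h1 hA
    rw [wj_inv] at h2
    exact OO_pM_le hn h2
  refine ⟨fun w hw' => ?_, fun u hu => ?_⟩
  · obtain ⟨a, b, rfl⟩ := (mem_W2 hn).1 hw'
    rw [(SI.of_rho A).add, (SI.of_rho A).smul, (SI.of_rho A).smul, f0, f1]; rfl
  · apply mem_W2_of hn
    intro k hk0 hk1
    have hk' : ∀ l : Fin n, l.1 < 2 → k ≠ Sum.inl l := by
      intro l hl
      by_cases h : l.1 = 0
      · have : l = c0 hn := Fin.ext h
        rw [this]; exact hk0
      · have : l = c1 hn := Fin.ext (by show l.1 = 1; omega)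
        rw [this]; exact hk1
    rw [Pi.sub_apply, CharTwo.sub_eq_add, disp]
    refine Finset.sum_eq_zero fun l _ => ?_
    rcases l with l | l
    · by_cases hl : l = c0 hn
      · rw [hl, f0, CharTwo.add_self_eq_zero, mul_zero]
      by_cases hl' : l = c1 hn
      · rw [hl', f1, CharTwo.add_self_eq_zero, mul_zero]
      · have hl2 : 2 ≤ l.1 := by
          have a0 : l.1 ≠ 0 := fun e => hl (Fin.ext e)
          have a1 : l.1 ≠ 1 := fun e => hl' (Fin.ext e)
          omega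
        rw [(rad_of_wj hAU hw hl2).1 k hk', CharTwo.add_self_eq_zero, mul_zero]
    · by_cases hl : l = c0 hn
      · rw [hl, hu.1, zero_mul]
      by_cases hl' : l = c1 hn
      · rw [hl', hu.2, zero_mul]
      · have hl2 : 2 ≤ l.1 := by
          have a0 : l.1 ≠ 0 := fun e => hl (Fin.ext e)
          have a1 : l.1 ≠ 1 := fun e => hl' (Fin.ext e)
          omega
        rw [(rad_of_wj hAU hw hl2).2 k hk', CharTwo.add_self_eq_zero, mul_zero]

/-- **`O_2(pM)' = X_12`** -/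
theorem comm_OO_pM [Finite F] (hn : 3 ≤ n) (hq : ∃ c : F, c ≠ 0 ∧ c ≠ 1) :
    ⁅OO (pM F hn), OO (pM F hn)⁆ = X12 hn := by
  apply le_antisymm
  · rw [Subgroup.commutator_le]
    intro A hA B hB
    obtain ⟨c, hc⟩ := comm_Q12 hn (OO_pM_le_Q12 hn hq hA) (OO_pM_le_Q12 hn hq hB)
    refine ⟨c, ?_⟩
    have e : ⁅A, B⁆ = (A * B) * (B * A)⁻¹ := by rw [commutatorElement_def]; group
    rw [e, hc]; group
  · rintro _ ⟨a, rfl⟩
    have h : Q12 F hn ⊓ LM F hn ≤ OO (pM F hn) :=
      (inf_le_inf_left _ (LM_le_pM hn hq)).trans (Q12_le_OO hn fun s hs => (comm_pM hn hs).1)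
    rw [← comm_x12 hn a]
    exact Subgroup.commutator_mem_commutator (h (x13_mem hn a)) (h (x23_mem hn 1))

end Cfsg.Agent.OddHalf.SpN.Out
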