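import Cfsg.Agent.OddHalf.SpN.Rel
import Cfsg.Agent.OddHalf.SpN.Dbl

/-!
# ODD D7, `K = Sp_2n(q)`, `q ≥ 4` even: the doubles of the short root groups (helper570)

Section 6 of `blueprints/ODD-D7-Sp-helper297.md` in subgroup form.

* `conj_mem` : `x_{i,-j}(b) g x_{i,-j}(b)⁻¹ ∈ g W_ik` for `g ∈ W_jk` (120 degrees);
* `sq` : `W_ij` is elementary.
-/

set_option autoImplicit false

namespace Cfsg.Agent.OddHalf.SpN

open scoped commutatorElement

variable {n : ℕ} {F : Type*} [Field F] {G : Type*} [Group G]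

/-- a torus element with prescribed value at `i` and `1` elsewhere -/
theorem exists_lam (i : Ix n) (μ : Fˣ) : ∃ lam : Fin n → Fˣ, ev lam i = μ ∧ ∀ l, Dj i l → ev lam l = 1 := by
  classical
  rcases i with i | i
  · refine ⟨Function.update 1 i μ, by simp [ev], ?_⟩
    rintro (l | l) h
    · have : l ≠ i := fun e => h.1 (by rw [e])
      simp [ev, this]
    · have : l ≠ i := fun e => h.2 (by rw [e]; rfl)
      simp [ev, this]
  · refine ⟨Function.update 1 i μ⁻¹, by simp [ev], ?_⟩
    rintro (l | l) h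
    · have : l ≠ i := fun e => h.2 (by rw [e]; rfl)
      simp [ev, this]
    · have : l ≠ i := fun e => h.1 (by rw [e])
      simp [ev, this]

/-- the facts on centralisers in `C_G(t)` used for the short roots -/
structure KS (R : Frame n F G) : Prop where
  /-- 60 degrees -/
  k60 : ∀ i j k, Dj i j → Dj i k → Dj j k → ∀ c, Commute c R.t →
    (∀ a b s, a ≠ neg i → a ≠ neg j → a ≠ neg k → b ≠ neg i → b ≠ neg j → b ≠ neg k → Commute c (R.x a b s)) →
    (∀ a s, a ≠ neg i → a ≠ neg j → a ≠ neg k → Commute c (R.y a s)) →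
    (∀ lam, ev lam i * ev lam j = 1 → ev lam i * ev lam k = 1 → Commute c (R.h lam)) →
    ∃ e f g, (e = 1 ∨ e = R.t) ∧ c = e * R.x i j f * R.x i k g

namespace Frame

variable (R : Frame n F G)

theorem t_mul (a b : G) : R.t * (a * b) * R.t = (R.t * a * R.t) * (R.t * b * R.t) := by
  calc R.t * (a * b) * R.t = R.t * a * 1 * b * R.t := by group
    _ = _ := by rw [← R.tt]; group

theorem t_inv' (a : G) : R.t * a⁻¹ * R.t = (R.t * a * R.t)⁻¹ := by
  rw [mul_inv_rev, mul_inv_rev, R.t_inv]; group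

theorem t_of_comm {a : G} (h : Commute a R.t) : R.t * a * R.t = a := by
  rw [← h.eq, mul_assoc, R.tt, mul_one]

theorem comm_of_t {a : G} (h : R.t * a * R.t = a) : Commute a R.t := by
  show a * R.t = R.t * a
  calc a * R.t = (R.t * a * R.t) * R.t := by rw [h]
    _ = R.t * a * (R.t * R.t) := by group
    _ = R.t * a := by rw [R.tt, mul_one]

variable [CharP F 2]

/-- conjugation of a short root element by `x_{i,-j}(b)` -/
theorem conj_x {i j : Ix n} (hij : Dj i j) (b : F) {a d : Ix n} (ha : a ≠ neg i) (hd : d ≠ neg i)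
    (s : F) : ∃ e p, (e = a ∨ e = d) ∧
      R.x i (neg j) b * R.x a d s * R.x i (neg j) b = R.x a d s * R.x i e p := by
  have hXX := R.x_sq i (neg j) b
  -- the commuting case
  have triv : Commute (R.x i (neg j) b) (R.x a d s) → ∃ e p, (e = a ∨ e = d) ∧
      R.x i (neg j) b * R.x a d s * R.x i (neg j) b = R.x a d s * R.x i e p := by
    intro h
    refine ⟨a, 0, Or.inl rfl, ?_⟩
    rw [R.x_zero, mul_one, h.eq, mul_assoc, hXX, mul_one]
  by_cases hD : Dj a d
  swap
  · apply triv; rw [R.x_of_not hD]; exact Commute.one_right _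
  -- the case `a = j`
  have main : ∀ d, Dj j d → d ≠ neg i → ∀ s, (Commute (R.x i (neg j) b) (R.x j d s)) ∨
      R.x i (neg j) b * R.x j d s * R.x i (neg j) b = R.x j d s * R.x i d (b * s) := by
    intro d hD hd s
    by_cases ed : d = i
    · left
      subst ed
      have h := R.x_comm' (i := neg j) (j := d) b s
      rw [neg_neg, R.x_symm] at h
      exact h
    · right
      have hid : Dj i d := ⟨fun e => ed e.symm, fun e => hd (by rw [e, neg_neg])⟩
      have h := R.x_rel (i := i) (j := neg j) (k := d) (dj_neg_right.mpr hij) (dj_neg_left.mpr hD) hid b s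
      rw [neg_neg] at h
      have hc : Commute (R.x i d (b * s)) (R.x j d s) :=
        R.x_comm hij.symm.2 hD.2 hd (ne_neg d) _ _
      calc R.x i (neg j) b * R.x j d s * R.x i (neg j) b
          = R.x i d (b * s) * R.x j d s * (R.x i (neg j) b * R.x i (neg j) b) := by rw [h]; group
        _ = R.x j d s * R.x i d (b * s) := by rw [hXX, mul_one, hc.eq]
  by_cases ea : a = j
  · subst ea
    rcases main d hD hd s with h | h
    · exact triv h
    · exact ⟨d, _, Or.inr rfl, h⟩
  by_cases ed : d = j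
  · subst ed
    rcases main a hD.symm ha s with h | h
    · apply triv; rw [R.x_symm a d]; exact h
    · exact ⟨a, b * s, Or.inl rfl, by rw [R.x_symm a d]; exact h⟩
  · apply triv
    exact R.x_comm ha (by rw [neg_neg]; exact ea) hd (by rw [neg_neg]; exact ed) _ _

/-- conjugation of a long root element by `x_{i,-j}(b)` -/
theorem conj_y {i j : Ix n} (hij : Dj i j) (b : F) {a : Ix n} (ha : a ≠ neg i) (s : F) :
    ∃ p q, R.x i (neg j) b * R.y a s * R.x i (neg j) b = R.y a s * (R.x i a p * R.y i q) := by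
  have hXX := R.x_sq i (neg j) b
  by_cases ea : a = j
  · subst ea
    have h := R.y_rel (i := a) (j := i) hij.symm s b
    rw [R.x_symm (neg a) i, R.x_symm a i] at h
    have c1 : Commute (R.y a s) (R.x i a (s * b) * R.y i (s * b ^ 2)) :=
      (R.y_x_comm hij.2 (ne_neg a) _ _).mul_right (R.y_comm hij.2 _ _)
    have c2 : Commute (R.x i (neg a) b) (R.x i a (s * b) * R.y i (s * b ^ 2)) := by
      refine Commute.mul_right ?_ (R.y_x_comm (ne_neg i) (fun e => hij.1 (neg_inj.mp e).symm) _ _).symm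
      have h3 := R.x_comm' (i := neg a) (j := i) b (s * b)
      rw [neg_neg, R.x_symm (neg a) i, R.x_symm a i] at h3
      exact h3
    refine ⟨s * b, s * b ^ 2, ?_⟩
    calc R.x i (neg a) b * R.y a s * R.x i (neg a) b
        = R.x i (neg a) b * (R.y a s * R.x i (neg a) b) := by group
      _ = R.x i (neg a) b * (R.x i a (s * b) * R.y i (s * b ^ 2)) * R.x i (neg a) b * R.y a s := by
          rw [h]; group
      _ = (R.x i a (s * b) * R.y i (s * b ^ 2)) * (R.x i (neg a) b * R.x i (neg a) b) * R.y a s := by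
          rw [c2.eq]; group
      _ = _ := by rw [hXX, mul_one, c1.eq]
  · refine ⟨0, 0, ?_⟩
    have h : Commute (R.x i (neg j) b) (R.y a s) :=
      (R.y_x_comm (fun e => ha (by rw [e, neg_neg])) (fun e => ea (neg_inj.mp e).symm) _ _).symm
    rw [R.x_zero, R.y_zero, mul_one, mul_one, h.eq, mul_assoc, hXX, mul_one]

end Frame

namespace DS

variable [CharP F 2] {R : Frame n F G} {δ : F} (D : DS R δ)
include D

theorem cX {i j : Ix n} (hij : Dj i j) {g : G} (hg : g ∈ D.W i j) {k l : Ix n} (h1 : k ≠ neg i) (h2 : k ≠ neg j)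
    (h3 : l ≠ neg i) (h4 : l ≠ neg j) (a : F) : Commute g (R.x k l a) := D.cx i j hij g hg k l a h1 h2 h3 h4

theorem t_mem {i j : Ix n} (hij : Dj i j) {g : G} (hg : g ∈ D.W i j) : R.t * g * R.t ∈ D.W i j := by
  obtain ⟨u, hu⟩ := D.ht i j hij g hg
  rw [hu]
  exact mul_mem hg (D.x_mem i j u)

/-- the first step -/
theorem step {i j k : Ix n} (hK : KS R) (hij : Dj i j) (hik : Dj i k) (hjk : Dj j k) {g : G}
    (hg : g ∈ D.W j k) (b : F) :
    ∃ m ∈ D.W i k, ∃ e f, (e = 1 ∨ e = R.t) ∧
      g⁻¹ * (R.x i (neg j) b * g * R.x i (neg j) b) = m * (e * R.x j k f) := by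
  obtain ⟨u, hu⟩ := D.ht j k hjk g hg
  obtain ⟨m, hm, hmu⟩ := D.onto i k hik (b * u)
  set X := R.x i (neg j) b with hX
  have hXX : X * X = 1 := R.x_sq _ _ _
  -- indices
  have n1 : i ≠ neg j := hij.2
  have n2 : i ≠ neg k := hik.2
  have n3 : j ≠ neg k := hjk.2
  have n4 : i ≠ j := hij.1
  have n5 : i ≠ k := hik.1
  have n6 : j ≠ k := hjk.1
  have n1' : j ≠ neg i := hij.symm.2
  have n2' : k ≠ neg i := hik.symm.2
  have n3' : k ≠ neg j := hjk.symm.2
  -- `x_jk(u)` conjugated by `X`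
  have hconj : X * R.x j k u * X = R.x i k (b * u) * R.x j k u := by
    have h := R.x_rel (i := i) (j := neg j) (k := k) (dj_neg_right.mpr hij) (dj_neg_left.mpr hjk) hik b u
    rw [neg_neg] at h
    calc X * R.x j k u * X = R.x i k (b * u) * (R.x j k u * X) * X := by rw [hX, h]
      _ = R.x i k (b * u) * R.x j k u * (X * X) := by group
      _ = _ := by rw [hXX, mul_one]
  set c := X * g * X with hc
  have hXt : Commute X R.t := R.x_t _ _ _
  have hct : R.t * c * R.t = c * (R.x i k (b * u) * R.x j k u) := by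
    rw [hc, R.t_mul, R.t_mul, R.t_of_comm hXt, hu]
    calc X * (g * R.x j k u) * X = (X * g) * 1 * (R.x j k u * X) := by group
      _ = (X * g) * (X * X) * (R.x j k u * X) := by rw [hXX]
      _ = X * g * X * (X * R.x j k u * X) := by group
      _ = _ := by rw [hconj]
  -- commutation of `g`, `X`, `c` with `x_ik`
  have g_ik : ∀ s, Commute g (R.x i k s) := fun s => D.cX hjk hg n1 n2 n3' (ne_neg k) s
  have X_ik : ∀ s, Commute X (R.x i k s) := fun s =>
    R.x_comm (ne_neg i) (by rw [neg_neg]; exact n4) n2' (by rw [neg_neg]; exact n6.symm) _ _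
  have c_ik : ∀ s, Commute c (R.x i k s) := fun s => ((X_ik s).mul_left (g_ik s)).mul_left (X_ik s)
  have g_jk : ∀ s, Commute g (R.x j k s) := fun s => D.cX hjk hg (ne_neg j) n3 n3' (ne_neg k) s
  have ik_jk : ∀ s s', Commute (R.x i k s) (R.x j k s') := fun s s' => R.x_comm n1' n3 n2' (ne_neg k) _ _
  have c_jk : Commute c (R.x j k u) := by
    have h1 : Commute c (R.x i k (b * u) * R.x j k u) := by
      rw [← hconj]
      show (X * g * X) * (X * R.x j k u * X) = (X * R.x j k u * X) * (X * g * X)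
      calc (X * g * X) * (X * R.x j k u * X) = X * g * (X * X) * R.x j k u * X := by group
        _ = X * (g * R.x j k u) * X := by rw [hXX]; group
        _ = X * (R.x j k u * g) * X := by rw [(g_jk u).eq]
        _ = X * R.x j k u * 1 * g * X := by group
        _ = X * R.x j k u * (X * X) * g * X := by rw [hXX]
        _ = _ := by group
    have h2 : R.x j k u = (R.x i k (b * u))⁻¹ * (R.x i k (b * u) * R.x j k u) := by group
    rw [h2]
    exact ((c_ik _).inv_right).mul_right h1
  have hgc : R.t * (g⁻¹ * c) * R.t = g⁻¹ * c * R.x i k (b * u) := by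
    rw [R.t_mul, R.t_inv', hu, hct]
    calc (g * R.x j k u)⁻¹ * (c * (R.x i k (b * u) * R.x j k u))
        = (R.x j k u)⁻¹ * (g⁻¹ * c) * (R.x i k (b * u) * R.x j k u) := by group
      _ = (R.x j k u)⁻¹ * (g⁻¹ * c) * (R.x j k u * R.x i k (b * u)) := by rw [(ik_jk _ _).eq]
      _ = (R.x j k u)⁻¹ * ((g⁻¹ * c) * R.x j k u) * R.x i k (b * u) := by group
      _ = (R.x j k u)⁻¹ * (R.x j k u * (g⁻¹ * c)) * R.x i k (b * u) := by
          rw [((g_jk u).inv_left.mul_left c_jk).eq]
      _ = _ := by group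
  have m_ik : ∀ s, Commute m (R.x i k s) := fun s => D.comm i k hik m hm _ (D.x_mem i k s)
  set c' := m⁻¹ * (g⁻¹ * c) with hc'
  have htc' : Commute c' R.t := by
    apply R.comm_of_t
    rw [hc', R.t_mul, R.t_inv', hmu, hgc]
    calc (m * R.x i k (b * u))⁻¹ * (g⁻¹ * c * R.x i k (b * u))
        = (R.x i k (b * u))⁻¹ * ((m⁻¹ * (g⁻¹ * c)) * R.x i k (b * u)) := by group
      _ = (R.x i k (b * u))⁻¹ * (R.x i k (b * u) * (m⁻¹ * (g⁻¹ * c))) := by
          rw [((m_ik _).inv_left.mul_left ((g_ik _).inv_left.mul_left (c_ik _))).eq]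
      _ = _ := by group
  -- if `X z X = z * r` with `r` commuting with `g`, and `g` commutes with `z`, then `c` commutes with `z`
  have key : ∀ z r : G, X * z * X = z * r → Commute g z → Commute g r → Commute c z := by
    intro z r hz h1 h2
    have h3 : Commute g (X * z * X) := by rw [hz]; exact h1.mul_right h2
    show X * g * X * z = z * (X * g * X)
    calc X * g * X * z = X * (g * (X * z * X)) * X := by
          calc X * g * X * z = X * g * X * z * 1 := by group
            _ = X * g * X * z * (X * X) := by rw [hXX]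
            _ = _ := by group
      _ = X * ((X * z * X) * g) * X := by rw [h3.eq]
      _ = (X * X) * z * (X * g * X) := by group
      _ = _ := by rw [hXX, one_mul]
  have key' : ∀ z : G, Commute X z → Commute g z → Commute c z := fun z h1 h2 =>
    (h1.mul_left h2).mul_left h1
  have hcx : ∀ a d s, a ≠ neg i → a ≠ neg j → a ≠ neg k → d ≠ neg i → d ≠ neg j → d ≠ neg k →
      Commute c (R.x a d s) := by
    intro a d s a1 a2 a3 d1 d2 d3
    obtain ⟨e, p, he, h⟩ := R.conj_x hij b a1 d1 s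
    refine key _ _ h (D.cX hjk hg a2 a3 d2 d3 s) ?_
    rcases he with rfl | rfl
    · exact D.cX hjk hg n1 n2 a2 a3 _
    · exact D.cX hjk hg n1 n2 d2 d3 _
  have hcy : ∀ a s, a ≠ neg i → a ≠ neg j → a ≠ neg k → Commute c (R.y a s) := by
    intro a s a1 a2 a3
    obtain ⟨p, q, h⟩ := R.conj_y hij b a1 s
    exact key _ _ h (D.cy j k hjk g hg a s a2 a3)
      ((D.cX hjk hg n1 n2 a2 a3 _).mul_right (D.cy j k hjk g hg i q n1 n2))
  have A1 : ∀ a d s, a ≠ neg k → a ≠ neg j → a ≠ neg i → d ≠ neg k → d ≠ neg j → d ≠ neg i →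
      Commute c' (R.x a d s) := by
    intro a d s a1 a2 a3 d1 d2 d3
    exact ((D.cX hik hm a3 a1 d3 d1 s).inv_left).mul_left
      (((D.cX hjk hg a2 a1 d2 d1 s).inv_left).mul_left (hcx a d s a3 a2 a1 d3 d2 d1))
  have A2 : ∀ a s, a ≠ neg k → a ≠ neg j → a ≠ neg i → Commute c' (R.y a s) := by
    intro a s a1 a2 a3
    exact (Commute.inv_left (D.cy i k hik m hm a s a3 a1)).mul_left
      ((Commute.inv_left (D.cy j k hjk g hg a s a2 a1)).mul_left (hcy a s a3 a2 a1))
  have A3 : ∀ lam, ev lam k * ev lam j = 1 → ev lam k * ev lam i = 1 → Commute c' (R.h lam) := by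
    intro lam l1 l2
    have l3 : ev lam i * ev lam (neg j) = 1 := by
      rw [ev_neg]
      have e1 : ev lam j = ev lam i := mul_left_cancel (l1.trans l2.symm)
      rw [e1, mul_inv_cancel]
    have hX' : Commute X (R.h lam) := by
      have h := R.h_x lam i (neg j) b
      rw [← Units.val_mul, l3, Units.val_one, one_mul, mul_inv_eq_iff_eq_mul] at h
      exact h.symm
    have hg' : Commute g (R.h lam) := Commute.symm (D.torus_one j k hjk g hg lam (by rw [mul_comm]; exact l1))
    have hm' : Commute m (R.h lam) := Commute.symm (D.torus_one i k hik m hm lam (by rw [mul_comm]; exact l2))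
    exact (hm'.inv_left).mul_left ((hg'.inv_left).mul_left ((hX'.mul_left hg').mul_left hX'))
  obtain ⟨e, f, f', he, hef⟩ := hK.k60 k j i hjk.symm hik.symm hij.symm c' htc' A1 A2 A3
  refine ⟨m * R.x i k f', mul_mem hm (D.x_mem i k f'), e, f, he, ?_⟩
  have h1 : g⁻¹ * c = m * c' := by rw [hc']; group
  have h2 : Commute (e * R.x j k f) (R.x i k f') := by
    refine Commute.mul_left ?_ (ik_jk _ _).symm
    rcases he with rfl | rfl
    · exact Commute.one_left _
    · exact (R.x_t _ _ _).symm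
  rw [h1, hef, R.x_symm k j, R.x_symm k i]
  calc m * (e * R.x j k f * R.x i k f') = m * ((e * R.x j k f) * R.x i k f') := by group
    _ = m * (R.x i k f' * (e * R.x j k f)) := by rw [h2.eq]
    _ = _ := by group

/-- **(6.1a)** conjugation by a root element at 120 degrees -/
theorem conj_mem (hF : ∃ μ : Fˣ, (μ : F) ≠ 1) {i j k : Ix n} (hK : KS R) (hij : Dj i j) (hik : Dj i k)
    (hjk : Dj j k) {g : G} (hg : g ∈ D.W j k) (b : F) :
    g⁻¹ * (R.x i (neg j) b * g * R.x i (neg j) b) ∈ D.W i k := by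
  obtain ⟨μ, hμ⟩ := hF
  have hμ1 : (1 : F) + μ ≠ 0 := by
    intro h
    apply hμ
    have : (μ : F) = -1 := by linear_combination h
    rw [this, CharTwo.neg_eq]
  obtain ⟨m, hm, e, f, he, hb⟩ := D.step hK hij hik hjk hg ((1 + (μ : F))⁻¹ * b)
  obtain ⟨lam, l1, l2⟩ := exists_lam i μ
  set b0 := (1 + (μ : F))⁻¹ * b with hb0
  have hbb : b = μ * b0 + b0 := by
    rw [hb0]; field_simp; ring
  set X0 := R.x i (neg j) b0 with hX0
  set X1 := R.x i (neg j) (μ * b0) with hX1
  have hX : R.x i (neg j) b = X1 * X0 := by rw [hX1, hX0, ← R.x_add, ← hbb]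
  have hX' : R.x i (neg j) b = X0 * X1 := by rw [hX1, hX0, ← R.x_add, add_comm, ← hbb]
  have n1 : i ≠ neg j := hij.2
  have n2 : i ≠ neg k := hik.2
  have n3 : j ≠ neg k := hjk.2
  have n4 : i ≠ j := hij.1
  have n6 : j ≠ k := hjk.1
  have n1' : j ≠ neg i := hij.symm.2
  have n2' : k ≠ neg i := hik.symm.2
  have n3' : k ≠ neg j := hjk.symm.2
  have lj : ev lam j = 1 := l2 j hij
  have lk : ev lam k = 1 := l2 k hik
  set H := R.h lam with hH
  have Hg : Commute H g := D.torus_one j k hjk g hg lam (by rw [lj, lk, one_mul])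
  have HX : H * X0 * H⁻¹ = X1 := by
    rw [hH, hX0, R.h_x, ev_neg, lj, inv_one, l1, Units.val_one, mul_one]
  set s := e * R.x j k f with hs
  have Hs : Commute H s := by
    refine Commute.mul_right ?_ ?_
    · rcases he with rfl | rfl
      · exact Commute.one_right _
      · exact R.h_t _
    · have h := R.h_x lam j k f
      rw [lj, lk, Units.val_one, one_mul, one_mul, mul_inv_eq_iff_eq_mul] at h
      exact h
  have h0 : X0 * g * X0 = g * (m * s) := by rw [← hb]; group
  have h1 : X1 * g * X1 = g * (H * m * H⁻¹ * s) := by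
    calc X1 * g * X1 = (H * X0 * H⁻¹) * g * (H * X0 * H⁻¹) := by rw [HX]
      _ = H * X0 * H⁻¹ * (g * H) * X0 * H⁻¹ := by group
      _ = H * X0 * H⁻¹ * (H * g) * X0 * H⁻¹ := by rw [Hg.eq]
      _ = H * (X0 * g * X0) * H⁻¹ := by group
      _ = H * (g * (m * s)) * H⁻¹ := by rw [h0]
      _ = (H * g) * m * s * H⁻¹ := by group
      _ = g * H * m * s * H⁻¹ := by rw [Hg.eq]
      _ = g * H * m * H⁻¹ * (H * s) * H⁻¹ := by group
      _ = g * H * m * H⁻¹ * (s * H) * H⁻¹ := by rw [Hs.eq]
      _ = _ := by group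
  have X1m : Commute X1 m := (D.cX hik hm (ne_neg i) n2 (fun h => n4 (neg_inj.mp h).symm)
    (fun h => n6 (neg_inj.mp h)) _).symm
  obtain ⟨p, hp⟩ : ∃ p, X1 * s * X1 = s * R.x i k p := by
    have h2 := R.x_rel (i := i) (j := neg j) (k := k) (dj_neg_right.mpr hij) (dj_neg_left.mpr hjk) hik
      (μ * b0) f
    rw [neg_neg] at h2
    have hc : Commute (R.x i k (μ * b0 * f)) (R.x j k f) := R.x_comm n1' n3 n2' (ne_neg k) _ _
    refine ⟨μ * b0 * f, ?_⟩
    have Xe : Commute X1 e := by
      rcases he with rfl | rfl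
      · exact Commute.one_right _
      · exact R.x_t _ _ _
    calc X1 * (e * R.x j k f) * X1 = (X1 * e) * R.x j k f * X1 := by group
      _ = e * (X1 * R.x j k f) * X1 := by rw [Xe.eq]; group
      _ = e * (R.x i k (μ * b0 * f) * R.x j k f) * (X1 * X1) := by rw [hX1, h2]; group
      _ = e * (R.x j k f * R.x i k (μ * b0 * f)) := by rw [hX1, R.x_sq, mul_one, hc.eq]
      _ = s * R.x i k (μ * b0 * f) := by rw [hs, mul_assoc e]
  have hfin : g⁻¹ * (R.x i (neg j) b * g * R.x i (neg j) b) = H * m * H⁻¹ * (s * m * s) * R.x i k p := by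
    have hX11 : X1 * X1 = 1 := R.x_sq _ _ _
    calc g⁻¹ * (R.x i (neg j) b * g * R.x i (neg j) b)
        = g⁻¹ * ((X1 * X0) * g * (X0 * X1)) := by rw [← hX, ← hX', hX]
      _ = g⁻¹ * (X1 * (X0 * g * X0) * X1) := by group
      _ = g⁻¹ * (X1 * (g * (m * s)) * X1) := by rw [h0]
      _ = g⁻¹ * (X1 * g * 1 * m * s * X1) := by group
      _ = g⁻¹ * (X1 * g * (X1 * X1) * m * s * X1) := by rw [hX11]
      _ = g⁻¹ * ((X1 * g * X1) * (X1 * m) * s * X1) := by group
      _ = g⁻¹ * ((X1 * g * X1) * (m * X1) * s * X1) := by rw [X1m.eq]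
      _ = g⁻¹ * (X1 * g * X1) * m * (X1 * s * X1) := by group
      _ = g⁻¹ * (g * (H * m * H⁻¹ * s)) * m * (s * R.x i k p) := by rw [h1, hp]
      _ = _ := by group
  rw [hfin]
  have hxm : Commute (R.x j k f) m := (D.cX hik hm n1' n3 n2' (ne_neg k) f).symm
  have hsms : s * m * s ∈ D.W i k := by
    have e1 : s * m * s = e * m * e := by
      rw [hs]
      have xe : Commute (R.x j k f) e := by
        rcases he with rfl | rfl
        · exact Commute.one_right _
        · exact R.x_t _ _ _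
      calc e * R.x j k f * m * (e * R.x j k f) = e * (R.x j k f * m) * (e * R.x j k f) := by group
        _ = e * m * (R.x j k f * e) * R.x j k f := by rw [hxm.eq]; group
        _ = e * m * e * (R.x j k f * R.x j k f) := by rw [xe.eq]; group
        _ = _ := by rw [R.x_sq, mul_one]
    rw [e1]
    rcases he with rfl | rfl
    · rw [one_mul, mul_one]; exact hm
    · exact D.t_mem hik hm
  exact mul_mem (mul_mem (D.torus i k hik m hm lam) hsms) (D.x_mem i k p)

/-- elements of the same height differ by an element of `X_ij` -/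
theorem eq_mul_x {i j : Ix n} (hij : Dj i j) {g g' : G} (hg : g ∈ D.W i j) (hg' : g' ∈ D.W i j) {u : F}
    (h : R.t * g * R.t = g * R.x i j u) (h' : R.t * g' * R.t = g' * R.x i j u) :
    ∃ a, g' = g * R.x i j a := by
  have h1 : g⁻¹ * g' ∈ D.W i j := mul_mem (inv_mem hg) hg'
  obtain ⟨a, ha⟩ := D.ker i j hij _ h1 (by
    rw [R.t_mul, R.t_inv', h, h']
    calc (g * R.x i j u)⁻¹ * (g' * R.x i j u) = (R.x i j u)⁻¹ * ((g⁻¹ * g') * R.x i j u) := by group
      _ = (R.x i j u)⁻¹ * (R.x i j u * (g⁻¹ * g')) := by rw [D.comm i j hij _ h1 _ (D.x_mem i j u)]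
      _ = g⁻¹ * g' := by group)
  exact ⟨a, by rw [← ha]; group⟩

/-- **(6.1b)** `W_ik` is elementary -/
theorem sq (hF : ∃ μ : Fˣ, (μ : F) ≠ 1) {i j k : Ix n} (hK : KS R) (hij : Dj i j) (hik : Dj i k)
    (hjk : Dj j k) {g : G} (hg : g ∈ D.W i k) : g * g = 1 := by
  have n1 : i ≠ neg j := hij.2
  have n2 : i ≠ neg k := hik.2
  have n3 : j ≠ neg k := hjk.2
  have n4 : i ≠ j := hij.1
  have n6 : j ≠ k := hjk.1
  have n1' : j ≠ neg i := hij.symm.2
  have n2' : k ≠ neg i := hik.symm.2
  obtain ⟨g0, hg0, h0⟩ := D.onto j k hjk 1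
  let m : F → G := fun b => g0⁻¹ * (R.x i (neg j) b * g0 * R.x i (neg j) b)
  have hm : ∀ b, m b ∈ D.W i k := fun b => D.conj_mem hF hK hij hik hjk hg0 b
  have hXm : ∀ b b', Commute (R.x i (neg j) b) (m b') := fun b b' =>
    (D.cX hik (hm b') (ne_neg i) n2 (fun h => n4 (neg_inj.mp h).symm) (fun h => n6 (neg_inj.mp h)) _).symm
  have hX : ∀ b, R.x i (neg j) b * g0 * R.x i (neg j) b = g0 * m b := fun b => by
    show _ = g0 * (g0⁻¹ * _); group
  have hadd : ∀ b b', m (b + b') = m b * m b' := by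
    intro b b'
    show g0⁻¹ * (R.x i (neg j) (b + b') * g0 * R.x i (neg j) (b + b')) = m b * m b'
    calc g0⁻¹ * (R.x i (neg j) (b + b') * g0 * R.x i (neg j) (b + b'))
        = g0⁻¹ * ((R.x i (neg j) b * R.x i (neg j) b') * g0 * (R.x i (neg j) b' * R.x i (neg j) b)) := by
          rw [← R.x_add, ← R.x_add, add_comm b' b]
      _ = g0⁻¹ * (R.x i (neg j) b * (R.x i (neg j) b' * g0 * R.x i (neg j) b') * R.x i (neg j) b) := by group
      _ = g0⁻¹ * (R.x i (neg j) b * g0 * (m b' * R.x i (neg j) b)) := by rw [hX b']; group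
      _ = g0⁻¹ * (R.x i (neg j) b * g0 * R.x i (neg j) b * m b') := by rw [← (hXm b b').eq]; group
      _ = m b * m b' := by rw [hX b]; group
  have hsq : ∀ b, m b * m b = 1 := by
    intro b
    rw [← hadd, CharTwo.add_self_eq_zero]
    show g0⁻¹ * (R.x i (neg j) 0 * g0 * R.x i (neg j) 0) = 1
    rw [R.x_zero]; group
  have hht : ∀ b, R.t * m b * R.t = m b * R.x i k b := by
    intro b
    have hXt : Commute (R.x i (neg j) b) R.t := R.x_t _ _ _
    have hXX := R.x_sq i (neg j) b
    have hconj : R.x i (neg j) b * R.x j k 1 * R.x i (neg j) b = R.x i k b * R.x j k 1 := by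
      have h := R.x_rel (i := i) (j := neg j) (k := k) (dj_neg_right.mpr hij) (dj_neg_left.mpr hjk) hik b 1
      rw [neg_neg, mul_one] at h
      calc R.x i (neg j) b * R.x j k 1 * R.x i (neg j) b
          = R.x i k b * R.x j k 1 * (R.x i (neg j) b * R.x i (neg j) b) := by rw [h]; group
        _ = _ := by rw [hXX, mul_one]
    have c1 : Commute (R.x j k 1) (m b) := (D.cX hik (hm b) n1' n3 n2' (ne_neg k) 1).symm
    have c2 : Commute (R.x i k b) (R.x j k 1) := R.x_comm n1' n3 n2' (ne_neg k) _ _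
    show R.t * (g0⁻¹ * (R.x i (neg j) b * g0 * R.x i (neg j) b)) * R.t = m b * R.x i k b
    rw [R.t_mul, R.t_inv', R.t_mul, R.t_mul, R.t_of_comm hXt, h0]
    calc (g0 * R.x j k 1)⁻¹ * (R.x i (neg j) b * (g0 * R.x j k 1) * R.x i (neg j) b)
        = (R.x j k 1)⁻¹ * (g0⁻¹ * (R.x i (neg j) b * g0 * 1 * R.x j k 1 * R.x i (neg j) b)) := by group
      _ = (R.x j k 1)⁻¹ * (g0⁻¹ * (R.x i (neg j) b * g0 * (R.x i (neg j) b * R.x i (neg j) b) *
            R.x j k 1 * R.x i (neg j) b)) := by rw [hXX]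
      _ = (R.x j k 1)⁻¹ * (m b * (R.x i (neg j) b * R.x j k 1 * R.x i (neg j) b)) := by
          show _ = (R.x j k 1)⁻¹ * ((g0⁻¹ * (R.x i (neg j) b * g0 * R.x i (neg j) b)) * _); group
      _ = (R.x j k 1)⁻¹ * (m b * (R.x j k 1 * R.x i k b)) := by rw [hconj, c2.eq]
      _ = (R.x j k 1)⁻¹ * (m b * R.x j k 1) * R.x i k b := by group
      _ = (R.x j k 1)⁻¹ * (R.x j k 1 * m b) * R.x i k b := by rw [c1.eq]
      _ = _ := by group
  obtain ⟨u, hu⟩ := D.ht i k hik g hg
  obtain ⟨a, rfl⟩ := D.eq_mul_x hik (hm u) hg (hht u) hu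
  have c3 : Commute (m u) (R.x i k a) := D.comm i k hik _ (hm u) _ (D.x_mem i k a)
  calc m u * R.x i k a * (m u * R.x i k a) = m u * (R.x i k a * m u) * R.x i k a := by group
    _ = m u * (m u * R.x i k a) * R.x i k a := by rw [c3.eq]
    _ = (m u * m u) * (R.x i k a * R.x i k a) := by group
    _ = 1 := by rw [hsq, R.x_sq, one_mul]

end DS

end Cfsg.Agent.OddHalf.SpN
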