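import Cfsg.Agent.OddHalf.SpN.WInst
import Cfsg.Agent.OddHalf.SpN.TUCent

/-!
# ODD D7, `K = Sp_2n(q)`, `q > 2`: section 3, tools (helper297)

* `const_zero` : an additive `f : F → F` with `f (μ v) = f v` is 0;
* `Sg` : the Siegel radical in entries, `Sg.ent_mul` : entries add;
* `R.no_t` : an equivariant homomorphism `F → T₁` has values in `K`.
-/

set_option autoImplicit false

namespace Cfsg.Agent.OddHalf.SpN

open Cfsg Cfsg.Agent.ClassicalGeometry.SympBasic Cfsg.Agent.ClassicalGeometry.SympAutSemi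
open scoped Matrix commutatorElement
open WExist Subgroup TU

variable {n : ℕ} {F : Type*} [Field F]

/-- an additive function invariant under `F*` is zero -/
theorem const_zero [CharP F 2] (hq : ∃ c : F, c ≠ 0 ∧ c ≠ 1) {f : F → F} (hadd : ∀ u v, f (u + v) = f u + f v)
    (h : ∀ μ v, μ ≠ 0 → f (μ * v) = f v) : ∀ v, f v = 0 := by
  intro v
  obtain ⟨c, c0, c1⟩ := hq
  have hc : 1 + c ≠ 0 := fun e => c1 (by
    have := CharTwo.add_self_eq_zero (1 : F)
    calc c = (1 + 1) + c := by rw [this, zero_add]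
      _ = 1 + (1 + c) := by ring
      _ = 1 := by rw [e, add_zero])
  have h1 := h (1 + c) v hc
  have h2 : (1 + c) * v = v + c * v := by ring
  rw [h2, hadd, h c v c0, CharTwo.add_self_eq_zero] at h1
  exact h1.symm

/-- the Siegel radical -/
def Sg (A : Sy n F) : Prop := ∀ l k, ¬ (pos l < n ∧ n ≤ pos k) → ent A l k = if l = k then 1 else 0

section c2

variable [CharP F 2]

omit [CharP F 2] in
theorem Sg.ent_mul {A B : Sy n F} (hA : Sg A) (hB : Sg B) {l k : Ix n} (hl : pos l < n) (hk : n ≤ pos k) :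
    ent (A * B) l k = ent A l k + ent B l k := by
  have hlk : l ≠ k := by rintro rfl; omega
  rw [TU.ent_mul]
  have h1 : ∀ m, ent A l m * ent B m k = (if m = l then ent B l k else 0) + (if m = k then ent A l k else 0) := by
    intro m
    rcases lt_or_ge (pos m) n with hm | hm
    · have hmk : m ≠ k := by rintro rfl; omega
      rw [hA l m (by omega), if_neg hmk, add_zero]
      by_cases e : m = l
      · subst e; rw [if_pos rfl, if_pos rfl, one_mul]
      · rw [if_neg (fun e' => e e'.symm), if_neg e, zero_mul]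
    · have hml : m ≠ l := by rintro rfl; omega
      rw [hB m k (by omega), if_neg hml, zero_add]
      by_cases e : m = k
      · subst e; rw [if_pos rfl, if_pos rfl, mul_one]
      · rw [if_neg e, if_neg e, mul_zero]
  rw [Finset.sum_congr rfl fun m _ => h1 m, Finset.sum_add_distrib, Finset.sum_ite_eq', Finset.sum_ite_eq',
    if_pos (Finset.mem_univ _), if_pos (Finset.mem_univ _), add_comm]

omit [CharP F 2] in
theorem Sg.mul {A B : Sy n F} (hA : Sg A) (hB : Sg B) : Sg (A * B) := by
  intro l k h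
  rw [TU.ent_mul]
  rcases lt_or_ge (pos l) n with hl | hl
  · have hk : pos k < n := by
      by_contra hk
      exact h ⟨hl, by omega⟩
    rw [Finset.sum_eq_single k]
    · rw [hA l k h, hB k k (by omega), if_pos rfl, mul_one]
    · intro m _ hm
      rw [hB m k (by omega), if_neg hm, mul_zero]
    · intro h; exact absurd (Finset.mem_univ _) h
  · rw [Finset.sum_eq_single l]
    · rw [hA l l (by omega), hB l k h, if_pos rfl, one_mul]
    · intro m _ hm
      rw [hA l m (by omega), if_neg (fun e => hm e.symm), zero_mul]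
    · intro h; exact absurd (Finset.mem_univ _) h

theorem Sg_sy {i : Ix n} (hi : pos i < n) (a : F) : Sg (sy i a) := by
  intro l k h
  have h1 : ¬ (l = i ∧ k = neg i) := by
    rintro ⟨rfl, rfl⟩
    apply h
    rw [pos_neg]; omega
  rw [ent_sy, if_neg h1, add_zero]

theorem Sg_sx {i j : Ix n} (hi : pos i < n) (hj : pos j < n) (a : F) : Sg (sx i j a) := by
  by_cases hd : Dj i j
  · intro l k h
    have h1 : ¬ (l = i ∧ k = neg j) := by
      rintro ⟨rfl, rfl⟩
      apply h
      rw [pos_neg]; omega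
    have h2 : ¬ (l = j ∧ k = neg i) := by
      rintro ⟨rfl, rfl⟩
      apply h
      rw [pos_neg]; omega
    rw [ent_sx hd, if_neg h1, if_neg h2, add_zero, add_zero]
  · rw [sx_of_not hd]
    intro l k _
    exact ent_one l k

omit [CharP F 2] in
theorem ent_conj_sh (lam : Fin n → Fˣ) (A : Sy n F) (l k : Ix n) :
    ent (sh lam * A * (sh lam)⁻¹) l (neg k) = ev lam l * ev lam k * ent A l (neg k) := by
  rw [← map_inv, ent_mul_sh, ent_sh_mul]
  have e : ev lam⁻¹ (neg k) = ev lam k := by
    rw [ev_neg]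
    have : ev lam⁻¹ k = (ev lam k)⁻¹ := map_inv (evM k) lam
    rw [this, inv_inv]
  rw [e]; ring

end c2

namespace Frame

variable {G : Type*} [Group G] (R : Frame n F G) [CharP F 2]

/-- an equivariant homomorphism `F → T₁` has values in `K` -/
theorem no_t (hq : ∃ c : F, c ≠ 0 ∧ c ≠ 1) {e : F → G} (hadd : ∀ u v, e (u + v) = e u * e v)
    (heq : ∀ μ : F, μ ≠ 0 → ∃ lam, ∀ v, R.h lam * e v * (R.h lam)⁻¹ = e (μ * v)) (hT : ∀ v, e v ∈ R.T1) :
    ∃ E : F → Sy n F, (∀ v, e v = R.ι (E v)) ∧ (∀ v, E v ∈ Uu n F) ∧ (∀ u v, E (u + v) = E u * E v) ∧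
      ∀ (lam : Fin n → Fˣ) (v μ : F), R.h lam * e v * (R.h lam)⁻¹ = e (μ * v) →
        sh lam * E v * (sh lam)⁻¹ = E (μ * v) := by
  have key : ∀ v, ∀ A, e v ≠ R.t * R.ι A := by
    intro v A hA
    have h1 : ∀ μ : F, μ ≠ 0 → ∃ B, e (μ * v) = R.t * R.ι B := by
      intro μ hμ
      obtain ⟨lam, hlam⟩ := heq μ hμ
      refine ⟨sh lam * A * (sh lam)⁻¹, ?_⟩
      rw [← hlam, hA, map_mul, map_mul, map_inv]
      have e1 := (R.h_t lam).eq
      calc R.h lam * (R.t * R.ι A) * (R.h lam)⁻¹ = (R.h lam * R.t) * R.ι A * (R.h lam)⁻¹ := by group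
        _ = R.t * (R.h lam * R.ι A * (R.h lam)⁻¹) := by rw [e1]; group
    obtain ⟨c, c0, c1⟩ := hq
    have hc : 1 + c ≠ 0 := fun e => c1 (by
      have := CharTwo.add_self_eq_zero (1 : F)
      calc c = (1 + 1) + c := by rw [this, zero_add]
        _ = 1 + (1 + c) := by ring
        _ = 1 := by rw [e, add_zero])
    obtain ⟨B, hB⟩ := h1 c c0
    obtain ⟨C, hC⟩ := h1 (1 + c) hc
    have h2 : (1 + c) * v = v + c * v := by ring
    rw [h2, hadd, hA, hB] at hC
    have e1 := (R.comm A).eq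
    have h3 : R.t * R.ι A * (R.t * R.ι B) = R.ι (A * B) := by
      rw [map_mul]
      calc R.t * R.ι A * (R.t * R.ι B) = R.t * (R.ι A * R.t) * R.ι B := by group
        _ = (R.t * R.t) * (R.ι A * R.ι B) := by rw [e1]; group
        _ = _ := by rw [R.tt, one_mul]
    rw [h3] at hC
    apply R.tK (A * B * C⁻¹)
    rw [map_mul, map_inv, hC]; group
  have h1 : ∀ v, ∃ A ∈ Uu n F, e v = R.ι A := by
    intro v
    obtain ⟨A, hA, h | h⟩ := hT v
    · exact ⟨A, hA, h⟩
    · exact absurd h (key v A)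
  choose E hE hE' using h1
  refine ⟨E, hE', hE, fun u v => ?_, fun lam v μ h => ?_⟩
  · apply R.inj
    rw [map_mul, ← hE', ← hE', ← hE', hadd]
  · apply R.inj
    rw [map_mul, map_mul, map_inv, ← hE', ← hE']
    exact h

end Frame

end Cfsg.Agent.OddHalf.SpN
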