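import Mathlib

/-!
# ODD D7, `K = Sp_2n(q)`: the double of a root group (section 2 of `blueprints/ODD-D7-Sp-helper297.md`)

`Loc t x h χ` : `x : F → G` a root group commuting with the involution `t`, `h : A → G` a torus acting on it with the
character `χ`; `F1c`: `C(t) ∩ C(h(ker χ)) ∩ C(X) = ⟨t⟩ X h(ker χ)`; `mv`: every `t x(u)` is a conjugate of `t` under
`C(h(ker χ)) ∩ C(X)`.

`Dbl t x h χ` is the (canonical) double of `X`: `Loc.exists_w` gives coordinates `w : F → G`.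
-/

set_option autoImplicit false

namespace Cfsg.Agent.OddHalf.SpN.WExist

open Subgroup

variable {F : Type*} [Field F] {G : Type*} [Group G] {A : Type*} [CommGroup A]

/-- the data of a root group -/
structure Loc (t : G) (x : F → G) (h : A →* G) (χ : A →* Fˣ) : Prop where
  two : ∀ a : F, a + a = 0
  tt : t * t = 1
  x_add : ∀ u v, x (u + v) = x u * x v
  x_one : ∀ u, x u = 1 → u = 0
  tx : ∀ u, Commute t (x u)
  ne : ∀ u, x u ≠ t
  ht : ∀ a, Commute (h a) t
  hx : ∀ a u, h a * x u * (h a)⁻¹ = x (χ a * u)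
  surj : Function.Surjective χ
  big : ∃ c : F, c ≠ 0 ∧ c ≠ 1
  exp : ∃ N : ℕ, Odd N ∧ ∀ a, h a ^ N = 1
  F1c : ∀ g, Commute g t → (∀ a, χ a = 1 → Commute g (h a)) → (∀ u, Commute g (x u)) →
    ∃ u a, χ a = 1 ∧ (g = x u * h a ∨ g = t * (x u * h a))
  mv : ∀ u, ∃ g, (∀ a, χ a = 1 → Commute g (h a)) ∧ (∀ v, Commute g (x v)) ∧ g * t * g⁻¹ = t * x u

/-- `C(X) ∩ C(ker χ)`, moving `t` to `t x(u)` -/
def Mv (t : G) (x : F → G) (h : A →* G) (χ : A →* Fˣ) (g : G) (u : F) : Prop :=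
  (∀ a, χ a = 1 → Commute g (h a)) ∧ (∀ v, Commute g (x v)) ∧ g * t * g⁻¹ = t * x u

/-- the 2-elements -/
def Bs (t : G) (x : F → G) (h : A →* G) (χ : A →* Fˣ) (b : G) (u : F) : Prop :=
  Mv t x h χ b u ∧ ∃ v, b * b = x v

/-- the double of `X` -/
def Dbl (t : G) (x : F → G) (h : A →* G) (χ : A →* Fˣ) : Subgroup G :=
  closure ({g | ∃ u, g = x u} ∪ {g | ∃ b u, Bs t x h χ b u ∧ ∃ a, g = b⁻¹ * (h a * b * (h a)⁻¹)})

namespace Loc

variable {t : G} {x : F → G} {h : A →* G} {χ : A →* Fˣ}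

theorem x_zero (L : Loc t x h χ) : x 0 = 1 := by
  have := L.x_add 0 0
  rw [add_zero] at this
  exact left_eq_mul.1 this

theorem x_sq (L : Loc t x h χ) (a : F) : x a * x a = 1 := by
  rw [← L.x_add, L.two, L.x_zero]

theorem x_inv (L : Loc t x h χ) (a : F) : (x a)⁻¹ = x a :=
  inv_eq_of_mul_eq_one_left (L.x_sq a)

theorem t_inv (L : Loc t x h χ) : t⁻¹ = t := inv_eq_of_mul_eq_one_left L.tt

theorem x_inj (L : Loc t x h χ) {a b : F} (e : x a = x b) : a = b := by
  have h2 : x (a + b) = 1 := by rw [L.x_add, e, L.x_sq]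
  have h3 := L.x_one _ h2
  calc a = a + (b + b) := by rw [L.two, add_zero]
    _ = (a + b) + b := by ring
    _ = b := by rw [h3, zero_add]

theorem xx (L : Loc t x h χ) (a b : F) : Commute (x a) (x b) := by
  show x a * x b = x b * x a
  rw [← L.x_add, ← L.x_add, add_comm]

/-- odd order elements -/
theorem h_one_of_sq (L : Loc t x h χ) {a : A} (e : h a * h a = 1) : h a = 1 := by
  obtain ⟨N, ⟨k, hk⟩, hN⟩ := L.exp
  have h1 := hN a
  rw [hk, pow_succ, pow_mul, pow_two, e, one_pow, one_mul] at h1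
  exact h1

theorem h_one_of_x (L : Loc t x h χ) {a : A} {u : F} (e : h a * h a = x u) : h a = 1 := by
  apply L.h_one_of_sq
  have h1 : h (a * a) = 1 := by
    apply L.h_one_of_sq
    rw [map_mul, e, L.x_sq]
  rwa [map_mul] at h1

theorem mv_unique (L : Loc t x h χ) {g : G} {u v : F} (h1 : Mv t x h χ g u) (h2 : Mv t x h χ g v) : u = v := by
  have := h1.2.2.symm.trans h2.2.2
  exact L.x_inj (mul_left_cancel this)

theorem mv_one (L : Loc t x h χ) : Mv t x h χ 1 0 :=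
  ⟨fun _ _ => Commute.one_left _, fun _ => Commute.one_left _, by rw [L.x_zero]; group⟩

theorem mv_mul (L : Loc t x h χ) {g g' : G} {u v : F} (h1 : Mv t x h χ g u) (h2 : Mv t x h χ g' v) :
    Mv t x h χ (g * g') (u + v) := by
  refine ⟨fun a ha => (h1.1 a ha).mul_left (h2.1 a ha), fun w => (h1.2.1 w).mul_left (h2.2.1 w), ?_⟩
  calc g * g' * t * (g * g')⁻¹ = g * (g' * t * g'⁻¹) * g⁻¹ := by group
    _ = g * (t * x v) * g⁻¹ := by rw [h2.2.2]
    _ = (g * t * g⁻¹) * (g * x v * g⁻¹) := by group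
    _ = t * x u * x v := by rw [h1.2.2, (h1.2.1 v).eq]; group
    _ = t * x (u + v) := by rw [L.x_add, mul_assoc]

theorem mv_inv (L : Loc t x h χ) {g : G} {u : F} (h1 : Mv t x h χ g u) : Mv t x h χ g⁻¹ u := by
  refine ⟨fun a ha => (h1.1 a ha).inv_left, fun w => (h1.2.1 w).inv_left, ?_⟩
  have e := h1.2.2
  have e2 : t = g⁻¹ * (t * x u) * g := by rw [← e]; group
  have e3 : g⁻¹ * x u * g = x u := by rw [mul_assoc, ← (h1.2.1 u).eq]; group
  calc g⁻¹ * t * g⁻¹⁻¹ = g⁻¹ * (t * x u) * g * (g⁻¹ * x u * g)⁻¹ := by group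
    _ = t * (x u)⁻¹ := by rw [e3, ← e2]
    _ = t * x u := by rw [L.x_inv]

theorem mv_h (L : Loc t x h χ) {g : G} {u : F} (h1 : Mv t x h χ g u) (a : A) :
    Mv t x h χ (h a * g * (h a)⁻¹) (χ a * u) := by
  have hh : ∀ a b : A, Commute (h a) (h b) := fun a b => by
    show h a * h b = h b * h a
    rw [← map_mul, ← map_mul, mul_comm]
  refine ⟨fun b hb => ?_, fun w => ?_, ?_⟩
  · exact ((hh a b).mul_left (h1.1 b hb)).mul_left (hh a b).inv_left
  · have e := L.hx a⁻¹ w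
    rw [map_inv, inv_inv] at e
    have e2 := (h1.2.1 (((χ a⁻¹ : Fˣ) : F) * w)).eq
    show h a * g * (h a)⁻¹ * x w = x w * (h a * g * (h a)⁻¹)
    calc h a * g * (h a)⁻¹ * x w = h a * (g * ((h a)⁻¹ * x w * h a)) * (h a)⁻¹ := by group
      _ = h a * (((h a)⁻¹ * x w * h a) * g) * (h a)⁻¹ := by rw [e, e2]
      _ = x w * (h a * g * (h a)⁻¹) := by group
  · have e := (L.ht a).eq
    calc h a * g * (h a)⁻¹ * t * (h a * g * (h a)⁻¹)⁻¹ = h a * g * ((h a)⁻¹ * t * h a) * g⁻¹ * (h a)⁻¹ := by group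
      _ = h a * g * t * g⁻¹ * (h a)⁻¹ := by
        have : (h a)⁻¹ * t * h a = t := by rw [mul_assoc, ← e]; group
        rw [this]
      _ = h a * (g * t * g⁻¹) * (h a)⁻¹ := by group
      _ = (h a * t) * x u * (h a)⁻¹ := by rw [h1.2.2]; group
      _ = t * (h a * x u * (h a)⁻¹) := by rw [e]; group
      _ = t * x (χ a * u) := by rw [L.hx]

theorem mv_x (L : Loc t x h χ) (v : F) : Mv t x h χ (x v) 0 := by
  refine ⟨fun a ha => ?_, fun w => L.xx v w, ?_⟩
  · have := L.hx a v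
    rw [ha, Units.val_one, one_mul] at this
    show x v * h a = h a * x v
    calc x v * h a = (h a * x v * (h a)⁻¹) * h a := by rw [this]
      _ = h a * x v := by group
  · rw [L.x_zero, mul_one, ← (L.tx v).eq]; group

theorem mv_t (L : Loc t x h χ) : Mv t x h χ t 0 := by
  refine ⟨fun a _ => (L.ht a).symm, fun w => L.tx w, ?_⟩
  rw [L.x_zero]; group

theorem mv_ha (L : Loc t x h χ) {a : A} (ha : χ a = 1) : Mv t x h χ (h a) 0 := by
  refine ⟨fun b _ => ?_, fun w => ?_, ?_⟩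
  · show h a * h b = h b * h a
    rw [← map_mul, ← map_mul, mul_comm]
  · exact ((L.mv_x w).1 a ha).symm
  · rw [L.x_zero, mul_one, (L.ht a).eq]; group

/-- the kernel -/
theorem mv_zero (L : Loc t x h χ) {g : G} (h1 : Mv t x h χ g 0) :
    ∃ u a, χ a = 1 ∧ (g = x u * h a ∨ g = t * (x u * h a)) := by
  apply L.F1c g _ h1.1 h1.2.1
  have := h1.2.2
  rw [L.x_zero, mul_one] at this
  show g * t = t * g
  calc g * t = g * t * g⁻¹ * g := by group
    _ = t * g := by rw [this]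

theorem mv_pow (L : Loc t x h χ) {g : G} {u : F} (h1 : Mv t x h χ g u) {N : ℕ} (hN : Odd N) :
    Mv t x h χ (g ^ N) u := by
  obtain ⟨k, rfl⟩ := hN
  induction k with
  | zero => simpa using h1
  | succ k ih =>
    have e : g ^ (2 * (k + 1) + 1) = g ^ (2 * k + 1) * g * g := by
      rw [mul_assoc, ← pow_two, ← pow_add]; ring_nf
    rw [e]
    have h2 := L.mv_mul (L.mv_mul ih h1) h1
    have e2 : u + u + u = u := by rw [L.two, zero_add]
    rwa [e2] at h2

/-- the 2-part -/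
theorem exists_bs (L : Loc t x h χ) (u : F) : ∃ b, Bs t x h χ b u := by
  by_cases hu : u = 0
  · subst hu
    exact ⟨1, L.mv_one, 0, by rw [L.x_zero, one_mul]⟩
  obtain ⟨g, hg⟩ := L.mv u
  have hg' : Mv t x h χ g u := hg
  obtain ⟨N, hN, hexp⟩ := L.exp
  refine ⟨g ^ N, L.mv_pow hg' hN, ?_⟩
  have h2 := L.mv_mul hg' hg'
  rw [L.two] at h2
  obtain ⟨v, a, ha, e⟩ := L.mv_zero h2
  have hxa : Commute (x v) (h a) := (L.mv_x v).1 a ha
  have hx1 : x v ^ N = x v := by
    obtain ⟨k, rfl⟩ := hN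
    rw [pow_succ, pow_mul, pow_two, L.x_sq, one_pow, one_mul]
  have ht1 : t ^ N = t := by
    obtain ⟨k, rfl⟩ := hN
    rw [pow_succ, pow_mul, pow_two, L.tt, one_pow, one_mul]
  have e1 : g ^ N * g ^ N = (g * g) ^ N := by
    rw [(Commute.refl g).mul_pow]
  rcases e with e | e
  · refine ⟨v, ?_⟩
    rw [e1, e, hxa.mul_pow, hexp, mul_one, hx1]
  · exfalso
    have e3 : g ^ N * g ^ N = t * x v := by
      rw [e1, e, ((L.tx v).mul_right (L.ht a).symm).mul_pow, hxa.mul_pow, hexp, mul_one, hx1, ht1]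
    have h3 := L.mv_pow hg' hN
    have h4 : g ^ N * (t * x v) * (g ^ N)⁻¹ = t * x v := by rw [← e3]; group
    have h5 : g ^ N * (t * x v) * (g ^ N)⁻¹ = t * x u * x v := by
      calc g ^ N * (t * x v) * (g ^ N)⁻¹ = (g ^ N * t * (g ^ N)⁻¹) * (g ^ N * x v * (g ^ N)⁻¹) := by group
        _ = t * x u * x v := by rw [h3.2.2, (h3.2.1 v).eq]; group
    rw [h4, mul_assoc, ← L.x_add] at h5
    have h6 := L.x_inj (mul_left_cancel h5)
    apply hu
    have : u + v = 0 + v := by rw [zero_add]; exact h6.symm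
    exact add_right_cancel this

theorem bs_zero (L : Loc t x h χ) {b : G} (hb : Bs t x h χ b 0) : ∃ v, b = x v ∨ b = t * x v := by
  obtain ⟨h1, v, hv⟩ := hb
  obtain ⟨u, a, ha, e⟩ := L.mv_zero h1
  have hxa : Commute (x u) (h a) := (L.mv_x u).1 a ha
  have key : h a * h a = x v := by
    rcases e with e | e
    · rw [← hv, e]
      calc h a * h a = (x u * x u) * (h a * h a) := by rw [L.x_sq, one_mul]
        _ = x u * (x u * h a) * h a := by group
        _ = x u * (h a * x u) * h a := by rw [hxa.eq]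
        _ = x u * h a * (x u * h a) := by group
    · rw [← hv, e]
      have e1 : Commute t (x u * h a) := (L.tx u).mul_right (L.ht a).symm
      calc h a * h a = (t * t) * (x u * x u) * (h a * h a) := by rw [L.x_sq, L.tt, one_mul, one_mul]
        _ = t * t * (x u * (x u * h a) * h a) := by group
        _ = t * t * (x u * (h a * x u) * h a) := by rw [hxa.eq]
        _ = t * (t * (x u * h a)) * (x u * h a) := by group
        _ = t * ((x u * h a) * t) * (x u * h a) := by rw [e1.eq]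
        _ = t * (x u * h a) * (t * (x u * h a)) := by group
  have h3 := L.h_one_of_x key
  rw [h3, mul_one] at e
  exact ⟨u, e⟩

/-- commutators of 2-elements are in `X` -/
theorem bs_comm (L : Loc t x h χ) {b b' : G} {u u' : F} (hb : Bs t x h χ b u) (hb' : Bs t x h χ b' u') :
    ∃ v, b * b' = x v * (b' * b) := by
  obtain ⟨h1, s, hs⟩ := hb
  obtain ⟨h1', s', hs'⟩ := hb'
  set k := b * b' * b⁻¹ * b'⁻¹ with hk
  have hk0 : Mv t x h χ k 0 := by
    have h2 := L.mv_mul (L.mv_mul (L.mv_mul h1 h1') (L.mv_inv h1)) (L.mv_inv h1')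
    have e : u + u' + u + u' = 0 := by
      calc u + u' + u + u' = (u + u) + (u' + u') := by ring
        _ = 0 := by rw [L.two, L.two, add_zero]
    rwa [e] at h2
  have e1 : k * (b' * k * b'⁻¹) = 1 := by
    have e2 : (k * b') * (k * b') = b' * b' := by
      have : k * b' = b * b' * b⁻¹ := by rw [hk]; group
      rw [this]
      calc b * b' * b⁻¹ * (b * b' * b⁻¹) = b * (b' * b') * b⁻¹ := by group
        _ = b' * b' := by rw [hs', (h1.2.1 s').eq]; group
    calc k * (b' * k * b'⁻¹) = (k * b') * (k * b') * (b' * b')⁻¹ := by group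
      _ = 1 := by rw [e2]; group
  have e1' : b * k * b⁻¹ = k⁻¹ := by
    have e2 : (k⁻¹ * b) * (k⁻¹ * b) = b * b := by
      have : k⁻¹ * b = b' * b * b'⁻¹ := by rw [hk]; group
      rw [this]
      calc b' * b * b'⁻¹ * (b' * b * b'⁻¹) = b' * (b * b) * b'⁻¹ := by group
        _ = b * b := by rw [hs, (h1'.2.1 s).eq]; group
    have e3 : k⁻¹ * (b * k⁻¹ * b⁻¹) = 1 := by
      calc k⁻¹ * (b * k⁻¹ * b⁻¹) = (k⁻¹ * b) * (k⁻¹ * b) * (b * b)⁻¹ := by group
        _ = 1 := by rw [e2]; group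
    have e4 : b * k⁻¹ * b⁻¹ = k := by
      calc b * k⁻¹ * b⁻¹ = k * (k⁻¹ * (b * k⁻¹ * b⁻¹)) := by group
        _ = k := by rw [e3, mul_one]
    calc b * k * b⁻¹ = (b * k⁻¹ * b⁻¹)⁻¹ := by group
      _ = k⁻¹ := by rw [e4]
  obtain ⟨v, a, ha, e⟩ := L.mv_zero hk0
  have hxa : Commute (x v) (h a) := (L.mv_x v).1 a ha
  have hba : b' * h a * b'⁻¹ = h a := by rw [(h1'.1 a ha).eq]; group
  have hbx : b' * x v * b'⁻¹ = x v := by rw [(h1'.2.1 v).eq]; group
  rcases e with e | e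
  · have e5 : h a * h a = x 0 := by
      rw [L.x_zero]
      rw [e] at e1
      calc h a * h a = (x v * x v) * (h a * h a) := by rw [L.x_sq, one_mul]
        _ = x v * (x v * h a) * h a := by group
        _ = x v * (h a * x v) * h a := by rw [hxa.eq]
        _ = x v * h a * ((b' * x v * b'⁻¹) * (b' * h a * b'⁻¹)) := by rw [hba, hbx]; group
        _ = x v * h a * (b' * (x v * h a) * b'⁻¹) := by group
        _ = 1 := e1
    have e6 := L.h_one_of_x e5
    rw [e6, mul_one] at e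
    refine ⟨v, ?_⟩
    rw [← e, hk]; group
  · exfalso
    have hta : Commute t (h a) := (L.ht a).symm
    -- `u' = 0`
    have e5 : h a * h a = x u' := by
      rw [e] at e1
      have e7 : t * (x v * h a) * (b' * (t * (x v * h a)) * b'⁻¹) = x u' * (h a * h a) := by
        calc t * (x v * h a) * (b' * (t * (x v * h a)) * b'⁻¹)
            = t * (x v * h a) * ((b' * t * b'⁻¹) * (b' * x v * b'⁻¹) * (b' * h a * b'⁻¹)) := by group
          _ = t * (x v * h a) * (t * x u' * x v * h a) := by rw [h1'.2.2, hbx, hba]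
          _ = t * x v * (h a * t) * x u' * x v * h a := by group
          _ = t * (x v * t) * h a * x u' * x v * h a := by rw [← hta.eq]; group
          _ = (t * t) * x v * (h a * x u') * x v * h a := by rw [← (L.tx v).eq]; group
          _ = x v * x u' * (h a * x v) * h a := by
            rw [L.tt, one_mul, ← ((L.mv_x u').1 a ha).eq]; group
          _ = (x v * x u') * (x v * h a) * h a := by rw [← hxa.eq]
          _ = (x u' * x v) * (x v * h a) * h a := by rw [(L.xx v u').eq]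
          _ = x u' * (x v * x v) * (h a * h a) := by group
          _ = x u' * (h a * h a) := by rw [L.x_sq, mul_one]
      rw [e7] at e1
      have e8 : h a * h a = (x u')⁻¹ := by
        calc h a * h a = (x u')⁻¹ * (x u' * (h a * h a)) := by group
          _ = (x u')⁻¹ := by rw [e1, mul_one]
      rw [e8, L.x_inv]
    have e6 := L.h_one_of_x e5
    have hu' : u' = 0 := by
      rw [e6, mul_one] at e5
      exact L.x_one _ e5.symm
    rw [e6, mul_one] at e
    have hu : u = 0 := by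
      rw [e] at e1'
      have e7 : b * (t * x v) * b⁻¹ = t * x u * x v := by
        calc b * (t * x v) * b⁻¹ = (b * t * b⁻¹) * (b * x v * b⁻¹) := by group
          _ = t * x u * x v := by rw [h1.2.2, (h1.2.1 v).eq]; group
      have e8 : (t * x v)⁻¹ = t * x v := by
        rw [mul_inv_rev, L.x_inv, L.t_inv, ← (L.tx v).eq]
      rw [e7, e8, mul_assoc, ← L.x_add] at e1'
      have e9 := L.x_inj (mul_left_cancel e1')
      have : u + v = 0 + v := by rw [zero_add]; exact e9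
      exact add_right_cancel this
    subst hu hu'
    obtain ⟨p, hp⟩ := L.bs_zero ⟨h1, s, hs⟩
    obtain ⟨p', hp'⟩ := L.bs_zero ⟨h1', s', hs'⟩
    have hcomm : Commute b b' := by
      rcases hp with rfl | rfl <;> rcases hp' with rfl | rfl
      · exact L.xx _ _
      · exact (L.tx _).symm.mul_right (L.xx _ _)
      · exact (L.tx _).mul_left (L.xx _ _)
      · exact ((Commute.refl t).mul_right (L.tx _)).mul_left ((L.tx _).symm.mul_right (L.xx _ _))
    have hk1 : k = 1 := by rw [hk, hcomm.eq]; group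
    rw [e] at hk1
    apply L.ne v
    have : t⁻¹ = x v := inv_eq_of_mul_eq_one_right hk1
    rw [← this, L.t_inv]

theorem bs_mul (L : Loc t x h χ) {b b' : G} {u u' : F} (hb : Bs t x h χ b u) (hb' : Bs t x h χ b' u') :
    Bs t x h χ (b * b') (u + u') := by
  refine ⟨L.mv_mul hb.1 hb'.1, ?_⟩
  obtain ⟨v, hv⟩ := L.bs_comm hb' hb
  obtain ⟨s, hs⟩ := hb.2
  obtain ⟨s', hs'⟩ := hb'.2
  refine ⟨v + (s + s'), ?_⟩
  have e := (hb.1.2.1 v).eq
  calc b * b' * (b * b') = b * (b' * b) * b' := by group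
    _ = (b * x v) * (b * b') * b' := by rw [hv]; group
    _ = x v * (b * b) * (b' * b') := by rw [e]; group
    _ = x (v + (s + s')) := by rw [hs, hs', L.x_add, L.x_add, mul_assoc]

theorem bs_inv (L : Loc t x h χ) {b : G} {u : F} (hb : Bs t x h χ b u) : Bs t x h χ b⁻¹ u := by
  refine ⟨L.mv_inv hb.1, ?_⟩
  obtain ⟨s, hs⟩ := hb.2
  refine ⟨s, ?_⟩
  rw [← mul_inv_rev, hs, L.x_inv]

theorem bs_h (L : Loc t x h χ) {b : G} {u : F} (hb : Bs t x h χ b u) (a : A) :
    Bs t x h χ (h a * b * (h a)⁻¹) (χ a * u) := by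
  refine ⟨L.mv_h hb.1 a, ?_⟩
  obtain ⟨s, hs⟩ := hb.2
  refine ⟨χ a * s, ?_⟩
  rw [← L.hx, ← hs]; group

theorem bs_x (L : Loc t x h χ) (v : F) : Bs t x h χ (x v) 0 := ⟨L.mv_x v, 0, by rw [L.x_sq, L.x_zero]⟩

theorem bs_t (L : Loc t x h χ) : Bs t x h χ t 0 := ⟨L.mv_t, 0, by rw [L.tt, L.x_zero]⟩

/-- `b⁻¹ b^c` -/
def dl (h : A →* G) (c : A) (b : G) : G := b⁻¹ * (h c * b * (h c)⁻¹)

theorem bs_dl (L : Loc t x h χ) {b : G} {u : F} (hb : Bs t x h χ b u) (c : A) :
    Bs t x h χ (dl h c b) (u + χ c * u) := L.bs_mul (L.bs_inv hb) (L.bs_h hb c)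

/-- the group of the `b⁻¹ b^c x` -/
def Wc (t : G) (x : F → G) (h : A →* G) (χ : A →* Fˣ) (c : A) (g : G) : Prop :=
  ∃ b u v, Bs t x h χ b u ∧ g = dl h c b * x v

theorem wc_bs (L : Loc t x h χ) {c : A} {g : G} (hg : Wc t x h χ c g) : ∃ u, Bs t x h χ g u := by
  obtain ⟨b, u, v, hb, rfl⟩ := hg
  exact ⟨_, L.bs_mul (L.bs_dl hb c) (L.bs_x v)⟩

theorem wc_mul (L : Loc t x h χ) {c : A} {g g' : G} (hg : Wc t x h χ c g) (hg' : Wc t x h χ c g') :
    Wc t x h χ c (g * g') := by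
  obtain ⟨b, u, v, hb, rfl⟩ := hg
  obtain ⟨b', u', v', hb', rfl⟩ := hg'
  -- `δ(b b') = b'⁻¹ δ(b) c(b')`
  obtain ⟨r, hr⟩ := L.bs_comm (L.bs_dl hb c) (L.bs_inv hb')
  refine ⟨b * b', u + u', r + v + v', L.bs_mul hb hb', ?_⟩
  have hd := L.bs_dl hb c
  have hd' := L.bs_dl hb' c
  have e1 : dl h c b * x v * (dl h c b' * x v') = dl h c b * dl h c b' * x (v + v') := by
    have e := (hd'.1.2.1 v).eq
    calc dl h c b * x v * (dl h c b' * x v') = dl h c b * (x v * dl h c b') * x v' := by group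
      _ = dl h c b * (dl h c b' * x v) * x v' := by rw [e]
      _ = dl h c b * dl h c b' * (x v * x v') := by group
      _ = dl h c b * dl h c b' * x (v + v') := by rw [L.x_add]
  have e2 : dl h c b * dl h c b' = x r * dl h c (b * b') := by
    calc dl h c b * dl h c b' = (dl h c b * b'⁻¹) * (h c * b' * (h c)⁻¹) := by
          show dl h c b * (b'⁻¹ * (h c * b' * (h c)⁻¹)) = _
          group
      _ = x r * (b'⁻¹ * dl h c b) * (h c * b' * (h c)⁻¹) := by rw [hr]
      _ = x r * dl h c (b * b') := by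
          unfold dl
          group
  have e3 : x r * dl h c (b * b') = dl h c (b * b') * x r := ((L.bs_dl (L.bs_mul hb hb') c).1.2.1 r).eq.symm
  rw [e1, e2, e3, mul_assoc, ← L.x_add, add_assoc]

theorem wc_x (L : Loc t x h χ) (c : A) (v : F) : Wc t x h χ c (x v) :=
  ⟨1, 0, v, ⟨L.mv_one, 0, by rw [L.x_zero, one_mul]⟩, by unfold dl; group⟩

theorem wc_inv (L : Loc t x h χ) {c : A} {g : G} (hg : Wc t x h χ c g) : Wc t x h χ c g⁻¹ := by
  obtain ⟨u, h1, s, hs⟩ := L.wc_bs hg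
  have e : g⁻¹ = g * x s := by
    rw [inv_eq_iff_mul_eq_one]
    calc g * (g * x s) = (g * g) * x s := by group
      _ = 1 := by rw [hs, L.x_sq]
  rw [e]
  exact L.wc_mul hg (L.wc_x c s)

/-- `t` and its coset are not in `Wc` -/
theorem wc_zero (L : Loc t x h χ) {c : A} (hc : χ c ≠ 1) {g : G} (hg : Wc t x h χ c g)
    (h0 : Bs t x h χ g 0) : ∃ v, g = x v := by
  obtain ⟨b, u, v, hb, rfl⟩ := hg
  have h1 := L.bs_mul (L.bs_dl hb c) (L.bs_x v)
  have h2 := L.mv_unique h1.1 h0.1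
  have h3 : u * (1 + χ c) = 0 := by rw [← h2]; ring
  have h4 : (1 : F) + χ c ≠ 0 := by
    intro h5
    apply hc
    have : (χ c : F) = 1 := by
      calc (χ c : F) = (1 + 1) + χ c := by rw [L.two, zero_add]
        _ = 1 + (1 + χ c) := by ring
        _ = 1 := by rw [h5, add_zero]
    exact Units.ext this
  have h5 : u = 0 := (mul_eq_zero.1 h3).resolve_right h4
  subst h5
  obtain ⟨p, hp⟩ := L.bs_zero hb
  have ec := (L.ht c).eq
  rcases hp with rfl | rfl
  · refine ⟨p + χ c * p + v, ?_⟩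
    unfold dl
    rw [L.hx, L.x_inv, ← L.x_add, ← L.x_add]
  · refine ⟨p + χ c * p + v, ?_⟩
    unfold dl
    have e1 : h c * (t * x p) * (h c)⁻¹ = t * x (χ c * p) := by
      calc h c * (t * x p) * (h c)⁻¹ = (h c * t) * x p * (h c)⁻¹ := by group
        _ = t * (h c * x p * (h c)⁻¹) := by rw [ec]; group
        _ = t * x (χ c * p) := by rw [L.hx]
    rw [e1, mul_inv_rev, L.x_inv, L.t_inv, L.x_add, L.x_add]
    calc x p * t * (t * x (χ c * p)) * x v = x p * (t * t) * x (χ c * p) * x v := by group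
      _ = _ := by rw [L.tt]; group

theorem exists_wc (L : Loc t x h χ) {c : A} (hc : χ c ≠ 1) (u : F) : ∃ g, Wc t x h χ c g ∧ Bs t x h χ g u := by
  have h4 : (1 : F) + χ c ≠ 0 := by
    intro h5
    apply hc
    have : (χ c : F) = 1 := by
      calc (χ c : F) = (1 + 1) + χ c := by rw [L.two, zero_add]
        _ = 1 + (1 + χ c) := by ring
        _ = 1 := by rw [h5, add_zero]
    exact Units.ext this
  obtain ⟨b, hb⟩ := L.exists_bs (u / (1 + χ c))
  have h1 := L.bs_dl hb c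
  have e : u / (1 + χ c) + χ c * (u / (1 + χ c)) = u := by field_simp
  rw [e] at h1
  exact ⟨dl h c b, ⟨b, _, 0, hb, by rw [L.x_zero, mul_one]⟩, h1⟩

/-- every 2-element is in `Wc` or in `t Wc` -/
theorem wc_or (L : Loc t x h χ) {c : A} (hc : χ c ≠ 1) {b : G} {u : F} (hb : Bs t x h χ b u) :
    Wc t x h χ c b ∨ ∃ g, Wc t x h χ c g ∧ b = g * t := by
  obtain ⟨g, hg, hg1⟩ := L.exists_wc hc u
  have h1 := L.bs_mul (L.bs_inv hg1) hb
  rw [L.two] at h1
  obtain ⟨v, hv | hv⟩ := L.bs_zero h1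
  · left
    have : b = g * x v := by rw [← hv]; group
    rw [this]; exact L.wc_mul hg (L.wc_x c v)
  · right
    refine ⟨g * x v, L.wc_mul hg (L.wc_x c v), ?_⟩
    rw [mul_assoc, ← (L.tx v).eq, ← hv]; group

theorem wc_h (L : Loc t x h χ) {c : A} {g : G} (hg : Wc t x h χ c g) (a : A) :
    Wc t x h χ c (h a * g * (h a)⁻¹) := by
  obtain ⟨b, u, v, hb, rfl⟩ := hg
  refine ⟨h a * b * (h a)⁻¹, _, χ a * v, L.bs_h hb a, ?_⟩
  have hh : h a * h c = h c * h a := by rw [← map_mul, ← map_mul, mul_comm]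
  have hh' : (h c)⁻¹ * (h a)⁻¹ = (h a)⁻¹ * (h c)⁻¹ := by rw [← mul_inv_rev, ← mul_inv_rev, hh]
  rw [← L.hx]
  unfold dl
  calc h a * (b⁻¹ * (h c * b * (h c)⁻¹) * x v) * (h a)⁻¹
      = h a * b⁻¹ * ((h a)⁻¹ * (h a * h c)) * b * (h c)⁻¹ * x v * (h a)⁻¹ := by group
    _ = (h a * b⁻¹ * (h a)⁻¹) * h c * h a * b * ((h c)⁻¹ * (h a)⁻¹) * (h a * x v * (h a)⁻¹) := by
        rw [hh]; group
    _ = (h a * b * (h a)⁻¹)⁻¹ * (h c * (h a * b * (h a)⁻¹) * (h c)⁻¹) * (h a * x v * (h a)⁻¹) := by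
        rw [hh']; group

theorem wc_dl (L : Loc t x h χ) {c : A} (hc : χ c ≠ 1) {b : G} {u : F} (hb : Bs t x h χ b u) (a : A) :
    Wc t x h χ c (b⁻¹ * (h a * b * (h a)⁻¹)) := by
  rcases L.wc_or hc hb with h1 | ⟨g, hg, rfl⟩
  · exact L.wc_mul (L.wc_inv h1) (L.wc_h h1 a)
  · have h1 := L.wc_mul (L.wc_inv hg) (L.wc_h hg a)
    obtain ⟨v, hv⟩ := L.wc_bs h1
    have e1 : (g * t)⁻¹ * (h a * (g * t) * (h a)⁻¹) = (g⁻¹ * (h a * g * (h a)⁻¹)) * x v := by
      have e2 : h a * (g * t) * (h a)⁻¹ = h a * g * (h a)⁻¹ * t := by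
        have := (L.ht a).inv_left.eq
        calc h a * (g * t) * (h a)⁻¹ = h a * g * (t * (h a)⁻¹) := by group
          _ = h a * g * (h a)⁻¹ * t := by rw [← this]; group
      rw [e2, mul_inv_rev, L.t_inv]
      set m := g⁻¹ * (h a * g * (h a)⁻¹) with hm
      have e3 := hv.1.2.2
      have e4 := (hv.1.2.1 v).eq
      calc t * g⁻¹ * (h a * g * (h a)⁻¹ * t) = t * m * t := by rw [hm]; group
        _ = t * (m * t * m⁻¹) * m := by group
        _ = (t * t) * x v * m := by rw [e3]; group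
        _ = m * x v := by rw [L.tt, one_mul, e4]
    rw [e1]
    exact L.wc_mul h1 (L.wc_x c v)

theorem mem_dbl_iff (L : Loc t x h χ) {c : A} (hc : χ c ≠ 1) {g : G} : g ∈ Dbl t x h χ ↔ Wc t x h χ c g := by
  constructor
  · intro hg
    refine closure_induction (p := fun g _ => Wc t x h χ c g) ?_ ?_ ?_ ?_ hg
    · rintro y (⟨u, rfl⟩ | ⟨b, u, hb, a, rfl⟩)
      · exact L.wc_x c u
      · exact L.wc_dl hc hb a
    · have := L.wc_x c 0
      rwa [L.x_zero] at this
    · intro y z _ _ hy hz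
      exact L.wc_mul hy hz
    · intro y _ hy
      exact L.wc_inv hy
  · rintro ⟨b, u, v, hb, rfl⟩
    refine mul_mem (subset_closure (Or.inr ⟨b, u, hb, c, rfl⟩)) (subset_closure (Or.inl ⟨v, rfl⟩))

theorem exists_c (L : Loc t x h χ) : ∃ c, χ c ≠ 1 := by
  obtain ⟨c, h0, h1⟩ := L.big
  obtain ⟨a, ha⟩ := L.surj (Units.mk0 c h0)
  refine ⟨a, fun h2 => h1 ?_⟩
  rw [h2] at ha
  have := congrArg Units.val ha
  simpa using this.symm

/-- the elements of the double -/
theorem dbl_bs (L : Loc t x h χ) {g : G} (hg : g ∈ Dbl t x h χ) : ∃ u, Bs t x h χ g u := by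
  obtain ⟨c, hc⟩ := L.exists_c
  exact L.wc_bs ((L.mem_dbl_iff hc).1 hg)

theorem dbl_zero (L : Loc t x h χ) {g : G} (hg : g ∈ Dbl t x h χ) (h0 : Mv t x h χ g 0) : ∃ v, g = x v := by
  obtain ⟨c, hc⟩ := L.exists_c
  obtain ⟨u, hu⟩ := L.dbl_bs hg
  have : u = 0 := L.mv_unique hu.1 h0
  subst this
  exact L.wc_zero hc ((L.mem_dbl_iff hc).1 hg) hu

theorem x_mem_dbl (_ : Loc t x h χ) (u : F) : x u ∈ Dbl t x h χ := subset_closure (Or.inl ⟨u, rfl⟩)

theorem exists_dbl (L : Loc t x h χ) (u : F) : ∃ g ∈ Dbl t x h χ, Bs t x h χ g u := by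
  obtain ⟨c, hc⟩ := L.exists_c
  obtain ⟨g, hg, hg1⟩ := L.exists_wc hc u
  exact ⟨g, (L.mem_dbl_iff hc).2 hg, hg1⟩

theorem dbl_h (L : Loc t x h χ) {g : G} (hg : g ∈ Dbl t x h χ) (a : A) : h a * g * (h a)⁻¹ ∈ Dbl t x h χ := by
  obtain ⟨c, hc⟩ := L.exists_c
  exact (L.mem_dbl_iff hc).2 (L.wc_h ((L.mem_dbl_iff hc).1 hg) a)

/-- **canonical**: elements moving `t` inside `tX`, centralising `X` and `h(ker χ)` -/
theorem canonical (L : Loc t x h χ) {g : G} {u : F} (hg : Mv t x h χ g u) :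
    ∃ w ∈ Dbl t x h χ, Bs t x h χ w u ∧ ∃ a, χ a = 1 ∧ (g = w * h a ∨ g = w * t * h a) := by
  obtain ⟨w, hw, hw1⟩ := L.exists_dbl u
  have h1 := L.mv_mul (L.mv_inv hw1.1) hg
  rw [L.two] at h1
  obtain ⟨v, a, ha, e⟩ := L.mv_zero h1
  have hb := L.bs_mul hw1 (L.bs_x v)
  rw [add_zero] at hb
  refine ⟨w * x v, mul_mem hw (L.x_mem_dbl v), hb, a, ha, ?_⟩
  rcases e with e | e
  · left
    rw [mul_assoc, ← e]; group
  · right
    calc g = w * (w⁻¹ * g) := by group
      _ = w * (t * x v) * h a := by rw [e]; group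
      _ = w * x v * t * h a := by rw [(L.tx v).eq]; group

/-- **Coordinates** of the double. -/
theorem exists_w (L : Loc t x h χ) (hsq : ∀ a : F, ∃ b, b ^ 2 = a) : ∃ w : F → G, w 0 = 1 ∧
    (∀ g, g ∈ Dbl t x h χ ↔ ∃ u v, g = w u * x v) ∧ (∀ u, Bs t x h χ (w u) u) ∧
    (∀ a u, h a * w u * (h a)⁻¹ = w (χ a * u)) ∧ (∀ u v, Commute (w u) (w v)) ∧
    ∃ c, ∀ u, w u * w u = x (c * u) := by
  classical
  obtain ⟨w1, hw1, hb1⟩ := L.exists_dbl 1
  have hs : ∀ u : Fˣ, ∃ a, χ a = u := L.surj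
  choose s hs using hs
  let w : F → G := fun u => if hu : u = 0 then 1 else h (s (Units.mk0 u hu)) * w1 * (h (s (Units.mk0 u hu)))⁻¹
  have w0 : w 0 = 1 := dif_pos rfl
  have key : ∀ (a : A), w (χ a) = h a * w1 * (h a)⁻¹ := by
    intro a
    have hne : (χ a : F) ≠ 0 := (χ a).ne_zero
    have e0 : Units.mk0 (χ a : F) hne = χ a := Units.ext rfl
    have e1 : w (χ a) = h (s (χ a)) * w1 * (h (s (χ a)))⁻¹ := by
      simp only [w]
      rw [dif_neg hne, e0]
    rw [e1]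
    set b := s (χ a) with hb
    have e2 : χ (a⁻¹ * b) = 1 := by rw [map_mul, map_inv, hb, hs, inv_mul_cancel]
    have e3 := (hb1.1.1 _ e2).eq
    calc h b * w1 * (h b)⁻¹ = h a * (h (a⁻¹ * b) * w1) * (h b)⁻¹ := by rw [map_mul, map_inv]; group
      _ = h a * (w1 * h (a⁻¹ * b)) * (h b)⁻¹ := by rw [e3]
      _ = h a * w1 * (h a)⁻¹ := by rw [map_mul, map_inv]; group
  have keyu : ∀ u : F, u ≠ 0 → ∃ a, (χ a : F) = u := fun u hu => ⟨s (Units.mk0 u hu), by rw [hs]; rfl⟩
  have eqv : ∀ a u, h a * w u * (h a)⁻¹ = w (χ a * u) := by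
    intro a u
    by_cases hu : u = 0
    · subst hu
      rw [mul_zero, w0]; group
    · obtain ⟨b, rfl⟩ := keyu u hu
      rw [← Units.val_mul, ← map_mul, key, key, map_mul]; group
  have bw : ∀ u, Bs t x h χ (w u) u := by
    intro u
    by_cases hu : u = 0
    · subst hu
      rw [w0]; exact ⟨L.mv_one, 0, by rw [L.x_zero, one_mul]⟩
    · obtain ⟨b, rfl⟩ := keyu u hu
      rw [key]
      have := L.bs_h hb1 b
      rwa [mul_one] at this
  have dw : ∀ u, w u ∈ Dbl t x h χ := by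
    intro u
    by_cases hu : u = 0
    · subst hu
      rw [w0]; exact one_mem _
    · obtain ⟨b, rfl⟩ := keyu u hu
      rw [key]
      exact L.dbl_h hw1 b
  have mem : ∀ g, g ∈ Dbl t x h χ ↔ ∃ u v, g = w u * x v := by
    intro g
    constructor
    · intro hg
      obtain ⟨u, hu⟩ := L.dbl_bs hg
      have h1 := L.mv_mul (L.mv_inv (bw u).1) hu.1
      rw [L.two] at h1
      obtain ⟨v, hv⟩ := L.dbl_zero (mul_mem (inv_mem (dw u)) hg) h1
      exact ⟨u, v, by rw [← hv]; group⟩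
    · rintro ⟨u, v, rfl⟩
      exact mul_mem (dw u) (L.x_mem_dbl v)
  -- the commutator form
  have cm : ∀ v, ∃ g, w 1 * w v = x g * (w v * w 1) := fun v => L.bs_comm (bw 1) (bw v)
  choose g hg using cm
  have add : ∀ u v, ∃ r, w (u + v) = w u * w v * x r := by
    intro u v
    obtain ⟨p, r, hr⟩ := (mem (w u * w v)).1 (mul_mem (dw u) (dw v))
    have h1 := L.bs_mul (bw u) (bw v)
    have h2 := L.bs_mul (bw p) (L.bs_x r)
    rw [← hr, add_zero] at h2
    have : u + v = p := L.mv_unique h1.1 h2.1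
    subst this
    refine ⟨r, ?_⟩
    rw [hr, mul_assoc, L.x_sq, mul_one]
  have g_add : ∀ u v, g (u + v) = g u + g v := by
    intro u v
    apply L.x_inj
    obtain ⟨r, hr⟩ := add u v
    have e := hg (u + v)
    rw [hr] at e
    have c1 := ((bw 1).1.2.1 r).eq
    have c2 := ((bw u).1.2.1 (g v)).eq
    have e2 : w 1 * (w u * w v * x r) = x (g u) * x (g v) * (w u * w v * x r * w 1) := by
      calc w 1 * (w u * w v * x r) = (w 1 * w u) * w v * x r := by group
        _ = x (g u) * w u * (w 1 * w v) * x r := by rw [hg u]; group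
        _ = x (g u) * (w u * x (g v)) * (w v * (w 1 * x r)) := by rw [hg v]; group
        _ = x (g u) * (x (g v) * w u) * (w v * (x r * w 1)) := by rw [c1, c2]
        _ = _ := by group
    rw [e2] at e
    rw [L.x_add]
    exact (mul_right_cancel e).symm
  have g_one : g 1 = 0 := by
    apply L.x_one
    have e := hg 1
    exact (mul_eq_right.1 e.symm)
  have g_inv : ∀ v, v ≠ 0 → g v = v * g v⁻¹ := by
    intro v hv
    obtain ⟨a, ha⟩ := keyu v hv
    apply L.x_inj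
    have e1 := hg v⁻¹
    -- conjugate by `h a`
    have e2 : h a * (w 1 * w v⁻¹) * (h a)⁻¹ = w v * w 1 := by
      have f1 := eqv a 1
      have f2 := eqv a v⁻¹
      rw [ha, mul_one] at f1
      rw [ha, mul_inv_cancel₀ hv] at f2
      rw [← f1, ← f2]; group
    have e3 : h a * (x (g v⁻¹) * (w v⁻¹ * w 1)) * (h a)⁻¹ = x (v * g v⁻¹) * (w 1 * w v) := by
      have f1 := eqv a 1
      have f2 := eqv a v⁻¹
      rw [ha, mul_one] at f1
      rw [ha, mul_inv_cancel₀ hv] at f2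
      rw [← f1, ← f2, ← ha, ← L.hx, ha]; group
    rw [e1, e3] at e2
    have e4 := hg v
    rw [← e2] at e4
    have e5 : x (g v) * x (v * g v⁻¹) = 1 := by
      have : w 1 * w v = x (g v) * x (v * g v⁻¹) * (w 1 * w v) := by
        calc w 1 * w v = x (g v) * (x (v * g v⁻¹) * (w 1 * w v)) := e4
          _ = _ := by group
      exact (mul_eq_right.1 this.symm)
    calc x (g v) = x (g v) * x (v * g v⁻¹) * (x (v * g v⁻¹))⁻¹ := by group
      _ = x (v * g v⁻¹) := by rw [e5, one_mul, L.x_inv]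
  have g_sq : ∀ u, g (u ^ 2) = 0 := by
    intro u
    have self : ∀ a : F, a + a = 0 := L.two
    have g0 : g 0 = 0 := by
      have := g_add 0 0
      rw [add_zero] at this
      exact left_eq_add.1 this
    by_cases hu : u = 0
    · subst hu; rw [zero_pow two_ne_zero, g0]
    by_cases hu1 : u = 1
    · subst hu1; rw [one_pow, g_one]
    have hu2 : u + 1 ≠ 0 := by
      intro h
      apply hu1
      calc u = u + (1 + 1) := by rw [self, add_zero]
        _ = (u + 1) + 1 := by ring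
        _ = 1 := by rw [h, zero_add]
    have hu3 : u ^ 2 + u ≠ 0 := by
      have : u ^ 2 + u = u * (u + 1) := by ring
      rw [this]; exact mul_ne_zero hu hu2
    have e1 : (u ^ 2 + u)⁻¹ = u⁻¹ + (u + 1)⁻¹ := by
      have e0 : u ^ 2 + u = u * (u + 1) := by ring
      rw [e0]
      field_simp
      calc (1 : F) = (u + u) + 1 := by rw [self, zero_add]
        _ = u + 1 + u := by ring
    have e2 := g_inv _ hu3
    rw [e1, g_add, g_add u⁻¹] at e2
    have e3 := g_inv _ hu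
    have e4 := g_inv _ hu2
    have e5 : g u⁻¹ = u⁻¹ * g u := by rw [e3]; field_simp
    have e6 : g (u + 1)⁻¹ = (u + 1)⁻¹ * g (u + 1) := by rw [e4]; field_simp
    rw [e5, e6, g_add u 1, g_one, add_zero] at e2
    have e7 : (u ^ 2 + u) * (u⁻¹ * g u + (u + 1)⁻¹ * g u) = g u := by
      have e8 : u⁻¹ * g u + (u + 1)⁻¹ * g u = (u ^ 2 + u)⁻¹ * g u := by rw [e1]; ring
      rw [e8, ← mul_assoc, mul_inv_cancel₀ hu3, one_mul]
    rw [e7] at e2
    exact add_eq_right.1 e2
  have g_zero : ∀ u, g u = 0 := by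
    intro u
    obtain ⟨v, rfl⟩ := hsq u
    exact g_sq v
  have comm1 : ∀ v, Commute (w 1) (w v) := by
    intro v
    have := hg v
    rw [g_zero, L.x_zero, one_mul] at this
    exact this
  have comm : ∀ u v, Commute (w u) (w v) := by
    intro u v
    by_cases hu : u = 0
    · subst hu; rw [w0]; exact Commute.one_left _
    obtain ⟨a, rfl⟩ := keyu u hu
    have f1 := eqv a 1
    have f2 := eqv a ((χ a : F)⁻¹ * v)
    rw [mul_one] at f1
    rw [← mul_assoc, mul_inv_cancel₀ hu, one_mul] at f2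
    rw [← f1, ← f2]
    have e := (comm1 ((χ a : F)⁻¹ * v)).eq
    show h a * w 1 * (h a)⁻¹ * (h a * w ((χ a : F)⁻¹ * v) * (h a)⁻¹) = _
    calc _ = h a * (w 1 * w ((χ a : F)⁻¹ * v)) * (h a)⁻¹ := by group
      _ = h a * (w ((χ a : F)⁻¹ * v) * w 1) * (h a)⁻¹ := by rw [e]
      _ = _ := by group
  refine ⟨w, w0, mem, bw, eqv, comm, ?_⟩
  obtain ⟨c, hc⟩ := (bw 1).2
  refine ⟨c, fun u => ?_⟩
  by_cases hu : u = 0
  · subst hu; rw [w0, mul_zero, L.x_zero, one_mul]
  obtain ⟨a, rfl⟩ := keyu u hu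
  have f1 := eqv a 1
  rw [mul_one] at f1
  rw [← f1]
  calc h a * w 1 * (h a)⁻¹ * (h a * w 1 * (h a)⁻¹) = h a * (w 1 * w 1) * (h a)⁻¹ := by group
    _ = x (c * χ a) := by rw [hc, L.hx, mul_comm]

end Loc

end Cfsg.Agent.OddHalf.SpN.WExist
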