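import Cfsg.Agent.OddHalf.SpN.Cent
import Cfsg.Agent.OddHalf.SpN.WExist

/-!
# ODD D7, `K = Sp_2n(q)`, `q > 2`: torus fixed points

* `one k c` : the torus element with `ev k = c`, trivial on the other pairs;
* `ent_zero_of_torus` : entries of an element commuting with a torus element;
* `F1c_y`, `F1c_x` : `C(t) ∩ C(H_r) ∩ C(X_r) = ⟨t⟩ X_r H_r`.
-/

set_option autoImplicit false

namespace Cfsg.Agent.OddHalf.SpN

open Cfsg Cfsg.Agent.ClassicalGeometry.SympBasic Cfsg.Agent.ClassicalGeometry.SympAutSemi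
open scoped Matrix commutatorElement

variable {n : ℕ} {F : Type*} [Field F]

/-- evaluation as a character -/
def evM (i : Ix n) : (Fin n → Fˣ) →* Fˣ where
  toFun lam := ev lam i
  map_one' := by rcases i with i | i <;> simp [ev]
  map_mul' a b := by rcases i with i | i <;> simp [ev, mul_comm]

@[simp] theorem evM_apply (i : Ix n) (lam : Fin n → Fˣ) : evM i lam = ev lam i := rfl

theorem ev_mulW (a b : Fin n → Fˣ) (i : Ix n) : ev (a * b) i = ev a i * ev b i := map_mul (evM i) a b

/-- the character of `Y_i` -/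
def chiy (i : Ix n) : (Fin n → Fˣ) →* Fˣ := evM i * evM i

/-- the character of `X_ij` -/
def chix (i j : Ix n) : (Fin n → Fˣ) →* Fˣ := evM i * evM j

@[simp] theorem chiy_apply (i : Ix n) (lam : Fin n → Fˣ) : chiy i lam = ev lam i * ev lam i := rfl

@[simp] theorem chix_apply (i j : Ix n) (lam : Fin n → Fˣ) : chix i j lam = ev lam i * ev lam j := rfl

/-- the torus element with value `c` at `k`, `c⁻¹` at `-k`, `1` elsewhere -/
def one (k : Ix n) (c : Fˣ) : Fin n → Fˣ :=
  Sum.elim (fun i => Function.update 1 i c) (fun i => Function.update 1 i c⁻¹) k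

@[simp] theorem ev_one_self (k : Ix n) (c : Fˣ) : ev (one k c) k = c := by
  rcases k with i | i <;> simp [ev, one]

@[simp] theorem ev_one_neg (k : Ix n) (c : Fˣ) : ev (one k c) (neg k) = c⁻¹ := by
  rw [ev_neg, ev_one_self]

theorem ev_one_ne {k m : Ix n} (h : Dj m k) (c : Fˣ) : ev (one k c) m = 1 := by
  rcases k with i | i <;> rcases m with j | j
  · have : j ≠ i := fun e => h.1 (by rw [e])
    simp [ev, one, Function.update_of_ne this]
  · have : j ≠ i := fun e => h.2 (by rw [e]; rfl)
    simp [ev, one, Function.update_of_ne this]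
  · have : j ≠ i := fun e => h.2 (by rw [e]; rfl)
    simp [ev, one, Function.update_of_ne this]
  · have : j ≠ i := fun e => h.1 (by rw [e])
    simp [ev, one, Function.update_of_ne this]

theorem rho_sh_be (lam : Fin n → Fˣ) (k : Ix n) :
    rho n F (sh lam) (be n F k) = (ev lam k : F) • be n F k := by
  ext l
  rw [rho_sh, Pi.smul_apply, smul_eq_mul, be_apply]
  split_ifs with h
  · rw [h]
  · rw [mul_zero, mul_zero]

/-- entries of an element commuting with a torus element -/
theorem ent_zero_of_torus {A : Sy n F} {lam : Fin n → Fˣ} (h : Commute A (sh lam)) {l k : Ix n}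
    (hne : ev lam l ≠ ev lam k) : ent A l k = 0 := by
  have h1 := congrArg (fun B => rho n F B (be n F k) l) h.eq
  simp only [map_mul, Equiv.Perm.mul_apply] at h1
  rw [rho_sh_be, rho_smul, Pi.smul_apply, smul_eq_mul, rho_sh] at h1
  have h2 : ((ev lam l : F) - ev lam k) * ent A l k = 0 := by
    rw [ent]; linear_combination -h1
  rcases mul_eq_zero.1 h2 with h3 | h3
  · exact absurd (Units.ext (sub_eq_zero.1 h3)) hne
  · exact h3

section chartwo

variable [CharP F 2]

theorem inv_ne_self {c : Fˣ} (h : c ≠ 1) : c⁻¹ ≠ c := by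
  intro e
  apply h
  have h1 : c * c = 1 := by
    calc c * c = c * c⁻¹ := by rw [e]
      _ = 1 := mul_inv_cancel c
  have h2 : ((c : F) - 1) * (c - 1) = 0 := by
    have h3 : (c : F) * c = 1 := by rw [← Units.val_mul, h1]; rfl
    linear_combination h3 - ((c : F) - 1) * (two0 : (2 : F) = 0)
  exact Units.ext (sub_eq_zero.1 (mul_self_eq_zero.1 h2))

/-- a line `e_k` fixed by the torus: the entries outside the diagonal vanish -/
theorem ent_off {A : Sy n F} {k : Ix n} {c : Fˣ} (hc : c ≠ 1) (h : Commute A (sh (one k c))) {l : Ix n}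
    (hl : l ≠ k) : ent A l k = 0 ∧ ent A k l = 0 := by
  have hne : ev (one k c) l ≠ ev (one k c) k := by
    rw [ev_one_self]
    by_cases h2 : l = neg k
    · rw [h2, ev_one_neg]; exact inv_ne_self hc
    · rw [ev_one_ne ⟨hl, h2⟩]; exact hc.symm
  exact ⟨ent_zero_of_torus h hne, ent_zero_of_torus h hne.symm⟩

theorem diag_mul {A : Sy n F} {k : Ix n} (h : ∀ l, l ≠ k → ent A l k = 0) :
    ent A k k * ent A (neg k) (neg k) = 1 := by
  have h5 := ent_form A k (neg k)
  rw [neg_neg, if_pos rfl, Finset.sum_eq_single (neg k)] at h5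
  · rwa [neg_neg] at h5
  · intro m _ hm
    rw [h (neg m) (fun e => hm (by rw [← e, neg_neg])), zero_mul]
  · intro h; exact absurd (Finset.mem_univ _) h

omit [CharP F 2] in
/-- the torus element with given diagonal entries -/
theorem exists_lamW {A : Sy n F} (h : ∀ k, ent A k k * ent A (neg k) (neg k) = 1) :
    ∃ lam : Fin n → Fˣ, ∀ k, (ev lam k : F) = ent A k k := by
  have hne : ∀ k, ent A k k ≠ 0 := fun k e => by
    have := h k
    rw [e, zero_mul] at this
    exact zero_ne_one this
  refine ⟨fun i => Units.mk0 (ent A (Sum.inl i) (Sum.inl i)) (hne _), ?_⟩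
  rintro (i | i)
  · rfl
  · have h1 := h (Sum.inl i)
    rw [neg_inl] at h1
    simp only [ev, Sum.elim_inr, Units.val_inv_eq_inv_val, Units.val_mk0]
    exact (eq_inv_of_mul_eq_one_right h1).symm

/-- **F1c** for `Y_i` in `Sp` -/
theorem F1c_sy {A : Sy n F} {i : Ix n} {c : Fˣ} (hc : c ≠ 1) (h : Commute A (sy i 1))
    (ht : ∀ lam, ev lam i = 1 → Commute A (sh lam)) :
    ∃ u lam, ev lam i = 1 ∧ A = sy i u * sh lam := by
  have cy := cy_of_comm h
  have off : ∀ k, Dj k i → ∀ l, l ≠ k → ent A l k = 0 ∧ ent A k l = 0 := fun k hk l hl =>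
    ent_off hc (ht _ (ev_one_ne hk.symm c)) hl
  have hd : ∀ k, ent A k k * ent A (neg k) (neg k) = 1 := by
    intro k
    by_cases h1 : k = i
    · rw [h1, cy.diag, cy.diag', mul_one]
    by_cases h2 : k = neg i
    · rw [h2, neg_neg, cy.diag, cy.diag', mul_one]
    · exact diag_mul fun l hl => (off k ⟨h1, h2⟩ l hl).1
  obtain ⟨lam, hlam⟩ := exists_lamW hd
  have hi : ev lam i = 1 := Units.ext (by rw [hlam, cy.diag]; rfl)
  refine ⟨ent A i (neg i), lam, hi, ?_⟩
  apply ext_ent
  intro l k
  have e : ent (sy i (ent A i (neg i)) * sh lam) l k =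
      ev lam k * ((if l = k then 1 else 0) + ent A i (neg i) * (if neg i = k then 1 else 0) * (if l = i then 1 else 0)) := by
    rw [ent, map_mul, Equiv.Perm.mul_apply, rho_sh_be, rho_smul, rho_sy]
    simp only [Pi.smul_apply, Pi.add_apply, smul_eq_mul, be_apply]
  rw [e]
  by_cases h1 : k = i
  · subst h1
    rw [if_neg (neg_ne k), hi]
    by_cases h2 : l = k
    · rw [h2, cy.diag, if_pos rfl]; simp
    · rw [cy.col l h2, if_neg h2]; simp
  by_cases h2 : k = neg i
  · subst h2
    rw [if_pos rfl, ev_neg, hi]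
    by_cases h3 : l = neg i
    · rw [h3, cy.diag', if_pos rfl, if_neg (neg_ne i)]; simp
    · rw [if_neg h3]
      by_cases h4 : l = i
      · rw [h4, if_pos rfl]; simp
      · rw [if_neg h4, (off l ⟨h4, h3⟩ (neg i) (fun e => h3 e.symm)).2]; simp
  · have g1 : neg i ≠ k := fun e => h2 e.symm
    rw [if_neg g1]
    by_cases h3 : l = k
    · rw [h3, if_pos rfl, hlam]; simp
    · rw [if_neg h3, (off k ⟨h1, h2⟩ l h3).1]; simp

/-- **F1c** for `X_ij` in `Sp` -/
theorem F1c_sx {A : Sy n F} {i j : Ix n} (hij : Dj i j) {c : Fˣ} (hc : c ≠ 1) (h : Commute A (sx i j 1))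
    (ht : ∀ lam, ev lam i * ev lam j = 1 → Commute A (sh lam)) :
    ∃ u lam, ev lam i * ev lam j = 1 ∧ A = sx i j u * sh lam := by
  have cx := cx_of_comm hij h
  have hne := hij.1
  have n1 : neg j ≠ i := fun e => hij.2 e.symm
  have n2 : neg i ≠ j := fun e => hij.2 (by rw [← e, neg_neg])
  have n3 : neg i ≠ neg j := fun e => hne (neg_inj.mp e)
  have off : ∀ k, Dj k i → Dj k j → ∀ l, l ≠ k → ent A l k = 0 ∧ ent A k l = 0 := fun k hk hk' l hl =>
    ent_off hc (ht _ (by rw [ev_one_ne hk.symm c, ev_one_ne hk'.symm c, one_mul])) hl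
  -- the torus element `c, c⁻¹`
  have hcc := inv_ne_self hc
  set mu : Fin n → Fˣ := one i c * one j c⁻¹ with hmu
  have mi : ev mu i = c := by rw [hmu, ev_mulW, ev_one_self, ev_one_ne hij, mul_one]
  have mj : ev mu j = c⁻¹ := by rw [hmu, ev_mulW, ev_one_self, ev_one_ne hij.symm, one_mul]
  have hA := ht mu (by rw [mi, mj, mul_inv_cancel])
  have mi' : ev mu (neg i) = c⁻¹ := by rw [ev_neg, mi]
  have mj' : ev mu (neg j) = c := by rw [ev_neg, mj, inv_inv]
  have eij : ent A i j = 0 := ent_zero_of_torus hA (by rw [mi, mj]; exact hcc.symm)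
  have eji : ent A j i = 0 := ent_zero_of_torus hA (by rw [mi, mj]; exact hcc)
  have eii' : ent A i (neg i) = 0 := ent_zero_of_torus hA (by rw [mi, mi']; exact hcc.symm)
  have ejj' : ent A j (neg j) = 0 := ent_zero_of_torus hA (by rw [mj, mj']; exact hcc)
  have coli : ∀ l, l ≠ i → ent A l i = 0 := fun l hl => by
    by_cases hl' : l = j
    · rw [hl', eji]
    · exact cx.coli l hl hl'
  have colj : ∀ l, l ≠ j → ent A l j = 0 := fun l hl => by
    by_cases hl' : l = i
    · rw [hl', eij]
    · exact cx.colj l hl' hl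
  have d1 := diag_mul coli
  have d2 := diag_mul colj
  have hd : ∀ k, ent A k k * ent A (neg k) (neg k) = 1 := by
    intro k
    by_cases h1 : k = i
    · rw [h1]; exact d1
    by_cases h2 : k = neg i
    · rw [h2, neg_neg, mul_comm]; exact d1
    by_cases h3 : k = j
    · rw [h3]; exact d2
    by_cases h4 : k = neg j
    · rw [h4, neg_neg, mul_comm]; exact d2
    · exact diag_mul fun l hl => (off k ⟨h1, h2⟩ ⟨h3, h4⟩ l hl).1
  obtain ⟨lam, hlam⟩ := exists_lamW hd
  have hi : ev lam i * ev lam j = 1 := Units.ext (by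
    rw [Units.val_mul, hlam, hlam, cx.jj]; exact d1)
  -- `d = A_ii = A_{-j,-j}`, `d' = A_jj = A_{-i,-i}`
  have hii : (ev lam i : F) = ent A i i := hlam i
  have hjj : (ev lam j : F) = ent A j j := hlam j
  have hii' : (ev lam (neg i) : F) = ent A j j := by rw [hlam, cx.jj]
  have hjj' : (ev lam (neg j) : F) = ent A i i := by rw [hlam, cx.ii]
  -- the form between `A e_{-i}` and `A e_{-j}`
  have hf := ent_form A (neg i) (neg j)
  rw [neg_neg, if_neg n2] at hf
  have hsum : ∑ k : Ix n, ent A (neg k) (neg i) * ent A k (neg j) =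
      ent A (neg i) (neg i) * ent A i (neg j) + ent A j (neg i) * ent A (neg j) (neg j) := by
    rw [← Finset.sum_subset (Finset.subset_univ ({i, neg j} : Finset (Ix n))), Finset.sum_pair n1.symm, neg_neg]
    intro k _ hk
    rw [Finset.mem_insert, Finset.mem_singleton, not_or] at hk
    by_cases k1 : k = j
    · rw [k1, ejj', mul_zero]
    by_cases k2 : k = neg i
    · rw [k2, neg_neg, eii', zero_mul]
    · rw [(off k ⟨hk.1, k2⟩ ⟨k1, hk.2⟩ (neg j) (fun e => hk.2 e.symm)).2, mul_zero]
  rw [hsum] at hf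
  have hne1 : ent A i i ≠ 0 := by rw [← hii]; exact (ev lam i).ne_zero
  have hdd : ent A i i * ent A j j = 1 := by rw [← hii, ← hjj, ← Units.val_mul, hi]; rfl
  set u := ent A j j * ent A i (neg j) with hu
  have e1 : ent A i (neg j) = ev lam (neg j) * u := by
    rw [hjj', hu, ← mul_assoc, hdd, one_mul]
  have e2 : ent A j (neg i) = ev lam (neg i) * u := by
    rw [← cx.jj, ← cx.ii] at hf
    rw [hii', hu]
    have : ent A i i * ent A j (neg i) = ent A j j * ent A i (neg j) := by
      linear_combination hf - (ent A j j * ent A i (neg j)) * (two0 : (2 : F) = 0)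
    calc ent A j (neg i) = (ent A i i * ent A j j) * ent A j (neg i) := by rw [hdd, one_mul]
      _ = ent A j j * (ent A i i * ent A j (neg i)) := by ring
      _ = ent A j j * (ent A j j * ent A i (neg j)) := by rw [this]
  refine ⟨u, lam, hi, ?_⟩
  apply ext_ent
  intro l k
  have e : ent (sx i j u * sh lam) l k =
      ev lam k * ((if l = k then 1 else 0) + u * (if neg j = k then 1 else 0) * (if l = i then 1 else 0) +
        u * (if neg i = k then 1 else 0) * (if l = j then 1 else 0)) := by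
    rw [ent, map_mul, Equiv.Perm.mul_apply, rho_sh_be, rho_smul, rho_sx hij]
    simp only [Pi.smul_apply, Pi.add_apply, smul_eq_mul, be_apply]
  rw [e]
  by_cases h1 : k = i
  · subst h1
    rw [if_neg (neg_ne k), if_neg n1]
    by_cases h2 : l = k
    · rw [h2, if_pos rfl, hlam]; simp
    · rw [coli l h2, if_neg h2]; simp
  by_cases h2 : k = j
  · subst h2
    rw [if_neg (neg_ne k), if_neg n2]
    by_cases h3 : l = k
    · rw [h3, if_pos rfl, hlam]; simp
    · rw [colj l h3, if_neg h3]; simp
  by_cases h3 : k = neg i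
  · subst h3
    rw [if_pos rfl, if_neg n3.symm]
    by_cases h4 : l = neg i
    · rw [h4, if_pos rfl, if_neg n2, hlam]; simp
    · rw [if_neg h4]
      by_cases h5 : l = j
      · rw [h5, if_pos rfl, e2]; simp
      · rw [if_neg h5]
        by_cases h6 : l = i
        · rw [h6, eii']; simp
        by_cases h7 : l = neg j
        · have h8 : ent A (neg j) (neg i) = 0 := by rw [← cx.ij, eij]
          rw [h7, h8]; simp
        · rw [(off l ⟨h6, h4⟩ ⟨h5, h7⟩ (neg i) (fun e => h4 e.symm)).2]; simp
  by_cases h4 : k = neg j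
  · subst h4
    rw [if_pos rfl, if_neg n3]
    by_cases h5 : l = neg j
    · rw [h5, if_pos rfl, if_neg n1, hlam]; simp
    · rw [if_neg h5]
      by_cases h6 : l = i
      · rw [h6, if_pos rfl, e1]; simp
      · rw [if_neg h6]
        by_cases h7 : l = j
        · rw [h7, ejj']; simp
        by_cases h8 : l = neg i
        · have h9 : ent A (neg i) (neg j) = 0 := by rw [← cx.ji, eji]
          rw [h8, h9]; simp
        · rw [(off l ⟨h6, h8⟩ ⟨h7, h5⟩ (neg j) (fun e => h5 e.symm)).2]; simp
  · have g1 : neg j ≠ k := fun e => h4 e.symm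
    have g2 : neg i ≠ k := fun e => h3 e.symm
    rw [if_neg g1, if_neg g2]
    by_cases h5 : l = k
    · rw [h5, if_pos rfl, hlam]; simp
    · rw [if_neg h5, (off k ⟨h1, h3⟩ ⟨h2, h4⟩ l h5).1]; simp

end chartwo

end Cfsg.Agent.OddHalf.SpN
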