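import Mathlib
import Cfsg.Agent.PermutationGroups.TwoTransitiveNormal

/-!
# ODD D7, `K = Sp_2n(q)`: translations (section 2 of `blueprints/ODD-D7-Sp-helper297.md`)

`B` acts on the coset `tX` (`X` an elementary abelian 2-group commuting with `t`), transitively, and
`H ≤ B ∩ C(t)` is transitive on `X#`.  If an element of `B` fixing two points of `tX` acts trivially,
then the elements of `B` centralising `X` are transitive on `tX`.
-/

set_option autoImplicit false

namespace Cfsg.Agent.OddHalf.SpN.WTrans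

open MulAction

variable {G : Type*} [Group G]

/-- the coset `tX` -/
def Om (t : G) (X : Subgroup G) : Type _ := {y : G // t⁻¹ * y ∈ X}

variable {t : G} {X : Subgroup G}

theorem Om.ext {a b : Om t X} (h : a.1 = b.1) : a = b := Subtype.ext h

/-- conjugation action of `B` on `tX` -/
def act (B : Subgroup G) (BX : ∀ b ∈ B, ∀ x ∈ X, b * x * b⁻¹ ∈ X)
    (Bt : ∀ b ∈ B, t⁻¹ * (b * t * b⁻¹) ∈ X) : MulAction B (Om t X) where
  smul b y := ⟨b * y.1 * (b : G)⁻¹, by
    have h1 := Bt b.1 b.2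
    have h2 := BX b.1 b.2 _ y.2
    have := X.mul_mem h1 h2
    convert this using 1
    group⟩
  one_smul y := Om.ext (by show (1 : G) * y.1 * (1 : G)⁻¹ = y.1; group)
  mul_smul a b y := Om.ext (by
    show (a.1 * b.1) * y.1 * (a.1 * b.1)⁻¹ = a.1 * (b.1 * y.1 * (b.1)⁻¹) * (a.1)⁻¹
    group)

theorem exists_translation [Finite G] (B H : Subgroup G)
    (X2 : ∀ x ∈ X, x * x = 1) (Xt : ∀ x ∈ X, t * x = x * t)
    (BX : ∀ b ∈ B, ∀ x ∈ X, b * x * b⁻¹ ∈ X)
    (Bt : ∀ b ∈ B, t⁻¹ * (b * t * b⁻¹) ∈ X)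
    (HB : H ≤ B) (Ht : ∀ h ∈ H, h * t = t * h)
    (Htr : ∀ x ∈ X, x ≠ 1 → ∀ y ∈ X, y ≠ 1 → ∃ h ∈ H, h * x * h⁻¹ = y)
    (Btr : ∀ x ∈ X, ∃ b ∈ B, b * t * b⁻¹ = t * x)
    (two : ∀ b ∈ B, b * t = t * b → ∀ x ∈ X, x ≠ 1 → b * x = x * b → ∀ y ∈ X, b * y = y * b) :
    ∀ x ∈ X, ∃ b ∈ B, (∀ y ∈ X, b * y = y * b) ∧ b * t * b⁻¹ = t * x := by
  classical
  intro x₀ hx₀
  by_cases hx₀1 : x₀ = 1
  · exact ⟨1, B.one_mem, fun y _ => by simp, by simp [hx₀1]⟩
  letI : MulAction B (Om t X) := act B BX Bt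
  have smul_val : ∀ (b : B) (y : Om t X), (b • y).1 = b.1 * y.1 * (b.1)⁻¹ := fun _ _ => rfl
  haveI : Finite (Om t X) := Subtype.finite
  let o : Om t X := ⟨t, by simp⟩
  let p (x : X) : Om t X := ⟨t * x, by simp⟩
  have hp : ∀ y : Om t X, ∃ x : X, y = p x := fun y => ⟨⟨t⁻¹ * y.1, y.2⟩, Om.ext (by simp [p])⟩
  have hne : o ≠ p ⟨x₀, hx₀⟩ := by
    intro h
    have := congrArg Subtype.val h
    simp only [o, p] at this
    apply hx₀1
    have h2 : t * 1 = t * x₀ := by simpa using this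
    exact (mul_left_cancel h2).symm
  haveI : Nontrivial (Om t X) := ⟨⟨_, _, hne⟩⟩
  -- transitivity
  have htr1 : ∀ y : Om t X, ∃ b : B, b • o = y := by
    intro y
    obtain ⟨x, rfl⟩ := hp y
    obtain ⟨b, hb, e⟩ := Btr x x.2
    exact ⟨⟨b, hb⟩, Om.ext (by rw [smul_val]; exact e)⟩
  have h2o : ∀ y z : Om t X, y ≠ o → z ≠ o → ∃ b : B, b • o = o ∧ b • y = z := by
    intro y z hy hz
    obtain ⟨x, rfl⟩ := hp y
    obtain ⟨x', rfl⟩ := hp z
    have hx1 : (x : G) ≠ 1 := fun h => hy (Om.ext (by simp [p, o, h]))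
    have hx1' : (x' : G) ≠ 1 := fun h => hz (Om.ext (by simp [p, o, h]))
    obtain ⟨h, hh, e⟩ := Htr x x.2 hx1 x' x'.2 hx1'
    refine ⟨⟨h, HB hh⟩, Om.ext ?_, Om.ext ?_⟩
    · rw [smul_val]
      show h * t * h⁻¹ = t
      rw [Ht h hh]; group
    · rw [smul_val]
      show h * (t * x) * h⁻¹ = t * x'
      rw [← e, ← mul_assoc, Ht h hh]; group
  have h2 : ∀ a b c d : Om t X, a ≠ b → c ≠ d → ∃ g : B, g • a = c ∧ g • b = d := by
    intro a b c d hab hcd
    obtain ⟨g1, hg1⟩ := htr1 a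
    obtain ⟨g2, hg2⟩ := htr1 c
    obtain ⟨k, hk1, hk2⟩ := h2o (g1⁻¹ • b) (g2⁻¹ • d)
      (by intro h; apply hab; rw [← hg1]; rw [inv_smul_eq_iff] at h; exact h.symm)
      (by intro h; apply hcd; rw [← hg2]; rw [inv_smul_eq_iff] at h; exact h.symm)
    refine ⟨g2 * k * g1⁻¹, ?_, ?_⟩
    · rw [mul_smul, mul_smul, ← hg1, inv_smul_smul, hk1, hg2]
    · rw [mul_smul, mul_smul, hk2, smul_inv_smul]
  -- the permutation group
  let Θ : Subgroup (Equiv.Perm (Om t X)) := (MulAction.toPermHom B (Om t X)).range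
  have hΘ : ∀ g : Θ, ∃ b : B, ∀ y : Om t X, g • y = b • y := by
    rintro ⟨g, b, rfl⟩
    exact ⟨b, fun y => rfl⟩
  have hΘ' : ∀ b : B, ∃ g : Θ, ∀ y : Om t X, g • y = b • y := fun b => ⟨⟨_, b, rfl⟩, fun y => rfl⟩
  have h2Θ : ∀ a b c d : Om t X, a ≠ b → c ≠ d → ∃ g : Θ, g • a = c ∧ g • b = d := by
    intro a b c d hab hcd
    obtain ⟨g, e1, e2⟩ := h2 a b c d hab hcd
    obtain ⟨g', hg'⟩ := hΘ' g
    exact ⟨g', by rw [hg', e1], by rw [hg', e2]⟩
  haveI : IsPretransitive (⊤ : Subgroup Θ) (Om t X) := by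
    constructor
    intro a b
    by_cases hab : a = b
    · exact ⟨1, by rw [one_smul]; exact hab⟩
    · obtain ⟨g, e1, -⟩ := h2Θ a b b a hab (Ne.symm hab)
      exact ⟨⟨g, Subgroup.mem_top g⟩, e1⟩
  -- elements fixing two points act trivially
  have hfix : ∀ b : B, ∀ y z : Om t X, y ≠ z → b • y = y → b • z = z → ∀ w : Om t X, b • w = w := by
    intro b y z hyz hy hz w
    obtain ⟨g, hg⟩ := htr1 y
    have e1 : (g⁻¹ * b * g) • o = o := by
      rw [mul_smul, mul_smul, hg, hy, ← hg, inv_smul_smul]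
    have e2 : (g⁻¹ * b * g) • (g⁻¹ • z) = g⁻¹ • z := by
      rw [mul_smul, mul_smul, smul_inv_smul, hz]
    obtain ⟨x, hx⟩ := hp (g⁻¹ • z)
    have hx1 : (x : G) ≠ 1 := by
      intro h
      apply hyz
      have : g⁻¹ • z = o := by rw [hx]; exact Om.ext (by simp [p, o, h])
      rw [inv_smul_eq_iff] at this
      rw [this, hg]
    set c := g⁻¹ * b * g with hc
    have c1 : c.1 * t = t * c.1 := by
      have := congrArg Subtype.val e1
      rw [smul_val] at this
      have h3 : c.1 * t * (c.1)⁻¹ = t := this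
      calc c.1 * t = c.1 * t * (c.1)⁻¹ * c.1 := by group
        _ = t * c.1 := by rw [h3]
    have c2 : c.1 * x.1 = x.1 * c.1 := by
      have := congrArg Subtype.val e2
      rw [hx, smul_val] at this
      have h3 : c.1 * (t * x.1) * (c.1)⁻¹ = t * x.1 := this
      have h4 : c.1 * (t * x.1) = t * x.1 * c.1 := by
        calc c.1 * (t * x.1) = c.1 * (t * x.1) * (c.1)⁻¹ * c.1 := by group
          _ = t * x.1 * c.1 := by rw [h3]
      rw [← mul_assoc, c1, mul_assoc, mul_assoc] at h4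
      exact mul_left_cancel h4
    have c3 := two c.1 c.2 c1 x.1 x.2 hx1 c2
    have hall : ∀ v : Om t X, c • v = v := by
      intro v
      obtain ⟨x', rfl⟩ := hp v
      apply Om.ext
      rw [smul_val]
      show c.1 * (t * x'.1) * (c.1)⁻¹ = t * x'.1
      rw [← mul_assoc, c1, mul_assoc t, c3 x'.1 x'.2]; group
    have := hall (g⁻¹ • w)
    rw [hc, mul_smul, mul_smul, smul_inv_smul] at this
    have h5 := congrArg (fun v => g • v) this
    simp only [smul_inv_smul] at h5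
    exact h5
  have h1Θ : ∀ a b : Om t X, a ≠ b → ∀ g ∈ (⊤ : Subgroup Θ), g • a = a → g • b = b → g = 1 := by
    intro a b hab g _ ha hb
    obtain ⟨c, hc⟩ := hΘ g
    apply Subtype.ext
    apply Equiv.ext
    intro w
    have := hfix c a b hab (by rw [← hc, ha]) (by rw [← hc, hb]) w
    rw [← hc] at this
    exact this
  obtain ⟨K, hKn, -, hKt, hKs, -⟩ :=
    Cfsg.Agent.PermutationGroups.TwoTransitiveNormal.exists_regular_normal_of_two_point_trivial
      h2Θ ⊤ h1Θ
  -- the preimage `M` of `K` in `B`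
  let f : B →* Θ := (MulAction.toPermHom B (Om t X)).rangeRestrict
  have hf : ∀ (b : B) (y : Om t X), f b • y = b • y := fun b y => rfl
  -- `K` is a 2-group
  have hX2 : IsPGroup 2 X := by
    intro x
    refine ⟨1, ?_⟩
    rw [pow_one]
    apply Subtype.ext
    have := X2 x.1 x.2
    simp [pow_two, this]
  have hcardO : Nat.card (Om t X) = Nat.card X :=
    Nat.card_congr
      { toFun := fun y => ⟨t⁻¹ * y.1, y.2⟩
        invFun := fun x => p x
        left_inv := fun y => Om.ext (by simp [p])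
        right_inv := fun x => Subtype.ext (by simp [p]) }
  have hKcard : Nat.card K = Nat.card X := by
    rw [← hcardO]
    have e1 := MulAction.index_stabilizer_of_transitive K o
    rw [hKs o, Subgroup.index_bot] at e1
    exact e1
  have hK2 : IsPGroup 2 K := by
    obtain ⟨n, hn⟩ := IsPGroup.iff_card.1 hX2
    exact IsPGroup.of_card (n := n) (hKcard.trans hn)
  -- `K` acts on `X` by conjugation: linear action of `Θ` on `X`
  -- an element of `B` acting trivially on `tX` centralises `X`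
  have hker : ∀ b : B, f b = 1 → ∀ x ∈ X, b.1 * x = x * b.1 := by
    intro b hb x hx
    have h0 : ∀ y : Om t X, b • y = y := by
      intro y; rw [← hf, hb, one_smul]
    have e0 := congrArg Subtype.val (h0 o)
    have e1 := congrArg Subtype.val (h0 (p ⟨x, hx⟩))
    rw [smul_val] at e0 e1
    have e0' : b.1 * t * (b.1)⁻¹ = t := e0
    have e1' : b.1 * (t * x) * (b.1)⁻¹ = t * x := e1
    have e2 : b.1 * x * (b.1)⁻¹ = x := by
      have : b.1 * (t * x) * (b.1)⁻¹ = (b.1 * t * (b.1)⁻¹) * (b.1 * x * (b.1)⁻¹) := by group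
      rw [this, e0'] at e1'
      exact mul_left_cancel e1'
    calc b.1 * x = b.1 * x * (b.1)⁻¹ * b.1 := by group
      _ = x * b.1 := by rw [e2]
  let lin : B →* MulAut X :=
    { toFun := fun b =>
        { toFun := fun x => ⟨b.1 * x.1 * (b.1)⁻¹, BX b.1 b.2 x.1 x.2⟩
          invFun := fun x => ⟨(b.1)⁻¹ * x.1 * b.1, by
            have := BX (b⁻¹).1 (b⁻¹).2 x.1 x.2
            simpa using this⟩
          left_inv := fun x => Subtype.ext (by
            show (b.1)⁻¹ * (b.1 * x.1 * (b.1)⁻¹) * b.1 = x.1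
            group)
          right_inv := fun x => Subtype.ext (by
            show b.1 * ((b.1)⁻¹ * x.1 * b.1) * (b.1)⁻¹ = x.1
            group)
          map_mul' := fun x y => Subtype.ext (by
            show b.1 * (x.1 * y.1) * (b.1)⁻¹ = (b.1 * x.1 * (b.1)⁻¹) * (b.1 * y.1 * (b.1)⁻¹)
            group) }
      map_one' := by
        ext x
        show (1 : G) * x.1 * (1 : G)⁻¹ = x.1
        group
      map_mul' := fun a b => by
        ext x
        show (a.1 * b.1) * x.1 * (a.1 * b.1)⁻¹ = a.1 * (b.1 * x.1 * (b.1)⁻¹) * (a.1)⁻¹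
        group }
  have hlin : ∀ (b : B) (x : X), ((lin b) x).1 = b.1 * x.1 * (b.1)⁻¹ := fun _ _ => rfl
  -- the set of fixed points of `M`
  let M : Subgroup B := K.comap f
  have hfs : Function.Surjective f := MonoidHom.rangeRestrict_surjective _
  let C : Subgroup X :=
    { carrier := {x | ∀ m ∈ M, lin m x = x}
      mul_mem' := fun {a b} ha hb m hm => by rw [map_mul, ha m hm, hb m hm]
      one_mem' := fun m _ => map_one _
      inv_mem' := fun {a} ha m hm => by rw [map_inv, ha m hm] }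
  -- C is nontrivial
  have hCne : ∃ x : X, x ∈ C ∧ x ≠ 1 := by
    -- the group K acts on X
    have hwd : ∀ m m' : B, f m = f m' → lin m = lin m' := by
      intro m m' h
      have h3 : f (m⁻¹ * m') = 1 := by rw [map_mul, map_inv, h, inv_mul_cancel]
      have h4 := hker _ h3
      ext x
      rw [hlin, hlin]
      have h5 := h4 x.1 x.2
      have h6 : (m.1)⁻¹ * m'.1 * x.1 = x.1 * ((m.1)⁻¹ * m'.1) := h5
      calc m.1 * x.1 * (m.1)⁻¹ = m.1 * (x.1 * ((m.1)⁻¹ * m'.1)) * (m'.1)⁻¹ := by group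
        _ = m.1 * ((m.1)⁻¹ * m'.1 * x.1) * (m'.1)⁻¹ := by rw [h6]
        _ = m'.1 * x.1 * (m'.1)⁻¹ := by group
    have hkerle : f.ker ≤ lin.ker := by
      intro m hm
      rw [MonoidHom.mem_ker] at hm ⊢
      rw [hwd m 1 (by rw [hm, map_one]), map_one]
    let g : Θ →* MulAut X := f.liftOfSurjective hfs ⟨lin, hkerle⟩
    have hg : ∀ m : B, g (f m) = lin m := fun m => by
      have := MonoidHom.liftOfRightInverse_comp_apply f (Function.surjInv hfs)
        (Function.rightInverse_surjInv hfs) ⟨lin, hkerle⟩ m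
      exact this
    letI : MulAction K X := MulAction.compHom X (g.comp K.subtype)
    have hsm : ∀ (k : K) (x : X), k • x = g k.1 x := fun _ _ => rfl
    have hcard := hK2.card_modEq_card_fixedPoints X
    obtain ⟨n, hn⟩ := IsPGroup.iff_card.1 hX2
    have h1 : (1 : X) ∈ MulAction.fixedPoints K X := fun k => by rw [hsm]; exact map_one _
    have hn0 : n ≠ 0 := by
      rintro rfl
      rw [pow_zero] at hn
      have : Subsingleton X := (Nat.card_eq_one_iff_unique.1 hn).1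
      apply hx₀1
      exact congrArg Subtype.val (Subsingleton.elim (⟨x₀, hx₀⟩ : X) 1)
    have hpX : 2 ∣ Nat.card X := by rw [hn]; exact dvd_pow_self 2 hn0
    obtain ⟨y, hy, hy1⟩ := hK2.exists_fixed_point_of_prime_dvd_card_of_fixed_point X hpX h1
    refine ⟨y, ?_, hy1.symm⟩
    intro m hm
    have h7 : f m ∈ K := hm
    have := hy ⟨f m, h7⟩
    rw [hsm] at this
    rw [← hg m]
    exact this
  obtain ⟨y, hyC, hy1⟩ := hCne
  -- C is invariant under B
  have hCall : ∀ x : X, x ∈ C := by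
    intro x
    by_cases hx1 : x = 1
    · rw [hx1]; exact C.one_mem
    obtain ⟨h, hh, e⟩ := Htr y.1 y.2 (fun h => hy1 (Subtype.ext h)) x.1 x.2
      (fun h => hx1 (Subtype.ext h))
    intro m hm
    have hhm : (⟨h, HB hh⟩ : B)⁻¹ * m * ⟨h, HB hh⟩ ∈ M := by
      show f _ ∈ K
      rw [map_mul, map_mul, map_inv]
      have := hKn.conj_mem (f m) hm (f ⟨h, HB hh⟩)⁻¹
      simpa using this
    have h8 := congrArg Subtype.val (hyC _ hhm)
    rw [hlin] at h8
    apply Subtype.ext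
    rw [hlin]
    have h9 : h⁻¹ * m.1 * h * y.1 * (h⁻¹ * m.1 * h)⁻¹ = y.1 := h8
    rw [← e]
    calc m.1 * (h * y.1 * h⁻¹) * (m.1)⁻¹ = h * (h⁻¹ * m.1 * h * y.1 * (h⁻¹ * m.1 * h)⁻¹) * h⁻¹ := by
          group
      _ = h * y.1 * h⁻¹ := by rw [h9]
  -- conclusion
  obtain ⟨k, hk⟩ := hKt.exists_smul_eq o (p ⟨x₀, hx₀⟩)
  obtain ⟨b, hb⟩ := hfs k.1
  have hbM : b ∈ M := by show f b ∈ K; rw [hb]; exact k.2
  refine ⟨b.1, b.2, ?_, ?_⟩
  · intro y hy
    have := congrArg Subtype.val (hCall ⟨y, hy⟩ b hbM)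
    rw [hlin] at this
    have h10 : b.1 * y * (b.1)⁻¹ = y := this
    calc b.1 * y = b.1 * y * (b.1)⁻¹ * b.1 := by group
      _ = y * b.1 := by rw [h10]
  · have h11 : k • o = b • o := by
      show k.1 • o = b • o
      rw [← hb, hf]
    rw [h11] at hk
    have := congrArg Subtype.val hk
    rw [smul_val] at this
    exact this

end Cfsg.Agent.OddHalf.SpN.WTrans
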