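import Mathlib
import Cfsg.Agent.OddHalf.SpN.WTrans
import Cfsg.Agent.S0050
import Cfsg.Agent.SignalizersComponents.CoprimeBasic

/-!
# ODD D7, `K = Sp_2n(q)`: translations centralising the torus `Hr`
(section 2 of `blueprints/ODD-D7-Sp-helper297.md`, second step)
-/

set_option autoImplicit false

namespace Cfsg.Agent.OddHalf.SpN.WTorus

variable {G : Type*} [Group G]

open Subgroup

/-- the group `{g ∈ N(T) ∩ N(X) : t^g ∈ tX}` -/
def BB (t : G) (T X : Subgroup G) : Subgroup G where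
  carrier := {g | g ∈ normalizer (T : Set G) ∧ g ∈ normalizer (X : Set G) ∧ t⁻¹ * (g * t * g⁻¹) ∈ X}
  mul_mem' := by
    rintro a b ⟨a1, a2, a3⟩ ⟨b1, b2, b3⟩
    refine ⟨mul_mem a1 b1, mul_mem a2 b2, ?_⟩
    have h := (mem_normalizer_iff.1 a2 _).1 b3
    have := X.mul_mem a3 h
    convert this using 1
    group
  one_mem' := ⟨one_mem _, one_mem _, by simp⟩
  inv_mem' := by
    rintro a ⟨a1, a2, a3⟩
    refine ⟨inv_mem a1, inv_mem a2, ?_⟩
    have h := (mem_normalizer_iff.1 (inv_mem a2) _).1 (X.inv_mem a3)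
    have h2 : t⁻¹ * (a⁻¹ * t * a⁻¹⁻¹) = a⁻¹ * (t⁻¹ * (a * t * a⁻¹))⁻¹ * a⁻¹⁻¹ := by group
    rw [h2]; exact h

theorem mem_BB {t : G} {T X : Subgroup G} {g : G} :
    g ∈ BB t T X ↔ g ∈ normalizer (T : Set G) ∧ g ∈ normalizer (X : Set G) ∧
      t⁻¹ * (g * t * g⁻¹) ∈ X := Iff.rfl

/-- the input: `T` a 2-group containing `t, X` centrally, `H` an odd abelian group acting
transitively on `X#`, `Hr = C_H(X)`, the two local facts `F1a`, `F1b` and the fusion `fus`. -/
structure Inp (t : G) (T X H Hr : Subgroup G) : Prop where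
  T2 : IsPGroup 2 T
  XT : X ≤ T
  Tt : ∀ g ∈ T, g * t = t * g
  TX : ∀ g ∈ T, ∀ x ∈ X, g * x = x * g
  X2 : ∀ x ∈ X, x * x = 1
  Hc : ∀ a ∈ H, ∀ b ∈ H, a * b = b * a
  Hodd : Odd (Nat.card H)
  Ht : ∀ h ∈ H, h * t = t * h
  HT : ∀ h ∈ H, h ∈ normalizer (T : Set G)
  HX : ∀ h ∈ H, h ∈ normalizer (X : Set G)
  tr : ∀ x ∈ X, x ≠ 1 → ∀ y ∈ X, y ≠ 1 → ∃ h ∈ H, h * x * h⁻¹ = y
  mv : ∃ x ∈ X, ∃ h ∈ H, h * x ≠ x * h
  HrH : Hr ≤ H
  HrX : ∀ h ∈ Hr, ∀ x ∈ X, h * x = x * h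
  F1a : ∀ g ∈ normalizer (T : Set G), g * t = t * g → (∀ x ∈ X, g * x = x * g) → g ∈ T ⊔ Hr
  F1b : ∀ g ∈ normalizer (T : Set G), g * t = t * g → (∀ h ∈ Hr, g * h = h * g) →
    ∃ h ∈ H, ∀ x ∈ X, g * x * g⁻¹ = h * x * h⁻¹
  fus : ∀ x ∈ X, ∃ g ∈ normalizer (T : Set G), g ∈ normalizer (X : Set G) ∧ g * t * g⁻¹ = t * x

namespace Inp

variable {t : G} {T X H Hr : Subgroup G}

theorem Xt (I : Inp t T X H Hr) : ∀ x ∈ X, t * x = x * t := fun x hx => (I.Tt x (I.XT hx)).symm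

theorem conj_mem (X : Subgroup G) {g : G} (hg : g ∈ normalizer (X : Set G)) {x : G} (hx : x ∈ X) :
    g * x * g⁻¹ ∈ X := (mem_normalizer_iff.1 hg x).1 hx

/-- elements of `T ⊔ Hr` commute with `t` and `X` -/
theorem comm_sup (I : Inp t T X H Hr) : ∀ g ∈ T ⊔ Hr, g * t = t * g ∧ ∀ x ∈ X, g * x = x * g := by
  have hle : T ⊔ Hr ≤ centralizer ({t} : Set G) ⊓ centralizer (X : Set G) := by
    refine sup_le ?_ ?_
    · intro g hg
      refine ⟨mem_centralizer_iff.2 ?_, mem_centralizer_iff.2 ?_⟩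
      · rintro x rfl; exact (I.Tt g hg).symm
      · intro x hx; exact (I.TX g hg x hx).symm
    · intro g hg
      refine ⟨mem_centralizer_iff.2 ?_, mem_centralizer_iff.2 ?_⟩
      · rintro x rfl; exact (I.Ht g (I.HrH hg)).symm
      · intro x hx; exact (I.HrX g hg x hx).symm
  intro g hg
  obtain ⟨h1, h2⟩ := hle hg
  exact ⟨(mem_centralizer_iff.1 h1 t rfl).symm, fun x hx => (mem_centralizer_iff.1 h2 x hx).symm⟩

theorem Hr_norm (I : Inp t T X H Hr) : Hr ≤ normalizer (T : Set G) := fun h hh => I.HT h (I.HrH hh)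

/-- every coset element `tx` is reached by an element normalising `T`, `X`, `Hr` -/
theorem exists_norm [Finite G] (I : Inp t T X H Hr) : ∀ x ∈ X, ∃ g ∈ BB t T X,
    g ∈ normalizer (Hr : Set G) ∧ g * t * g⁻¹ = t * x := by
  intro x hx
  obtain ⟨g, g1, g2, g3⟩ := I.fus x hx
  have hgB : g ∈ BB t T X := ⟨g1, g2, by rw [g3]; simpa using hx⟩
  set B := BB t T X with hB
  -- `T ⊔ Hr` is contained in `B` and normalised by `B`
  have hTB : T ≤ B := fun y hy => ⟨le_normalizer hy, by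
    rw [mem_normalizer_iff]
    intro z
    constructor
    · intro hz; rw [I.TX y hy z hz]; simpa using hz
    · intro hz
      have h := I.TX y hy _ hz
      have : z = y * z * y⁻¹ := by
        have h2 : y * (y * z * y⁻¹) * y⁻¹ = y * z * y⁻¹ := by rw [h]; group
        have h3 : y * z * y⁻¹ = z := by
          have := congrArg (fun v => y⁻¹ * v * y) h2
          calc y * z * y⁻¹ = y⁻¹ * (y * (y * z * y⁻¹) * y⁻¹) * y := by group
            _ = y⁻¹ * (y * z * y⁻¹) * y := this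
            _ = z := by group
        exact h3.symm
      rw [this]; exact hz, by
    rw [I.Tt y hy]; simp⟩
  have hHrB : Hr ≤ B := fun y hy => ⟨I.HT y (I.HrH hy), I.HX y (I.HrH hy), by
    rw [I.Ht y (I.HrH hy)]; simp⟩
  have hLB : T ⊔ Hr ≤ B := sup_le hTB hHrB
  have hLn : ∀ b ∈ B, ∀ y ∈ T ⊔ Hr, b * y * b⁻¹ ∈ T ⊔ Hr := by
    intro b hb y hy
    obtain ⟨b1, b2, b3⟩ := hb
    obtain ⟨c1, c2⟩ := I.comm_sup y hy
    have hyN : y ∈ normalizer (T : Set G) := (hLB hy).1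
    have d2 : ∀ z ∈ X, (b * y * b⁻¹) * z = z * (b * y * b⁻¹) := by
      intro z hz
      have hz' : b⁻¹ * z * b ∈ X := by
        have := conj_mem X (inv_mem b2) hz
        simpa using this
      have e := c2 _ hz'
      calc b * y * b⁻¹ * z = b * (y * (b⁻¹ * z * b)) * b⁻¹ := by group
        _ = b * (b⁻¹ * z * b * y) * b⁻¹ := by rw [e]
        _ = z * (b * y * b⁻¹) := by group
    refine I.F1a _ (mul_mem (mul_mem b1 hyN) (inv_mem b1)) ?_ d2
    -- b y b⁻¹ commutes with b t b⁻¹ = t x₁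
    set x1 := t⁻¹ * (b * t * b⁻¹) with hx1
    have e1 : b * t * b⁻¹ = t * x1 := by rw [hx1]; group
    have e2 : (b * y * b⁻¹) * (t * x1) = (t * x1) * (b * y * b⁻¹) := by
      rw [← e1]
      calc b * y * b⁻¹ * (b * t * b⁻¹) = b * (y * t) * b⁻¹ := by group
        _ = b * (t * y) * b⁻¹ := by rw [c1]
        _ = b * t * b⁻¹ * (b * y * b⁻¹) := by group
    have e3 := d2 x1 b3
    have e4 : (b * y * b⁻¹) * t * x1 = t * (b * y * b⁻¹) * x1 := by
      calc (b * y * b⁻¹) * t * x1 = (b * y * b⁻¹) * (t * x1) := by group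
        _ = (t * x1) * (b * y * b⁻¹) := e2
        _ = t * (x1 * (b * y * b⁻¹)) := by group
        _ = t * ((b * y * b⁻¹) * x1) := by rw [e3]
        _ = t * (b * y * b⁻¹) * x1 := by group
    exact mul_right_cancel e4
  -- Frattini in the group `B`
  let L' : Subgroup B := (T ⊔ Hr).subgroupOf B
  let H' : Subgroup B := Hr.subgroupOf B
  have hL'n : L'.Normal := by
    constructor
    intro y hy b
    rw [mem_subgroupOf] at hy ⊢
    exact hLn b.1 b.2 y.1 hy
  have hH'L' : H' ≤ L' := fun y hy => by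
    rw [mem_subgroupOf] at hy ⊢
    exact (le_sup_right : Hr ≤ T ⊔ Hr) hy
  have hTn : T ≤ normalizer (T : Set G) := le_normalizer
  -- cardinalities
  have hcop : Nat.Coprime (Nat.card Hr) (Nat.card T) := by
    obtain ⟨n, hn⟩ := IsPGroup.iff_card.1 I.T2
    rw [hn]
    have h1 : Nat.card Hr ∣ Nat.card H := Subgroup.card_dvd_of_le I.HrH
    have h2 : Odd (Nat.card Hr) := Odd.of_dvd_nat I.Hodd h1
    exact Nat.Coprime.pow_right n h2.coprime_two_right
  have hrel : (Nat.card H').Coprime (H'.relIndex L') := by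
    have e1 : Nat.card H' = Nat.card Hr := by
      have := Nat.card_congr (Subgroup.subgroupOfEquivOfLe hHrB).toEquiv
      exact this
    have e2 : H'.relIndex L' = Hr.relIndex (T ⊔ Hr) := by
      exact Subgroup.relIndex_subgroupOf hLB
    rw [e1, e2]
    have e3 : Nat.card (T ⊔ Hr : Subgroup G) ∣ Nat.card T * Nat.card Hr :=
      SignalizersComponents.CoprimeBasic.card_sup_dvd I.Hr_norm
    have e4 : Nat.card Hr * Hr.relIndex (T ⊔ Hr) = Nat.card (T ⊔ Hr : Subgroup G) := by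
      have := Subgroup.relIndex_mul_relIndex ⊥ Hr (T ⊔ Hr) bot_le le_sup_right
      rwa [relIndex_bot_left, relIndex_bot_left] at this
    have e5 : Hr.relIndex (T ⊔ Hr) ∣ Nat.card T := by
      rw [← e4, mul_comm (Nat.card T)] at e3
      exact Nat.dvd_of_mul_dvd_mul_left Nat.card_pos e3
    exact Nat.Coprime.coprime_dvd_right e5 hcop
  have hsol : Group.IsSolvable L' := by
    have h1 : Group.IsSolvable (T ⊔ Hr : Subgroup G) := by
      refine SignalizersComponents.CoprimeBasic.isSolvable_sup I.Hr_norm ?_ ?_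
      · have := I.T2.isNilpotent
        infer_instance
      · exact Group.isSolvable_of_comm fun a b => Subtype.ext (I.Hc _ (I.HrH a.2) _ (I.HrH b.2))
    exact Group.isSolvable_of_isSolvable_injective
      (f := ((Subgroup.subgroupOfEquivOfLe hLB).toMonoidHom))
      (Subgroup.subgroupOfEquivOfLe hLB).injective
  have hfr := S0050.result L' hsol H' hH'L' hrel
  have hgt : (⟨g, hgB⟩ : B) ∈ L' ⊔ normalizer (H' : Set B) := by rw [hfr]; exact mem_top _
  obtain ⟨l, hl, k, hk, hlk⟩ := (Subgroup.mem_sup_of_normal_left).1 hgt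
  have hl' : l.1 ∈ T ⊔ Hr := hl
  obtain ⟨l1, l2⟩ := I.comm_sup _ hl'
  have hgk : g = l.1 * k.1 := by
    have := congrArg Subtype.val hlk
    exact this.symm
  refine ⟨k.1, k.2, ?_, ?_⟩
  · rw [mem_normalizer_iff] at hk ⊢
    intro z
    constructor
    · intro hz
      exact (hk ⟨z, hHrB hz⟩).1 hz
    · intro hz
      have hz' : z ∈ B := by
        have h1 : k.1 * z * k.1⁻¹ ∈ B := hHrB hz
        have h2 : k.1⁻¹ * (k.1 * z * k.1⁻¹) * k.1 ∈ B := mul_mem (mul_mem (inv_mem k.2) h1) k.2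
        have h3 : k.1⁻¹ * (k.1 * z * k.1⁻¹) * k.1 = z := by group
        rwa [h3] at h2
      exact (hk ⟨z, hz'⟩).2 hz
  · have e1 : k.1 = l.1⁻¹ * g := by rw [hgk]; group
    have e2 := l2 x hx
    calc k.1 * t * k.1⁻¹ = l.1⁻¹ * (g * t * g⁻¹) * l.1 := by rw [e1]; group
      _ = l.1⁻¹ * (t * x) * l.1 := by rw [g3]
      _ = l.1⁻¹ * (t * (x * l.1)) := by group
      _ = l.1⁻¹ * (t * (l.1 * x)) := by rw [e2]
      _ = l.1⁻¹ * ((t * l.1) * x) := by group
      _ = l.1⁻¹ * ((l.1 * t) * x) := by rw [l1]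
      _ = t * x := by group

theorem H_le_BB (I : Inp t T X H Hr) : H ≤ BB t T X := fun y hy => ⟨I.HT y hy, I.HX y hy, by
    rw [I.Ht y hy]; simp⟩

theorem H_le_cent (I : Inp t T X H Hr) : H ≤ centralizer (Hr : Set G) := fun y hy => by
  rw [mem_centralizer_iff]
  intro z hz
  exact I.Hc _ (I.HrH hz) _ hy

/-- every coset element `tx` is reached by an element of `N(T) ∩ N(X)` centralising `Hr` -/
theorem exists_cent [Finite G] (I : Inp t T X H Hr) : ∀ x ∈ X,
    ∃ g ∈ BB t T X ⊓ centralizer (Hr : Set G), g * t * g⁻¹ = t * x := by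
  by_cases hA : ∃ b ∈ BB t T X ⊓ centralizer (Hr : Set G), b * t ≠ t * b
  · obtain ⟨b, hb, hbt⟩ := hA
    intro x hx
    by_cases hx1 : x = 1
    · exact ⟨1, one_mem _, by simp [hx1]⟩
    have hb3 := hb.1.2.2
    obtain ⟨h, hh, e⟩ := I.tr (t⁻¹ * (b * t * b⁻¹)) hb3 (by
      intro h0
      apply hbt
      have : b * t * b⁻¹ = t := by
        have h1 : t * (t⁻¹ * (b * t * b⁻¹)) = t * 1 := by rw [h0]
        rw [← mul_assoc, mul_inv_cancel, one_mul, mul_one] at h1
        exact h1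
      calc b * t = b * t * b⁻¹ * b := by group
        _ = t * b := by rw [this]) x hx hx1
    refine ⟨h * b, mul_mem ⟨I.H_le_BB hh, I.H_le_cent hh⟩ hb, ?_⟩
    have e2 := I.Ht h hh
    calc h * b * t * (h * b)⁻¹ = (h * t) * (t⁻¹ * (b * t * b⁻¹)) * h⁻¹ := by group
      _ = (t * h) * (t⁻¹ * (b * t * b⁻¹)) * h⁻¹ := by rw [e2]
      _ = t * (h * (t⁻¹ * (b * t * b⁻¹)) * h⁻¹) := by group
      _ = t * x := by rw [e]
  · exfalso
    push Not at hA
    obtain ⟨x, hx, h, hh, hne⟩ := I.mv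
    obtain ⟨g, g1, g2, g3⟩ := I.exists_norm x hx
    have hc : g⁻¹ * h * g ∈ BB t T X ⊓ centralizer (Hr : Set G) := by
      refine ⟨(BB t T X).mul_mem ((BB t T X).mul_mem (inv_mem g1) (I.H_le_BB hh)) g1, ?_⟩
      have h1 := mem_centralizer_iff.1 (I.H_le_cent hh)
      change g⁻¹ * h * g ∈ centralizer (Hr : Set G)
      rw [mem_centralizer_iff]
      intro z hz
      have hz' : g * z * g⁻¹ ∈ Hr := (mem_normalizer_iff.1 g2 z).1 hz
      have e := h1 _ hz'
      calc z * (g⁻¹ * h * g) = g⁻¹ * (g * z * g⁻¹ * h) * g := by group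
        _ = g⁻¹ * (h * (g * z * g⁻¹)) * g := by rw [e]
        _ = g⁻¹ * h * g * z := by group
    have e1 := hA _ hc
    apply hne
    have e2 := I.Ht h hh
    have e3 : h * (t * x) = (t * x) * h := by
      rw [← g3]
      calc h * (g * t * g⁻¹) = g * (g⁻¹ * h * g * t) * g⁻¹ := by group
        _ = g * (t * (g⁻¹ * h * g)) * g⁻¹ := by rw [e1]
        _ = g * t * g⁻¹ * h := by group
    have e4 : t * (h * x) = t * (x * h) := by
      rw [← mul_assoc, ← e2, mul_assoc, e3, mul_assoc]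
    exact mul_left_cancel e4

/-- **translations**: every `tx` is reached by an element of `N(T)` centralising `Hr` and `X` -/
theorem exists_transl [Finite G] (I : Inp t T X H Hr) : ∀ x ∈ X, ∃ g ∈ normalizer (T : Set G),
    (∀ h ∈ Hr, g * h = h * g) ∧ (∀ y ∈ X, g * y = y * g) ∧ g * t * g⁻¹ = t * x := by
  intro x hx
  obtain ⟨b, hb, b1, b2⟩ := WTrans.exists_translation (t := t) (X := X)
    (BB t T X ⊓ centralizer (Hr : Set G)) H I.X2 I.Xt
    (fun b hb x hx => conj_mem X hb.1.2.1 hx) (fun b hb => hb.1.2.2)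
    (fun h hh => ⟨I.H_le_BB hh, I.H_le_cent hh⟩) I.Ht I.tr I.exists_cent
    (by
      intro b hb hbt x hx hx1 hbx y hy
      have hbc : ∀ h ∈ Hr, b * h = h * b := fun h hh => (mem_centralizer_iff.1 hb.2 h hh).symm
      obtain ⟨h, hh, e⟩ := I.F1b b hb.1.1 hbt hbc
      by_cases hy1 : y = 1
      · simp [hy1]
      obtain ⟨k, hk, ek⟩ := I.tr x hx hx1 y hy hy1
      have e1 : h * x * h⁻¹ = x := by rw [← e x hx, hbx]; group
      have e2 := e y hy
      have e3 : h * y * h⁻¹ = y := by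
        rw [← ek]
        calc h * (k * x * k⁻¹) * h⁻¹ = (h * k) * x * (h * k)⁻¹ := by group
          _ = (k * h) * x * (k * h)⁻¹ := by rw [I.Hc h hh k hk]
          _ = k * (h * x * h⁻¹) * k⁻¹ := by group
          _ = k * x * k⁻¹ := by rw [e1]
      rw [e3] at e2
      calc b * y = b * y * b⁻¹ * b := by group
        _ = y * b := by rw [e2]) x hx
  exact ⟨b, hb.1.1, fun h hh => (mem_centralizer_iff.1 hb.2 h hh).symm, b1, b2⟩

end Inp

end Cfsg.Agent.OddHalf.SpN.WTorus
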