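import Cfsg.Agent.OddHalf.SpN.WCent
import Cfsg.Agent.OddHalf.SpN.WTorus
import Cfsg.Agent.OddHalf.SpN.Dbl

/-!
# ODD D7, `K = Sp_2n(q)`, `q > 2`: the doubles of the root groups of a `Frame`

* `exists_W` : the Weyl group is transitive on tuples of signed indices;
* `R.V i`, `R.Wd i j` : canonical doubles of `Y_i`, `X_ij`; Weyl conjugation;
* `R.MvY i`, `R.MvX i j` : `Y_i`, `X_ij` are moved; `locY`, `locX` : the instances of `WExist.Loc`;
* `mv_of_inp` : from `WTorus.Inp`.
-/

set_option autoImplicit false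

namespace Cfsg.Agent.OddHalf.SpN

open Cfsg Cfsg.Agent.ClassicalGeometry.SympBasic Cfsg.Agent.ClassicalGeometry.SympAutSemi
open scoped Matrix commutatorElement
open WExist Subgroup

variable {n : ℕ} {F : Type*} [Field F]

theorem tr_left {i j : Ix n} (h : Dj i j) : tr i j i = j := by
  have h1 : neg j ≠ i := fun e => h.2 e.symm
  simp only [tr, Equiv.Perm.mul_apply]
  rw [Equiv.swap_apply_of_ne_of_ne (ne_neg i) h1.symm, Equiv.swap_apply_left]

theorem tr_fix {i j k : Ix n} (h1 : Dj k i) (h2 : Dj k j) : tr i j k = k := by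
  simp only [tr, Equiv.Perm.mul_apply]
  rw [Equiv.swap_apply_of_ne_of_ne h1.2 h2.2, Equiv.swap_apply_of_ne_of_ne h1.1 h2.1]

theorem sg_left (i : Ix n) : sg i i = neg i := Equiv.swap_apply_left _ _

theorem sg_fix {i k : Ix n} (h1 : Dj k i) : sg i k = k := Equiv.swap_apply_of_ne_of_ne h1.1 h1.2

/-- the Weyl group is transitive on tuples -/
theorem exists_W {m : ℕ} (f g : Fin m → Ix n) (hf : ∀ a b, a ≠ b → Dj (f a) (f b))
    (hg : ∀ a b, a ≠ b → Dj (g a) (g b)) : ∃ s : W n, ∀ a, s.1 (f a) = g a := by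
  induction m with
  | zero => exact ⟨1, fun a => a.elim0⟩
  | succ m ih =>
    obtain ⟨s, hs⟩ := ih (fun a => f a.castSucc) (fun a => g a.castSucc)
      (fun a b hab => hf _ _ fun e => hab (Fin.castSucc_injective m e))
      (fun a b hab => hg _ _ fun e => hab (Fin.castSucc_injective m e))
    set p := s.1 (f (Fin.last m)) with hp
    set r := g (Fin.last m) with hr
    have h1 : ∀ a : Fin m, Dj (g a.castSucc) p := fun a => by
      rw [← hs a, hp, W_dj]
      exact hf _ _ (Fin.castSucc_lt_last a).ne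
    have h2 : ∀ a : Fin m, Dj (g a.castSucc) r := fun a => hg _ _ (Fin.castSucc_lt_last a).ne
    have key : ∃ s' : W n, s'.1 p = r ∧ ∀ a : Fin m, s'.1 (g a.castSucc) = g a.castSucc := by
      by_cases e1 : p = r
      · exact ⟨1, e1, fun a => rfl⟩
      by_cases e2 : p = neg r
      · refine ⟨⟨sg p, sg_mem p⟩, ?_, fun a => sg_fix (h1 a)⟩
        show sg p p = r
        rw [sg_left, e2, neg_neg]
      · exact ⟨⟨tr p r, tr_mem ⟨e1, e2⟩⟩, tr_left ⟨e1, e2⟩, fun a => tr_fix (h1 a) (h2 a)⟩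
    obtain ⟨s', hs1, hs2⟩ := key
    refine ⟨s' * s, fun a => ?_⟩
    refine Fin.lastCases ?_ (fun a => ?_) a
    · exact hs1
    · show s'.1 (s.1 (f a.castSucc)) = _
      rw [hs a, hs2]

theorem exists_W1 (i j : Ix n) : ∃ s : W n, s.1 i = j := by
  obtain ⟨s, hs⟩ := exists_W (fun _ : Fin 1 => i) (fun _ => j) (fun a b h => absurd (Subsingleton.elim a b) h)
    (fun a b h => absurd (Subsingleton.elim a b) h)
  exact ⟨s, hs 0⟩

theorem exists_W2 {i j k l : Ix n} (h : Dj i j) (h' : Dj k l) : ∃ s : W n, s.1 i = k ∧ s.1 j = l := by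
  obtain ⟨s, hs⟩ := exists_W ![i, j] ![k, l]
    (by intro a b hab; fin_cases a <;> fin_cases b <;> first | exact absurd rfl hab | exact h | exact h.symm)
    (by intro a b hab; fin_cases a <;> fin_cases b <;> first | exact absurd rfl hab | exact h' | exact h'.symm)
  exact ⟨s, hs 0, hs 1⟩

theorem exists_W3 {i j k i' j' k' : Ix n} (h1 : Dj i j) (h2 : Dj i k) (h3 : Dj j k) (h1' : Dj i' j')
    (h2' : Dj i' k') (h3' : Dj j' k') : ∃ s : W n, s.1 i = i' ∧ s.1 j = j' ∧ s.1 k = k' := by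
  obtain ⟨s, hs⟩ := exists_W ![i, j, k] ![i', j', k']
    (by
      intro a b hab
      fin_cases a <;> fin_cases b <;>
        first
        | exact absurd rfl hab
        | exact h1
        | exact h1.symm
        | exact h2
        | exact h2.symm
        | exact h3
        | exact h3.symm)
    (by
      intro a b hab
      fin_cases a <;> fin_cases b <;>
        first
        | exact absurd rfl hab
        | exact h1'
        | exact h1'.symm
        | exact h2'
        | exact h2'.symm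
        | exact h3'
        | exact h3'.symm)
  exact ⟨s, hs 0, hs 1, hs 2⟩

theorem exists_W4 {i j k l i' j' k' l' : Ix n} (h1 : Dj i j) (h2 : Dj i k) (h3 : Dj j k) (h4 : Dj i l)
    (h5 : Dj j l) (h6 : Dj k l) (h1' : Dj i' j') (h2' : Dj i' k') (h3' : Dj j' k') (h4' : Dj i' l')
    (h5' : Dj j' l') (h6' : Dj k' l') : ∃ s : W n, s.1 i = i' ∧ s.1 j = j' ∧ s.1 k = k' ∧ s.1 l = l' := by
  obtain ⟨s, hs⟩ := exists_W ![i, j, k, l] ![i', j', k', l']
    (by
      intro a b hab
      fin_cases a <;> fin_cases b <;>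
        first
        | exact absurd rfl hab
        | exact h1
        | exact h1.symm
        | exact h2
        | exact h2.symm
        | exact h3
        | exact h3.symm
        | exact h4
        | exact h4.symm
        | exact h5
        | exact h5.symm
        | exact h6
        | exact h6.symm)
    (by
      intro a b hab
      fin_cases a <;> fin_cases b <;>
        first
        | exact absurd rfl hab
        | exact h1'
        | exact h1'.symm
        | exact h2'
        | exact h2'.symm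
        | exact h3'
        | exact h3'.symm
        | exact h4'
        | exact h4'.symm
        | exact h5'
        | exact h5'.symm
        | exact h6'
        | exact h6'.symm)
  exact ⟨s, hs 0, hs 1, hs 2, hs 3⟩

/-- action of the Weyl group on the torus -/
def actH (s : W n) (lam : Fin n → Fˣ) : Fin n → Fˣ := fun i => ev lam (s.1⁻¹ (Sum.inl i))

theorem ev_actH (s : W n) (lam : Fin n → Fˣ) (k : Ix n) : ev (actH s lam) k = ev lam (s.1⁻¹ k) := by
  rcases k with i | i
  · rfl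
  · have h1 : (Sum.inr i : Ix n) = neg (Sum.inl i) := rfl
    rw [h1, W_inv_neg, ev_neg, ev_neg]; rfl

theorem ev_actH' (s : W n) (lam : Fin n → Fˣ) (k : Ix n) : ev (actH s lam) (s.1 k) = ev lam k := by
  rw [ev_actH, perm_inv_apply_self]

section general

/-! ### conjugation of doubles -/

variable {G : Type*} [Group G] {A : Type*} [CommGroup A]

/-- `m` maps the data `(x, h, χ)` to `(x', h, χ')` -/
structure Cjg (t : G) (h : A →* G) (m : G) (x x' : F → G) (χ χ' : A →* Fˣ) : Prop where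
  mt : Commute m t
  mx : ∀ u, m * x u * m⁻¹ = x' u
  mh : ∀ a, ∃ b, m * h a * m⁻¹ = h b ∧ χ' b = χ a
  mh' : ∀ b, ∃ a, m * h a * m⁻¹ = h b ∧ χ' b = χ a

variable {t : G} {h : A →* G} {m : G} {x x' : F → G} {χ χ' : A →* Fˣ}

theorem Cjg.mv (C : Cjg t h m x x' χ χ') {g : G} {u : F} (hg : Mv t x h χ g u) :
    Mv t x' h χ' (m * g * m⁻¹) u := by
  refine ⟨fun b hb => ?_, fun v => ?_, ?_⟩
  · obtain ⟨a, e1, e2⟩ := C.mh' b
    rw [hb] at e2
    rw [← e1]
    have e := (hg.1 a e2.symm).eq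
    show m * g * m⁻¹ * (m * h a * m⁻¹) = _
    calc m * g * m⁻¹ * (m * h a * m⁻¹) = m * (g * h a) * m⁻¹ := by group
      _ = m * (h a * g) * m⁻¹ := by rw [e]
      _ = m * h a * m⁻¹ * (m * g * m⁻¹) := by group
  · rw [← C.mx]
    have e := (hg.2.1 v).eq
    show m * g * m⁻¹ * (m * x v * m⁻¹) = _
    calc m * g * m⁻¹ * (m * x v * m⁻¹) = m * (g * x v) * m⁻¹ := by group
      _ = m * (x v * g) * m⁻¹ := by rw [e]
      _ = m * x v * m⁻¹ * (m * g * m⁻¹) := by group
  · have e : m⁻¹ * t * m = t := by rw [mul_assoc, ← C.mt.eq]; group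
    have e2 : m * t * m⁻¹ = t := by rw [C.mt.eq]; group
    calc m * g * m⁻¹ * t * (m * g * m⁻¹)⁻¹ = m * (g * (m⁻¹ * t * m) * g⁻¹) * m⁻¹ := by group
      _ = m * (t * x u) * m⁻¹ := by rw [e, hg.2.2]
      _ = (m * t * m⁻¹) * (m * x u * m⁻¹) := by group
      _ = t * x' u := by rw [e2, C.mx]

theorem Cjg.bs (C : Cjg t h m x x' χ χ') {g : G} {u : F} (hg : Bs t x h χ g u) :
    Bs t x' h χ' (m * g * m⁻¹) u := by
  refine ⟨C.mv hg.1, ?_⟩
  obtain ⟨v, hv⟩ := hg.2
  refine ⟨v, ?_⟩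
  rw [← C.mx, ← hv]; group

theorem Cjg.dbl (C : Cjg t h m x x' χ χ') {g : G} (hg : g ∈ Dbl t x h χ) :
    m * g * m⁻¹ ∈ Dbl t x' h χ' := by
  refine closure_induction (p := fun g _ => m * g * m⁻¹ ∈ Dbl t x' h χ') ?_ ?_ ?_ ?_ hg
  · rintro y (⟨u, rfl⟩ | ⟨b, u, hb, a, rfl⟩)
    · rw [C.mx]; exact subset_closure (Or.inl ⟨u, rfl⟩)
    · obtain ⟨c, e1, _⟩ := C.mh a
      have e : m * (b⁻¹ * (h a * b * (h a)⁻¹)) * m⁻¹ = (m * b * m⁻¹)⁻¹ * (h c * (m * b * m⁻¹) * (h c)⁻¹) := by
        rw [← e1]; group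
      rw [e]
      exact subset_closure (Or.inr ⟨_, u, C.bs hb, c, rfl⟩)
  · have : m * 1 * m⁻¹ = 1 := by group
    rw [this]; exact one_mem _
  · intro y z _ _ hy hz
    have : m * (y * z) * m⁻¹ = (m * y * m⁻¹) * (m * z * m⁻¹) := by group
    rw [this]; exact mul_mem hy hz
  · intro y _ hy
    have : m * y⁻¹ * m⁻¹ = (m * y * m⁻¹)⁻¹ := by group
    rw [this]; exact inv_mem hy

end general

end Cfsg.Agent.OddHalf.SpN

namespace Cfsg.Agent.OddHalf.SpN.WExist.Loc

open Subgroup

variable {F : Type*} [Field F] {G : Type*} [Group G] {A : Type*} [CommGroup A]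
  {t : G} {x : F → G} {h : A →* G} {χ : A →* Fˣ}

/-- the double is in every subgroup containing `X`, `t`, `h(ker χ)` and moving elements -/
theorem dbl_le (L : Loc t x h χ) (N : Subgroup G) (hx : ∀ u, x u ∈ N) (ht : t ∈ N)
    (hh : ∀ a, χ a = 1 → h a ∈ N) (hmv : ∀ u, ∃ g ∈ N, Mv t x h χ g u) : Dbl t x h χ ≤ N := by
  intro g' hg'
  obtain ⟨u, hu⟩ := L.dbl_bs hg'
  obtain ⟨g, hg, hg1⟩ := hmv u
  obtain ⟨w, hw, hw1, a, ha, e⟩ := L.canonical hg1
  have hwN : w ∈ N := by
    rcases e with e | e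
    · have : w = g * (h a)⁻¹ := by rw [e]; group
      rw [this]; exact mul_mem hg (inv_mem (hh a ha))
    · have : w = g * (h a)⁻¹ * t⁻¹ := by rw [e]; group
      rw [this]; exact mul_mem (mul_mem hg (inv_mem (hh a ha))) (inv_mem ht)
  have h1 := L.mv_mul (L.mv_inv hw1.1) hu.1
  rw [L.two] at h1
  obtain ⟨v, hv⟩ := L.dbl_zero (mul_mem (inv_mem hw) hg') h1
  have : g' = w * x v := by rw [← hv]; group
  rw [this]; exact mul_mem hwN (hx v)

/-- `t g t = g x(u)` -/
theorem tgt (L : Loc t x h χ) {g : G} {u : F} (hg : Mv t x h χ g u) : t * g * t = g * x u := by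
  have e1 : g * t = t * (x u * g) := by
    calc g * t = g * t * g⁻¹ * g := by group
      _ = t * (x u * g) := by rw [hg.2.2]; group
  calc t * g * t = t * (g * t) := by group
    _ = (t * t) * (x u * g) := by rw [e1]; group
    _ = g * x u := by rw [L.tt, one_mul, (hg.2.1 u).eq]

theorem of_tgt (L : Loc t x h χ) {g : G} {u v : F} (hg : Mv t x h χ g u) (e : t * g * t = g * x v) : u = v := by
  rw [L.tgt hg] at e
  exact L.x_inj (mul_left_cancel e)

end Cfsg.Agent.OddHalf.SpN.WExist.Loc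

namespace Cfsg.Agent.OddHalf.SpN

open Cfsg Cfsg.Agent.ClassicalGeometry.SympBasic Cfsg.Agent.ClassicalGeometry.SympAutSemi
open scoped Matrix commutatorElement
open WExist Subgroup

variable {n : ℕ} {F : Type*} [Field F]

/-- the root group as a subgroup -/
def xs {G : Type*} [Group G] (x : F → G) (hadd : ∀ u v, x (u + v) = x u * x v) (hinv : ∀ u, x u * x u = 1) :
    Subgroup G where
  carrier := {g | ∃ u, g = x u}
  mul_mem' := by
    rintro a b ⟨u, rfl⟩ ⟨v, rfl⟩
    exact ⟨u + v, (hadd u v).symm⟩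
  one_mem' := by
    refine ⟨0, ?_⟩
    have := hadd 0 0
    rw [add_zero] at this
    exact (left_eq_mul.1 this).symm
  inv_mem' := by
    rintro a ⟨u, rfl⟩
    exact ⟨u, inv_eq_of_mul_eq_one_left (hinv u)⟩

/-- **Translations** in coordinates, from `WTorus`. -/
theorem mv_of_inp {G : Type*} [Group G] [Finite G] {A : Type*} [CommGroup A] {t : G} {x : F → G} {h : A →* G}
    {χ : A →* Fˣ} (two : ∀ a : F, a + a = 0) (x_add : ∀ u v, x (u + v) = x u * x v)
    (ht : ∀ a, Commute (h a) t) (hx : ∀ a u, h a * x u * (h a)⁻¹ = x (χ a * u))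
    (surj : Function.Surjective χ) (big : ∃ c : F, c ≠ 0 ∧ c ≠ 1) (x_one : ∀ u, x u = 1 → u = 0)
    (hodd : Odd (Nat.card h.range)) (T : Subgroup G)
    (T2 : IsPGroup 2 T) (xT : ∀ u, x u ∈ T) (Tt : ∀ g ∈ T, g * t = t * g)
    (Tx : ∀ g ∈ T, ∀ u, g * x u = x u * g) (hT : ∀ a, h a ∈ normalizer (T : Set G))
    (F1a : ∀ g ∈ normalizer (T : Set G), g * t = t * g → (∀ u, g * x u = x u * g) →
      ∃ τ ∈ T, ∃ a, χ a = 1 ∧ g = τ * h a)
    (F1b : ∀ g ∈ normalizer (T : Set G), g * t = t * g → (∀ a, χ a = 1 → g * h a = h a * g) →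
      ∃ a, ∀ u, g * x u * g⁻¹ = x (χ a * u))
    (fus : ∀ u, ∃ g ∈ normalizer (T : Set G), (∀ y, (∃ v, y = x v) ↔ ∃ v, g * y * g⁻¹ = x v) ∧
      g * t * g⁻¹ = t * x u) :
    ∀ u, ∃ g ∈ normalizer (T : Set G), Mv t x h χ g u := by
  have x0 : x 0 = 1 := by
    have := x_add 0 0
    rw [add_zero] at this
    exact left_eq_mul.1 this
  have hinv : ∀ u, x u * x u = 1 := fun u => by rw [← x_add, two, x0]
  have hneg : ∀ u v, x u = x v → u = v := by
    intro a b e
    have h2 : x (a + b) = 1 := by rw [x_add, e, hinv]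
    have h3 := x_one _ h2
    calc a = a + (b + b) := by rw [two, add_zero]
      _ = (a + b) + b := by ring
      _ = b := by rw [h3, zero_add]
  set X := xs x x_add hinv with hX
  have memX : ∀ y, y ∈ X ↔ ∃ u, y = x u := fun y => Iff.rfl
  set H := h.range with hH
  set Hr := (χ.ker).map h with hHr
  have memHr : ∀ y, y ∈ Hr ↔ ∃ a, χ a = 1 ∧ h a = y := fun y => by
    rw [hHr, Subgroup.mem_map]; rfl
  have I : WTorus.Inp t T X H Hr :=
    { T2 := T2
      XT := by rintro y ⟨u, rfl⟩; exact xT u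
      Tt := Tt
      TX := by rintro g hg y ⟨u, rfl⟩; exact Tx g hg u
      X2 := by rintro y ⟨u, rfl⟩; exact hinv u
      Hc := by
        rintro a ⟨a, rfl⟩ b ⟨b, rfl⟩
        rw [← map_mul, ← map_mul, mul_comm]
      Hodd := hodd
      Ht := by rintro a ⟨a, rfl⟩; exact ht a
      HT := by rintro a ⟨a, rfl⟩; exact hT a
      HX := by
        rintro a ⟨a, rfl⟩
        rw [mem_normalizer_iff]
        intro y
        constructor
        · rintro ⟨u, rfl⟩
          exact ⟨_, hx a u⟩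
        · rintro ⟨u, e⟩
          refine ⟨((χ a : Fˣ) : F)⁻¹ * u, ?_⟩
          have e2 := hx a (((χ a : Fˣ) : F)⁻¹ * u)
          rw [← mul_assoc, mul_inv_cancel₀ (χ a).ne_zero, one_mul, ← e] at e2
          exact (mul_left_cancel (mul_right_cancel e2)).symm
      tr := by
        rintro y ⟨u, rfl⟩ hu z ⟨v, rfl⟩ hv
        have hu0 : u ≠ 0 := fun e => hu (by rw [e, x0])
        have hv0 : v ≠ 0 := fun e => hv (by rw [e, x0])
        obtain ⟨a, ha⟩ := surj (Units.mk0 (v / u) (div_ne_zero hv0 hu0))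
        refine ⟨h a, ⟨a, rfl⟩, ?_⟩
        rw [hx, ha, Units.val_mk0, div_mul_cancel₀ _ hu0]
      mv := by
        obtain ⟨c, c0, c1⟩ := big
        obtain ⟨a, ha⟩ := surj (Units.mk0 c c0)
        refine ⟨x 1, ⟨1, rfl⟩, h a, ⟨a, rfl⟩, fun e => c1 ?_⟩
        have e2 := hx a 1
        rw [ha, Units.val_mk0, mul_one, e] at e2
        apply hneg
        rw [← e2]; group
      HrH := by
        intro y hy
        obtain ⟨a, _, rfl⟩ := (memHr y).1 hy
        exact ⟨a, rfl⟩
      HrX := by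
        rintro y hy z ⟨u, rfl⟩
        obtain ⟨a, ha, rfl⟩ := (memHr y).1 hy
        have := hx a u
        rw [ha, Units.val_one, one_mul] at this
        calc h a * x u = h a * x u * (h a)⁻¹ * h a := by group
          _ = x u * h a := by rw [this]
      F1a := by
        intro g hg hgt hgX
        obtain ⟨τ, hτ, a, ha, rfl⟩ := F1a g hg hgt (fun u => hgX _ ⟨u, rfl⟩)
        exact mul_mem ((le_sup_left : T ≤ T ⊔ Hr) hτ) ((le_sup_right : Hr ≤ T ⊔ Hr) ((memHr _).2 ⟨a, ha, rfl⟩))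
      F1b := by
        intro g hg hgt hgH
        obtain ⟨a, ha⟩ := F1b g hg hgt (fun a ha => hgH _ ((memHr _).2 ⟨a, ha, rfl⟩))
        refine ⟨h a, ⟨a, rfl⟩, ?_⟩
        rintro y ⟨u, rfl⟩
        rw [ha, hx]
      fus := by
        rintro y ⟨u, rfl⟩
        obtain ⟨g, hg, h1, h2⟩ := fus u
        refine ⟨g, hg, ?_, h2⟩
        rw [mem_normalizer_iff]
        intro z
        exact h1 z }
  intro u
  obtain ⟨g, hg, h1, h2, h3⟩ := I.exists_transl (x u) ⟨u, rfl⟩
  exact ⟨g, hg, fun a ha => h1 _ ((memHr _).2 ⟨a, ha, rfl⟩), fun v => h2 _ ⟨v, rfl⟩, h3⟩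

end Cfsg.Agent.OddHalf.SpN
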